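import Groth.Agent.Lib.Helper23.AlgSpClosed3

/-!
# Compositions of quasi-compact / universally closed morphisms; separation of the target of a
surjective universally closed morphism (helper23)
-/

set_option autoImplicit false
universe u
open CategoryTheory CategoryTheory.Limits AlgebraicGeometry Opposite

namespace Groth.Agent.Lib.Helper23.AlgSpMor

open AlgSp Groth.Agent.Lib.Helper37.AlgSpPoints Groth.Agent.Lib.Helper12.AlgSpPoints

variable {S : Scheme.{u}}

/-- Factor a base change of `f ≫ g` through the base change of `g`. -/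
theorem exists_factor_isPullback_comp {X Y Z W W' : Sp S} {f : X ⟶ Y} {g : Y ⟶ Z} {h : W ⟶ Z}
    {fst : W' ⟶ X} {snd : W' ⟶ W} (sq : IsPullback fst snd (f ≫ g) h) :
    ∃ l : W' ⟶ pullback g h, l ≫ pullback.snd g h = snd ∧
      IsPullback fst l f (pullback.fst g h) := by
  have sq₁ : IsPullback (pullback.fst g h) (pullback.snd g h) g h := IsPullback.of_hasPullback g h
  have hw : (fst ≫ f) ≫ g = snd ≫ h := by rw [Category.assoc]; exact sq.w
  refine ⟨sq₁.lift (fst ≫ f) snd hw, sq₁.lift_snd _ _ _, ?_⟩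
  refine IsPullback.of_bot ?_ (sq₁.lift_fst _ _ _).symm sq₁
  rw [sq₁.lift_snd]
  exact sq

theorem isQuasiCompactMor_comp {X Y Z : Sp S} (hY : IsAlgSpace Y)
    (hZ : Representable (Limits.diag Z)) (f : X ⟶ Y) (g : Y ⟶ Z) (hf : IsQuasiCompactMor f)
    (hg : IsQuasiCompactMor g) : IsQuasiCompactMor (f ≫ g) := by
  intro W W' hW hWq h fst snd sq
  have sq₁ : IsPullback (pullback.fst g h) (pullback.snd g h) g h := IsPullback.of_hasPullback g h
  have hW₁ : IsAlgSpace (pullback g h) := isAlgSpace_of_isPullback hY hW hZ sq₁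
  have hW₁q : IsQuasiCompactSp (pullback g h) := hg hW hWq h _ _ sq₁
  obtain ⟨l, -, sql⟩ := exists_factor_isPullback_comp sq
  exact hf hW₁ hW₁q _ fst l sql

theorem isUnivClosedMor_comp {X Y Z : Sp S} (hY : IsAlgSpace Y)
    (hZ : Representable (Limits.diag Z)) (f : X ⟶ Y) (g : Y ⟶ Z) (hf : IsUnivClosedMor f)
    (hg : IsUnivClosedMor g) : IsUnivClosedMor (f ≫ g) := by
  intro W W' hW h fst snd sq
  have sq₁ : IsPullback (pullback.fst g h) (pullback.snd g h) g h := IsPullback.of_hasPullback g h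
  have hW₁ : IsAlgSpace (pullback g h) := isAlgSpace_of_isPullback hY hW hZ sq₁
  obtain ⟨l, hl, sql⟩ := exists_factor_isPullback_comp sq
  have h1 : IsClosedMap (Points.map l) := hf hW₁ _ fst l sql
  have h2 : IsClosedMap (Points.map (pullback.snd g h)) := hg hW h _ _ sq₁
  have : Points.map snd = Points.map (pullback.snd g h) ∘ Points.map l := by
    funext x
    rw [← hl, Points.map_comp]
    rfl
  change IsClosedMap (Points.map snd)
  rw [this]
  exact h2.comp h1

theorem isUnivClosedMor_of_comp_surjective {X Y Z : Sp S} (f : X ⟶ Y) (g : Y ⟶ Z)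
    (hf : IsSurjectiveMor f) (hfg : IsUnivClosedMor (f ≫ g)) : IsUnivClosedMor g := by
  intro W W₁ hW h g₁ h₁ sq₁
  -- base change of `f` along `g₁ : W₁ ⟶ Y`
  have sq₂ : IsPullback (pullback.fst f g₁) (pullback.snd f g₁) f g₁ :=
    IsPullback.of_hasPullback f g₁
  have hl : IsSurjectiveMor (pullback.snd f g₁) := isSurjectiveMor_of_isPullback sq₂ hf
  have big : IsPullback (pullback.fst f g₁) (pullback.snd f g₁ ≫ h₁) (f ≫ g) h :=
    sq₂.paste_vert sq₁
  have hc : IsClosedMap (Points.map (pullback.snd f g₁ ≫ h₁)) := hfg hW h _ _ big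
  intro C hC
  have : Points.map h₁ '' C =
      Points.map (pullback.snd f g₁ ≫ h₁) '' (Points.map (pullback.snd f g₁) ⁻¹' C) := by
    ext w
    constructor
    · rintro ⟨y, hy, rfl⟩
      obtain ⟨x, rfl⟩ := hl y
      exact ⟨x, hy, Points.map_comp _ _ _⟩
    · rintro ⟨x, hx, rfl⟩
      exact ⟨_, hx, (Points.map_comp _ _ _).symm⟩
  rw [this]
  exact hc _ (hC.preimage (Points.continuous_map _))

end Groth.Agent.Lib.Helper23.AlgSpMor
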