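import Groth.Agent.Lib.Helper23.AlgSpMor3
import Groth.Agent.S9874

/-!
# Quasi-compact morphisms of algebraic spaces: permanence (helper23)
-/

set_option autoImplicit false
universe u
open CategoryTheory CategoryTheory.Limits AlgebraicGeometry Opposite

namespace Groth.Agent.Lib.Helper23.AlgSpMor

open AlgSp Groth.Agent.Lib.Helper37.AlgSpPoints Groth.Agent.Lib.Helper12.AlgSpPoints

variable {S : Scheme.{u}}

/-- A fibre product of algebraic spaces over an algebraic space (or any sheaf with representable
diagonal) is an algebraic space. Unbundled form of `S9874`. -/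
theorem isAlgSpace_of_isPullback {X Y Z P : Sp S} (hX : IsAlgSpace X) (hY : IsAlgSpace Y)
    (hZ : Representable (Limits.diag Z)) {f : X ⟶ Z} {g : Y ⟶ Z} {fst : P ⟶ X} {snd : P ⟶ Y}
    (sq : IsPullback fst snd f g) : IsAlgSpace P :=
  Groth.Agent.S9874.result S Z hZ ⟨X, hX⟩ ⟨Y, hY⟩ f g P fst snd sq

/-- In a triangle `f ≫ q = p` with `f` surjective on points, `p` quasi-compact and the source of `q`,
target of `q` algebraic spaces, `q` is quasi-compact. -/
theorem isQuasiCompactMor_of_surjective_triangle {X Y Z : Sp S} (hY : IsAlgSpace Y)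
    (hZ : Representable (Limits.diag Z)) (f : X ⟶ Y) (q : Y ⟶ Z)
    (hf : IsSurjectiveMor f) (hp : IsQuasiCompactMor (f ≫ q)) : IsQuasiCompactMor q := by
  intro W W' hW hWqc g fst snd sq
  have sq' : IsPullback (pullback.fst f fst) (pullback.snd f fst) f fst :=
    IsPullback.of_hasPullback f fst
  have hW' : IsAlgSpace W' := isAlgSpace_of_isPullback hY hW hZ sq
  have hqc : IsQuasiCompactSp (pullback f fst) := hp hW hWqc g _ _ (sq'.paste_vert sq)
  exact isQuasiCompactSp_of_isSurjectiveMor (pullback.snd f fst) hW'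
    (isSurjectiveMor_of_isPullback sq' hf) hqc

end Groth.Agent.Lib.Helper23.AlgSpMor
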