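import Groth.Agent.Lib.Helper23.AlgSpProper
import Groth.Agent.Lib.Helper46.LocPChart
import Groth.Agent.Lib.Helper30.EtLocalInst

/-!
# Proper morphisms of algebraic spaces: base change and composition (helper23)
Uses helper46's `LocP` calculus and helper30's etale source descent for finite type.
-/

set_option autoImplicit false
universe u
open CategoryTheory CategoryTheory.Limits AlgebraicGeometry Opposite

namespace Groth.Agent.Lib.Helper23.AlgSpMor

open AlgSp Groth.Agent.Lib.Helper37.AlgSpPoints Groth.Agent.Lib.Helper12.AlgSpPoints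

variable {S : Scheme.{u}}

theorem isQuasiCompactMor_of_isPullback {X Y Z Z' : Sp S} {f : X ⟶ Y} {g : Z ⟶ Y} {fst : Z' ⟶ X}
    {snd : Z' ⟶ Z} (sq : IsPullback fst snd f g) (hf : IsQuasiCompactMor f) :
    IsQuasiCompactMor snd := by
  intro W W' hW hWq g' fst' snd' sq'
  exact hf hW hWq (g' ≫ g) (fst' ≫ fst) snd' (sq'.paste_horiz sq)

theorem isSeparatedMor_of_isPullback {X Y Z Z' : Sp S} {f : X ⟶ Y} {g : Z ⟶ Y} {fst : Z' ⟶ X}
    {snd : Z' ⟶ Z} (sq : IsPullback fst snd f g) (hf : IsSeparatedMor f) : IsSeparatedMor snd :=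
  MorphismProperty.of_isPullback (P := (RepWith (S := S) @IsClosedImmersion).diagonal) sq hf

theorem isSeparatedMor_comp {X Y Z : Sp S} (f : X ⟶ Y) (g : Y ⟶ Z) (hf : IsSeparatedMor f)
    (hg : IsSeparatedMor g) : IsSeparatedMor (f ≫ g) :=
  (RepWith (S := S) @IsClosedImmersion).diagonal.comp_mem _ _ hf hg

/-- Properness is stable under base change (between algebraic spaces). -/
theorem isProperMor_of_isPullback {X Y Z Z' : Sp S} (hX : IsAlgSpace X) (hY : IsAlgSpace Y)
    (hZ : IsAlgSpace Z) {f : X ⟶ Y} {g : Z ⟶ Y} {fst : Z' ⟶ X} {snd : Z' ⟶ Z}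
    (sq : IsPullback fst snd f g) (hf : IsProperMor f) : IsProperMor snd := by
  have hZ' : IsAlgSpace Z' := isAlgSpace_of_isPullback hX hZ hY.diag sq
  exact ⟨isSeparatedMor_of_isPullback sq hf.1,
    ⟨Groth.Agent.Lib.Helper46.LocPChart.locP_of_isPullback
        Groth.Agent.Lib.Helper30.EtLocalInst.etLocal_lft hX hY hZ' hZ sq hf.2.1.1,
      isQuasiCompactMor_of_isPullback sq hf.2.1.2⟩,
    isUnivClosedMor_of_isPullback sq hf.2.2⟩

/-- Properness is stable under composition (between algebraic spaces). -/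
theorem isProperMor_comp {X Y Z : Sp S} (hX : IsAlgSpace X) (hY : IsAlgSpace Y)
    (hZ : IsAlgSpace Z) (f : X ⟶ Y) (g : Y ⟶ Z) (hf : IsProperMor f) (hg : IsProperMor g) :
    IsProperMor (f ≫ g) :=
  ⟨isSeparatedMor_comp f g hf.1 hg.1,
    ⟨Groth.Agent.Lib.Helper46.LocPChart.locP_comp
        Groth.Agent.Lib.Helper30.EtLocalInst.etLocal_lft hX hY hZ f g hf.2.1.1 hg.2.1.1,
      isQuasiCompactMor_comp hY hZ.diag f g hf.2.1.2 hg.2.1.2⟩,
    isUnivClosedMor_comp hY hZ.diag f g hf.2.2 hg.2.2⟩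

/-- The range of a base change is the preimage of the range. -/
theorem range_map_of_isPullback {X Y Z Z' : Sp S} {f : X ⟶ Y} {g : Z ⟶ Y} {fst : Z' ⟶ X}
    {snd : Z' ⟶ Z} (sq : IsPullback fst snd f g) :
    Set.range (Points.map snd) = Points.map g ⁻¹' Set.range (Points.map f) := by
  ext z
  constructor
  · rintro ⟨z', rfl⟩
    exact ⟨Points.map fst z', by rw [← Points.map_comp, ← Points.map_comp, sq.w]⟩
  · rintro ⟨x, hx⟩
    obtain ⟨p, hp1, -⟩ := points_exists_of_isPullback sq.flip z x hx.symm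
    exact ⟨p, hp1⟩

end Groth.Agent.Lib.Helper23.AlgSpMor
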