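import Groth.Agent.Lib.Helper23.AlgSpMor5

/-!
# Affine charts of quasi-compact algebraic spaces; quasi-compactness tested on affines (helper23)
-/

set_option autoImplicit false
universe u
open CategoryTheory CategoryTheory.Limits AlgebraicGeometry Opposite

namespace Groth.Agent.Lib.Helper23.AlgSpMor

open AlgSp Groth.Agent.Lib.Helper37.AlgSpPoints Groth.Agent.Lib.Helper12.AlgSpPoints

variable {S : Scheme.{u}}

/-- A quasi-compact scheme receives a surjective etale morphism from an affine scheme. -/
theorem exists_affine_etale_surjective (U : Scheme.{u}) [CompactSpace ↥U] :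
    ∃ (T : Scheme.{u}) (p : T ⟶ U), IsAffine T ∧ Etale p ∧ Surjective p := by
  let 𝒰 : U.OpenCover := U.affineCover.finiteSubcover
  have haff : ∀ i, IsAffine (𝒰.X i) := fun i => by
    change IsAffine (U.affineCover.X _)
    infer_instance
  refine ⟨∐ 𝒰.X, Sigma.desc 𝒰.f, inferInstance, ?_, inferInstance⟩
  exact IsZariskiLocalAtSource.sigmaDesc (P := @Etale) fun i => inferInstance

/-- A quasi-compact sheaf has an etale surjective chart from an affine scheme. -/
theorem exists_affine_chart_of_isQuasiCompactSp {W : Sp S} (hW : IsQuasiCompactSp W) :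
    ∃ (T : Over S) (t : (yon S).obj T ⟶ W), IsAffine T.left ∧ RepWith @Etale t ∧
      RepWith @Surjective t := by
  obtain ⟨U, a, hae, has, hU⟩ := hW
  have : CompactSpace ↥U.left := hU
  obtain ⟨T, p, hT, hpe, hps⟩ := exists_affine_etale_surjective U.left
  let TS : Over S := Over.mk (p ≫ U.hom)
  let pS : TS ⟶ U := Over.homMk p rfl
  refine ⟨TS, (yon S).map pS ≫ a, hT, ?_, ?_⟩
  · exact (RepWith @Etale).comp_mem _ _ ((repWith_yon_map_iff _ _).2 hpe) hae
  · exact (RepWith @Surjective).comp_mem _ _ ((repWith_yon_map_iff _ _).2 hps) has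

theorem isQuasiCompactSp_yon_of_isAffine (T : Over S) [IsAffine T.left] :
    IsQuasiCompactSp ((yon S).obj T) := isQuasiCompactSp_yon T

/-- Quasi-compactness of a morphism of algebraic spaces can be tested on affine schemes over the
target. -/
theorem isQuasiCompactMor_iff_affine {X Y : Sp S} (hX : IsAlgSpace X) (hY : IsAlgSpace Y)
    (f : X ⟶ Y) :
    IsQuasiCompactMor f ↔
      ∀ (Z : Over S), IsAffine Z.left → ∀ (g : (yon S).obj Z ⟶ Y) (P : Sp S)
        (fst : P ⟶ X) (snd : P ⟶ (yon S).obj Z), IsPullback fst snd f g →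
        IsQuasiCompactSp P := by
  constructor
  · intro hf Z hZ g P fst snd sq
    exact hf (IsAlgSpace.yon_obj Z) (isQuasiCompactSp_yon Z) g fst snd sq
  · intro H W W' hW hWqc h a b sqW
    obtain ⟨T, t, hT, hte, hts⟩ := exists_affine_chart_of_isQuasiCompactSp hWqc
    have sq2 : IsPullback (pullback.fst b t) (pullback.snd b t) b t := IsPullback.of_hasPullback b t
    have sq3 : IsPullback (pullback.fst b t ≫ a) (pullback.snd b t) f (t ≫ h) :=
      sq2.paste_horiz sqW
    have hqc : IsQuasiCompactSp (pullback b t) := H T hT (t ≫ h) _ _ _ sq3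
    have hW' : IsAlgSpace W' := isAlgSpace_of_isPullback hX hW hY.diag sqW
    exact isQuasiCompactSp_of_isSurjectiveMor (pullback.fst b t) hW'
      (isSurjectiveMor_of_isPullback sq2.flip (isSurjectiveMor_of_repWith_surjective t hts)) hqc

end Groth.Agent.Lib.Helper23.AlgSpMor
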