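import Groth.Agent.Lib.Helper23.AlgSpMor6

/-!
# Representable morphisms of sheaves: base change along scheme maps; quasi-compact and universally open
morphisms in the representable case (helper23)
-/

set_option autoImplicit false
universe u
open CategoryTheory CategoryTheory.Limits AlgebraicGeometry Opposite

namespace Groth.Agent.Lib.Helper23.AlgSpMor

open AlgSp Groth.Agent.Lib.Helper37.AlgSpPoints Groth.Agent.Lib.Helper12.AlgSpPoints

variable {S : Scheme.{u}}

section BaseChange

variable {U V : Over S} (g : V ⟶ U) {T : Scheme.{u}} (j : T ⟶ U.left)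

/-- `T` as a scheme over `S` through `j : T ⟶ U`. -/
noncomputable abbrev bcBase : Over S := Over.mk (j ≫ U.hom)

/-- `j` as a morphism over `S`. -/
noncomputable abbrev bcBaseι : bcBase j ⟶ U := Over.homMk j rfl

/-- The scheme-theoretic fibre product `T ×_U V` as a scheme over `S`. -/
noncomputable abbrev bcTop : Over S := Over.mk (pullback.fst j g.left ≫ j ≫ U.hom)

/-- The projection `T ×_U V ⟶ T` over `S`. -/
noncomputable abbrev bcFst : bcTop g j ⟶ bcBase j := Over.homMk (pullback.fst j g.left) rfl

/-- The projection `T ×_U V ⟶ V` over `S`. -/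
noncomputable abbrev bcSnd : bcTop g j ⟶ V :=
  Over.homMk (pullback.snd j g.left) (by
    change pullback.snd j g.left ≫ V.hom = pullback.fst j g.left ≫ j ≫ U.hom
    rw [← Over.w g, ← Category.assoc, ← pullback.condition, Category.assoc])

theorem isPullback_bc : IsPullback (bcFst g j) (bcSnd g j) (bcBaseι j) g :=
  IsPullback.of_map (Over.forget S) (Over.OverMorphism.ext pullback.condition)
    (IsPullback.of_hasPullback j g.left)

theorem isPullback_yon_bc :
    IsPullback ((yon S).map (bcFst g j)) ((yon S).map (bcSnd g j)) ((yon S).map (bcBaseι j))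
      ((yon S).map g) :=
  (isPullback_bc g j).map (yon S)

/-- Pasting the scheme-level base change with a representing square. -/
theorem isPullback_bc_paste {X Y : Sp S} {f : X ⟶ Y} {u : (yon S).obj U ⟶ Y}
    {fst : (yon S).obj V ⟶ X} (sq : IsPullback fst ((yon S).map g) f u) :
    IsPullback ((yon S).map (bcSnd g j) ≫ fst) ((yon S).map (bcFst g j)) f
      ((yon S).map (bcBaseι j) ≫ u) :=
  (isPullback_yon_bc g j).flip.paste_horiz sq

end BaseChange

theorem compactSpace_of_isQuasiCompactSp_yon (T : Over S) (h : IsQuasiCompactSp ((yon S).obj T)) :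
    CompactSpace ↥T.left := by
  have := compactSpace_points_of_isQuasiCompactSp h
  exact (Points.schemeHomeo T).symm.compactSpace

/-- The map on points of `h_φ` is open iff the underlying map of `φ` is. -/
theorem isOpenMap_points_yon_map_iff {T T' : Over S} (φ : T ⟶ T') :
    IsOpenMap (Points.map ((yon S).map φ)) ↔ IsOpenMap φ.left := by
  rw [Points.map_yon_map_eq]
  constructor
  · intro h
    have := ((Points.schemeHomeo T').symm.isOpenMap.comp h).comp (Points.schemeHomeo T).isOpenMap
    convert this using 1
    ext t
    simp
  · intro h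
    exact ((Points.schemeHomeo T').isOpenMap.comp h).comp (Points.schemeHomeo T).symm.isOpenMap

/-- A representable quasi-compact morphism of sheaves is quasi-compact. -/
theorem isQuasiCompactMor_of_repWith {X Y : Sp S} (f : X ⟶ Y) (hf : RepWith @QuasiCompact f) :
    IsQuasiCompactMor f := by
  intro W W' _ hWqc h a b sqW
  obtain ⟨T, t, hte, hts, hT⟩ := hWqc
  have hT' : CompactSpace ↥T.left := hT
  have hb : RepWith @QuasiCompact b := (RepWith @QuasiCompact).of_isPullback sqW hf
  have sq := hb.rep.isPullback t
  have hqc : QuasiCompact (hb.rep.snd t).left := hb.property_snd t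
  refine ⟨hb.rep.pullback t, hb.rep.fst t, (RepWith @Etale).of_isPullback sq.flip hte,
    (RepWith @Surjective).of_isPullback sq.flip hts, ?_⟩
  exact QuasiCompact.compactSpace_of_compactSpace (hb.rep.snd t).left

/-- A representable morphism of sheaves which is quasi-compact is representable quasi-compact. -/
theorem repWith_quasiCompact_of_isQuasiCompactMor {X Y : Sp S} (f : X ⟶ Y)
    (hrep : Representable f) (hf : IsQuasiCompactMor f) : RepWith @QuasiCompact f := by
  refine ⟨hrep, fun U V u fst g sq => ?_⟩
  change QuasiCompact g.left
  rw [HasAffineProperty.iff_of_openCover (P := @QuasiCompact) U.left.affineCover]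
  intro i
  have hpaste := isPullback_bc_paste g (U.left.affineCover.f i) sq
  have haff : IsAffine (bcBase (U.left.affineCover.f i)).left := by
    change IsAffine (U.left.affineCover.X i)
    infer_instance
  have hqc := hf (IsAlgSpace.yon_obj _) (isQuasiCompactSp_yon_of_isAffine _) _ _ _ hpaste
  have hc : CompactSpace ↥(pullback (U.left.affineCover.f i) g.left) :=
    compactSpace_of_isQuasiCompactSp_yon _ hqc
  change CompactSpace ↥(pullback g.left (U.left.affineCover.f i))
  exact (pullbackSymmetry (U.left.affineCover.f i) g.left).hom.homeomorph.compactSpace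

/-- A representable universally open morphism of sheaves is universally open. -/
theorem isUnivOpenMor_of_repWith {X Y : Sp S} (f : X ⟶ Y) (hf : RepWith @UniversallyOpen f) :
    IsUnivOpenMor f := by
  intro Z Z' _ g fst snd sq
  exact isOpenMap_points_of_repWith_universallyOpen snd
    ((RepWith @UniversallyOpen).of_isPullback sq hf)

/-- A representable morphism of sheaves which is universally open is representable universally open. -/
theorem repWith_universallyOpen_of_isUnivOpenMor {X Y : Sp S} (f : X ⟶ Y)
    (hrep : Representable f) (hf : IsUnivOpenMor f) : RepWith @UniversallyOpen f := by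
  refine ⟨hrep, fun U V u fst g sq => ?_⟩
  change UniversallyOpen g.left
  refine ⟨MorphismProperty.universally_mk' _ _ fun {T} j _ => ?_⟩
  have hpaste := isPullback_bc_paste g j sq
  have := hf (IsAlgSpace.yon_obj _) _ _ _ hpaste
  exact (isOpenMap_points_yon_map_iff (bcFst g j)).1 this

end Groth.Agent.Lib.Helper23.AlgSpMor
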