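import Groth.Agent.Lib.Helper23.AlgSpMor

/-!
# Morphisms of fppf sheaves / algebraic spaces: openness and quasi-compactness (helper23)
-/

set_option autoImplicit false
universe u
open CategoryTheory CategoryTheory.Limits AlgebraicGeometry Opposite

namespace Groth.Agent.Lib.Helper23.AlgSpMor

open AlgSp Groth.Agent.Lib.Helper37.AlgSpPoints Groth.Agent.Lib.Helper12.AlgSpPoints

variable {S : Scheme.{u}}

/-- A representable morphism of sheaves with a property `P` implying openness of the underlying map is
open on points. -/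
theorem isOpenMap_points_of_repWith {P : MorphismProperty Scheme.{u}}
    (hP : ∀ ⦃A B : Scheme.{u}⦄ (g : A ⟶ B), P g → IsOpenMap g)
    {X Y : Sp S} (f : X ⟶ Y) (hf : RepWith P f) : IsOpenMap (Points.map f) := by
  intro W hW
  refine Points.isOpen_iff.2 fun T g => ?_
  have hsq := hf.rep.isPullback g
  rw [Points.preimage_image_of_isPullback hsq W]
  exact hP _ (hf.property_snd g) _ (hW.preimage (Points.continuous_ofPt _))

theorem isOpenMap_points_of_repWith_etale {X Y : Sp S} (f : X ⟶ Y) (hf : RepWith @Etale f) :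
    IsOpenMap (Points.map f) :=
  isOpenMap_points_of_repWith (P := @Etale) (fun _ _ g hg => by
    have : Etale g := hg
    exact g.isOpenMap) f hf

theorem isOpenMap_points_of_repWith_universallyOpen {X Y : Sp S} (f : X ⟶ Y)
    (hf : RepWith @UniversallyOpen f) : IsOpenMap (Points.map f) :=
  isOpenMap_points_of_repWith (P := @UniversallyOpen) (fun _ _ g hg => by
    have : UniversallyOpen g := hg
    exact g.isOpenMap) f hf

/-- Quasi-compact open subschemes hitting a compact set under an open map. -/
theorem exists_compact_opens_of_isOpenMap {T : Type*} [TopologicalSpace T] (U : Scheme.{u})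
    (φ : ↥U → T) (hφ : IsOpenMap φ) (K : Set T) (hK : IsCompact K) (hKφ : K ⊆ Set.range φ) :
    ∃ U' : U.Opens, IsCompact (U' : Set ↥U) ∧ K ⊆ φ '' (U' : Set ↥U) := by
  classical
  have hcov : K ⊆ ⋃ V : U.affineOpens, φ '' (V.1 : Set ↥U) := by
    intro x hx
    obtain ⟨u, rfl⟩ := hKφ hx
    obtain ⟨_, ⟨V, hV, rfl⟩, huV, -⟩ :=
      U.isBasis_affineOpens.exists_subset_of_mem_open (Set.mem_univ u) isOpen_univ
    exact Set.mem_iUnion.2 ⟨⟨V, hV⟩, u, huV, rfl⟩
  obtain ⟨t, ht⟩ := hK.elim_finite_subcover (fun V : U.affineOpens => φ '' (V.1 : Set ↥U))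
    (fun V => hφ _ V.1.2) hcov
  refine ⟨⨆ V ∈ t, V.1, ?_, ?_⟩
  · have : ((⨆ V ∈ t, V.1 : U.Opens) : Set ↥U) = ⋃ V ∈ t, (V.1 : Set ↥U) := by
      simp
    rw [this]
    exact t.isCompact_biUnion fun V _ => V.2.isCompact
  · intro x hx
    obtain ⟨V, hVt, u, hu, rfl⟩ : ∃ V ∈ t, x ∈ φ '' (V.1 : Set ↥U) := by
      simpa using ht hx
    refine ⟨u, ?_, rfl⟩
    have : (V.1 : U.Opens) ≤ ⨆ V ∈ t, V.1 := le_iSup₂ (f := fun V (_ : V ∈ t) => V.1) V hVt
    exact this hu

/-- The open subscheme `U'` of a scheme `U` over `S`, as a scheme over `S`. -/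
noncomputable abbrev overOpens (U : Over S) (U' : U.left.Opens) : Over S :=
  Over.mk (U'.ι ≫ U.hom)

/-- The inclusion of an open subscheme, as a morphism over `S`. -/
noncomputable abbrev overOpensι (U : Over S) (U' : U.left.Opens) : overOpens U U' ⟶ U :=
  Over.homMk U'.ι rfl

theorem repWith_etale_overOpensι (U : Over S) (U' : U.left.Opens) :
    RepWith @Etale ((yon S).map (overOpensι U U')) :=
  (repWith_yon_map_iff _ _).2 (by
    change Etale U'.ι
    infer_instance)

theorem ofPt_overOpensι_comp {F : Sp S} (U : Over S) (U' : U.left.Opens)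
    (a : (yon S).obj U ⟶ F) (x : ↥(overOpens U U').left) :
    Points.ofPt ((yon S).map (overOpensι U U') ≫ a) x = Points.ofPt a (U'.ι x) :=
  ofPt_map_comp _ _ _

/-- A sheaf with an etale chart `a` and compact space of points covered by the chart is quasi-compact.
More precisely: if `a : h_U ⟶ F` is representable etale and surjective on points and `|F|` is compact,
then `F` is quasi-compact. -/
theorem isQuasiCompactSp_of_chart {F : Sp S} {U : Over S} (a : (yon S).obj U ⟶ F)
    (hae : RepWith @Etale a) (has : Function.Surjective (Points.ofPt a))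
    [CompactSpace (Points F)] : IsQuasiCompactSp F := by
  obtain ⟨U', hU'c, hU'⟩ := exists_compact_opens_of_isOpenMap U.left (Points.ofPt a)
    (isOpenMap_ofPt a hae) Set.univ isCompact_univ (by rw [has.range_eq])
  have hrep : RepWith @Etale ((yon S).map (overOpensι U U') ≫ a) :=
    (RepWith @Etale).comp_mem _ _ (repWith_etale_overOpensι U U') hae
  refine ⟨overOpens U U', (yon S).map (overOpensι U U') ≫ a, hrep, ?_, ?_⟩
  · refine repWith_surjective_of_ofPt_surjective _ hrep.rep fun x => ?_
    obtain ⟨u, hu, rfl⟩ := hU' (Set.mem_univ x)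
    exact ⟨⟨u, hu⟩, ofPt_overOpensι_comp U U' a _⟩
  · exact isCompact_iff_compactSpace.mp hU'c

/-- An algebraic space with compact space of points is quasi-compact. -/
theorem isQuasiCompactSp_of_compactSpace {F : Sp S} (hF : IsAlgSpace F)
    [CompactSpace (Points F)] : IsQuasiCompactSp F := by
  obtain ⟨U, p, hpe, hps⟩ := hF.atlas
  exact isQuasiCompactSp_of_chart p hpe (ofPt_surjective p hps)

theorem isQuasiCompactSp_iff_compactSpace {F : Sp S} (hF : IsAlgSpace F) :
    IsQuasiCompactSp F ↔ CompactSpace (Points F) :=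
  ⟨compactSpace_points_of_isQuasiCompactSp, fun _ => isQuasiCompactSp_of_compactSpace hF⟩

/-- The target of a morphism surjective on points with quasi-compact source is quasi-compact. -/
theorem isQuasiCompactSp_of_isSurjectiveMor {X Y : Sp S} (f : X ⟶ Y) (hY : IsAlgSpace Y)
    (hf : IsSurjectiveMor f) (hX : IsQuasiCompactSp X) : IsQuasiCompactSp Y := by
  have := compactSpace_points_of_isQuasiCompactSp hX
  have : CompactSpace (Points Y) := by
    refine ⟨?_⟩
    have := (isCompact_univ (X := Points X)).image (Points.continuous_map f)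
    rwa [Set.image_univ, hf.range_eq] at this
  exact isQuasiCompactSp_of_compactSpace hY

end Groth.Agent.Lib.Helper23.AlgSpMor
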