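import Groth.Agent.Lib.Helper23.AlgSpMor10
import Groth.Agent.S9882

/-!
# Diagonals of morphisms of fppf sheaves / algebraic spaces (helper23)
-/

set_option autoImplicit false
universe u
open CategoryTheory CategoryTheory.Limits AlgebraicGeometry Opposite

namespace Groth.Agent.Lib.Helper23.AlgSpMor

section Cat

variable {C : Type*} [Category C]

/-- Cancelling a monomorphism in the base of a pullback square. -/
theorem isPullback_of_comp_mono {P X Y W Z : C} {fst : P ⟶ X} {snd : P ⟶ Y} {f : X ⟶ W}
    {g : Y ⟶ W} (i : W ⟶ Z) [Mono i] (h : IsPullback fst snd (f ≫ i) (g ≫ i)) :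
    IsPullback fst snd f g := by
  have w : fst ≫ f = snd ≫ g := by
    rw [← cancel_mono i, Category.assoc, Category.assoc]; exact h.w
  refine ⟨⟨w⟩, ⟨PullbackCone.IsLimit.mk _
    (fun s => h.lift s.fst s.snd (by
      rw [← Category.assoc, s.condition, Category.assoc]))
    (fun s => h.lift_fst _ _ _) (fun s => h.lift_snd _ _ _)
    (fun s m h1 h2 => h.hom_ext (by rw [h.lift_fst]; exact h1) (by rw [h.lift_snd]; exact h2))⟩⟩

/-- Composing the base of a pullback square with a monomorphism. -/
theorem isPullback_comp_mono {P X Y W Z : C} {fst : P ⟶ X} {snd : P ⟶ Y} {f : X ⟶ W}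
    {g : Y ⟶ W} (i : W ⟶ Z) [Mono i] (h : IsPullback fst snd f g) :
    IsPullback fst snd (f ≫ i) (g ≫ i) := by
  refine ⟨⟨by rw [← Category.assoc, h.w, Category.assoc]⟩, ⟨PullbackCone.IsLimit.mk _
    (fun s => h.lift s.fst s.snd (by
      rw [← cancel_mono i, Category.assoc, Category.assoc]; exact s.condition))
    (fun s => h.lift_fst _ _ _) (fun s => h.lift_snd _ _ _)
    (fun s m h1 h2 => h.hom_ext (by rw [h.lift_fst]; exact h1) (by rw [h.lift_snd]; exact h2))⟩⟩

variable [HasPullbacks C]

/-- The diagonal of a base change is the base change of the diagonal. -/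
theorem isPullback_diagonal {V' U' X Y : C} {fst : V' ⟶ X} {g' : V' ⟶ U'} {f : X ⟶ Y}
    {u : U' ⟶ Y} (sq : IsPullback fst g' f u) (m : pullback g' g' ⟶ pullback f f)
    (hm1 : m ≫ pullback.fst f f = pullback.fst g' g' ≫ fst)
    (hm2 : m ≫ pullback.snd f f = pullback.snd g' g' ≫ fst) :
    IsPullback fst (pullback.diagonal g') (pullback.diagonal f) m := by
  refine ⟨⟨?_⟩, ⟨PullbackCone.IsLimit.mk _ (fun s => s.snd ≫ pullback.fst g' g') ?_ ?_ ?_⟩⟩
  · apply pullback.hom_ext
    · rw [Category.assoc, pullback.diagonal_fst, Category.comp_id, Category.assoc, hm1,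
        ← Category.assoc, pullback.diagonal_fst, Category.id_comp]
    · rw [Category.assoc, pullback.diagonal_snd, Category.comp_id, Category.assoc, hm2,
        ← Category.assoc, pullback.diagonal_snd, Category.id_comp]
  · intro s
    have h1 := congrArg (· ≫ pullback.fst f f) s.condition
    simp only [Category.assoc, pullback.diagonal_fst, Category.comp_id, hm1] at h1
    rw [Category.assoc, ← h1]
  · intro s
    have h1 := congrArg (· ≫ pullback.fst f f) s.condition
    have h2 := congrArg (· ≫ pullback.snd f f) s.condition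
    simp only [Category.assoc, pullback.diagonal_fst, pullback.diagonal_snd, Category.comp_id,
      hm1, hm2] at h1 h2
    have heq : s.snd ≫ pullback.fst g' g' = s.snd ≫ pullback.snd g' g' := by
      apply sq.hom_ext
      · rw [Category.assoc, Category.assoc, ← h1, ← h2]
      · rw [Category.assoc, Category.assoc, pullback.condition]
    apply pullback.hom_ext
    · rw [Category.assoc, pullback.diagonal_fst, Category.comp_id]
    · rw [Category.assoc, pullback.diagonal_snd, Category.comp_id]
      exact heq
  · intro s m' _ h2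
    rw [← h2, Category.assoc, pullback.diagonal_fst, Category.comp_id]

/-- A section `s` of `f` is a base change of the diagonal of `f`. -/
theorem isPullback_section {X T : C} (f : X ⟶ T) (s : T ⟶ X) (hs : s ≫ f = 𝟙 T)
    (l : X ⟶ pullback f f) (hl1 : l ≫ pullback.fst f f = 𝟙 X)
    (hl2 : l ≫ pullback.snd f f = f ≫ s) :
    IsPullback s s (pullback.diagonal f) l := by
  refine ⟨⟨?_⟩, ⟨PullbackCone.IsLimit.mk _ (fun c => c.fst ≫ f) ?_ ?_ ?_⟩⟩
  · apply pullback.hom_ext
    · rw [Category.assoc, pullback.diagonal_fst, Category.assoc, hl1]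
    · rw [Category.assoc, pullback.diagonal_snd, Category.assoc, hl2, ← Category.assoc, hs,
        Category.id_comp, Category.comp_id]
  · intro c
    have h1 := congrArg (· ≫ pullback.fst f f) c.condition
    have h2 := congrArg (· ≫ pullback.snd f f) c.condition
    simp only [Category.assoc, pullback.diagonal_fst, pullback.diagonal_snd, Category.comp_id,
      hl1, hl2] at h1 h2
    rw [Category.assoc, h1, ← h2, h1]
  · intro c
    have h1 := congrArg (· ≫ pullback.fst f f) c.condition
    have h2 := congrArg (· ≫ pullback.snd f f) c.condition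
    simp only [Category.assoc, pullback.diagonal_fst, pullback.diagonal_snd, Category.comp_id,
      hl1, hl2] at h1 h2
    rw [Category.assoc, h1, ← h2, h1]
  · intro c m h1 _
    rw [← h1, Category.assoc, hs, Category.comp_id]

end Cat

open AlgSp Groth.Agent.Lib.Helper37.AlgSpPoints Groth.Agent.Lib.Helper12.AlgSpPoints

variable {S : Scheme.{u}}

/-- `RepWith P` can be cancelled along a monomorphism of sheaves (any `P`). -/
theorem repWith_of_comp_mono (P : MorphismProperty Scheme.{u}) {A B C : Sp S} (h : A ⟶ B)
    (i : B ⟶ C) [Mono i] (H : RepWith P (h ≫ i)) : RepWith P h := by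
  refine ⟨fun T t => ⟨H.rep.pullback (t ≫ i), H.rep.snd (t ≫ i), H.rep.fst (t ≫ i),
    isPullback_of_comp_mono i (H.rep.isPullback (t ≫ i))⟩, fun T V t fst snd sq => ?_⟩
  exact H.property (t ≫ i) fst snd (isPullback_comp_mono i sq)

theorem repWith_inf {P Q : MorphismProperty Scheme.{u}} {A B : Sp S} {f : A ⟶ B}
    (hP : RepWith P f) (hQ : RepWith Q f) : RepWith (P ⊓ Q) f :=
  ⟨hP.rep, fun _ _ g fst snd sq => ⟨hP.property g fst snd sq, hQ.property g fst snd sq⟩⟩

theorem diagonal_comp_prodLift {X Y : Sp S} (f : X ⟶ Y) :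
    pullback.diagonal f ≫ prod.lift (pullback.fst f f) (pullback.snd f f) = Limits.diag X := by
  ext <;> simp

/-- The diagonal of a morphism from an algebraic space has all the properties of the absolute
diagonal. -/
theorem repWith_diagonal_of_repWith_diag (P : MorphismProperty Scheme.{u}) {X Y : Sp S}
    (f : X ⟶ Y) (h : RepWith P (Limits.diag X)) : RepWith P (pullback.diagonal f) := by
  rw [← diagonal_comp_prodLift f] at h
  exact repWith_of_comp_mono P _ _ h

theorem diagonal_hom_properties {X Y : Sp S} (hX : IsAlgSpace X) (f : X ⟶ Y) :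
    Representable (pullback.diagonal f) ∧
    RepWith @LocallyOfFiniteType (pullback.diagonal f) ∧
    RepWith (MorphismProperty.monomorphisms Scheme.{u}) (pullback.diagonal f) ∧
    RepWith @IsSeparated (pullback.diagonal f) ∧
    RepWith (@LocallyQuasiFinite ⊓ @LocallyOfFiniteType) (pullback.diagonal f) := by
  obtain ⟨h1, h2, h3, h4⟩ := Groth.Agent.S9882.result S ⟨X, hX⟩
  have k1 := repWith_diagonal_of_repWith_diag _ f h1
  have k2 := repWith_diagonal_of_repWith_diag _ f h2
  have k3 := repWith_diagonal_of_repWith_diag _ f h3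
  have k4 := repWith_diagonal_of_repWith_diag _ f h4
  exact ⟨k1.rep, k1, k2, k3, repWith_inf k4 k1⟩

end Groth.Agent.Lib.Helper23.AlgSpMor
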