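import Groth.Agent.Lib.Helper23.AlgSpInj
import Mathlib.AlgebraicGeometry.Morphisms.FlatMono

/-!
# Universally injective morphisms of algebraic spaces, II (helper23)
-/

set_option autoImplicit false
universe u
open CategoryTheory CategoryTheory.Limits AlgebraicGeometry Opposite

namespace Groth.Agent.Lib.Helper23.AlgSpMor

open AlgSp Groth.Agent.Lib.Helper37.AlgSpPoints Groth.Agent.Lib.Helper12.AlgSpPoints

variable {S : Scheme.{u}}

/-- A monomorphism from a nonempty scheme to the spectrum of a field is an isomorphism. -/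
theorem isIso_of_mono_of_field {E : Scheme.{u}} {K : Type u} [Field K]
    (f : E ⟶ Spec (CommRingCat.of K)) [Mono f] [Nonempty ↥E] : IsIso f := by
  have hs : Subsingleton ↥(Spec (CommRingCat.of K)) :=
    inferInstanceAs (Subsingleton (PrimeSpectrum K))
  have hinj : Function.Injective f := f.injective
  have : Subsingleton ↥E := hinj.subsingleton
  have : CompactSpace ↥E := Finite.compactSpace
  have : QuasiCompact f := inferInstance
  have : Surjective f := ⟨fun y => ⟨Classical.arbitrary ↥E, Subsingleton.elim _ _⟩⟩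
  have : Flat f := inferInstance
  exact Flat.isIso_of_surjective_of_mono f

/-- The field-valued point defined by a morphism from the spectrum of a field. -/
noncomputable def fieldPtOfHom {F : Sp S} {K : Type u} [Field K] (str : Spec (CommRingCat.of K) ⟶ S)
    (h : (yon S).obj (Over.mk str) ⟶ F) : FieldPt F :=
  ⟨K, str, (J S).uliftYonedaEquiv h⟩

theorem toHom_fieldPtOfHom {F : Sp S} {K : Type u} [Field K]
    (str : Spec (CommRingCat.of K) ⟶ S) (h : (yon S).obj (Over.mk str) ⟶ F) :
    (fieldPtOfHom str h).toHom = h :=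
  Equiv.symm_apply_apply _ _

theorem fieldPtOfHom_toHom {F : Sp S} (p : FieldPt F) : fieldPtOfHom p.str p.toHom = p := by
  obtain ⟨K, str, v⟩ := p
  change FieldPt.mk K str _ = _
  congr 1
  exact Equiv.apply_symm_apply _ _

theorem exists_eq_mk_fieldPtOfHom {F : Sp S} (x : Points F) :
    ∃ (K : Type u) (_ : Field K) (str : Spec (CommRingCat.of K) ⟶ S)
      (h : (yon S).obj (Over.mk str) ⟶ F), x = Points.mk (fieldPtOfHom str h) := by
  induction x using Points.ind with
  | h p => exact ⟨p.K, p.field, p.str, p.toHom, by rw [fieldPtOfHom_toHom]⟩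

theorem uliftYonedaEquiv_map_comp_toHom {F : Sp S} (p : FieldPt F) {T : Over S} (a : T ⟶ p.pt) :
    (J S).uliftYonedaEquiv ((yon S).map a ≫ p.toHom) = F.obj.map a.op p.val := by
  rw [GrothendieckTopology.uliftYonedaEquiv_comp,
    GrothendieckTopology.uliftYonedaEquiv_uliftYoneda_map]
  exact FieldPt.toHom_app p a

/-- Two field-valued points are related iff their morphisms agree over a common field. -/
theorem rel_iff_toHom {F : Sp S} (p q : FieldPt F) :
    FieldPt.Rel p q ↔ ∃ (Ω : Type u) (_ : Field Ω) (w : Spec (CommRingCat.of Ω) ⟶ S)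
      (a : Over.mk w ⟶ p.pt) (b : Over.mk w ⟶ q.pt),
      (yon S).map a ≫ p.toHom = (yon S).map b ≫ q.toHom := by
  constructor
  · rintro ⟨Ω, _, w, a, b, h⟩
    refine ⟨Ω, inferInstance, w, a, b, (J S).uliftYonedaEquiv.injective ?_⟩
    rw [uliftYonedaEquiv_map_comp_toHom, uliftYonedaEquiv_map_comp_toHom, h]
  · rintro ⟨Ω, _, w, a, b, h⟩
    refine ⟨Ω, inferInstance, w, a, b, ?_⟩
    rw [← uliftYonedaEquiv_map_comp_toHom, ← uliftYonedaEquiv_map_comp_toHom, h]

/-- Equality of the points defined by two morphisms from spectra of fields. -/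
theorem mk_fieldPtOfHom_eq_iff {F : Sp S} {K₁ K₂ : Type u} [Field K₁] [Field K₂]
    (str₁ : Spec (CommRingCat.of K₁) ⟶ S) (str₂ : Spec (CommRingCat.of K₂) ⟶ S)
    (h₁ : (yon S).obj (Over.mk str₁) ⟶ F) (h₂ : (yon S).obj (Over.mk str₂) ⟶ F) :
    Points.mk (fieldPtOfHom str₁ h₁) = Points.mk (fieldPtOfHom str₂ h₂) ↔
      ∃ (Ω : Type u) (_ : Field Ω) (w : Spec (CommRingCat.of Ω) ⟶ S)
      (a : Over.mk w ⟶ Over.mk str₁) (b : Over.mk w ⟶ Over.mk str₂),
      (yon S).map a ≫ h₁ = (yon S).map b ≫ h₂ := by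
  refine Points.mk_eq_mk_iff.trans ((rel_iff_toHom _ _).trans ?_)
  constructor
  · rintro ⟨Ω, _, w, a, b, h⟩
    rw [toHom_fieldPtOfHom, toHom_fieldPtOfHom] at h
    exact ⟨Ω, inferInstance, w, a, b, h⟩
  · rintro ⟨Ω, _, w, a, b, h⟩
    refine ⟨Ω, inferInstance, w, a, b, ?_⟩
    rw [toHom_fieldPtOfHom, toHom_fieldPtOfHom]
    exact h

theorem map_mk_fieldPtOfHom {F G : Sp S} (f : F ⟶ G) {K : Type u} [Field K]
    (str : Spec (CommRingCat.of K) ⟶ S) (h : (yon S).obj (Over.mk str) ⟶ F) :
    Points.map f (Points.mk (fieldPtOfHom str h)) = Points.mk (fieldPtOfHom str (h ≫ f)) := by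
  rw [Points.map_mk]
  congr 1

/-- A morphism injective on field-valued points is injective on points. -/
theorem injective_points_of_kInj {X Y : Sp S} (f : X ⟶ Y) (hf : KInj f) :
    Function.Injective (Points.map f) := by
  intro x₁ x₂ h
  obtain ⟨K₁, _, str₁, h₁, rfl⟩ := exists_eq_mk_fieldPtOfHom x₁
  obtain ⟨K₂, _, str₂, h₂, rfl⟩ := exists_eq_mk_fieldPtOfHom x₂
  rw [map_mk_fieldPtOfHom, map_mk_fieldPtOfHom, mk_fieldPtOfHom_eq_iff] at h
  obtain ⟨Ω, _, w, a, b, hab⟩ := h
  rw [← Category.assoc, ← Category.assoc] at hab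
  rw [mk_fieldPtOfHom_eq_iff]
  exact ⟨Ω, inferInstance, w, a, b, hf Ω w hab⟩

theorem isUnivInjectiveMor_of_kInj {X Y : Sp S} (f : X ⟶ Y) (hf : KInj f) :
    IsUnivInjectiveMor f := by
  intro Z Z' _ g fst snd sq
  exact injective_points_of_kInj snd (hf.of_isPullback sq)

/-- A universally injective morphism has diagonal surjective on points. -/
theorem isSurjectiveMor_diagonal_of_isUnivInjectiveMor {X Y : Sp S} (f : X ⟶ Y)
    (hf : IsUnivInjectiveMor f) : IsSurjectiveMor (pullback.diagonal f) := by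
  intro z
  obtain ⟨K, _, str, h, rfl⟩ := exists_eq_mk_fieldPtOfHom z
  set a := h ≫ pullback.fst f f with ha
  set b := h ≫ pullback.snd f f with hb
  have hab : a ≫ f = b ≫ f := by
    rw [ha, hb, Category.assoc, Category.assoc, pullback.condition]
  have hinj : Function.Injective (Points.map (pullback.snd f (a ≫ f))) :=
    hf (IsAlgSpace.yon_obj (Over.mk str)) (a ≫ f) (pullback.fst f (a ≫ f))
      (pullback.snd f (a ≫ f)) (IsPullback.of_hasPullback _ _)
  let σa : (yon S).obj (Over.mk str) ⟶ pullback f (a ≫ f) := pullback.lift a (𝟙 _) (by simp)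
  let σb : (yon S).obj (Over.mk str) ⟶ pullback f (a ≫ f) :=
    pullback.lift b (𝟙 _) (by simp [hab])
  have hσa1 : σa ≫ pullback.fst f (a ≫ f) = a := pullback.lift_fst _ _ _
  have hσa2 : σa ≫ pullback.snd f (a ≫ f) = 𝟙 _ := pullback.lift_snd _ _ _
  have hσb1 : σb ≫ pullback.fst f (a ≫ f) = b := pullback.lift_fst _ _ _
  have hσb2 : σb ≫ pullback.snd f (a ≫ f) = 𝟙 _ := pullback.lift_snd _ _ _
  have hσ : Points.mk (fieldPtOfHom str σa) = Points.mk (fieldPtOfHom str σb) := by
    apply hinj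
    rw [map_mk_fieldPtOfHom, map_mk_fieldPtOfHom, hσa2, hσb2]
  rw [mk_fieldPtOfHom_eq_iff] at hσ
  obtain ⟨Ω, _, w, i₁, i₂, hi⟩ := hσ
  have h12 : i₁ = i₂ := by
    apply (yon S).map_injective
    have := congrArg (· ≫ pullback.snd f (a ≫ f)) hi
    simpa only [Category.assoc, hσa2, hσb2, Category.comp_id] using this
  subst h12
  have hiab : (yon S).map i₁ ≫ a = (yon S).map i₁ ≫ b := by
    have := congrArg (· ≫ pullback.fst f (a ≫ f)) hi
    simpa only [Category.assoc, hσa1, hσb1] using this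
  refine ⟨Points.mk (fieldPtOfHom w ((yon S).map i₁ ≫ a)), ?_⟩
  rw [map_mk_fieldPtOfHom, mk_fieldPtOfHom_eq_iff]
  refine ⟨Ω, inferInstance, w, 𝟙 _, i₁, ?_⟩
  rw [CategoryTheory.Functor.map_id, Category.id_comp]
  apply pullback.hom_ext
  · simp only [Category.assoc, pullback.diagonal_fst, Category.comp_id]
    rw [← ha]
  · simp only [Category.assoc, pullback.diagonal_snd, Category.comp_id]
    rw [← hb, ← hiab]

/-- If the diagonal is surjective on points, the morphism is injective on field-valued points. -/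
theorem kInj_of_isSurjectiveMor_diagonal {X Y : Sp S} (hX : IsAlgSpace X) (f : X ⟶ Y)
    (hf : IsSurjectiveMor (pullback.diagonal f)) : KInj f := by
  intro K _ str a b hab
  dsimp only at hab
  obtain ⟨hΔ, -, hmono, -, -⟩ := diagonal_hom_properties hX f
  let h : (yon S).obj (Over.mk str) ⟶ pullback f f := pullback.lift a b hab
  have sqE := hΔ.isPullback h
  have hm : Mono (hΔ.snd h).left := hmono.property_snd h
  have hsurj : IsSurjectiveMor ((yon S).map (hΔ.snd h)) := isSurjectiveMor_of_isPullback sqE hf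
  have hne : Nonempty ↥(hΔ.pullback h).left := by
    obtain ⟨x, -⟩ := hsurj (Points.ofScheme (Over.mk str) (IsLocalRing.closedPoint K))
    exact ⟨Points.toScheme _ x⟩
  have hiso : IsIso (hΔ.snd h).left := isIso_of_mono_of_field (hΔ.snd h).left
  have hiso' : IsIso (hΔ.snd h) := by
    have : IsIso ((Over.forget S).map (hΔ.snd h)) := hiso
    exact isIso_of_reflects_iso _ (Over.forget S)
  have hh : h = inv ((yon S).map (hΔ.snd h)) ≫ hΔ.fst h ≫ pullback.diagonal f := by
    rw [IsIso.eq_inv_comp, ← sqE.w]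
  have h1 : a = h ≫ pullback.fst f f := (pullback.lift_fst _ _ _).symm
  have h2 : b = h ≫ pullback.snd f f := (pullback.lift_snd _ _ _).symm
  rw [h1, h2, hh]
  simp

end Groth.Agent.Lib.Helper23.AlgSpMor
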