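import Groth.Agent.Lib.Helper23.AlgSpMor4

/-!
# Quasi-compact morphisms of algebraic spaces: descent along open surjective base change (helper23)
-/

set_option autoImplicit false
universe u
open CategoryTheory CategoryTheory.Limits AlgebraicGeometry Opposite

namespace Groth.Agent.Lib.Helper23.AlgSpMor

open AlgSp Groth.Agent.Lib.Helper37.AlgSpPoints Groth.Agent.Lib.Helper12.AlgSpPoints

variable {S : Scheme.{u}}

/-- If `k` is surjective on points and `k ≫ c` is open on points, then `c` is open on points. -/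
theorem isOpenMap_of_comp_surjective {A B C : Sp S} (k : A ⟶ B) (c : B ⟶ C)
    (hk : IsSurjectiveMor k) (hkc : IsOpenMap (Points.map (k ≫ c))) :
    IsOpenMap (Points.map c) := by
  intro W hW
  have : Points.map c '' W = Points.map (k ≫ c) '' (Points.map k ⁻¹' W) := by
    ext z
    constructor
    · rintro ⟨b, hb, rfl⟩
      obtain ⟨a, rfl⟩ := hk b
      exact ⟨a, hb, Points.map_comp k c a⟩
    · rintro ⟨a, ha, rfl⟩
      exact ⟨Points.map k a, ha, (Points.map_comp k c a).symm⟩
  rw [this]
  exact hkc _ (hW.preimage (Points.continuous_map k))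

/-- An etale morphism (in the sense of charts) from an algebraic space is universally open. -/
theorem isUnivOpenMor_of_isEtaleMor {Y' Y : Sp S} (hY' : IsAlgSpace Y') (g : Y' ⟶ Y)
    (hg : IsEtaleMor g) : IsUnivOpenMor g := by
  intro W W₁ _ h d c sq
  obtain ⟨V', v, hve, hvs⟩ := hY'.atlas
  have hvg : RepWith @Etale (v ≫ g) := hg v hve
  have sq2 : IsPullback (pullback.fst d v) (pullback.snd d v) d v := IsPullback.of_hasPullback d v
  have sq3 : IsPullback (pullback.snd d v) (pullback.fst d v ≫ c) (v ≫ g) h :=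
    sq2.flip.paste_vert sq
  have hkc : RepWith @Etale (pullback.fst d v ≫ c) :=
    (RepWith @Etale).of_isPullback sq3 hvg
  have hk : RepWith @Surjective (pullback.fst d v) :=
    (RepWith @Surjective).of_isPullback sq2.flip hvs
  exact isOpenMap_of_comp_surjective _ c (isSurjectiveMor_of_repWith_surjective _ hk)
    (isOpenMap_points_of_repWith_etale _ hkc)

/-- A quasi-compact algebraic space admits, for every morphism from an algebraic space which is open and
surjective on points, a morphism from a quasi-compact scheme which composes to a morphism surjective on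
points. -/
theorem exists_compact_chart_of_open_surjective {W₁ W : Sp S} (hW₁ : IsAlgSpace W₁) (c : W₁ ⟶ W)
    (hc : IsOpenMap (Points.map c)) (hcs : IsSurjectiveMor c) [CompactSpace (Points W)] :
    ∃ (T : Over S) (t : (yon S).obj T ⟶ W₁), CompactSpace ↥T.left ∧ IsSurjectiveMor (t ≫ c) := by
  obtain ⟨U₁, b, hbe, hbs⟩ := hW₁.atlas
  have hbsurj := ofPt_surjective b hbs
  have hopen : IsOpenMap (Points.map c ∘ Points.ofPt b) := hc.comp (isOpenMap_ofPt b hbe)
  have hsurj : Function.Surjective (Points.map c ∘ Points.ofPt b) := hcs.comp hbsurj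
  obtain ⟨U', hU'c, hU'⟩ := exists_compact_opens_of_isOpenMap U₁.left _ hopen Set.univ
    isCompact_univ (by rw [hsurj.range_eq])
  refine ⟨overOpens U₁ U', (yon S).map (overOpensι U₁ U') ≫ b,
    isCompact_iff_compactSpace.mp hU'c, fun w => ?_⟩
  obtain ⟨u, hu, rfl⟩ := hU' (Set.mem_univ w)
  refine ⟨Points.ofScheme _ ⟨u, hu⟩, ?_⟩
  rw [map_ofScheme, ← Points.map_ofPt, ofPt_overOpensι_comp]
  rfl

/-- Quasi-compactness descends along a base change which is universally open and surjective on
points. -/
theorem isQuasiCompactMor_of_univOpen_surjective_base_change {X Y Y' X' : Sp S}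
    (hX : IsAlgSpace X) (hY : IsAlgSpace Y) (hY' : IsAlgSpace Y')
    (f : X ⟶ Y) (g : Y' ⟶ Y) (fst : X' ⟶ X) (f' : X' ⟶ Y') (sq : IsPullback fst f' f g)
    (hg : IsUnivOpenMor g) (hgs : IsSurjectiveMor g) (hf' : IsQuasiCompactMor f') :
    IsQuasiCompactMor f := by
  intro W W' hW hWqc h a b sqW
  have := compactSpace_points_of_isQuasiCompactSp hWqc
  -- the base change of `g` to `W`
  have sq1 : IsPullback (pullback.fst h g) (pullback.snd h g) h g := IsPullback.of_hasPullback h g
  set c := pullback.fst h g with hc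
  set d := pullback.snd h g with hd
  have hW₁ : IsAlgSpace (pullback h g) := isAlgSpace_of_isPullback hW hY' hY.diag sq1
  have hcopen : IsOpenMap (Points.map c) := hg hW h d c sq1.flip
  have hcsurj : IsSurjectiveMor c := isSurjectiveMor_of_isPullback sq1.flip hgs
  obtain ⟨T, t, hT, htc⟩ := exists_compact_chart_of_open_surjective hW₁ c hcopen hcsurj
  -- the base change of `b : W' ⟶ W` along `t ≫ c`
  have sq2 : IsPullback (pullback.fst b (t ≫ c)) (pullback.snd b (t ≫ c)) b (t ≫ c) :=
    IsPullback.of_hasPullback b (t ≫ c)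
  set e := pullback.fst b (t ≫ c) with he
  set e2 := pullback.snd b (t ≫ c) with he2
  have hW' : IsAlgSpace W' := isAlgSpace_of_isPullback hX hW hY.diag sqW
  have hesurj : IsSurjectiveMor e := isSurjectiveMor_of_isPullback sq2.flip htc
  -- the outer pullback
  have sq3 : IsPullback (e ≫ a) e2 f ((t ≫ c) ≫ h) := sq2.paste_horiz sqW
  have hcomm : (t ≫ c) ≫ h = (t ≫ d) ≫ g := by
    rw [Category.assoc, Category.assoc, sq1.w]
  rw [hcomm] at sq3
  have hlift : (e ≫ a) ≫ f = (e2 ≫ t ≫ d) ≫ g := by
    rw [sq3.w, Category.assoc, Category.assoc, Category.assoc]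
  have sq4 : IsPullback (sq.lift (e ≫ a) (e2 ≫ t ≫ d) hlift) e2 f' (t ≫ d) := by
    refine IsPullback.of_right (h₁₂ := fst) (h₂₂ := g) (v₁₃ := f) ?_ ?_ sq
    · rw [sq.lift_fst]; exact sq3
    · rw [sq.lift_snd]
  have hqc : IsQuasiCompactSp (pullback b (t ≫ c)) :=
    hf' (IsAlgSpace.yon_obj T) (isQuasiCompactSp_yon T) (t ≫ d) _ _ sq4
  exact isQuasiCompactSp_of_isSurjectiveMor e hW' hesurj hqc

end Groth.Agent.Lib.Helper23.AlgSpMor
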