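import Groth.Agent.Lib.Helper37.DisjCover
import Groth.Agent.Lib.Helper36.OpenImmIso
import Groth.Agent.Lib.Helper5.AtlasDiag
import Groth.Agent.Lib.Helper23.AlgSpDiag
import Groth.Agent.Lib.Helper23.AlgSpProper2
import Groth.Agent.Lib.Helper17.DiagMono
import Groth.Agent.Lib.Helper62.AlgSpMono

/-!
# Representability tools for separated locally quasi-finite spaces (helper23)

* `isRepresentable_of_isEmpty`: a sheaf over the empty scheme is representable.
* `isRepresentable_of_clopen`: a sheaf which is the disjoint union of two representable open subspaces.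
* `isRepresentable_of_descent`: fppf descent of representability for separated locally quasi-finite
  morphisms.
-/

set_option autoImplicit false
universe u
open CategoryTheory CategoryTheory.Limits AlgebraicGeometry Opposite

namespace Groth.Agent.Lib.Helper23.SLQ

open AlgSp Groth.Agent.Lib.Helper36.OpenSubspace Groth.Agent.Lib.Helper37.AlgSpPoints
  Groth.Agent.Lib.Helper23.AlgSpMor Groth.Agent.Lib.Helper5.FppfRep
  Groth.Agent.Lib.Helper5.DescSepLQF

variable {S : Scheme.{u}}

theorem exists_iso_of_isRepresentable {F : Sp S} (h : F.obj.IsRepresentable) :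
    ∃ V : Over S, Nonempty ((yon S).obj V ≅ F) := by
  obtain ⟨V, ⟨r⟩⟩ := h.has_representation
  exact ⟨V, ⟨isoOfRepresentableBy r⟩⟩

theorem isRepresentable_of_iso {F : Sp S} {V : Over S} (e : (yon S).obj V ≅ F) :
    F.obj.IsRepresentable :=
  (representableByOfIso e).isRepresentable

theorem isRepresentable_of_iso' {F G : Sp S} (e : F ≅ G) (h : F.obj.IsRepresentable) :
    G.obj.IsRepresentable := by
  obtain ⟨V, ⟨i⟩⟩ := exists_iso_of_isRepresentable h
  exact isRepresentable_of_iso (i ≪≫ e)

/-- A sheaf over the empty scheme is representable. -/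
theorem isRepresentable_of_isEmpty {G : Sp S} {T : Over S} (ξ : G ⟶ (yon S).obj T)
    [IsEmpty ↥T.left] : G.obj.IsRepresentable := by
  refine Groth.Agent.Lib.Helper37.DisjCover.isRepresentable_of_disjoint_cover
    (ι := PEmpty.{1}) (fun i => i.elim) (fun i => i.elim) (fun i => i.elim) ?_ (fun i => i.elim)
  intro T₀ g t
  obtain ⟨φ, -⟩ := (yon S).map_surjective (g ≫ ξ)
  exact (IsEmpty.false (φ.left t)).elim

/-- A sheaf which is the disjoint union of two representable open subspaces is representable. -/
theorem isRepresentable_of_clopen {X : Sp S} (A : Set (Points X)) (hA : IsOpen A) (hA' : IsOpen Aᶜ)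
    (h1 : (openSub X A).obj.IsRepresentable) (h2 : (openSub X Aᶜ).obj.IsRepresentable) :
    X.obj.IsRepresentable := by
  obtain ⟨V1, ⟨e1⟩⟩ := exists_iso_of_isRepresentable h1
  obtain ⟨V2, ⟨e2⟩⟩ := exists_iso_of_isRepresentable h2
  let W : Bool → Set (Points X) := fun b => if b then A else Aᶜ
  have hW : ∀ b, IsOpen (W b) := fun b => by
    cases b
    · exact hA'
    · exact hA
  let V : Bool → Over S := fun b => if b then V1 else V2
  have hex : ∀ b, Nonempty ((yon S).obj (V b) ≅ openSub X (W b)) := fun b => by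
    cases b
    · exact ⟨e2⟩
    · exact ⟨e1⟩
  let ee : ∀ b, (yon S).obj (V b) ≅ openSub X (W b) := fun b => (hex b).some
  refine Groth.Agent.Lib.Helper37.DisjCover.isRepresentable_of_disjoint_cover V
    (fun b => (ee b).hom ≫ openSubι X (W b)) (fun b => inferInstance) ?_ ?_
  · intro T g t
    let x := Points.ofPt g t
    obtain ⟨b, hb⟩ : ∃ b, x ∈ W b := by
      by_cases hx : x ∈ A
      · exact ⟨true, hx⟩
      · exact ⟨false, hx⟩
    obtain ⟨top, sq⟩ := exists_isPullback_openSub X (W b) (hW b) g
    refine ⟨b, preimageOpens X (W b) (hW b) g, hb, (yon S).preimage (top ≫ (ee b).inv), ?_⟩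
    rw [Functor.map_preimage, Category.assoc, Iso.inv_hom_id_assoc, sq.w]
  · intro i j hij T g h hgh
    refine ⟨fun t => ?_⟩
    have h1 := ofPt_comp_openSubι_mem X (W i) ((yon S).map g ≫ (ee i).hom) t
    have h2 := ofPt_comp_openSubι_mem X (W j) ((yon S).map h ≫ (ee j).hom) t
    rw [Category.assoc] at h1 h2
    rw [hgh] at h1
    cases i <;> cases j <;> simp_all [W]

/-- fppf descent of representability for separated locally quasi-finite morphisms. -/
theorem isRepresentable_of_descent {G : Sp S} {T T' Z : Over S} (ξ : G ⟶ (yon S).obj T)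
    (p : T' ⟶ T) [Flat p.left] [Surjective p.left] [LocallyOfFinitePresentation p.left]
    (ζ : (yon S).obj Z ⟶ G) (z : Z ⟶ T') (sq : IsPullback ζ ((yon S).map z) ξ ((yon S).map p))
    [IsSeparated z.left] [LocallyQuasiFinite z.left] [LocallyOfFiniteType z.left] :
    G.obj.IsRepresentable := by
  let D := descData ξ p ζ z sq
  haveI : IsSeparated D.obj.hom := inferInstanceAs (IsSeparated z.left)
  haveI : LocallyOfFiniteType D.obj.hom := inferInstanceAs (LocallyOfFiniteType z.left)
  haveI : LocallyQuasiFinite D.obj.hom := inferInstanceAs (LocallyQuasiFinite z.left)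
  have heff := effective_of_sep_lqf p.left D
  obtain ⟨W, w, e, k, he, -, -⟩ := exists_rep_of_effective _ p _ _ sq heff
  exact isRepresentable_of_iso e

/-- `LocP` is invariant under precomposition with an isomorphism. -/
theorem locP_iso_comp {P : MorphismProperty Scheme.{u}} {X X' Y : Sp S} (e : X' ≅ X) (f : X ⟶ Y)
    (h : LocP P f) : LocP P (e.hom ≫ f) := by
  intro U V a b k ha hb comm
  exact h (a ≫ e.hom) b k (MorphismProperty.RespectsIso.postcomp _ _ _ ha) hb
    (by rw [Category.assoc, comm])

/-- Descent of representability along a flat lfp morphism which need not be surjective, for a space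
all of whose points lift. -/
theorem isRepresentable_of_descent' {X X' : Sp S} {T T' : Over S} (f : X ⟶ (yon S).obj T)
    (π : T' ⟶ T) [Flat π.left] [LocallyOfFinitePresentation π.left]
    {p : X' ⟶ X} {f' : X' ⟶ (yon S).obj T'} (sq : IsPullback p f' f ((yon S).map π))
    (hX' : X'.obj.IsRepresentable) (hsep : IsSeparatedMor f')
    (hqf : LocP (@LocallyQuasiFinite ⊓ @LocallyOfFiniteType) f')
    (hsurj : Function.Surjective (Points.map p)) : X.obj.IsRepresentable := by
  obtain ⟨Z, ⟨e⟩⟩ := exists_iso_of_isRepresentable hX'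
  obtain ⟨z, hz⟩ := (yon S).map_surjective (e.hom ≫ f')
  haveI hzsep : IsSeparated z.left := by
    rw [← isSeparatedMor_yon_map_iff, hz]
    exact Groth.Agent.Lib.Helper23.AlgSpMor.isSeparatedMor_comp _ _
      (Groth.Agent.Lib.Helper17.DM.isSeparatedMor_of_mono e.hom) hsep
  have hzq : (@LocallyQuasiFinite ⊓ @LocallyOfFiniteType : MorphismProperty Scheme.{u}) z.left :=
    locP_yon_map (by rw [hz]; exact locP_iso_comp e f' hqf)
  haveI : LocallyQuasiFinite z.left := hzq.1
  haveI : LocallyOfFiniteType z.left := hzq.2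
  -- the open image of `π`
  let O : T.left.Opens := ⟨Set.range π.left, π.left.isOpenMap.isOpen_range⟩
  let π₀l : T'.left ⟶ O.toScheme := IsOpenImmersion.lift O.ι π.left (by
    rw [Scheme.Opens.range_ι]
    exact subset_rfl)
  have hπ₀l : π₀l ≫ O.ι = π.left := IsOpenImmersion.lift_fac _ _ _
  let π₀ : T' ⟶ overOpens T O := Over.homMk π₀l (by
    change π₀l ≫ O.ι ≫ T.hom = T'.hom
    rw [← Category.assoc, hπ₀l]
    exact Over.w π)
  have hπ₀ : π₀ ≫ overOpensι T O = π := Over.OverMorphism.ext hπ₀l
  have hι₀ : RepWith @IsOpenImmersion ((yon S).map (overOpensι T O)) :=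
    (repWith_yon_map_iff _ _).2 (inferInstanceAs (IsOpenImmersion O.ι))
  obtain ⟨f₀, hf₀⟩ := exists_lift_of_openImm ((yon S).map (overOpensι T O)) hι₀ f (by
    rintro _ ⟨x, rfl⟩
    obtain ⟨x', rfl⟩ := hsurj x
    refine ⟨Points.map (f' ≫ (yon S).map π₀) x', ?_⟩
    rw [← Points.map_comp, ← Points.map_comp, Category.assoc, ← Functor.map_comp, hπ₀, sq.w])
  haveI : Mono ((yon S).map (overOpensι T O)) :=
    Groth.Agent.Lib.Helper62.mono_of_repWith @IsOpenImmersion
      (fun f hf => by have := hf; infer_instance) _ hι₀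
  have sq₀ : IsPullback (e.hom ≫ p) ((yon S).map z) f₀ ((yon S).map π₀) := by
    apply isPullback_of_comp_mono ((yon S).map (overOpensι T O))
    rw [hf₀, ← Functor.map_comp, hπ₀, hz]
    exact IsPullback.of_iso sq e.symm (Iso.refl _) (Iso.refl _) (Iso.refl _) (by simp) (by simp)
      (by simp) (by simp)
  haveI : Surjective π₀.left := ⟨fun y => by
    obtain ⟨x, hx⟩ := y.2
    refine ⟨x, O.ι.injective ?_⟩
    rw [← Scheme.Hom.comp_apply]
    change (π₀l ≫ O.ι) x = _
    rw [hπ₀l]
    exact hx⟩
  haveI : Flat π₀.left :=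
    MorphismProperty.of_postcomp (W := @Flat) (W' := @IsOpenImmersion) π₀l O.ι
      (inferInstanceAs (IsOpenImmersion O.ι)) (by rw [hπ₀l]; infer_instance)
  haveI : LocallyOfFinitePresentation π₀.left :=
    MorphismProperty.of_postcomp (W := @LocallyOfFinitePresentation) (W' := @IsOpenImmersion)
      π₀l O.ι (inferInstanceAs (IsOpenImmersion O.ι)) (by rw [hπ₀l]; infer_instance)
  exact isRepresentable_of_descent f₀ π₀ (e.hom ≫ p) z sq₀

end Groth.Agent.Lib.Helper23.SLQ
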