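import Mathlib
import Groth.Agent.Lib.Helper5.LocalRep
import Groth.Agent.Lib.Helper62.AlgSpMono
import Groth.Agent.Lib.Helper23.SLQDesc

/-!
# Gluing representable open subfunctors (helper23)

`isRepresentable_of_open_cover`: a sheaf `F` on `Over S` with a family of morphisms
`h_{X i} ⟶ F` representable by open immersions, through which every section factors Zariski locally,
is representable (port of Mathlib's `Scheme.LocalRepresentability.isRepresentable` to `AlgSp.Sp S`).

`isRepresentable_of_local`: a sheaf covered by open subspaces `openSub X (W i)` which are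
representable is representable.
-/

set_option autoImplicit false
universe u
open CategoryTheory CategoryTheory.Limits AlgebraicGeometry Opposite

namespace Groth.Agent.Lib.Helper23.SLQGlue

open AlgSp Groth.Agent.Lib.Helper23.AlgSpMor Groth.Agent.Lib.Helper5.LocalRep
open Functor.relativelyRepresentable

variable {S : Scheme.{u}} {F : Sp S} {ι : Type u} {X : ι → Over S}
  {f : ∀ i, (yon S).obj (X i) ⟶ F} (hf : ∀ i, RepWith @IsOpenImmersion (f i))

include hf in
theorem mono_f (i : ι) : Mono (f i) :=
  Groth.Agent.Lib.Helper62.mono_of_repWith @IsOpenImmersion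
    (fun g hg => by have := hg; infer_instance) _ (hf i)

theorem isOpenImmersion_fst' (i j : ι) : IsOpenImmersion ((hf i).rep.fst' (f j)).left :=
  (hf j).property _ _ _ ((hf i).1.isPullback' (f j)).flip

theorem fst'_self_eq_snd (i : ι) : (hf i).rep.fst' (f i) = (hf i).rep.snd (f i) := by
  have := mono_f hf i
  apply (yon S).map_injective
  rw [← cancel_mono (f i), ((hf i).rep.isPullback' (f i)).w]

theorem isIso_fst'_self (i : ι) : IsIso ((hf i).rep.fst' (f i)) := by
  have := mono_f hf i
  have := ((hf i).rep.isPullback' (f i)).isIso_fst_of_mono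
  exact (Functor.FullyFaithful.ofFullyFaithful (yon S)).isIso_of_isIso_map _

set_option backward.isDefEq.respectTransparency false in
/-- The glue data in `Over S`. -/
noncomputable def glueData₀ : CategoryTheory.GlueData (Over S) where
  J := ι
  U := X
  V := fun (i, j) ↦ (hf i).rep.pullback (f j)
  f i j := (hf i).rep.fst' (f j)
  f_mono i j := by
    have := isOpenImmersion_fst' hf i j
    exact (Over.forget S).mono_of_mono_map (inferInstanceAs (Mono ((hf i).rep.fst' (f j)).left))
  f_id i := isIso_fst'_self hf i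
  t i j := (hf i).rep.symmetry (hf j).rep
  t_id i := by
    apply (hf i).rep.hom_ext' <;> simp [fst'_self_eq_snd hf i]
  t' i j k := lift₃ _ _ _ (pullback₃.p₂ _ _ _) (pullback₃.p₃ _ _ _) (pullback₃.p₁ _ _ _)
    (by simp) (by simp)
  t_fac i j k := (hf j).rep.hom_ext' (by simp) (by simp)
  cocycle i j k := pullback₃.hom_ext (by simp) (by simp) (by simp)


/-- The glue data in `Scheme`. -/
noncomputable def glueData : Scheme.GlueData :=
  { (glueData₀ hf).mapGlueData (Over.forget S) with
    f_open := fun i j => isOpenImmersion_fst' hf i j }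


/-- the structure morphism of the glued scheme -/
noncomputable def gluedHom : (glueData hf).glued ⟶ S :=
  Multicoequalizer.desc (glueData hf).diagram S (fun i => (X i).hom) (by
    rintro ⟨i, j⟩
    change ((hf i).rep.fst' (f j)).left ≫ (X i).hom =
      (((hf i).rep.symmetry (hf j).rep).left ≫ ((hf j).rep.fst' (f i)).left) ≫ (X j).hom
    rw [Over.w, Category.assoc, Over.w, Over.w])

theorem ι_gluedHom (i : ι) : (glueData hf).ι i ≫ gluedHom hf = (X i).hom :=
  Multicoequalizer.π_desc _ _ _ _ _

/-- the glued scheme over `S` -/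
noncomputable def glued : Over S := Over.mk (gluedHom hf)

/-- the inclusions into the glued scheme, over `S` -/
noncomputable def gluedι (i : ι) : X i ⟶ glued hf :=
  Over.homMk ((glueData hf).ι i) (ι_gluedHom hf i)

instance (i : ι) : IsOpenImmersion (gluedι hf i).left :=
  (glueData hf).ι_isOpenImmersion i

theorem symmetry_fst_left (i j : ι) :
    ((hf i).rep.symmetry (hf j).rep).left ≫ ((hf j).rep.fst' (f i)).left =
      ((hf i).rep.snd (f j)).left := by
  rw [← Over.comp_left, symmetry_fst]

theorem gluedι_jointly_surjective (x : ↥(glued hf).left) :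
    ∃ i, x ∈ Set.range (gluedι hf i).left := by
  obtain ⟨i, y, hy⟩ := (glueData hf).ι_jointly_surjective x
  exact ⟨i, y, hy⟩

/-- the glue condition over `S` -/
theorem glue_condition (i j : ι) :
    (hf i).rep.snd (f j) ≫ gluedι hf j = (hf i).rep.fst' (f j) ≫ gluedι hf i := by
  ext1
  have h1 := (glueData hf).glue_condition i j
  have h2 : ((hf i).rep.symmetry (hf j).rep).left ≫ ((hf j).rep.fst' (f i)).left ≫
    (gluedι hf j).left = ((hf i).rep.fst' (f j)).left ≫ (gluedι hf i).left := h1
  rw [Over.comp_left, Over.comp_left, ← symmetry_fst_left hf i j, Category.assoc]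
  exact h2

/-- morphisms to two pieces which agree in `F` agree in the glued scheme -/
theorem comp_gluedι_eq {Z : Over S} {i j : ι} (a : Z ⟶ X i) (b : Z ⟶ X j)
    (h : (yon S).map a ≫ f i = (yon S).map b ≫ f j) : a ≫ gluedι hf i = b ≫ gluedι hf j := by
  rw [← (hf i).rep.lift'_fst a b h, Category.assoc]
  conv_rhs => rw [← (hf i).rep.lift'_snd a b h, Category.assoc]
  rw [glue_condition]

/-- morphisms to two pieces which agree in the glued scheme agree in `F` -/
theorem map_comp_f_eq {Z : Over S} {i j : ι} (a : Z ⟶ X i) (b : Z ⟶ X j)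
    (h : a ≫ gluedι hf i = b ≫ gluedι hf j) : (yon S).map a ≫ f i = (yon S).map b ≫ f j := by
  have h' : a.left ≫ (glueData hf).ι i = b.left ≫ (glueData hf).ι j := congrArg CommaMorphism.left h
  let c : Z.left ⟶ ((hf i).rep.pullback (f j)).left :=
    PullbackCone.IsLimit.lift ((glueData hf).vPullbackConeIsLimit i j) a.left b.left h'
  have hc1' : c ≫ ((hf i).rep.fst' (f j)).left = a.left :=
    PullbackCone.IsLimit.lift_fst ((glueData hf).vPullbackConeIsLimit i j) a.left b.left h'
  have hc2'' : c ≫ ((hf i).rep.symmetry (hf j).rep).left ≫ ((hf j).rep.fst' (f i)).left =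
      b.left :=
    PullbackCone.IsLimit.lift_snd ((glueData hf).vPullbackConeIsLimit i j) a.left b.left h'
  have hc2' : c ≫ ((hf i).rep.snd (f j)).left = b.left := by
    rw [← hc2'', symmetry_fst_left hf i j]
  let cO : Z ⟶ (hf i).rep.pullback (f j) := Over.homMk c (by
    rw [← Over.w ((hf i).rep.fst' (f j)), ← Category.assoc, hc1', Over.w])
  have e1 : cO ≫ (hf i).rep.fst' (f j) = a := by ext1; exact hc1'
  have e2 : cO ≫ (hf i).rep.snd (f j) = b := by ext1; exact hc2'
  rw [← e1, ← e2, Functor.map_comp, Functor.map_comp, Category.assoc, Category.assoc,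
    ((hf i).rep.isPullback' (f j)).w]


theorem exists_phi : ∃ φ : (yon S).obj (glued hf) ⟶ F,
    ∀ i, (yon S).map (gluedι hf i) ≫ φ = f i :=
  exists_glue_of_cover X (gluedι hf) (fun i => inferInstance) (gluedι_jointly_surjective hf) f
    (fun _ _ _ gi gj h => map_comp_f_eq hf gi gj h)

theorem mono_phi (φ : (yon S).obj (glued hf) ⟶ F)
    (hφ : ∀ i, (yon S).map (gluedι hf i) ≫ φ = f i) : Mono φ := by
  refine mono_of_yon_cancel φ fun Z a b hab => ?_
  obtain ⟨α, rfl⟩ := (yon S).map_surjective a
  obtain ⟨β, rfl⟩ := (yon S).map_surjective b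
  congr 1
  -- cover `Z` by the opens where `α` lands in the `i`-th and `β` in the `j`-th piece
  let O : ι × ι → Z.left.Opens := fun p =>
    (α.left ⁻¹ᵁ (gluedι hf p.1).left.opensRange) ⊓ (β.left ⁻¹ᵁ (gluedι hf p.2).left.opensRange)
  have hcov : ∀ z : ↥Z.left, ∃ p : ι × ι, z ∈ Set.range (overOpensι Z (O p)).left := by
    intro z
    obtain ⟨i, hi⟩ := gluedι_jointly_surjective hf (α.left z)
    obtain ⟨j, hj⟩ := gluedι_jointly_surjective hf (β.left z)
    refine ⟨(i, j), ⟨⟨z, ⟨hi, hj⟩⟩, rfl⟩⟩
  have hfac : ∀ p : ι × ι, overOpensι Z (O p) ≫ α = overOpensι Z (O p) ≫ β := by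
    rintro ⟨i, j⟩
    have hr1 : Set.range ((O (i, j)).ι ≫ α.left) ⊆ Set.range (gluedι hf i).left := by
      rintro _ ⟨z, rfl⟩
      exact z.2.1
    have hr2 : Set.range ((O (i, j)).ι ≫ β.left) ⊆ Set.range (gluedι hf j).left := by
      rintro _ ⟨z, rfl⟩
      exact z.2.2
    let a₀ := IsOpenImmersion.lift (gluedι hf i).left _ hr1
    let b₀ := IsOpenImmersion.lift (gluedι hf j).left _ hr2
    have ha₀ : a₀ ≫ (gluedι hf i).left = (O (i, j)).ι ≫ α.left := IsOpenImmersion.lift_fac _ _ _
    have hb₀ : b₀ ≫ (gluedι hf j).left = (O (i, j)).ι ≫ β.left := IsOpenImmersion.lift_fac _ _ _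
    let a₁ : overOpens Z (O (i, j)) ⟶ X i := Over.homMk a₀ (by
      rw [← Over.w (gluedι hf i), ← Category.assoc, ha₀, Category.assoc, Over.w α]
      rfl)
    let b₁ : overOpens Z (O (i, j)) ⟶ X j := Over.homMk b₀ (by
      rw [← Over.w (gluedι hf j), ← Category.assoc, hb₀, Category.assoc, Over.w β]
      rfl)
    have ha₁ : a₁ ≫ gluedι hf i = overOpensι Z (O (i, j)) ≫ α := by ext1; exact ha₀
    have hb₁ : b₁ ≫ gluedι hf j = overOpensι Z (O (i, j)) ≫ β := by ext1; exact hb₀
    rw [← ha₁, ← hb₁]
    apply comp_gluedι_eq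
    rw [← hφ i, ← hφ j, ← Category.assoc, ← Category.assoc, ← Functor.map_comp,
      ← Functor.map_comp, ha₁, hb₁, Functor.map_comp, Functor.map_comp, Category.assoc,
      Category.assoc, hab]
  have := hom_ext_of_cover (G := (yon S).obj (glued hf)) (fun p => overOpens Z (O p))
    (fun p => overOpensι Z (O p))
    (fun p => by change IsOpenImmersion (O p).ι; infer_instance) hcov ((yon S).map α)
    ((yon S).map β) (fun p => by rw [← Functor.map_comp, ← Functor.map_comp, hfac p])
  exact (yon S).map_injective this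

/-- **Gluing representable open subfunctors**: a sheaf covered (Zariski locally) by open
subfunctors representable by schemes is representable. -/
theorem isRepresentable_of_open_cover (hf : ∀ i, RepWith @IsOpenImmersion (f i))
    (hcov : ∀ (Z : Over S) (g : (yon S).obj Z ⟶ F) (z : ↥Z.left), ∃ (i : ι) (O : Z.left.Opens),
      z ∈ O ∧ ∃ l : overOpens Z O ⟶ X i, (yon S).map l ≫ f i = (yon S).map (overOpensι Z O) ≫ g) :
    F.obj.IsRepresentable := by
  obtain ⟨φ, hφ⟩ := exists_phi hf
  haveI := mono_phi hf φ hφ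
  haveI : Epi φ := by
    refine epi_of_local_lift φ fun Z z pt => ?_
    obtain ⟨i, O, hO, l, hl⟩ := hcov Z z pt
    refine ⟨O, hO, (yon S).map (l ≫ gluedι hf i), ?_⟩
    rw [Functor.map_comp, Category.assoc, hφ i, hl]
  haveI : IsIso φ := isIso_of_mono_of_epi φ
  exact (representableByOfIso (asIso φ)).isRepresentable


open Groth.Agent.Lib.Helper36.OpenSubspace Groth.Agent.Lib.Helper23.SLQ in
/-- A sheaf covered by representable open subspaces is representable. -/
theorem isRepresentable_of_local {X : Sp S} {ι : Type u} (W : ι → Set (Points X))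
    (hW : ∀ i, IsOpen (W i)) (hrep : ∀ i, (openSub X (W i)).obj.IsRepresentable)
    (hcov : ∀ x : Points X, ∃ i, x ∈ W i) : X.obj.IsRepresentable := by
  choose V hV using fun i => exists_iso_of_isRepresentable (hrep i)
  let e : ∀ i, (yon S).obj (V i) ≅ openSub X (W i) := fun i => (hV i).some
  refine isRepresentable_of_open_cover (X := V) (f := fun i => (e i).hom ≫ openSubι X (W i))
    (fun i => (RepWith @IsOpenImmersion).comp_mem _ _
      ((RepWith @IsOpenImmersion).of_isIso (e i).hom)
      (repWith_isOpenImmersion_openSubι X (W i) (hW i))) ?_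
  intro Z g z
  obtain ⟨i, hi⟩ := hcov (Points.ofPt g z)
  obtain ⟨top, sq⟩ := exists_isPullback_openSub X (W i) (hW i) g
  refine ⟨i, preimageOpens X (W i) (hW i) g, hi, (yon S).preimage (top ≫ (e i).inv), ?_⟩
  rw [Functor.map_preimage, Category.assoc, Iso.inv_hom_id_assoc, sq.w]

end Groth.Agent.Lib.Helper23.SLQGlue
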