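import Groth.Agent.Lib.Helper23.AlgSpDiag

/-!
# Sections and `X ×_Z Y ⟶ X ×_T Y` as base changes of diagonals (helper23)
-/

set_option autoImplicit false
universe u
open CategoryTheory CategoryTheory.Limits AlgebraicGeometry Opposite

namespace Groth.Agent.Lib.Helper23.AlgSpMor

open AlgSp

variable {S : Scheme.{u}}

/-- Any property (in the representable sense) of the diagonal of `f` passes to a section of `f`. -/
theorem repWith_section_of_diagonal (P : MorphismProperty Scheme.{u}) {X T : Sp S} (f : X ⟶ T)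
    (s : T ⟶ X) (hs : s ≫ f = 𝟙 T) (h : RepWith P (pullback.diagonal f)) : RepWith P s := by
  have hl : 𝟙 X ≫ f = (f ≫ s) ≫ f := by
    rw [Category.id_comp, Category.assoc, hs, Category.comp_id]
  have sq := isPullback_section f s hs (pullback.lift (𝟙 X) (f ≫ s) hl)
    (pullback.lift_fst _ _ _) (pullback.lift_snd _ _ _)
  exact (RepWith P).of_isPullback sq h

/-- Any property (in the representable sense) of the diagonal of `h` passes to
`X ×_Z Y ⟶ X ×_T Y`. -/
theorem repWith_mapDesc_of_diagonal (P : MorphismProperty Scheme.{u}) {X Y Z T : Sp S}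
    (f : X ⟶ Z) (g : Y ⟶ Z) (h : Z ⟶ T) (H : RepWith P (pullback.diagonal h)) :
    RepWith P (pullback.mapDesc f g h) :=
  (RepWith P).of_isPullback (pullback_map_diagonal_isPullback f g h) H

theorem section_properties {X T : Sp S} (hX : IsAlgSpace X) (f : X ⟶ T) (s : T ⟶ X)
    (hs : s ≫ f = 𝟙 T) :
    Representable s ∧
    RepWith @LocallyOfFiniteType s ∧
    RepWith (@LocallyQuasiFinite ⊓ @LocallyOfFiniteType) s ∧
    RepWith @IsSeparated s ∧
    RepWith (MorphismProperty.monomorphisms Scheme.{u}) s ∧
    (IsSeparatedMor f → RepWith @IsClosedImmersion s) ∧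
    (IsQuasiSeparatedMor f → RepWith @QuasiCompact s) := by
  obtain ⟨-, h1, h2, h3, h4⟩ := diagonal_hom_properties hX f
  have k1 := repWith_section_of_diagonal _ f s hs h1
  exact ⟨k1.rep, k1, repWith_section_of_diagonal _ f s hs h4,
    repWith_section_of_diagonal _ f s hs h3, repWith_section_of_diagonal _ f s hs h2,
    fun h => repWith_section_of_diagonal _ f s hs h,
    fun h => repWith_section_of_diagonal _ f s hs h⟩

theorem mapDesc_properties {X Y Z T : Sp S} (hZ : IsAlgSpace Z) (f : X ⟶ Z) (g : Y ⟶ Z)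
    (h : Z ⟶ T) :
    Representable (pullback.mapDesc f g h) ∧
    RepWith @LocallyOfFiniteType (pullback.mapDesc f g h) ∧
    RepWith (@LocallyQuasiFinite ⊓ @LocallyOfFiniteType) (pullback.mapDesc f g h) ∧
    RepWith @IsSeparated (pullback.mapDesc f g h) ∧
    RepWith (MorphismProperty.monomorphisms Scheme.{u}) (pullback.mapDesc f g h) ∧
    (IsSeparatedMor h → RepWith @IsClosedImmersion (pullback.mapDesc f g h)) ∧
    (IsQuasiSeparatedMor h → RepWith @QuasiCompact (pullback.mapDesc f g h)) := by
  obtain ⟨-, h1, h2, h3, h4⟩ := diagonal_hom_properties hZ h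
  have k1 := repWith_mapDesc_of_diagonal _ f g h h1
  exact ⟨k1.rep, k1, repWith_mapDesc_of_diagonal _ f g h h4,
    repWith_mapDesc_of_diagonal _ f g h h3, repWith_mapDesc_of_diagonal _ f g h h2,
    fun H => repWith_mapDesc_of_diagonal _ f g h H,
    fun H => repWith_mapDesc_of_diagonal _ f g h H⟩

end Groth.Agent.Lib.Helper23.AlgSpMor
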