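import Groth.Agent.Lib.Helper23.AlgSpDiag2

/-!
# Separatedness of representable morphisms (helper23)
-/

set_option autoImplicit false
universe u
open CategoryTheory CategoryTheory.Limits AlgebraicGeometry Opposite

namespace Groth.Agent.Lib.Helper23.AlgSpMor

open AlgSp

variable {S : Scheme.{u}}

/-- If the diagonal of `f` is representable with `Q`, and `f` is representable, then `f` is representable
with any `Q'` implied by `Q` on diagonals. -/
theorem repWith_of_repWith_diagonal {Q Q' : MorphismProperty Scheme.{u}}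
    [Q.IsStableUnderBaseChange]
    (hQ' : ∀ ⦃A B : Scheme.{u}⦄ (g : A ⟶ B), Q (pullback.diagonal g) → Q' g)
    {X Y : Sp S} (f : X ⟶ Y) (hrep : Representable f)
    (h : RepWith Q (pullback.diagonal f)) : RepWith Q' f := by
  refine ⟨hrep, fun U V u fst g sq => hQ' g.left ?_⟩
  have h' : (RepWith (S := S) Q).diagonal f := h
  have : (RepWith (S := S) Q).diagonal ((yon S).map g) :=
    MorphismProperty.of_isPullback (P := (RepWith (S := S) Q).diagonal) sq h'
  exact (repWith_diagonal_yon_map_iff Q g).1 this

/-- If `f` is representable with `Q'` then the diagonal of `f` is representable with any `Q` implied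
by `Q'` for diagonals. -/
theorem repWith_diagonal_of_repWith {Q Q' : MorphismProperty Scheme.{u}}
    [Q.IsStableUnderBaseChange]
    (hQ : ∀ ⦃A B : Scheme.{u}⦄ (g : A ⟶ B), Q' g → Q (pullback.diagonal g))
    {X Y : Sp S} (f : X ⟶ Y) (hf : RepWith Q' f) : RepWith Q (pullback.diagonal f) := by
  apply MorphismProperty.relative.of_exists
  intro T t
  have ht : (t ≫ pullback.fst f f) ≫ f = (t ≫ pullback.snd f f) ≫ f := by
    rw [Category.assoc, Category.assoc, pullback.condition]
  have sq := hf.rep.isPullback ((t ≫ pullback.fst f f) ≫ f)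
  have hg : Q' (hf.rep.snd ((t ≫ pullback.fst f f) ≫ f)).left :=
    hf.property_snd ((t ≫ pullback.fst f f) ≫ f)
  set y := (t ≫ pullback.fst f f) ≫ f with hy
  set a := hf.rep.fst y with ha
  set g := hf.rep.snd y with hg'
  let s1 : (yon S).obj T ⟶ (yon S).obj (hf.rep.pullback y) :=
    sq.lift (t ≫ pullback.fst f f) (𝟙 _) (by rw [Category.id_comp])
  let s2 : (yon S).obj T ⟶ (yon S).obj (hf.rep.pullback y) :=
    sq.lift (t ≫ pullback.snd f f) (𝟙 _) (by rw [Category.id_comp]; exact ht.symm)
  let σ : (yon S).obj T ⟶ pullback ((yon S).map g) ((yon S).map g) :=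
    pullback.lift s1 s2 (by rw [sq.lift_snd, sq.lift_snd])
  let m : pullback ((yon S).map g) ((yon S).map g) ⟶ pullback f f :=
    pullback.map _ _ _ _ a a y sq.w.symm sq.w.symm
  have hm1 : m ≫ pullback.fst f f = pullback.fst _ _ ≫ a := pullback.lift_fst _ _ _
  have hm2 : m ≫ pullback.snd f f = pullback.snd _ _ ≫ a := pullback.lift_snd _ _ _
  have hσ : σ ≫ m = t := by
    apply pullback.hom_ext
    · rw [Category.assoc, hm1, ← Category.assoc, pullback.lift_fst, sq.lift_fst]
    · rw [Category.assoc, hm2, ← Category.assoc, pullback.lift_snd, sq.lift_fst]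
  have hΔ : RepWith Q (pullback.diagonal ((yon S).map g)) :=
    (repWith_diagonal_yon_map_iff Q g).2 (hQ _ hg)
  have sq2 := hΔ.rep.isPullback σ
  have sq3 := sq2.paste_horiz (isPullback_diagonal sq m hm1 hm2)
  rw [hσ] at sq3
  exact ⟨_, _, _, sq3, hΔ.property_snd σ⟩

theorem isSeparatedMor_iff_repWith {X Y : Sp S} (f : X ⟶ Y) (hf : Representable f) :
    IsSeparatedMor f ↔ RepWith @IsSeparated f :=
  ⟨fun h => repWith_of_repWith_diagonal (Q := @IsClosedImmersion) (Q' := @IsSeparated)
      (fun _ _ g hg => ⟨hg⟩) f hf h,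
    fun h => repWith_diagonal_of_repWith (Q := @IsClosedImmersion) (Q' := @IsSeparated)
      (fun _ _ g hg => by
        have : IsSeparated g := hg
        exact IsSeparated.isClosedImmersion_diagonal) f h⟩

theorem isQuasiSeparatedMor_iff_repWith {X Y : Sp S} (f : X ⟶ Y) (hf : Representable f) :
    IsQuasiSeparatedMor f ↔ RepWith @QuasiSeparated f :=
  ⟨fun h => repWith_of_repWith_diagonal (Q := @QuasiCompact) (Q' := @QuasiSeparated)
      (fun _ _ g hg => ⟨hg⟩) f hf h,
    fun h => repWith_diagonal_of_repWith (Q := @QuasiCompact) (Q' := @QuasiSeparated)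
      (fun _ _ g hg => by
        have : QuasiSeparated g := hg
        exact QuasiSeparated.quasiCompact_diagonal) f h⟩

end Groth.Agent.Lib.Helper23.AlgSpMor
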