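import Groth.Agent.Lib.Helper23.AlgSpClosed5
import Groth.Agent.S9937
import Groth.Agent.S9936
import Groth.Agent.S9953
import Groth.Agent.S9952

/-!
# Proper morphisms of algebraic spaces (helper23)
-/

set_option autoImplicit false
universe u
open CategoryTheory CategoryTheory.Limits AlgebraicGeometry Opposite

namespace Groth.Agent.Lib.Helper23.AlgSpMor

open AlgSp Groth.Agent.Lib.Helper37.AlgSpPoints Groth.Agent.Lib.Helper12.AlgSpPoints

variable {S : Scheme.{u}}

theorem repWith_isImmersion_of_isClosedImmersion {X Y : Sp S} (f : X ⟶ Y)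
    (hf : RepWith @IsClosedImmersion f) : RepWith @IsImmersion f :=
  MorphismProperty.relative_monotone (fun _ _ g hg => by
    have : IsClosedImmersion g.left := hg
    exact (inferInstance : IsImmersion g.left)) _ hf

theorem repWith_quasiCompact_of_isClosedImmersion {X Y : Sp S} (f : X ⟶ Y)
    (hf : RepWith @IsClosedImmersion f) : RepWith @QuasiCompact f :=
  MorphismProperty.relative_monotone (fun _ _ g hg => by
    have : IsClosedImmersion g.left := hg
    exact (inferInstance : QuasiCompact g.left)) _ hf

/-- A closed immersion of algebraic spaces is proper. -/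
theorem isProperMor_of_repWith_isClosedImmersion {X Y : Sp S} (hX : IsAlgSpace X)
    (hY : IsAlgSpace Y) (i : X ⟶ Y) (hi : RepWith @IsClosedImmersion i) : IsProperMor i :=
  ⟨Groth.Agent.S9937.result (X := ⟨X, hX⟩) (Y := ⟨Y, hY⟩) (ObjectProperty.homMk i) hi,
    ⟨Groth.Agent.S9953.result (X := ⟨X, hX⟩) (Y := ⟨Y, hY⟩) (ObjectProperty.homMk i)
      (repWith_isImmersion_of_isClosedImmersion i hi),
      isQuasiCompactMor_of_repWith i (repWith_quasiCompact_of_isClosedImmersion i hi)⟩,
    isUnivClosedMor_of_repWith i (repWith_universallyClosed_of_isClosedImmersion i hi)⟩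

theorem diagonal_comp_mapDesc {X Y B : Sp S} (f : X ⟶ Y) (q : Y ⟶ B) :
    pullback.diagonal f ≫ pullback.mapDesc f f q = pullback.diagonal (f ≫ q) := by
  apply pullback.hom_ext
  · rw [Category.assoc, pullback.lift_fst, ← Category.assoc, pullback.diagonal_fst,
      pullback.diagonal_fst, Category.id_comp]
  · rw [Category.assoc, pullback.lift_snd, ← Category.assoc, pullback.diagonal_snd,
      pullback.diagonal_snd, Category.id_comp]

instance mono_mapDesc {X Y B : Sp S} (f : X ⟶ Y) (q : Y ⟶ B) :
    Mono (pullback.mapDesc f f q) := by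
  refine ⟨fun {Z} u v h => ?_⟩
  apply pullback.hom_ext
  · have := congrArg (· ≫ pullback.fst _ _) h
    simp only [Category.assoc, pullback.lift_fst, Category.comp_id] at this
    exact this
  · have := congrArg (· ≫ pullback.snd _ _) h
    simp only [Category.assoc, pullback.lift_snd, Category.comp_id] at this
    exact this

/-- Cancellation for properties of the diagonal: if the diagonal of `f ≫ q` has `P` then so does the
diagonal of `f`. -/
theorem repWith_diagonal_of_comp (P : MorphismProperty Scheme.{u}) {X Y B : Sp S} (f : X ⟶ Y)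
    (q : Y ⟶ B) (h : RepWith P (pullback.diagonal (f ≫ q))) : RepWith P (pullback.diagonal f) := by
  rw [← diagonal_comp_mapDesc] at h
  exact repWith_of_comp_mono P _ _ h

/-- Cancellation for universal closedness: if `a ≫ b` is universally closed and `b` is separated then
`a` is universally closed. -/
theorem isUnivClosedMor_of_comp_of_isSeparatedMor {Z Y X : Sp S} (hZ : IsAlgSpace Z)
    (hY : IsAlgSpace Y) (hX : Representable (Limits.diag X)) (a : Z ⟶ Y) (b : Y ⟶ X)
    (hab : IsUnivClosedMor (a ≫ b)) (hb : IsSeparatedMor b) : IsUnivClosedMor a := by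
  have sq : IsPullback (pullback.fst (a ≫ b) b) (pullback.snd (a ≫ b) b) (a ≫ b) b :=
    IsPullback.of_hasPullback _ _
  have hW : IsAlgSpace (pullback (a ≫ b) b) := isAlgSpace_of_isPullback hZ hY hX sq
  let Γ : Z ⟶ pullback (a ≫ b) b := pullback.lift (𝟙 Z) a (by simp)
  have hΓ1 : Γ ≫ pullback.fst (a ≫ b) b = 𝟙 Z := pullback.lift_fst _ _ _
  have hΓ2 : Γ ≫ pullback.snd (a ≫ b) b = a := pullback.lift_snd _ _ _
  have h2 : IsUnivClosedMor (pullback.snd (a ≫ b) b) := isUnivClosedMor_of_isPullback sq hab
  have hd : RepWith @IsClosedImmersion (pullback.diagonal (pullback.fst (a ≫ b) b)) :=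
    MorphismProperty.of_isPullback (P := (RepWith (S := S) @IsClosedImmersion).diagonal) sq.flip hb
  have h1 : RepWith @IsClosedImmersion Γ := repWith_section_of_diagonal _ _ Γ hΓ1 hd
  rw [← hΓ2]
  exact isUnivClosedMor_comp hW hY.diag _ _
    (isUnivClosedMor_of_repWith _ (repWith_universallyClosed_of_isClosedImmersion _ h1)) h2

theorem isClosedMap_points_of_isUnivClosedMor {X Y : Sp S} (hY : IsAlgSpace Y) (f : X ⟶ Y)
    (hf : IsUnivClosedMor f) : IsClosedMap (Points.map f) :=
  hf hY (𝟙 Y) (𝟙 X) f (IsPullback.of_horiz_isIso ⟨by simp⟩)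

/-- A representable morphism with universally closed diagonal is separated. -/
theorem isSeparatedMor_of_isUnivClosedMor_diagonal {X Y : Sp S} (hX : IsAlgSpace X) (f : X ⟶ Y)
    (h : IsUnivClosedMor (pullback.diagonal f)) : IsSeparatedMor f := by
  obtain ⟨hΔrep, hΔlft, hΔmono, hΔsep, -⟩ := diagonal_hom_properties hX f
  have hΔuc : RepWith @UniversallyClosed (pullback.diagonal f) :=
    repWith_universallyClosed_of_isUnivClosedMor _ hΔrep h
  refine ⟨hΔrep, fun U V u fst g sq => ?_⟩
  change IsClosedImmersion g.left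
  have h1 : Mono g.left := hΔmono.property u fst g sq
  have h2 : LocallyOfFiniteType g.left := hΔlft.property u fst g sq
  have h3 : IsSeparated g.left := hΔsep.property u fst g sq
  have h4 : UniversallyClosed g.left := hΔuc.property u fst g sq
  have h5 : IsProper g.left := {}
  exact (IsClosedImmersion.iff_isProper_and_mono g.left).2 ⟨h5, h1⟩

end Groth.Agent.Lib.Helper23.AlgSpMor
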