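import Groth.Agent.Lib.Helper23.AlgSpImm2

/-!
# Universally closed morphisms of algebraic spaces are quasi-compact (helper23)
-/

set_option autoImplicit false
universe u
open CategoryTheory CategoryTheory.Limits AlgebraicGeometry Opposite

namespace Groth.Agent.Lib.Helper23.AlgSpMor

open AlgSp Groth.Agent.Lib.Helper37.AlgSpPoints Groth.Agent.Lib.Helper12.AlgSpPoints

variable {S : Scheme.{u}}

open PrimeSpectrum MvPolynomial in
/-- A sheaf universally closed over an affine scheme and covered by compact opens has compact space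
of points. -/
theorem compactSpace_points_of_isUnivClosedMor_Spec {P : Sp S} (A : CommRingCat.{u})
    (zs : Spec A ⟶ S) (f : P ⟶ (yon S).obj (Over.mk zs)) (hf : IsUnivClosedMor f) {I : Type u}
    (O : I → Set (Points P)) (hOo : ∀ i, IsOpen (O i)) (hOc : ∀ i, IsCompact (O i))
    (hO : ⋃ i, O i = Set.univ) : CompactSpace (Points P) := by
  classical
  let Z : Over S := Over.mk zs
  let R := MvPolynomial I A
  let q : Spec (.of R) ⟶ Spec A := Spec.map (CommRingCat.ofHom (MvPolynomial.C (σ := I)))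
  let T : Over S := Over.mk (q ≫ zs)
  let qS : T ⟶ Z := Over.homMk q rfl
  have sq : IsPullback (pullback.fst f ((yon S).map qS)) (pullback.snd f ((yon S).map qS)) f
      ((yon S).map qS) := IsPullback.of_hasPullback _ _
  set p := pullback.fst f ((yon S).map qS) with hp
  set fT := pullback.snd f ((yon S).map qS) with hfT
  have hclosed : IsClosedMap (Points.map fT) := hf (IsAlgSpace.yon_obj T) _ _ _ sq
  let τ : Points (pullback f ((yon S).map qS)) → PrimeSpectrum R :=
    fun z => (Points.schemeHomeo T).symm (Points.map fT z)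
  have hτ : Continuous τ := (Points.schemeHomeo T).symm.continuous.comp (Points.continuous_map fT)
  have hτclosed : IsClosedMap τ := (Points.schemeHomeo T).symm.isClosedMap.comp hclosed
  let π : Points P → PrimeSpectrum A := fun x => (Points.schemeHomeo Z).symm (Points.map f x)
  let W : I → Set (Points (pullback f ((yon S).map qS))) :=
    fun i => Points.map p ⁻¹' O i ∩ τ ⁻¹' (PrimeSpectrum.basicOpen (X i : R))
  have hW : ∀ i, IsOpen (W i) := fun i =>
    ((hOo i).preimage (Points.continuous_map p)).inter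
      ((PrimeSpectrum.basicOpen (X i : R)).isOpen.preimage hτ)
  let Zc : Set (Points (pullback f ((yon S).map qS))) := (⋃ i, W i)ᶜ
  have hZc : IsClosed Zc := (isOpen_iUnion hW).isClosed_compl
  let C : Set (PrimeSpectrum R) := τ '' Zc
  have hC : IsClosed C := hτclosed _ hZc
  let ψ : R →+* A := (MvPolynomial.aeval (fun _ : I => (1 : A))).toRingHom
  let ts : PrimeSpectrum A → PrimeSpectrum R := PrimeSpectrum.comap ψ
  have h1 : ∀ s, ts s ∉ C := by
    rintro s ⟨z, hz, hzs⟩
    apply hz
    obtain ⟨i, hi⟩ : ∃ i, Points.map p z ∈ O i := by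
      have := Set.mem_univ (Points.map p z)
      rwa [← hO, Set.mem_iUnion] at this
    refine Set.mem_iUnion.2 ⟨i, hi, ?_⟩
    change τ z ∈ PrimeSpectrum.basicOpen (X i : R)
    rw [hzs]
    change ψ (X i) ∉ s.asIdeal
    have : ψ (X i) = 1 := by
      change MvPolynomial.aeval (fun _ : I => (1 : A)) (X i : R) = 1
      exact MvPolynomial.aeval_X _ _
    rw [this]
    exact (Ideal.ne_top_iff_one _).1 s.isPrime.ne_top
  have h2 : ∀ s : PrimeSpectrum A, ∃ g : R, ts s ∈ PrimeSpectrum.basicOpen g ∧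
      (PrimeSpectrum.basicOpen g : Set (PrimeSpectrum R)) ⊆ Cᶜ := fun s => by
    obtain ⟨_, ⟨g, rfl⟩, hg1, hg2⟩ :=
      PrimeSpectrum.isTopologicalBasis_basic_opens.exists_subset_of_mem_open
        (show ts s ∈ Cᶜ from h1 s) hC.isOpen_compl
    exact ⟨g, hg1, hg2⟩
  choose g hg1 hg2 using h2
  have hcov : (Set.univ : Set (PrimeSpectrum A)) ⊆
      ⋃ s, (PrimeSpectrum.basicOpen (ψ (g s)) : Set (PrimeSpectrum A)) :=
    fun s _ => Set.mem_iUnion.2 ⟨s, hg1 s⟩
  obtain ⟨F, hF⟩ := isCompact_univ.elim_finite_subcover _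
    (fun s => (PrimeSpectrum.basicOpen (ψ (g s))).isOpen) hcov
  let σ : Finset I := F.biUnion (fun s => (g s).vars)
  suffices h : ⋃ i ∈ σ, O i = Set.univ from
    ⟨h ▸ σ.isCompact_biUnion (fun i _ => hOc i)⟩
  rw [Set.iUnion₂_eq_univ_iff]
  intro x
  by_contra hx
  push Not at hx
  obtain ⟨s₀, hs₀F, hs₀⟩ : ∃ s₀ ∈ F, π x ∈ PrimeSpectrum.basicOpen (ψ (g s₀)) := by
    have := hF (Set.mem_univ (π x))
    simpa using this
  let σ₀ := (g s₀).vars
  let φ : R →+* R := (MvPolynomial.aeval fun i : I => if i ∈ σ₀ then (X i : R) else 0).toRingHom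
  let t' : PrimeSpectrum R := PrimeSpectrum.comap φ (ts (π x))
  have hφg : φ (g s₀) = g s₀ := aeval_ite_mem_eq_self (g s₀) subset_rfl
  have ht'g : t' ∈ PrimeSpectrum.basicOpen (g s₀) := by
    change φ (g s₀) ∉ (ts (π x)).asIdeal
    rw [hφg]
    exact hs₀
  apply hg2 s₀ ht'g
  have hq : q t' = π x := by
    change PrimeSpectrum.comap MvPolynomial.C (PrimeSpectrum.comap φ (PrimeSpectrum.comap ψ (π x))) = π x
    rw [← PrimeSpectrum.comap_comp_apply, ← PrimeSpectrum.comap_comp_apply]
    have : ψ.comp (φ.comp (MvPolynomial.C (σ := I))) = RingHom.id A := by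
      ext a
      change MvPolynomial.aeval (fun _ : I => (1 : A))
        (MvPolynomial.aeval (fun i : I => if i ∈ σ₀ then (X i : R) else 0) (MvPolynomial.C a)) = a
      rw [MvPolynomial.aeval_C, MvPolynomial.algebraMap_eq, MvPolynomial.aeval_C]
      rfl
    rw [this]
    rfl
  have e : Points.map ((yon S).map qS) (Points.schemeHomeo T t') = Points.map f x := by
    rw [Points.map_yon_map_apply]
    change Points.schemeHomeo Z (q t') = _
    rw [hq]
    exact (Points.schemeHomeo Z).apply_symm_apply _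
  obtain ⟨z, hz1, hz2⟩ := points_exists_of_isPullback sq.flip (Points.schemeHomeo T t') x e
  refine ⟨z, ?_, ?_⟩
  · intro hz
    obtain ⟨i, hi1, hi2⟩ := Set.mem_iUnion.1 hz
    have hiσ : i ∉ σ₀ := by
      intro hi
      refine hx i (Finset.mem_biUnion.2 ⟨s₀, hs₀F, hi⟩) ?_
      rw [← hz2]
      exact hi1
    have hτz : τ z = t' := by
      change (Points.schemeHomeo T).symm (Points.map fT z) = t'
      rw [hz1]
      exact (Points.schemeHomeo T).symm_apply_apply _
    change τ z ∈ PrimeSpectrum.basicOpen (X i : R) at hi2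
    rw [hτz] at hi2
    change φ (X i) ∉ (ts (π x)).asIdeal at hi2
    apply hi2
    have : φ (X i) = 0 := by
      change MvPolynomial.aeval (fun i : I => if i ∈ σ₀ then (X i : R) else 0) (X i : R) = 0
      rw [MvPolynomial.aeval_X, if_neg hiσ]
    rw [this]
    exact Ideal.zero_mem _
  · change (Points.schemeHomeo T).symm (Points.map fT z) = t'
    rw [hz1]
    exact (Points.schemeHomeo T).symm_apply_apply _

end Groth.Agent.Lib.Helper23.AlgSpMor

namespace Groth.Agent.Lib.Helper23.AlgSpMor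

open AlgSp Groth.Agent.Lib.Helper37.AlgSpPoints Groth.Agent.Lib.Helper12.AlgSpPoints

variable {S : Scheme.{u}}

theorem isUnivClosedMor_of_isPullback {X Y Z Z' : Sp S} {f : X ⟶ Y} {g : Z ⟶ Y} {fst : Z' ⟶ X}
    {snd : Z' ⟶ Z} (sq : IsPullback fst snd f g) (hf : IsUnivClosedMor f) :
    IsUnivClosedMor snd := by
  intro W W' hW g' fst' snd' sq'
  exact hf hW (g' ≫ g) (fst' ≫ fst) snd' (sq'.paste_horiz sq)

theorem isUnivClosedMor_comp_iso {X Y Y' : Sp S} (f : X ⟶ Y) (j : Y ≅ Y')
    (hf : IsUnivClosedMor f) : IsUnivClosedMor (f ≫ j.hom) := by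
  intro W W' hW g fst snd sq
  have hg : g = (g ≫ j.inv) ≫ j.hom := by simp
  rw [hg] at sq
  exact hf hW (g ≫ j.inv) fst snd (isPullback_of_comp_mono j.hom sq)

/-- An algebraic space universally closed over an affine scheme has compact space of points. -/
theorem compactSpace_points_of_isUnivClosedMor_affine {P : Sp S} (hP : IsAlgSpace P) (Z : Over S)
    [IsAffine Z.left] (f : P ⟶ (yon S).obj Z) (hf : IsUnivClosedMor f) :
    CompactSpace (Points P) := by
  let Z' : Over S := Over.mk (Z.left.isoSpec.inv ≫ Z.hom)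
  let e : Z ≅ Z' := Over.isoMk Z.left.isoSpec (by simp [Z'])
  have hf' : IsUnivClosedMor (f ≫ ((yon S).mapIso e).hom) :=
    isUnivClosedMor_comp_iso f ((yon S).mapIso e) hf
  obtain ⟨U, c, hce, hcs⟩ := hP.atlas
  let 𝒰 := U.left.affineCover
  refine compactSpace_points_of_isUnivClosedMor_Spec Γ(Z.left, ⊤) (Z.left.isoSpec.inv ≫ Z.hom)
    (f ≫ ((yon S).mapIso e).hom) hf' (fun i : 𝒰.I₀ => Points.ofPt c '' Set.range (𝒰.f i))
    (fun i => isOpenMap_ofPt c hce _ (𝒰.f i).isOpenEmbedding.isOpen_range)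
    (fun i => (isCompact_range (𝒰.f i).continuous).image (Points.continuous_ofPt c)) ?_
  rw [Set.eq_univ_iff_forall]
  intro x
  obtain ⟨u, rfl⟩ := ofPt_surjective c hcs x
  exact Set.mem_iUnion.2 ⟨𝒰.idx u, u, 𝒰.covers u, rfl⟩

/-- A universally closed morphism of algebraic spaces is quasi-compact. -/
theorem isQuasiCompactMor_of_isUnivClosedMor {X Y : Sp S} (hX : IsAlgSpace X) (hY : IsAlgSpace Y)
    (f : X ⟶ Y) (hf : IsUnivClosedMor f) : IsQuasiCompactMor f := by
  rw [isQuasiCompactMor_iff_affine hX hY]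
  intro Z hZ g P fst snd sq
  have hP : IsAlgSpace P := isAlgSpace_of_isPullback hX (IsAlgSpace.yon_obj Z) hY.diag sq
  have := compactSpace_points_of_isUnivClosedMor_affine hP Z snd
    (isUnivClosedMor_of_isPullback sq hf)
  exact isQuasiCompactSp_of_compactSpace hP

end Groth.Agent.Lib.Helper23.AlgSpMor
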