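import Groth.Agent.Lib.Helper23.AlgSpQc

/-!
# Quasi-compact algebraic spaces over a quasi-separated base (helper23)
-/

set_option autoImplicit false
universe u
open CategoryTheory CategoryTheory.Limits AlgebraicGeometry Opposite

namespace Groth.Agent.Lib.Helper23.AlgSpMor

open AlgSp Groth.Agent.Lib.Helper37.AlgSpPoints Groth.Agent.Lib.Helper12.AlgSpPoints

variable {S : Scheme.{u}}

theorem diag_eq_diagonal_terminal (Y : Sp S) :
    Limits.diag Y = pullback.diagonal (terminal.from Y) ≫ (prodIsoPullback Y Y).inv := by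
  apply Limits.prod.hom_ext
  · simp only [prodIsoPullback_inv_fst, Category.assoc, pullback.diagonal_fst]
    exact prod.lift_fst _ _
  · simp only [prodIsoPullback_inv_snd, Category.assoc, pullback.diagonal_snd]
    exact prod.lift_snd _ _

/-- The absolute diagonal of a sheaf has a property iff the diagonal of its structure morphism to
the terminal sheaf does. -/
theorem repWith_diag_iff_diagonal_terminal (P : MorphismProperty Scheme.{u}) (Y : Sp S) :
    RepWith P (Limits.diag Y) ↔ RepWith P (pullback.diagonal (terminal.from Y)) := by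
  rw [diag_eq_diagonal_terminal]
  exact (RepWith (S := S) P).cancel_right_of_respectsIso _ _

theorem isQuasiSeparatedSp_iff_terminal (Y : Sp S) :
    IsQuasiSeparatedSp Y ↔ IsQuasiSeparatedMor (terminal.from Y) :=
  repWith_diag_iff_diagonal_terminal _ Y

theorem isSeparatedSp_iff_terminal (Y : Sp S) :
    IsSeparatedSp Y ↔ IsSeparatedMor (terminal.from Y) :=
  repWith_diag_iff_diagonal_terminal _ Y

theorem isSurjectiveMor_of_isIso {X Y : Sp S} (f : X ⟶ Y) [IsIso f] : IsSurjectiveMor f := by
  intro y
  refine ⟨Points.map (inv f) y, ?_⟩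
  rw [← Points.map_comp, IsIso.inv_hom_id, Points.map_id]

theorem isSurjectiveMor_comp {X Y Z : Sp S} (f : X ⟶ Y) (g : Y ⟶ Z) (hf : IsSurjectiveMor f)
    (hg : IsSurjectiveMor g) : IsSurjectiveMor (f ≫ g) := by
  intro z
  obtain ⟨y, rfl⟩ := hg z
  obtain ⟨x, rfl⟩ := hf y
  exact ⟨x, Points.map_comp _ _ _⟩

theorem representable_diag_terminal : Representable (Limits.diag (⊤_ (Sp S))) := by
  have : IsIso (Limits.diag (⊤_ (Sp S))) := by
    refine ⟨prod.fst, prod.lift_fst _ _, ?_⟩
    apply Limits.prod.hom_ext <;> exact Subsingleton.elim _ _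
  exact Functor.relativelyRepresentable.of_isIso (F := yon S) _

theorem compactSpace_prod_left [QuasiSeparatedSpace ↥S] (U V : Over S) [CompactSpace ↥U.left]
    [CompactSpace ↥V.left] : CompactSpace ↥(U ⨯ V).left := by
  have : QuasiCompact U.hom := inferInstance
  have : CompactSpace ↥(pullback U.hom V.hom) :=
    QuasiCompact.compactSpace_of_compactSpace (pullback.snd U.hom V.hom)
  exact (Over.prodLeftIsoPullback U V).hom.homeomorph.symm.compactSpace

/-- Over a quasi-separated base, the product of two quasi-compact algebraic spaces is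
quasi-compact. -/
theorem isQuasiCompactSp_of_isPullback_terminal [QuasiSeparatedSpace ↥S] {X W P : Sp S}
    (hX : IsAlgSpace X) (hW : IsAlgSpace W)
    (hXq : IsQuasiCompactSp X) (hWq : IsQuasiCompactSp W) {fst : P ⟶ X} {snd : P ⟶ W}
    (sq : IsPullback fst snd (terminal.from X) (terminal.from W)) : IsQuasiCompactSp P := by
  obtain ⟨U, u, hue, hus, hU⟩ := hXq
  obtain ⟨V, v, hve, hvs, hV⟩ := hWq
  have hU' : CompactSpace ↥U.left := hU
  have hV' : CompactSpace ↥V.left := hV
  have hPalg : IsAlgSpace P := isAlgSpace_of_isPullback hX hW representable_diag_terminal sq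
  have sq1 : IsPullback (pullback.fst u fst) (pullback.snd u fst) u fst :=
    IsPullback.of_hasPullback u fst
  set p1 := pullback.fst u fst
  set p2 := pullback.snd u fst
  have sq1' : IsPullback p1 (p2 ≫ snd) (u ≫ terminal.from X) (terminal.from W) :=
    sq1.paste_vert sq
  have sq2 : IsPullback (pullback.fst (p2 ≫ snd) v) (pullback.snd (p2 ≫ snd) v) (p2 ≫ snd) v :=
    IsPullback.of_hasPullback _ _
  set q1 := pullback.fst (p2 ≫ snd) v
  set q2 := pullback.snd (p2 ≫ snd) v
  have sqA : IsPullback (q1 ≫ p1) q2 (u ≫ terminal.from X) (v ≫ terminal.from W) :=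
    (sq2.flip.paste_vert sq1'.flip).flip
  have sqQ : IsPullback ((yon S).map (prod.fst : U ⨯ V ⟶ U)) ((yon S).map (prod.snd : U ⨯ V ⟶ V))
      (u ≫ terminal.from X) (v ≫ terminal.from W) := by
    have := IsPullback.of_is_product' (isLimitOfHasBinaryProductOfPreservesLimit (yon S) U V)
      (terminalIsTerminal (C := Sp S))
    have e1 : terminalIsTerminal.from ((yon S).obj U) = u ≫ terminal.from X :=
      Subsingleton.elim _ _
    have e2 : terminalIsTerminal.from ((yon S).obj V) = v ≫ terminal.from W :=
      Subsingleton.elim _ _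
    rwa [e1, e2] at this
  let e := sqQ.isoIsPullback _ _ sqA
  have hq1 : IsSurjectiveMor q1 :=
    isSurjectiveMor_of_isPullback sq2.flip (isSurjectiveMor_of_repWith_surjective v hvs)
  have hp2 : IsSurjectiveMor p2 :=
    isSurjectiveMor_of_isPullback sq1 (isSurjectiveMor_of_repWith_surjective u hus)
  have hm : IsSurjectiveMor (e.hom ≫ q1 ≫ p2) :=
    isSurjectiveMor_comp _ _ (isSurjectiveMor_of_isIso _) (isSurjectiveMor_comp _ _ hq1 hp2)
  have := compactSpace_prod_left U V
  exact isQuasiCompactSp_of_isSurjectiveMor _ hPalg hm (isQuasiCompactSp_yon (U ⨯ V))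

/-- Over a quasi-separated base, the structure morphism of a quasi-compact algebraic space is
quasi-compact. -/
theorem isQuasiCompactMor_terminal_from [QuasiSeparatedSpace ↥S] {X : Sp S} (hX : IsAlgSpace X)
    (hXq : IsQuasiCompactSp X) : IsQuasiCompactMor (terminal.from X) := by
  intro W W' hW hWq g fst snd sq
  obtain rfl : g = terminal.from W := Subsingleton.elim _ _
  exact isQuasiCompactSp_of_isPullback_terminal hX hW hXq hWq sq

/-- Over a quasi-separated base, a morphism from a quasi-compact algebraic space to a sheaf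
quasi-separated over the base is quasi-compact. -/
theorem isQuasiCompactMor_of_isQuasiCompactSp_of_isQuasiSeparatedSp [QuasiSeparatedSpace ↥S]
    {X Y : Sp S} (hX : IsAlgSpace X) (f : X ⟶ Y) (hXq : IsQuasiCompactSp X)
    (hY : IsQuasiSeparatedSp Y) : IsQuasiCompactMor f := by
  refine isQuasiCompactMor_of_comp_of_isQuasiSeparatedMor hX representable_diag_terminal f
    (terminal.from Y) ?_ ((isQuasiSeparatedSp_iff_terminal Y).1 hY)
  rw [terminal.comp_from]
  exact isQuasiCompactMor_terminal_from hX hXq

end Groth.Agent.Lib.Helper23.AlgSpMor
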