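import Groth.Agent.Lib.Helper23.AlgSpNoeth
import Groth.Agent.Lib.Helper46.LocPChart
import Groth.Agent.Lib.Helper30.EtLocalInst
import Groth.Agent.Lib.Helper37.EtaleFibres
import Groth.Agent.S9951

/-!
# Locally Noetherian fibres of morphisms of algebraic spaces, II (helper23)
-/

set_option autoImplicit false
universe u
open CategoryTheory CategoryTheory.Limits AlgebraicGeometry Opposite

namespace Groth.Agent.Lib.Helper23.AlgSpMor

open AlgSp Groth.Agent.Lib.Helper37.AlgSpPoints Groth.Agent.Lib.Helper12.AlgSpPoints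
open Groth.Agent.Lib.Helper36.AlgSpCharts Groth.Agent.Lib.Helper55
open Groth.Agent.Lib.Helper46 Groth.Agent.Lib.Helper46.LocPChart Groth.Agent.Lib.Helper30.EtLocalInst

variable {S : Scheme.{u}}

/-- The canonical map between the fibres of `f` over `h_{T'} ⟶ h_T ⟶ Y` and over `h_T ⟶ Y`; it is a
base change of `h_{T'} ⟶ h_T`. -/
theorem exists_fibre_map {X Y : Sp S} (f : X ⟶ Y) {T' T : Over S} (m : T' ⟶ T)
    (t : (yon S).obj T ⟶ Y) {P : Sp S} (pfst : P ⟶ X) (psnd : P ⟶ (yon S).obj T)
    (hP : IsPullback pfst psnd f t) {P' : Sp S} (pfst' : P' ⟶ X) (psnd' : P' ⟶ (yon S).obj T')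
    (hP' : IsPullback pfst' psnd' f ((yon S).map m ≫ t)) :
    ∃ π : P' ⟶ P, π ≫ pfst = pfst' ∧ IsPullback π psnd' psnd ((yon S).map m) := by
  let π : P' ⟶ P := hP.lift pfst' (psnd' ≫ (yon S).map m) (by rw [Category.assoc]; exact hP'.w)
  have hπ1 : π ≫ pfst = pfst' := hP.lift_fst _ _ _
  have hπ2 : π ≫ psnd = psnd' ≫ (yon S).map m := hP.lift_snd _ _ _
  refine ⟨π, hπ1, (IsPullback.of_bot ?_ hπ2.symm hP.flip).flip⟩
  rw [hπ1]; exact hP'.flip

/-- A morphism of schemes with `Q` gives a morphism of sheaves with `Q` chart-wise. -/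
theorem locP_yon_map_of {Q : MorphismProperty Scheme.{u}} (hQ : EtLocal Q) {T' T : Over S}
    (m : T' ⟶ T) (hm : Q m.left) : LocP Q ((yon S).map m) := by
  refine locP_of_chart hQ ((yon S).map m) (𝟙 _) (𝟙 _) m (repWith_id _ T') (repWith_id _ T')
    (repWith_id _ T) (by simp) hm

/-- Local Noetherianity of a fibre ascends along a change of the base point that is locally of finite
type. -/
theorem isLocNoethSp_fibre_ascent {X Y : Sp S} (hX : IsAlgSpace X) (hY : IsAlgSpace Y) (f : X ⟶ Y)
    {T' T : Over S} (m : T' ⟶ T) (hm : LocallyOfFiniteType m.left)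
    (t : (yon S).obj T ⟶ Y) {P : Sp S} (pfst : P ⟶ X) (psnd : P ⟶ (yon S).obj T)
    (hP : IsPullback pfst psnd f t) {P' : Sp S} (pfst' : P' ⟶ X) (psnd' : P' ⟶ (yon S).obj T')
    (hP' : IsPullback pfst' psnd' f ((yon S).map m ≫ t)) (hN : IsLocNoethSp P) :
    IsLocNoethSp P' := by
  have hPsp : IsAlgSpace P := isAlgSpace_of_isPullback hX (IsAlgSpace.yon_obj T) hY.diag hP
  have hP'sp : IsAlgSpace P' := isAlgSpace_of_isPullback hX (IsAlgSpace.yon_obj T') hY.diag hP'
  obtain ⟨π, -, sqπ⟩ := exists_fibre_map f m t pfst psnd hP pfst' psnd' hP'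
  have h1 : LocP @LocallyOfFiniteType ((yon S).map m) := locP_yon_map_of etLocal_lft m hm
  have h2 : LocP @LocallyOfFiniteType π :=
    locP_of_isPullback etLocal_lft (IsAlgSpace.yon_obj T') (IsAlgSpace.yon_obj T) hP'sp hPsp
      sqπ.flip h1
  exact Groth.Agent.S9951.result (X := ⟨P', hP'sp⟩) (Y := ⟨P, hPsp⟩) (ObjectProperty.homMk π) h2 hN

/-- For a scheme etale over the spectrum of a field, the inclusion of a point composed with the
structure map is locally of finite type. -/
theorem locallyOfFiniteType_fromSpecResidueField_comp {W : Scheme.{u}} {K : Type u} [Field K]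
    (f : W ⟶ Spec (CommRingCat.of K)) [Etale f] (z : ↥W) :
    LocallyOfFiniteType (W.fromSpecResidueField z ≫ f) := by
  have := Groth.Agent.Lib.Helper37.EtaleFibres.locallyQuasiFinite_of_etale f
  let y : ↥(Spec (CommRingCat.of K)) := IsLocalRing.closedPoint K
  have hd := f.isDiscrete_preimage_singleton y
  have huniv : f ⁻¹' {y} = Set.univ :=
    Set.eq_univ_of_forall fun w => Subsingleton.elim (α := PrimeSpectrum K) _ _
  rw [huniv] at hd
  have : DiscreteTopology ↥W := isDiscrete_univ_iff.1 hd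
  have hcl : IsClosed ({z} : Set ↥W) := isClosed_discrete _
  have : IsClosedImmersion (W.fromSpecResidueField z) :=
    isClosed_singleton_iff_isClosedImmersion.1 hcl
  infer_instance

end Groth.Agent.Lib.Helper23.AlgSpMor
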