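import Groth.Agent.Lib.Helper37.AlgSpPoints
import Groth.Agent.Lib.Helper12.AlgSpPoints2
import Groth.Prelude.Def_AlgSp4

/-!
# Morphisms of fppf sheaves / algebraic spaces: points-level lemmas (helper23)

All statements are for arbitrary sheaves `F : AlgSp.Sp S` unless an atlas is needed.
-/

set_option autoImplicit false
universe u
open CategoryTheory CategoryTheory.Limits AlgebraicGeometry Opposite

namespace Groth.Agent.Lib.Helper23.AlgSpMor

open AlgSp Groth.Agent.Lib.Helper37.AlgSpPoints

variable {S : Scheme.{u}}

/-- Base change of a morphism surjective on points is surjective on points (all sheaves). -/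
theorem isSurjectiveMor_of_isPullback {X Y Y' P : Sp S} {f : X ⟶ Y} {g : Y' ⟶ Y}
    {fst : P ⟶ X} {snd : P ⟶ Y'} (sq : IsPullback fst snd f g) (hf : IsSurjectiveMor f) :
    IsSurjectiveMor snd := by
  intro y'
  obtain ⟨x, hx⟩ := hf (Points.map g y')
  obtain ⟨p, hp1, -⟩ := points_exists_of_isPullback sq.flip y' x hx.symm
  exact ⟨p, hp1⟩

/-- A representable surjective morphism of sheaves is surjective on points. -/
theorem isSurjectiveMor_of_repWith_surjective {X Y : Sp S} (f : X ⟶ Y)
    (hs : RepWith @Surjective f) : IsSurjectiveMor f := by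
  intro y
  obtain ⟨q, s, rfl⟩ := exists_ofPt_toHom y
  have hsq := hs.rep.isPullback q.toHom
  have hsurj : Surjective (hs.rep.snd q.toHom).left := hs.property_snd q.toHom
  obtain ⟨v, hv⟩ := hsurj.surj s
  refine ⟨Points.ofPt (hs.rep.fst q.toHom) v, ?_⟩
  rw [Points.map_ofPt, hsq.w, ofPt_map_comp, hv]

/-- A representable morphism surjective on points is representable surjective. -/
theorem repWith_surjective_of_isSurjectiveMor {X Y : Sp S} (f : X ⟶ Y)
    (hf : Representable f) (hs : IsSurjectiveMor f) : RepWith @Surjective f := by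
  refine ⟨hf, fun T V g fst snd hsq => ⟨fun t => ?_⟩⟩
  obtain ⟨x, hx⟩ := hs (Points.ofPt g t)
  rw [Points.ofPt_eq_map_ofScheme] at hx
  obtain ⟨p, hp1, -⟩ := points_exists_of_isPullback hsq.flip (Points.ofScheme T t) x hx.symm
  refine ⟨Points.toScheme V p, ?_⟩
  change snd.left (Points.toScheme V p) = t
  apply (Points.schemeEquiv T).injective
  change Points.ofScheme T _ = Points.ofScheme T t
  rw [← hp1, ← ofPt_yon_map, ← Points.ofScheme_toScheme V p, Points.toScheme_ofScheme,
    Points.ofPt_eq_map_ofScheme]

/-- A quasi-compact sheaf has a quasi-compact space of points. -/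
theorem compactSpace_points_of_isQuasiCompactSp {F : Sp S} (h : IsQuasiCompactSp F) :
    CompactSpace (Points F) := by
  obtain ⟨U, p, -, hps, hU⟩ := h
  have hU' : CompactSpace ↥U.left := hU
  refine ⟨?_⟩
  have := (isCompact_univ (X := ↥U.left)).image (Points.continuous_ofPt p)
  rwa [Set.image_univ, (ofPt_surjective p hps).range_eq] at this

end Groth.Agent.Lib.Helper23.AlgSpMor
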