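import Groth.Agent.Lib.Helper23.AlgSpMor9

/-!
# Morphisms to the spectrum of a field are universally open (helper23)
-/

set_option autoImplicit false
universe u
open CategoryTheory CategoryTheory.Limits AlgebraicGeometry Opposite

namespace Groth.Agent.Lib.Helper23.AlgSpMor

open AlgSp Groth.Agent.Lib.Helper37.AlgSpPoints Groth.Agent.Lib.Helper12.AlgSpPoints

variable {S : Scheme.{u}}

/-- If `u : h_U ⟶ X` is representable etale surjective and `u ≫ p` is representable universally open then
`p` is universally open (all sheaves). -/
theorem isUnivOpenMor_of_chart {X Y : Sp S} {U : Sp S} (u : U ⟶ X)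
    (hus : RepWith @Surjective u) (p : X ⟶ Y) (hup : RepWith @UniversallyOpen (u ≫ p)) :
    IsUnivOpenMor p := by
  intro Z Z' _ g fst snd sq
  have sq2 : IsPullback (pullback.fst fst u) (pullback.snd fst u) fst u :=
    IsPullback.of_hasPullback fst u
  set e := pullback.fst fst u with he
  set e2 := pullback.snd fst u with he2
  have sq3 : IsPullback e2 (e ≫ snd) (u ≫ p) g := sq2.flip.paste_vert sq
  have h1 : RepWith @UniversallyOpen (e ≫ snd) :=
    (RepWith @UniversallyOpen).of_isPullback sq3 hup
  have h2 : RepWith @Surjective e := (RepWith @Surjective).of_isPullback sq2.flip hus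
  exact isOpenMap_of_comp_surjective e snd (isSurjectiveMor_of_repWith_surjective e h2)
    (isOpenMap_points_of_repWith_universallyOpen _ h1)

/-- A morphism from an algebraic space to the spectrum of a field is universally open. -/
theorem isUnivOpenMor_to_field {X : Sp S} (hX : IsAlgSpace X) {k : Type u} [Field k]
    (str : Spec (CommRingCat.of k) ⟶ S) (p : X ⟶ (yon S).obj (Over.mk str)) :
    IsUnivOpenMor p := by
  obtain ⟨U, u, -, hus⟩ := hX.atlas
  refine isUnivOpenMor_of_chart u hus p ?_
  obtain ⟨φ, hφ⟩ := (yon S).map_surjective (u ≫ p)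
  rw [← hφ, repWith_yon_map_iff]
  have : Subsingleton ↥(Over.mk str).left :=
    inferInstanceAs (Subsingleton (PrimeSpectrum k))
  have : IsIntegral (Over.mk str).left := by
    change IsIntegral (Spec (CommRingCat.of k))
    infer_instance
  infer_instance

end Groth.Agent.Lib.Helper23.AlgSpMor
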