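import Groth.Agent.Lib.Helper23.SLQBoot
import Groth.Agent.Lib.Helper5.QuotShK
import Groth.Agent.Lib.Helper5.QuotShEt

/-!
# Bootstrap for etale sheaves (helper23)

Presheaf-level version of `exists_isPullback_of_repBySpWith`, and: a presheaf which is an etale
sheaf and receives a surjective etale map, representable by algebraic spaces, from an algebraic
space is an algebraic space.
-/

set_option autoImplicit false
universe u
open CategoryTheory CategoryTheory.Limits AlgebraicGeometry Opposite

namespace Groth.Agent.Lib.Helper23.SLQ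

open AlgSp Groth.Agent.Lib.Helper23.AlgSpMor

variable {S : Scheme.{u}}

/-- Core step: if `sndP : P ⟶ h_T` is surjective and etale from an algebraic space and `P'` is the
base change of an atlas `a : h_U ⟶ X` along `fstP : P ⟶ X`, with `(a', π ≫ sndP)` jointly monic, then
`P'` is a scheme, etale and surjective over `T`. -/
theorem exists_rep_of_etale_surj {X P P' : Sp S} (hX : IsAlgSpace X) (hP : IsAlgSpace P)
    {T U : Over S} (a : (yon S).obj U ⟶ X) (hae : RepWith @Etale a) (has : RepWith @Surjective a)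
    (fstP : P ⟶ X) (sndP : P ⟶ (yon S).obj T) (hs : IsSurjectiveMor sndP) (he : IsEtaleMor sndP)
    {a' : P' ⟶ (yon S).obj U} {π : P' ⟶ P} (sq2 : IsPullback a' π a fstP)
    (hmono : ∀ ⦃Z : Sp S⦄ (x y : Z ⟶ P'), x ≫ a' = y ≫ a' →
      x ≫ π ≫ sndP = y ≫ π ≫ sndP → x = y) :
    ∃ (V : Over S) (e : (yon S).obj V ≅ P') (v : V ⟶ T),
      (yon S).map v = e.hom ≫ π ≫ sndP ∧ Etale v.left ∧ Surjective v.left := by
  have hP' : IsAlgSpace P' :=
    isAlgSpace_of_isPullback (IsAlgSpace.yon_obj U) hP hX.diag sq2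
  have hπe : RepWith @Etale π := (RepWith @Etale).of_isPullback sq2 hae
  have hπs : RepWith @Surjective π := (RepWith @Surjective).of_isPullback sq2 has
  have hqf : LocP (@LocallyQuasiFinite ⊓ @LocallyOfFiniteType) (π ≫ sndP) := by
    obtain ⟨W, b, hbe, hbs⟩ := hP'.atlas
    have h1 : RepWith @Etale ((b ≫ π) ≫ sndP) :=
      he (b ≫ π) ((RepWith @Etale).comp_mem _ _ hbe hπe)
    obtain ⟨w, hw⟩ := (yon S).map_surjective ((b ≫ π) ≫ sndP)
    rw [← hw] at h1
    have hwe : Etale w.left := (repWith_yon_map_iff @Etale w).1 h1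
    refine Groth.Agent.Lib.Helper46.LocPChart.locP_of_chart
      Groth.Agent.Lib.Helper30.EtLocalInst.etLocal_lqf (π ≫ sndP) b (𝟙 _) w hbe hbs
      ((RepWith @Etale).id_mem _) ?_
      ⟨Groth.Agent.Lib.Helper37.EtaleFibres.locallyQuasiFinite_of_etale w.left, inferInstance⟩
    rw [Category.comp_id, hw, Category.assoc]
  have hrep := isRepresentable_of_jointly_mono_lqf hP' a' (π ≫ sndP) hmono hqf
  obtain ⟨V, ⟨e⟩⟩ := exists_iso_of_isRepresentable hrep
  obtain ⟨v, hv⟩ := (yon S).map_surjective (e.hom ≫ π ≫ sndP)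
  refine ⟨V, e, v, hv, ?_, ?_⟩
  · have h1 : RepWith @Etale ((e.hom ≫ π) ≫ sndP) :=
      he (e.hom ≫ π) (MorphismProperty.RespectsIso.precomp _ _ _ hπe)
    rw [Category.assoc, ← hv] at h1
    exact (repWith_yon_map_iff @Etale v).1 h1
  · apply surjective_of_isSurjectiveMor_yon_map
    rw [hv]
    exact isSurjectiveMor_comp _ _ (isSurjectiveMor_of_isIso _)
      (isSurjectiveMor_comp _ _ (isSurjectiveMor_of_repWith_surjective π hπs) hs)

/-- Presheaf-level version of `exists_isPullback_of_repBySpWith`: `F` is only a presheaf. -/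
theorem exists_isPullback_of_repBySpWith_psh {F : PSp S} {X : Sp S} (hX : IsAlgSpace X)
    (p : X.obj ⟶ F) (hp : RepBySpWith (IsSurjectiveMor ⊓ IsEtaleMor) p) {U : Over S}
    (a : (yon S).obj U ⟶ X) (hae : RepWith @Etale a) (has : RepWith @Surjective a)
    {T : Over S} (ξ : (pyon S).obj T ⟶ F) :
    ∃ (V : Over S) (fst : (pyon S).obj V ⟶ (pyon S).obj U) (v : V ⟶ T),
      IsPullback fst ((pyon S).map v) (a.hom ≫ p) ξ ∧ Etale v.left ∧ Surjective v.left := by
  have sq1 : IsPullback (pullback.fst p ξ) (pullback.snd p ξ) p ξ := IsPullback.of_hasPullback _ _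
  obtain ⟨hsh, hP, hs, he⟩ := hp ξ _ _ sq1
  obtain ⟨P, fstP, sndP, hfstP, hsndP⟩ : ∃ (P : Sp S) (fstP : P ⟶ X)
      (sndP : P ⟶ (yon S).obj T) (_ : IsAlgSpace P) (_ : IsSurjectiveMor sndP)
      (_ : IsEtaleMor sndP), IsPullback fstP.hom sndP.hom p ξ :=
    ⟨⟨pullback p ξ, hsh⟩, ObjectProperty.homMk (pullback.fst p ξ),
      ObjectProperty.homMk (pullback.snd p ξ), hP, hs, he, sq1⟩
  obtain ⟨hsP, heP, sq1'⟩ := hsndP
  obtain ⟨P', a', π, sq2⟩ : ∃ (P' : Sp S) (a' : P' ⟶ (yon S).obj U) (π : P' ⟶ P),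
      IsPullback a' π a fstP := ⟨_, _, _, IsPullback.of_hasPullback a fstP⟩
  have sq2' : IsPullback a'.hom π.hom a.hom fstP.hom :=
    sq2.map (sheafToPresheaf (J S) (Type (u + 1)))
  have sq12 : IsPullback a'.hom (π.hom ≫ sndP.hom) (a.hom ≫ p) ξ := sq2'.paste_vert sq1'
  obtain ⟨V, e, v, hv, hve, hvs⟩ := exists_rep_of_etale_surj hX hfstP a hae has fstP sndP hsP heP sq2
    (fun Z x y h1 h2 => by
      ext1
      apply sq12.hom_ext
      · exact congrArg (fun m => m.hom) h1
      · exact congrArg (fun m => m.hom) h2)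
  let e' : (pyon S).obj V ≅ P'.obj := (sheafToPresheaf (J S) (Type (u + 1))).mapIso e
  have he' : e'.hom = e.hom.hom := rfl
  have hv' : (pyon S).map v = e'.hom ≫ π.hom ≫ sndP.hom := by
    have := congrArg (fun m => m.hom) hv
    rw [he']
    exact this
  refine ⟨V, e'.hom ≫ a'.hom, v, ?_, hve, hvs⟩
  rw [hv']
  refine IsPullback.of_iso sq12 e'.symm (Iso.refl _) (Iso.refl _) (Iso.refl _) ?_ ?_ ?_ ?_
  · exact (Category.comp_id _).trans (Iso.inv_hom_id_assoc e' _).symm
  · exact (Category.comp_id _).trans (Iso.inv_hom_id_assoc e' _).symm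
  · exact (Category.comp_id _).trans (Category.id_comp _).symm
  · exact (Category.comp_id _).trans (Category.id_comp _).symm

/-- An epimorphism from a scheme whose kernel pair is a scheme with `P` projections, onto an
algebraic space, is representable with `P`, for `P` fppf local on the target. -/
theorem repWith_of_kernelPair {F : Sp S} {U R : Over S} (q : (yon S).obj U ⟶ F) [Epi q]
    (s t : R ⟶ U) (hk : IsPullback ((yon S).map t) ((yon S).map s) q q) (hrep : Representable q)
    (P : MorphismProperty Scheme.{u}) [P.IsStableUnderBaseChange]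
    [P.IsLocalAtTarget Scheme.fppfPrecoverage] (hPs : P s.left) : RepWith P q := by
  apply Groth.Agent.Lib.Helper5.AtlasQuot.repWith_of_fppf_local P q hrep
  intro T c
  obtain ⟨T', p, h1, h2, h3, a', ha'⟩ :=
    Groth.Agent.Lib.Helper5.AtlasQuot.exists_single_fppf_lift q T c
  refine ⟨T', p, h1, h2, h3, pullback s a', pullback.snd s a',
    (yon S).map (pullback.fst s a') ≫ (yon S).map t, ?_, ?_⟩
  · have sqL : IsPullback ((yon S).map (pullback.fst s a')) ((yon S).map (pullback.snd s a'))
        ((yon S).map s) ((yon S).map a') := (IsPullback.of_hasPullback s a').map (yon S)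
    have := sqL.paste_horiz hk
    rwa [ha'] at this
  · exact MorphismProperty.pullback_snd (P := P.inverseImage (Over.forget S)) s a' hPs

/-- A kernel pair in presheaves of a map from `h_U` is an equivalence relation. -/
theorem isEqvRel_of_isPullback_psh {F : PSp S} {R U : Over S} (q : (pyon S).obj U ⟶ F)
    (s t : R ⟶ U) (hk : IsPullback ((pyon S).map t) ((pyon S).map s) q q) : IsEqvRel s t := by
  have key : ∀ (T : Over S) (a b : T ⟶ U), (∃ r : T ⟶ R, r ≫ t = a ∧ r ≫ s = b) ↔
      (pyon S).map a ≫ q = (pyon S).map b ≫ q := by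
    intro T a b
    constructor
    · rintro ⟨r, rfl, rfl⟩
      rw [Functor.map_comp, Functor.map_comp, Category.assoc, Category.assoc, hk.w]
    · intro h
      obtain ⟨r, hr⟩ := (pyon S).map_surjective (hk.lift _ _ h)
      refine ⟨r, ?_, ?_⟩
      · apply (pyon S).map_injective
        rw [Functor.map_comp, hr, hk.lift_fst]
      · apply (pyon S).map_injective
        rw [Functor.map_comp, hr, hk.lift_snd]
  refine ⟨fun T r r' h1 h2 => ?_, fun T => ⟨fun a => (key T a a).2 rfl, ?_, ?_⟩⟩
  · apply (pyon S).map_injective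
    apply hk.hom_ext
    · rw [← Functor.map_comp, ← Functor.map_comp, h1]
    · rw [← Functor.map_comp, ← Functor.map_comp, h2]
  · intro a b h
    exact (key T b a).2 ((key T a b).1 h).symm
  · intro a b c h1 h2
    exact (key T a c).2 (((key T a b).1 h1).trans ((key T b c).1 h2))

theorem etaleJ_le (S : Scheme.{u}) : QuotSh.J Scheme.etalePrecoverage S ≤ J S := by
  intro X R hR
  rw [J_eq, GrothendieckTopology.mem_over_iff]
  rw [GrothendieckTopology.mem_over_iff] at hR
  exact Groth.Agent.Lib.Helper5.QuotShEt.etaleTopology_le_fppfTopology _ hR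

open Groth.Agent.Lib.Helper5.QuotShK in
/-- Bootstrap for etale sheaves: a presheaf which is a sheaf for the etale topology and receives a
surjective etale map, representable by algebraic spaces, from an algebraic space is an algebraic
space (in particular an fppf sheaf). -/
theorem isAlgSpaceP_of_etale_sheaf {F : PSp S}
    (h1 : Presheaf.IsSheaf (QuotSh.J Scheme.etalePrecoverage S) F) {X : Sp S} (hX : IsAlgSpace X)
    (p : X.obj ⟶ F) (hp : RepBySpWith (IsSurjectiveMor ⊓ IsEtaleMor) p) : IsAlgSpaceP F := by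
  obtain ⟨U, a, hae, has⟩ := hX.atlas
  obtain ⟨q₀, key⟩ : ∃ q₀ : (pyon S).obj U ⟶ F, ∀ (T : Over S) (ξ : (pyon S).obj T ⟶ F),
      ∃ (V : Over S) (fst : (pyon S).obj V ⟶ (pyon S).obj U) (v : V ⟶ T),
        IsPullback fst ((pyon S).map v) q₀ ξ ∧ Etale v.left ∧ Surjective v.left :=
    ⟨a.hom ≫ p, fun T ξ => exists_isPullback_of_repBySpWith_psh hX p hp a hae has ξ⟩
  -- the kernel pair
  obtain ⟨R, fst, t, sq, hte, hts⟩ := key U q₀
  obtain ⟨s, rfl⟩ := (pyon S).map_surjective fst
  obtain ⟨R', fst', t', sq', hte', hts'⟩ := key U q₀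
  have hse : Etale s.left ∧ Surjective s.left := by
    obtain ⟨s', rfl⟩ := (pyon S).map_surjective fst'
    let i := sq.flip.isoIsPullback _ _ sq'
    have h1 : i.hom ≫ (pyon S).map t' = (pyon S).map s := sq.flip.isoIsPullback_hom_snd _ _ sq'
    let i' : R ≅ R' := (pyon S).preimageIso i
    have h2 : i'.hom ≫ t' = s := by
      apply (pyon S).map_injective
      rw [Functor.map_comp, Functor.preimageIso_hom, Functor.map_preimage, h1]
    have h3 : s.left = i'.hom.left ≫ t'.left := by rw [← Over.comp_left, h2]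
    haveI : IsIso i'.hom.left := inferInstanceAs (IsIso ((Over.forget S).map i'.hom))
    rw [h3]
    exact ⟨inferInstance, inferInstance⟩
  haveI := hse.1
  haveI := hse.2
  have hEq : IsEqvRel s t := isEqvRel_of_isPullback_psh q₀ s t sq.flip
  -- the fppf quotient
  obtain ⟨F', π', hπ', hk'⟩ : ∃ (F' : Sp S) (π' : (yon S).obj U ⟶ F') (_ : Epi π'),
      IsPullback ((yon S).map t) ((yon S).map s) π' π' :=
    ⟨QuotSh.quot Scheme.fppfPrecoverage s t, quotπ' Scheme.fppfPrecoverage s t, inferInstance,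
      isPullback_quotπ' Scheme.fppfPrecoverage s t hEq⟩
  have hF' : IsAlgSpace F' :=
    Groth.Agent.Lib.Helper5.AtlasQuot.isAlgSpace_of_kernelPair π' s t hk'
  have hrepπ' : Representable π' := hF'.representable_from_yon π'
  have hπ'e : RepWith @Etale π' := repWith_of_kernelPair π' s t hk' hrepπ' @Etale hse.1
  have hπ's : RepWith @Surjective π' := repWith_of_kernelPair π' s t hk' hrepπ' @Surjective hse.2
  -- comparison in etale sheaves
  have hF'et : Presheaf.IsSheaf (QuotSh.J Scheme.etalePrecoverage S) F'.obj :=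
    (isSheaf_iff_isSheaf_of_type _ _).2 (Presieve.isSheaf_of_le _ (etaleJ_le S)
      ((isSheaf_iff_isSheaf_of_type _ _).1 F'.property))
  let Fet : QuotSh.Sh Scheme.etalePrecoverage S := ⟨F, h1⟩
  let F'et : QuotSh.Sh Scheme.etalePrecoverage S := ⟨F'.obj, hF'et⟩
  let qet : (yonK Scheme.etalePrecoverage S).obj U ⟶ Fet := ObjectProperty.homMk q₀
  let q'et : (yonK Scheme.etalePrecoverage S).obj U ⟶ F'et := ObjectProperty.homMk π'.hom
  haveI hepi1 : Epi qet := by
    apply epi_of_local_lift
    intro T y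
    obtain ⟨V, fstV, v, sqv, hve, hvs⟩ := key T y.hom
    refine ⟨_, Groth.Agent.Lib.Helper5.QuotShEt.generate_singleton_mem_J v, ?_⟩
    rintro T' φ ⟨W, ψ, _, ⟨⟩, rfl⟩
    refine ⟨(yonK Scheme.etalePrecoverage S).map ψ ≫ ObjectProperty.homMk fstV, ?_⟩
    ext1
    change ((pyon S).map ψ ≫ fstV) ≫ q₀ = (pyon S).map (ψ ≫ v) ≫ y.hom
    rw [Category.assoc, sqv.w, Functor.map_comp, Category.assoc]
  haveI hepi2 : Epi q'et := by
    apply epi_of_local_lift
    intro T y
    let ξ : (yon S).obj T ⟶ F' := ObjectProperty.homMk y.hom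
    have sqv := hπ'e.rep.isPullback ξ
    haveI : Etale (hπ'e.rep.snd ξ).left := hπ'e.property_snd ξ
    haveI : Surjective (hπ'e.rep.snd ξ).left := hπ's.property_snd ξ
    refine ⟨_, Groth.Agent.Lib.Helper5.QuotShEt.generate_singleton_mem_J (hπ'e.rep.snd ξ), ?_⟩
    rintro T' φ ⟨W, ψ, _, ⟨⟩, rfl⟩
    refine ⟨(yonK Scheme.etalePrecoverage S).map ψ ≫
      ObjectProperty.homMk (hπ'e.rep.fst ξ).hom, ?_⟩
    ext1
    change ((pyon S).map ψ ≫ (hπ'e.rep.fst ξ).hom) ≫ π'.hom =
      (pyon S).map (ψ ≫ hπ'e.rep.snd ξ) ≫ y.hom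
    have hw := congrArg (fun m => m.hom) sqv.w
    rw [Category.assoc, Functor.map_comp, Category.assoc]
    congr 1
  have w1 : (yonK Scheme.etalePrecoverage S).map s ≫ qet =
      (yonK Scheme.etalePrecoverage S).map t ≫ qet := by
    ext1
    exact sq.w
  have w2 : (yonK Scheme.etalePrecoverage S).map s ≫ q'et =
      (yonK Scheme.etalePrecoverage S).map t ≫ q'et := by
    ext1
    exact (congrArg (fun m => m.hom) hk'.w).symm
  have kp1 : IsPullback ((yonK Scheme.etalePrecoverage S).map t)
      ((yonK Scheme.etalePrecoverage S).map s) qet qet :=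
    IsPullback.of_map (sheafToPresheaf (QuotSh.J Scheme.etalePrecoverage S) (Type (u + 1)))
      w1.symm sq.flip
  have kp2 : IsPullback ((yonK Scheme.etalePrecoverage S).map t)
      ((yonK Scheme.etalePrecoverage S).map s) q'et q'et :=
    IsPullback.of_map (sheafToPresheaf (QuotSh.J Scheme.etalePrecoverage S) (Type (u + 1)))
      w2.symm (hk'.map (sheafToPresheaf (J S) (Type (u + 1))))
  haveI : Epi (pullback.lift ((yonK Scheme.etalePrecoverage S).map t)
      ((yonK Scheme.etalePrecoverage S).map s) w1.symm) := by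
    have : pullback.lift ((yonK Scheme.etalePrecoverage S).map t)
        ((yonK Scheme.etalePrecoverage S).map s) w1.symm = kp1.isoPullback.hom := by
      apply pullback.hom_ext
      · rw [pullback.lift_fst, IsPullback.isoPullback_hom_fst]
      · rw [pullback.lift_snd, IsPullback.isoPullback_hom_snd]
    rw [this]
    infer_instance
  haveI : Epi (pullback.lift ((yonK Scheme.etalePrecoverage S).map t)
      ((yonK Scheme.etalePrecoverage S).map s) w2.symm) := by
    have : pullback.lift ((yonK Scheme.etalePrecoverage S).map t)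
        ((yonK Scheme.etalePrecoverage S).map s) w2.symm = kp2.isoPullback.hom := by
      apply pullback.hom_ext
      · rw [pullback.lift_fst, IsPullback.isoPullback_hom_fst]
      · rw [pullback.lift_snd, IsPullback.isoPullback_hom_snd]
    rw [this]
    infer_instance
  let d1 : QuotSh.quot Scheme.etalePrecoverage s t ⟶ Fet :=
    (quotIsColimit Scheme.etalePrecoverage s t).desc (Cofork.ofπ qet w1)
  have hd1 : quotπ' Scheme.etalePrecoverage s t ≫ d1 = qet :=
    (quotIsColimit Scheme.etalePrecoverage s t).fac (Cofork.ofπ qet w1) WalkingParallelPair.one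
  let d2 : QuotSh.quot Scheme.etalePrecoverage s t ⟶ F'et :=
    (quotIsColimit Scheme.etalePrecoverage s t).desc (Cofork.ofπ q'et w2)
  have hd2 : quotπ' Scheme.etalePrecoverage s t ≫ d2 = q'et :=
    (quotIsColimit Scheme.etalePrecoverage s t).fac (Cofork.ofπ q'et w2) WalkingParallelPair.one
  haveI : IsIso d1 := isIso_desc_of_epi _ _ (quotπ' Scheme.etalePrecoverage s t)
    (quotπ'_condition Scheme.etalePrecoverage s t) qet w1 d1 hd1
  haveI : IsIso d2 := isIso_desc_of_epi _ _ (quotπ' Scheme.etalePrecoverage s t)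
    (quotπ'_condition Scheme.etalePrecoverage s t) q'et w2 d2 hd2
  let e : Fet ≅ F'et := (asIso d1).symm ≪≫ asIso d2
  let e' : F ≅ F'.obj :=
    (sheafToPresheaf (QuotSh.J Scheme.etalePrecoverage S) (Type (u + 1))).mapIso e
  exact ((isAlgSpaceP_obj_iff F').2 hF').of_iso e'.symm

end Groth.Agent.Lib.Helper23.SLQ
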