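import Groth.Agent.Lib.Helper23.AlgSpMor2

/-!
# Quasi-compact morphisms of algebraic spaces: compact opens (helper23)
-/

set_option autoImplicit false
universe u
open CategoryTheory CategoryTheory.Limits AlgebraicGeometry Opposite

namespace Groth.Agent.Lib.Helper23.AlgSpMor

open AlgSp Groth.Agent.Lib.Helper37.AlgSpPoints Groth.Agent.Lib.Helper12.AlgSpPoints

variable {S : Scheme.{u}}

theorem isQuasiCompactSp_yon (T : Over S) [CompactSpace ↥T.left] :
    IsQuasiCompactSp ((yon S).obj T) :=
  ⟨T, 𝟙 _, repWith_id _ T, repWith_id _ T, inferInstance⟩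

theorem map_ofScheme {F : Sp S} {T : Over S} (g : (yon S).obj T ⟶ F) (t : ↥T.left) :
    Points.map g (Points.ofScheme T t) = Points.ofPt g t :=
  (Points.ofPt_eq_map_ofScheme g t).symm

theorem range_map_yon {F : Sp S} {T : Over S} (g : (yon S).obj T ⟶ F) :
    Set.range (Points.map g) = Set.range (Points.ofPt g) := by
  ext x
  constructor
  · rintro ⟨y, rfl⟩
    obtain ⟨t, rfl⟩ := (Points.schemeEquiv T).surjective y
    exact ⟨t, (map_ofScheme g t).symm⟩
  · rintro ⟨t, rfl⟩
    exact ⟨Points.ofScheme T t, map_ofScheme g t⟩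

/-- A compact open subset of the points of an algebraic space is the image of an etale chart from a
quasi-compact scheme. -/
theorem exists_compact_chart_of_isCompact_isOpen {Y : Sp S} (hY : IsAlgSpace Y)
    (V : Set (Points Y)) (hV : IsOpen V) (hVc : IsCompact V) :
    ∃ (T : Over S) (g : (yon S).obj T ⟶ Y), CompactSpace ↥T.left ∧ RepWith @Etale g ∧
      Set.range (Points.ofPt g) = V := by
  obtain ⟨U, a, hae, has⟩ := hY.atlas
  have hsurj := ofPt_surjective a has
  let UV : U.left.Opens := ⟨Points.ofPt a ⁻¹' V, hV.preimage (Points.continuous_ofPt a)⟩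
  let aV : (yon S).obj (overOpens U UV) ⟶ Y := (yon S).map (overOpensι U UV) ≫ a
  have haV : RepWith @Etale aV :=
    (RepWith @Etale).comp_mem _ _ (repWith_etale_overOpensι U UV) hae
  have haVpt : ∀ x : ↥(overOpens U UV).left, Points.ofPt aV x = Points.ofPt a (UV.ι x) :=
    fun x => ofPt_overOpensι_comp U UV a x
  have hrange : V ⊆ Set.range (Points.ofPt aV) := by
    intro y hy
    obtain ⟨u, rfl⟩ := hsurj y
    exact ⟨⟨u, hy⟩, haVpt _⟩
  obtain ⟨U', hU'c, hU'⟩ := exists_compact_opens_of_isOpenMap (overOpens U UV).left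
    (Points.ofPt aV) (isOpenMap_ofPt aV haV) V hVc hrange
  refine ⟨overOpens (overOpens U UV) U', (yon S).map (overOpensι _ U') ≫ aV,
    isCompact_iff_compactSpace.mp hU'c,
    (RepWith @Etale).comp_mem _ _ (repWith_etale_overOpensι _ U') haV, ?_⟩
  apply Set.Subset.antisymm
  · rintro _ ⟨x, rfl⟩
    rw [ofPt_overOpensι_comp, haVpt]
    have : UV.ι (U'.ι x) ∈ Set.range UV.ι := ⟨_, rfl⟩
    rw [Scheme.Opens.range_ι] at this
    exact this
  · intro y hy
    obtain ⟨u, hu, rfl⟩ := hU' hy
    exact ⟨⟨u, hu⟩, ofPt_overOpensι_comp _ U' aV _⟩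

/-- For a quasi-compact morphism to an algebraic space, preimages of compact opens are compact. -/
theorem isCompact_preimage_of_isQuasiCompactMor {X Y : Sp S} (f : X ⟶ Y) (hY : IsAlgSpace Y)
    (hf : IsQuasiCompactMor f) (V : Set (Points Y)) (hV : IsOpen V) (hVc : IsCompact V) :
    IsCompact (Points.map f ⁻¹' V) := by
  obtain ⟨T, g, hT, -, hg⟩ := exists_compact_chart_of_isCompact_isOpen hY V hV hVc
  have sq : IsPullback (pullback.fst f g) (pullback.snd f g) f g := IsPullback.of_hasPullback f g
  have hqc : IsQuasiCompactSp (pullback f g) :=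
    hf (IsAlgSpace.yon_obj T) (isQuasiCompactSp_yon T) g _ _ sq
  have := compactSpace_points_of_isQuasiCompactSp hqc
  have himg : Points.map f ⁻¹' V = Set.range (Points.map (pullback.fst f g)) := by
    apply Set.Subset.antisymm
    · intro x hx
      have hx' : Points.map f x ∈ Set.range (Points.ofPt g) := by rw [hg]; exact hx
      rw [← range_map_yon] at hx'
      obtain ⟨z, hz⟩ := hx'
      obtain ⟨p, -, hp⟩ := points_exists_of_isPullback sq.flip z x hz
      exact ⟨p, hp⟩
    · rintro _ ⟨p, rfl⟩
      change Points.map f (Points.map (pullback.fst f g) p) ∈ V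
      rw [← Points.map_comp, sq.w, Points.map_comp, ← hg, ← range_map_yon]
      exact ⟨_, rfl⟩
  rw [himg, ← Set.image_univ]
  exact isCompact_univ.image (Points.continuous_map _)

end Groth.Agent.Lib.Helper23.AlgSpMor
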