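import Groth.Prelude.Def_Desc
import Groth.Prelude.Def_AlgSp

/-!
# The descent datum attached to a base change square of sheaves (helper23)

For `c : W ⟶ Z` a morphism of schemes over `S`, a sheaf `F` over `h_Z` and a scheme `V` over `W`
representing `F ×_{h_Z} h_W`, the scheme `V` carries a canonical descent datum relative to `c`:
two `T`-points of `V` correspond when they define the same `T`-point of `F`.
-/

set_option autoImplicit false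
universe u
open CategoryTheory CategoryTheory.Limits AlgebraicGeometry Opposite

namespace Groth.Agent.Lib.Helper23.AffDesc

open AlgSp

variable {S : Scheme.{u}} {Z W V : Over S} {F : Sp S} {c : W ⟶ Z} {π : F ⟶ (yon S).obj Z}
  {q : V ⟶ W} {v : (yon S).obj V ⟶ F}

/-- Two `T`-points of `V` define the same `T`-point of `F`. -/
def Rel (v : (yon S).obj V ⟶ F) {T : Scheme.{u}} (t₀ t₁ : T ⟶ V.left) : Prop :=
  ∃ (a : T ⟶ S) (h₀ : t₀ ≫ V.hom = a) (h₁ : t₁ ≫ V.hom = a),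
    (yon S).map (Over.homMk t₀ h₀ : Over.mk a ⟶ V) ≫ v =
      (yon S).map (Over.homMk t₁ h₁ : Over.mk a ⟶ V) ≫ v

theorem rel_refl (v : (yon S).obj V ⟶ F) {T : Scheme.{u}} (t : T ⟶ V.left) : Rel v t t :=
  ⟨t ≫ V.hom, rfl, rfl, rfl⟩

theorem rel_symm {T : Scheme.{u}} {t₀ t₁ : T ⟶ V.left} (h : Rel v t₀ t₁) : Rel v t₁ t₀ := by
  obtain ⟨a, h₀, h₁, e⟩ := h
  exact ⟨a, h₁, h₀, e.symm⟩

theorem rel_trans {T : Scheme.{u}} {t₀ t₁ t₂ : T ⟶ V.left} (h : Rel v t₀ t₁) (h' : Rel v t₁ t₂) :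
    Rel v t₀ t₂ := by
  obtain ⟨a, h₀, h₁, e⟩ := h
  obtain ⟨a', h₁', h₂, e'⟩ := h'
  obtain rfl : a = a' := h₁.symm.trans h₁'
  exact ⟨a, h₀, h₂, e.trans e'⟩

theorem rel_precomp {T T' : Scheme.{u}} (g : T' ⟶ T) {t₀ t₁ : T ⟶ V.left} (h : Rel v t₀ t₁) :
    Rel v (g ≫ t₀) (g ≫ t₁) := by
  obtain ⟨a, h₀, h₁, e⟩ := h
  refine ⟨g ≫ a, by rw [Category.assoc, h₀], by rw [Category.assoc, h₁], ?_⟩
  have e₀ : (Over.homMk (g ≫ t₀) (by rw [Category.assoc, h₀]; rfl) : Over.mk (g ≫ a) ⟶ V) =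
      (Over.homMk g rfl : Over.mk (g ≫ a) ⟶ Over.mk a) ≫ Over.homMk t₀ h₀ := by
    ext1; rfl
  have e₁ : (Over.homMk (g ≫ t₁) (by rw [Category.assoc, h₁]; rfl) : Over.mk (g ≫ a) ⟶ V) =
      (Over.homMk g rfl : Over.mk (g ≫ a) ⟶ Over.mk a) ≫ Over.homMk t₁ h₁ := by
    ext1; rfl
  rw [e₀, e₁, Functor.map_comp, Functor.map_comp, Category.assoc, Category.assoc, e]

/-- General form: two points over `S` with the same image in `F` are related. -/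
theorem rel_of_eq {T : Over S} (t₀ t₁ : T ⟶ V) (h : (yon S).map t₀ ≫ v = (yon S).map t₁ ≫ v) :
    Rel v t₀.left t₁.left := by
  refine ⟨T.hom, Over.w t₀, Over.w t₁, ?_⟩
  exact h

theorem rel_unique (sq : IsPullback v ((yon S).map q) π ((yon S).map c)) {T : Scheme.{u}}
    {t₀ t₁ t₁' : T ⟶ V.left} (h : Rel v t₀ t₁) (h' : Rel v t₀ t₁')
    (hq : t₁ ≫ q.left = t₁' ≫ q.left) : t₁ = t₁' := by
  obtain ⟨a, h₀, h₁, e⟩ := h
  obtain ⟨a', h₀', h₁', e'⟩ := h'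
  obtain rfl : a = a' := h₀.symm.trans h₀'
  have e2 : (yon S).map (Over.homMk t₁ h₁ : Over.mk a ⟶ V) =
      (yon S).map (Over.homMk t₁' h₁' : Over.mk a ⟶ V) := by
    apply sq.hom_ext
    · rw [← e, e']
    · rw [← Functor.map_comp, ← Functor.map_comp]
      congr 1
      ext1
      exact hq
  have e3 := (yon S).map_injective e2
  exact congrArg CommaMorphism.left e3

theorem rel_exists (sq : IsPullback v ((yon S).map q) π ((yon S).map c)) {T : Scheme.{u}}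
    (t₀ : T ⟶ V.left) (x₁ : T ⟶ W.left) (h : (t₀ ≫ q.left) ≫ c.left = x₁ ≫ c.left) :
    ∃ t₁ : T ⟶ V.left, t₁ ≫ q.left = x₁ ∧ Rel v t₀ t₁ := by
  have hx₁ : x₁ ≫ W.hom = t₀ ≫ V.hom := by
    rw [← Over.w c, ← Category.assoc, ← h, Category.assoc, Category.assoc, Over.w c, Over.w q]
  let T' : Over S := Over.mk (t₀ ≫ V.hom)
  let t₀' : T' ⟶ V := Over.homMk t₀ rfl
  let x₁' : T' ⟶ W := Over.homMk x₁ hx₁
  have hc : ((yon S).map t₀' ≫ v) ≫ π = (yon S).map x₁' ≫ (yon S).map c := by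
    rw [Category.assoc, sq.w, ← Functor.map_comp, ← Functor.map_comp, ← Functor.map_comp]
    congr 1
    ext1
    exact (Category.assoc _ _ _).symm.trans h
  obtain ⟨t₁', ht₁'⟩ := (yon S).map_surjective (sq.lift _ _ hc)
  have h1 : (yon S).map t₁' ≫ v = (yon S).map t₀' ≫ v := by rw [ht₁', sq.lift_fst]
  have h2 : t₁' ≫ q = x₁' := by
    apply (yon S).map_injective
    rw [Functor.map_comp, ht₁', sq.lift_snd]
  refine ⟨t₁'.left, ?_, ?_⟩
  · exact congrArg CommaMorphism.left h2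
  · exact rel_of_eq t₀' t₁' h1.symm

section DD

variable (sq : IsPullback v ((yon S).map q) π ((yon S).map c))

theorem ddMap_aux {T : Scheme.{u}} (x₀ x₁ : T ⟶ W.left) (h : x₀ ≫ c.left = x₁ ≫ c.left)
    (t : Desc.Lifts (Over.mk q.left) x₀) : (t.1 ≫ q.left) ≫ c.left = x₁ ≫ c.left := by
  rw [show t.1 ≫ q.left = x₀ from t.2]
  exact h

/-- Transport of a point of `V` over `x₀` to the point over `x₁` with the same image in `F`. -/
noncomputable def ddMap {T : Scheme.{u}} (x₀ x₁ : T ⟶ W.left) (h : x₀ ≫ c.left = x₁ ≫ c.left)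
    (t : Desc.Lifts (Over.mk q.left) x₀) : Desc.Lifts (Over.mk q.left) x₁ :=
  ⟨(rel_exists sq t.1 x₁ (ddMap_aux x₀ x₁ h t)).choose,
    (rel_exists sq t.1 x₁ (ddMap_aux x₀ x₁ h t)).choose_spec.1⟩

theorem ddMap_rel {T : Scheme.{u}} (x₀ x₁ : T ⟶ W.left) (h : x₀ ≫ c.left = x₁ ≫ c.left)
    (t : Desc.Lifts (Over.mk q.left) x₀) : Rel v t.1 (ddMap sq x₀ x₁ h t).1 :=
  (rel_exists sq t.1 x₁ (ddMap_aux x₀ x₁ h t)).choose_spec.2

theorem ddMap_eq_of_rel {T : Scheme.{u}} (x₀ x₁ : T ⟶ W.left) (h : x₀ ≫ c.left = x₁ ≫ c.left)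
    (t : Desc.Lifts (Over.mk q.left) x₀) (t₁ : Desc.Lifts (Over.mk q.left) x₁)
    (hr : Rel v t.1 t₁.1) : ddMap sq x₀ x₁ h t = t₁ := by
  apply Subtype.ext
  refine rel_unique sq (ddMap_rel sq x₀ x₁ h t) hr ?_
  rw [show (ddMap sq x₀ x₁ h t).1 ≫ q.left = x₁ from (ddMap sq x₀ x₁ h t).2,
    show t₁.1 ≫ q.left = x₁ from t₁.2]

/-- The descent datum on `V` relative to `c`. -/
noncomputable def dd : Desc.SchDD c.left where
  obj := Over.mk q.left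
  φ T x₀ x₁ h :=
    { toFun := ddMap sq x₀ x₁ h
      invFun := ddMap sq x₁ x₀ h.symm
      left_inv := fun t => ddMap_eq_of_rel sq _ _ _ _ _ (rel_symm (ddMap_rel sq x₀ x₁ h t))
      right_inv := fun t => ddMap_eq_of_rel sq _ _ _ _ _ (rel_symm (ddMap_rel sq x₁ x₀ h.symm t)) }
  φ_natural T T' g x₀ x₁ h h' t t' ht' := by
    have key := ddMap_eq_of_rel sq (g ≫ x₀) (g ≫ x₁) h' t'
      ⟨g ≫ (ddMap sq x₀ x₁ h t).1, by
        rw [Category.assoc, (ddMap sq x₀ x₁ h t).2]⟩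
      (by
        show Rel v t'.1 (g ≫ (ddMap sq x₀ x₁ h t).1)
        rw [ht']
        exact rel_precomp g (ddMap_rel sq x₀ x₁ h t))
    exact congrArg Subtype.val key
  φ_self T x t := ddMap_eq_of_rel sq x x rfl t t (rel_refl v t.1)
  φ_comp T x₀ x₁ x₂ h₀₁ h₁₂ t :=
    ddMap_eq_of_rel sq x₁ x₂ h₁₂ _ _
      (rel_trans (rel_symm (ddMap_rel sq x₀ x₁ h₀₁ t)) (ddMap_rel sq x₀ x₂ (h₀₁.trans h₁₂) t))

@[simp] theorem dd_obj : (dd sq).obj = Over.mk q.left := rfl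

theorem dd_φ_eq_of_rel {T : Scheme.{u}} (x₀ x₁ : T ⟶ W.left) (h : x₀ ≫ c.left = x₁ ≫ c.left)
    (t : Desc.Lifts (dd sq).obj x₀) (t₁ : Desc.Lifts (dd sq).obj x₁)
    (hr : Rel v t.1 t₁.1) : (dd sq).φ x₀ x₁ h t = t₁ :=
  ddMap_eq_of_rel sq x₀ x₁ h t t₁ hr

end DD

end Groth.Agent.Lib.Helper23.AffDesc
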