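import Groth.Agent.Lib.Helper23.AffDescMain
import Groth.Agent.Lib.Helper5.YonCoprod
import Groth.Agent.Lib.Helper5.SheafVK
import Groth.Agent.S1133

/-!
# Representability of algebraic spaces that are affine over a base fpqc locally (helper23)
-/

set_option autoImplicit false
universe u
open CategoryTheory CategoryTheory.Limits AlgebraicGeometry Opposite

namespace Groth.Agent.Lib.Helper23.AffDesc

open AlgSp Groth.Agent.Lib.Helper5

variable {S : Scheme.{u}}

/-- If `F ×_{h_Z} h_W` is a scheme `V` with `V ⟶ W` having an affine property `P` that descends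
along fpqc morphisms, then `F` is a scheme `V₀` with `V₀ ⟶ Z` having `P`. -/
theorem exists_rep_of_single (P : MorphismProperty Scheme.{u})
    [P.DescendsAlong (@Surjective ⊓ @Flat ⊓ @QuasiCompact : MorphismProperty Scheme.{u})]
    (hP : P ≤ @IsAffineHom) {Z W V : Over S} {F : Sp S} {c : W ⟶ Z} {π : F ⟶ (yon S).obj Z}
    {q : V ⟶ W} {v : (yon S).obj V ⟶ F} (sq : IsPullback v ((yon S).map q) π ((yon S).map c))
    (hF : IsAlgSpace F) [Flat c.left] [Surjective c.left] [IsAffineHom c.left] (hq : P q.left) :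
    ∃ (V₀ : Over S) (q₀ : V₀ ⟶ Z) (e : (yon S).obj V₀ ≅ F),
      e.hom ≫ π = (yon S).map q₀ ∧ P q₀.left := by
  haveI : IsAffineHom (dd sq).obj.hom := hP _ hq
  obtain ⟨U, ⟨θ⟩⟩ := Groth.Agent.S1133.result c.left (dd sq)
  obtain ⟨e, he⟩ := exists_iso_of_effective sq U θ hF
  obtain ⟨k, hk⟩ := (yon S).map_surjective (v ≫ e.inv)
  refine ⟨_, _, e, he, ?_⟩
  have h1 : IsPullback ((yon S).map k) ((yon S).map q)
      ((yon S).map (Over.homMk U.hom rfl : Over.mk (U.hom ≫ Z.hom) ⟶ Z)) ((yon S).map c) := by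
    rw [hk, ← he]
    exact IsPullback.of_iso sq (Iso.refl _) e.symm (Iso.refl _) (Iso.refl _) (by simp) (by simp)
      (by simp) (by simp)
  have h2 : IsPullback k q (Over.homMk U.hom rfl : Over.mk (U.hom ≫ Z.hom) ⟶ Z) c :=
    IsPullback.of_map (yon S) ((yon S).map_injective (by
      rw [Functor.map_comp, Functor.map_comp]; exact h1.w)) h1
  have h3 : IsPullback q.left k.left c.left U.hom := (h2.map (Over.forget S)).flip
  exact MorphismProperty.of_isPullback_of_descendsAlong (P := P)
    (Q := (@Surjective ⊓ @Flat ⊓ @QuasiCompact : MorphismProperty Scheme.{u})) h3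
    ⟨⟨‹Surjective c.left›, ‹Flat c.left›⟩, (inferInstance : QuasiCompact c.left)⟩ hq

/-- A morphism of disjoint unions of schemes over `S` whose components have a property that is
Zariski local on the target has that property. -/
theorem prop_of_sigmaOver (P : MorphismProperty Scheme.{u}) [IsZariskiLocalAtTarget P]
    {ι : Type} [Small.{u} ι] (Wi Ui : ι → Over S) (ga : sigmaOver Wi ⟶ sigmaOver Ui)
    (gai : ∀ i, Wi i ⟶ Ui i) (h : ∀ i, sigmaOverι Wi i ≫ ga = gai i ≫ sigmaOverι Ui i)
    (hq : ∀ i, P (gai i).left) : P ga.left := by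
  have : P.RespectsIso := inferInstance
  let c : Cofan (fun i => (yon S).obj (Ui i)) :=
    Cofan.mk ((yon S).obj (sigmaOver Ui)) fun i => (yon S).map (sigmaOverι Ui i)
  have hc : IsColimit c := isColimitYonSigmaOver Ui
  let c' : Cofan (fun i => (yon S).obj (Wi i)) :=
    Cofan.mk ((yon S).obj (sigmaOver Wi)) fun i => (yon S).map (sigmaOverι Wi i)
  have hc' : IsColimit c' := isColimitYonSigmaOver Wi
  have sqY : ∀ i, IsPullback (c'.inj i) ((yon S).map (gai i)) ((yon S).map ga) (c.inj i) :=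
    (cofan_sheaf_vanKampen (J S) c hc c' (fun i => (yon S).map (gai i)) ((yon S).map ga)
      (fun i => by
        change (yon S).map (gai i) ≫ (yon S).map (sigmaOverι Ui i) =
          (yon S).map (sigmaOverι Wi i) ≫ (yon S).map ga
        rw [← Functor.map_comp, ← Functor.map_comp, h i])).mp ⟨hc'⟩
  have sqO : ∀ i, IsPullback (sigmaOverι Wi i) (gai i) ga (sigmaOverι Ui i) :=
    fun i => IsPullback.of_map (yon S) (h i) (sqY i)
  have sqS : ∀ i, IsPullback (Sigma.ι (fun i => (Wi i).left) i) (gai i).left ga.left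
      (Sigma.ι (fun i => (Ui i).left) i) := fun i => (sqO i).map (Over.forget S)
  apply IsZariskiLocalAtTarget.of_openCover (P := P) (sigmaOpenCover fun i => (Ui i).left)
  intro i
  have e : pullback.snd ga.left (Sigma.ι (fun i => (Ui i).left) i) =
      (sqS i).isoPullback.inv ≫ (gai i).left :=
    (Iso.eq_inv_comp _).mpr (sqS i).isoPullback_hom_snd
  change P (pullback.snd ga.left (Sigma.ι (fun i => (Ui i).left) i))
  rw [e]
  exact (MorphismProperty.cancel_left_of_respectsIso P _ _).mpr (hq i)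

/-- Family version: a standard fpqc covering of an affine scheme. -/
theorem exists_rep_of_family (P : MorphismProperty Scheme.{u})
    [IsZariskiLocalAtTarget P]
    [P.DescendsAlong (@Surjective ⊓ @Flat ⊓ @QuasiCompact : MorphismProperty Scheme.{u})]
    (hP : P ≤ @IsAffineHom) {Z : Over S} [IsAffine Z.left] {F : Sp S} (hF : IsAlgSpace F)
    (π : F ⟶ (yon S).obj Z) {m : ℕ} (Wj : Fin m → Over S) (cj : ∀ j, Wj j ⟶ Z)
    (hWa : ∀ j, IsAffine (Wj j).left) (hcf : ∀ j, Flat (cj j).left)
    (hcs : ∀ z : ↥Z.left, ∃ j, z ∈ Set.range (cj j).left)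
    (Vj : Fin m → Over S) (qj : ∀ j, Vj j ⟶ Wj j) (vj : ∀ j, (yon S).obj (Vj j) ⟶ F)
    (sqj : ∀ j, IsPullback (vj j) ((yon S).map (qj j)) π ((yon S).map (cj j)))
    (hq : ∀ j, P (qj j).left) :
    ∃ (V₀ : Over S) (q₀ : V₀ ⟶ Z) (e : (yon S).obj V₀ ≅ F),
      e.hom ≫ π = (yon S).map q₀ ∧ P q₀.left := by
  let c : sigmaOver Wj ⟶ Z := Over.homMk (Sigma.desc fun j => (cj j).left) (by
    apply Sigma.hom_ext
    intro j
    change Sigma.ι _ j ≫ Sigma.desc _ ≫ Z.hom = Sigma.ι _ j ≫ Sigma.desc _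
    rw [Sigma.ι_desc_assoc, Sigma.ι_desc]
    exact Over.w (cj j))
  have hcι : ∀ j, sigmaOverι Wj j ≫ c = cj j := by
    intro j
    ext1
    exact Sigma.ι_desc _ _
  haveI : Flat c.left := IsZariskiLocalAtSource.sigmaDesc (P := @Flat) hcf
  haveI : Surjective c.left := by
    apply Surjective.sigmaDesc_of_union_range_eq_univ
    rw [Set.eq_univ_iff_forall]
    intro z
    obtain ⟨j, hj⟩ := hcs z
    exact Set.mem_iUnion.2 ⟨j, hj⟩
  haveI : ∀ j, IsAffine (Wj j).left := hWa
  haveI : IsAffine (sigmaOver Wj).left := (inferInstance : IsAffine (∐ fun j => (Wj j).left))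
  haveI : IsAffineHom c.left := inferInstance
  let q : sigmaOver Vj ⟶ sigmaOver Wj := Over.homMk (Limits.Sigma.map fun j => (qj j).left) (by
    apply Sigma.hom_ext
    intro j
    change Sigma.ι _ j ≫ Limits.Sigma.map _ ≫ Sigma.desc _ = Sigma.ι _ j ≫ Sigma.desc _
    rw [Limits.Sigma.ι_map_assoc, Sigma.ι_desc, Sigma.ι_desc]
    exact Over.w (qj j))
  have hqι : ∀ j, sigmaOverι Vj j ≫ q = qj j ≫ sigmaOverι Wj j := by
    intro j
    ext1
    exact Limits.Sigma.ι_map (fun j => (qj j).left) j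
  have hPq : P q.left := prop_of_sigmaOver P Vj Wj q qj hqι hq
  let cV : Cofan (fun j => (yon S).obj (Vj j)) :=
    Cofan.mk ((yon S).obj (sigmaOver Vj)) fun j => (yon S).map (sigmaOverι Vj j)
  have hcV : IsColimit cV := isColimitYonSigmaOver Vj
  let cW : Cofan (fun j => (yon S).obj (Wj j)) :=
    Cofan.mk ((yon S).obj (sigmaOver Wj)) fun j => (yon S).map (sigmaOverι Wj j)
  have hcW : IsColimit cW := isColimitYonSigmaOver Wj
  obtain ⟨v, hv⟩ : ∃ v : (yon S).obj (sigmaOver Vj) ⟶ F,
      ∀ j, (yon S).map (sigmaOverι Vj j) ≫ v = vj j :=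
    ⟨Cofan.IsColimit.desc hcV vj, fun j => Cofan.IsColimit.fac hcV vj j⟩
  have hcomm : v ≫ π = (yon S).map q ≫ (yon S).map c := by
    apply Cofan.IsColimit.hom_ext hcV
    intro j
    change (yon S).map (sigmaOverι Vj j) ≫ v ≫ π =
      (yon S).map (sigmaOverι Vj j) ≫ (yon S).map q ≫ (yon S).map c
    have e1 : (yon S).map (sigmaOverι Vj j) ≫ (yon S).map q =
        (yon S).map (qj j) ≫ (yon S).map (sigmaOverι Wj j) := by
      rw [← Functor.map_comp, hqι, Functor.map_comp]
    have e2 : (yon S).map (sigmaOverι Wj j) ≫ (yon S).map c = (yon S).map (cj j) := by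
      rw [← Functor.map_comp, hcι]
    rw [← Category.assoc, hv, (sqj j).w, ← Category.assoc, e1, Category.assoc, e2]
  let inj : ∀ j, (yon S).obj (Vj j) ⟶ pullback π ((yon S).map c) := fun j =>
    pullback.lift (vj j) ((yon S).map (qj j) ≫ (yon S).map (sigmaOverι Wj j)) (by
      rw [(sqj j).w, Category.assoc]
      congr 1
      rw [← Functor.map_comp, hcι])
  have sqi : ∀ j, IsPullback (inj j) ((yon S).map (qj j)) (pullback.snd π ((yon S).map c))
      ((yon S).map (sigmaOverι Wj j)) := by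
    intro j
    have t : IsPullback (inj j ≫ pullback.fst π ((yon S).map c)) ((yon S).map (qj j)) π
        ((yon S).map (sigmaOverι Wj j) ≫ (yon S).map c) := by
      rw [pullback.lift_fst, ← Functor.map_comp, hcι]
      exact sqj j
    exact IsPullback.of_right t (pullback.lift_snd _ _ _) (IsPullback.of_hasPullback π _)
  let c' : Cofan (fun j => (yon S).obj (Vj j)) := Cofan.mk (pullback π ((yon S).map c)) inj
  have hc' : IsColimit c' :=
    ((cofan_sheaf_vanKampen (J S) cW hcW c' (fun j => (yon S).map (qj j))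
      (pullback.snd π ((yon S).map c)) (fun j => (pullback.lift_snd _ _ _).symm)).mpr sqi).some
  let κ : (yon S).obj (sigmaOver Vj) ⟶ pullback π ((yon S).map c) :=
    pullback.lift v ((yon S).map q) hcomm
  have hκ : κ = (hcV.coconePointUniqueUpToIso hc').hom := by
    apply Cofan.IsColimit.hom_ext hcV
    intro j
    have e1 : cV.inj j ≫ (hcV.coconePointUniqueUpToIso hc').hom = c'.inj j :=
      IsColimit.comp_coconePointUniqueUpToIso_hom hcV hc' ⟨j⟩
    rw [e1]
    apply pullback.hom_ext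
    · change ((yon S).map (sigmaOverι Vj j) ≫ κ) ≫ pullback.fst _ _ = inj j ≫ pullback.fst _ _
      rw [Category.assoc, pullback.lift_fst, pullback.lift_fst, hv]
    · change ((yon S).map (sigmaOverι Vj j) ≫ κ) ≫ pullback.snd _ _ = inj j ≫ pullback.snd _ _
      rw [Category.assoc, pullback.lift_snd, pullback.lift_snd, ← Functor.map_comp, hqι,
        Functor.map_comp]
  have hκiso : IsIso κ := by
    rw [hκ]
    infer_instance
  have sq : IsPullback v ((yon S).map q) π ((yon S).map c) :=
    IsPullback.of_iso_pullback ⟨hcomm⟩ (asIso κ) (pullback.lift_fst _ _ _)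
      (pullback.lift_snd _ _ _)
  exact exists_rep_of_single P hP sq hF hPq

end Groth.Agent.Lib.Helper23.AffDesc
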