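import Groth.Agent.Lib.Helper23.AffDescFam
import Groth.Agent.Lib.Helper17.SchLocalProps

/-!
# Affine-type properties of morphisms of algebraic spaces are fpqc local on the base (helper23)
-/

set_option autoImplicit false
universe u
open CategoryTheory CategoryTheory.Limits AlgebraicGeometry Opposite

namespace Groth.Agent.Lib.Helper23.AffDesc

open AlgSp Groth.Agent.Lib.Helper5 Groth.Agent.Lib.Helper23.AlgSpMor

variable {S : Scheme.{u}}

/-- The affine-test form of fpqc descent for a property `P` of affine morphisms of schemes. -/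
theorem exists_isPullback_of_fpqc (P : MorphismProperty Scheme.{u}) [IsZariskiLocalAtTarget P]
    [P.DescendsAlong (@Surjective ⊓ @Flat ⊓ @QuasiCompact : MorphismProperty Scheme.{u})]
    (hP : P ≤ @IsAffineHom) {ι : Type u} {Y : Sp S} (Yi : ι → Sp S) (g : ∀ i, Yi i ⟶ Y)
    (hY : IsAlgSpace Y) (hcov : IsFpqcCover Yi g) {X : Sp S} (f : X ⟶ Y) (hX : IsAlgSpace X)
    (Xi : ι → Sp S) (p : ∀ i, Xi i ⟶ Yi i) (q : ∀ i, Xi i ⟶ X)
    (hsq : ∀ i, IsPullback (q i) (p i) f (g i))
    (hp : ∀ i, ∀ ⦃Z' : Over S⦄, IsAffine Z'.left → ∀ (g' : (yon S).obj Z' ⟶ Yi i),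
      ∃ (W' : Over S) (i' : W' ⟶ Z') (fst' : (yon S).obj W' ⟶ Xi i),
        IsPullback fst' ((yon S).map i') (p i) g' ∧ P i'.left)
    {Z : Over S} (hZ : IsAffine Z.left) (gZ : (yon S).obj Z ⟶ Y) :
    ∃ (W : Over S) (i : W ⟶ Z) (fst : (yon S).obj W ⟶ X),
      IsPullback fst ((yon S).map i) f gZ ∧ P i.left := by
  obtain ⟨m, Wj, cj, hWa, hcf, hcs, hl⟩ := hcov.2 Z hZ gZ
  choose ij lj hlj using hl
  choose Vj qj fstj sqj' hPj using fun j => hp (ij j) (hWa j) (lj j)
  have hF : IsAlgSpace (pullback f gZ) :=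
    isAlgSpace_of_isPullback hX (IsAlgSpace.yon_obj Z) hY.diag (IsPullback.of_hasPullback f gZ)
  have hbig : ∀ j, IsPullback (fstj j ≫ q (ij j)) ((yon S).map (qj j)) f
      ((yon S).map (cj j) ≫ gZ) := by
    intro j
    rw [← hlj j]
    exact (sqj' j).paste_horiz (hsq (ij j))
  let vj : ∀ j, (yon S).obj (Vj j) ⟶ pullback f gZ := fun j =>
    pullback.lift (fstj j ≫ q (ij j)) ((yon S).map (qj j) ≫ (yon S).map (cj j)) (by
      rw [(hbig j).w, Category.assoc])
  have sqj : ∀ j, IsPullback (vj j) ((yon S).map (qj j)) (pullback.snd f gZ)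
      ((yon S).map (cj j)) := by
    intro j
    have t : IsPullback (vj j ≫ pullback.fst f gZ) ((yon S).map (qj j)) f
        ((yon S).map (cj j) ≫ gZ) := by
      rw [pullback.lift_fst]
      exact hbig j
    exact IsPullback.of_right t (pullback.lift_snd _ _ _) (IsPullback.of_hasPullback f gZ)
  haveI := hZ
  obtain ⟨V₀, q₀, e, he, hP₀⟩ :=
    exists_rep_of_family P hP hF (pullback.snd f gZ) Wj cj hWa hcf hcs Vj qj vj sqj hPj
  refine ⟨V₀, q₀, e.hom ≫ pullback.fst f gZ, ?_, hP₀⟩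
  exact IsPullback.of_iso_pullback ⟨by
    rw [Category.assoc, pullback.condition, ← Category.assoc, he]⟩ e rfl he

end Groth.Agent.Lib.Helper23.AffDesc
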