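import Groth.Agent.Lib.Helper23.AlgSpDvr3
import Groth.Agent.S9885
import Mathlib.CategoryTheory.Sites.RegularEpi

/-!
# Descent of morphisms to a sheaf along an fppf cover of schemes; agreement on a dense part (helper23)
-/

set_option autoImplicit false
universe u
open CategoryTheory CategoryTheory.Limits AlgebraicGeometry Opposite

namespace Groth.Agent.Lib.Helper23.AlgSpMor

open AlgSp Groth.Agent.Lib.Helper37.AlgSpPoints Groth.Agent.Lib.Helper12.AlgSpPoints

variable {S : Scheme.{u}}

/-- A flat, locally finitely presented, surjective morphism of schemes gives an epimorphism of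
sheaves. -/
theorem epi_yon_map_of_fppf {T' T : Over S} (c : T' ⟶ T) (h1 : Flat c.left)
    (h2 : LocallyOfFinitePresentation c.left) (h3 : Surjective c.left) :
    Epi ((yon S).map c) := by
  have : Sheaf.IsLocallySurjective ((yon S).map c) :=
    Groth.Agent.S9885.result S _ _ ((yon S).map c)
      ((repWith_yon_map_iff @Flat c).2 h1)
      ((repWith_yon_map_iff @LocallyOfFinitePresentation c).2 h2)
      ((repWith_yon_map_iff @Surjective c).2 h3)
  infer_instance

/-- Descent of a morphism to a sheaf along an fppf cover of schemes. -/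
theorem exists_desc_of_fppf {T' T R : Over S} (c : T' ⟶ T) (h1 : Flat c.left)
    (h2 : LocallyOfFinitePresentation c.left) (h3 : Surjective c.left) {F : Sp S}
    (l' : (yon S).obj T' ⟶ F) (p₁ p₂ : R ⟶ T') (hR : IsPullback p₁ p₂ c c)
    (heq : (yon S).map p₁ ≫ l' = (yon S).map p₂ ≫ l') :
    ∃ l : (yon S).obj T ⟶ F, (yon S).map c ≫ l = l' := by
  have hepi : Epi ((yon S).map c) := epi_yon_map_of_fppf c h1 h2 h3
  have hreg : IsRegularEpi ((yon S).map c) := IsRegularEpiCategory.regularEpiOfEpi _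
  have heff : EffectiveEpi ((yon S).map c) := (isRegularEpi_iff_effectiveEpi _).1 hreg
  have hRy : IsPullback ((yon S).map p₁) ((yon S).map p₂) ((yon S).map c) ((yon S).map c) :=
    hR.map (yon S)
  have key : ∀ {Z : Sp S} (g₁ g₂ : Z ⟶ (yon S).obj T'),
      g₁ ≫ (yon S).map c = g₂ ≫ (yon S).map c → g₁ ≫ l' = g₂ ≫ l' := by
    intro Z g₁ g₂ hg
    have e1 : g₁ = hRy.lift g₁ g₂ hg ≫ (yon S).map p₁ := (hRy.lift_fst _ _ _).symm
    have e2 : g₂ = hRy.lift g₁ g₂ hg ≫ (yon S).map p₂ := (hRy.lift_snd _ _ _).symm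
    rw [e1, Category.assoc, heq, ← Category.assoc, ← e2]
  exact ⟨EffectiveEpi.desc ((yon S).map c) l' key, EffectiveEpi.fac _ _ key⟩

/-- Two morphisms from an affine scheme to `P` over a separated `s : P ⟶ B` that agree after
restriction along a morphism `d` inducing an injection on global sections are equal. -/
theorem eq_of_separated_of_injective_appTop {P B : Sp S} (s : P ⟶ B)
    (hs : RepWith @IsClosedImmersion (pullback.diagonal s)) {W D : Over S} [IsAffine W.left]
    (d : D ⟶ W) (hd : Function.Injective d.left.appTop) (v₁ v₂ : (yon S).obj W ⟶ P)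
    (hv : v₁ ≫ s = v₂ ≫ s) (hdv : (yon S).map d ≫ v₁ = (yon S).map d ≫ v₂) : v₁ = v₂ := by
  let m : (yon S).obj W ⟶ pullback s s := pullback.lift v₁ v₂ hv
  have psq := hs.rep.isPullback m
  have hci : IsClosedImmersion (hs.rep.snd m).left := hs.property_snd m
  have hfac : ((yon S).map d ≫ v₁) ≫ pullback.diagonal s = (yon S).map d ≫ m := by
    apply pullback.hom_ext
    · simp only [Category.assoc, pullback.diagonal_fst, Category.comp_id, m, pullback.lift_fst]
    · simp only [Category.assoc, pullback.diagonal_snd, Category.comp_id, m, pullback.lift_snd, hdv]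
  obtain ⟨k, hk⟩ := (yon S).map_surjective (psq.lift ((yon S).map d ≫ v₁) ((yon S).map d) hfac)
  have hk2 : k ≫ hs.rep.snd m = d :=
    (yon S).map_injective (by rw [Functor.map_comp, hk, psq.lift_snd])
  have hk3 : k.left ≫ (hs.rep.snd m).left = d.left := by
    rw [← Over.comp_left, hk2]
  have hinj : Function.Injective (hs.rep.snd m).left.appTop := by
    have h1 : d.left.appTop = (hs.rep.snd m).left.appTop ≫ k.left.appTop := by
      rw [← hk3, Scheme.Hom.comp_appTop]
    rw [h1] at hd
    intro x y hxy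
    apply hd
    simp only [CommRingCat.hom_comp, RingHom.coe_comp, Function.comp_apply]
    rw [hxy]
  have hiso : IsIso (hs.rep.snd m).left :=
    IsClosedImmersion.isIso_of_injective_of_isAffine hinj
  have hiso' : IsIso (hs.rep.snd m) := by
    have : IsIso ((Over.forget S).map (hs.rep.snd m)) := hiso
    exact isIso_of_reflects_iso _ (Over.forget S)
  have e1 : hs.rep.fst m = (yon S).map (hs.rep.snd m) ≫ v₁ := by
    have := psq.w =≫ pullback.fst _ _
    simpa only [Category.assoc, pullback.diagonal_fst, Category.comp_id, m, pullback.lift_fst]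
      using this
  have e2 : hs.rep.fst m = (yon S).map (hs.rep.snd m) ≫ v₂ := by
    have := psq.w =≫ pullback.snd _ _
    simpa only [Category.assoc, pullback.diagonal_snd, Category.comp_id, m, pullback.lift_snd]
      using this
  exact (cancel_epi ((yon S).map (hs.rep.snd m))).1 (e1.symm.trans e2)

/-- A section of a separated `s : P ⟶ h_B` from a morphism `lT` defined on an fppf cover `τ : T ⟶ B`
whose two pullbacks to `T ×_B T` agree on a part `D` inducing an injection on global sections. -/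
theorem exists_section_of_fppf_cover {B : Over S} {P : Sp S} (s : P ⟶ (yon S).obj B)
    (hs : RepWith @IsClosedImmersion (pullback.diagonal s))
    {T RT D : Scheme.{u}} (τ : T ⟶ B.left) (h1 : Flat τ) (h2 : LocallyOfFinitePresentation τ)
    (h3 : Surjective τ) (p₁ p₂ : RT ⟶ T) (hpb : IsPullback p₁ p₂ τ τ) [IsAffine RT]
    (d : D ⟶ RT) (hd : Function.Injective d.appTop)
    (lT : (yon S).obj (bcBase (U := B) τ) ⟶ P)
    (hlT : lT ≫ s = (yon S).map (bcBaseι (U := B) τ))
    (hagree : (yon S).map (Over.homMk (d ≫ p₁) rfl :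
        Over.mk ((d ≫ p₁) ≫ τ ≫ B.hom) ⟶ bcBase (U := B) τ) ≫ lT =
      (yon S).map (Over.homMk (d ≫ p₂) (by
        change (d ≫ p₂) ≫ τ ≫ B.hom = (d ≫ p₁) ≫ τ ≫ B.hom
        rw [Category.assoc, Category.assoc, ← Category.assoc p₂, ← hpb.w, Category.assoc]) :
        Over.mk ((d ≫ p₁) ≫ τ ≫ B.hom) ⟶ bcBase (U := B) τ) ≫ lT) :
    ∃ σ : (yon S).obj B ⟶ P, (yon S).map (bcBaseι (U := B) τ) ≫ σ = lT ∧ σ ≫ s = 𝟙 _ := by
  let To : Over S := bcBase (U := B) τ
  let cT : To ⟶ B := bcBaseι (U := B) τ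
  let RTo : Over S := Over.mk (p₁ ≫ τ ≫ B.hom)
  let P₁ : RTo ⟶ To := Over.homMk p₁ rfl
  let P₂ : RTo ⟶ To := Over.homMk p₂ (by
    change p₂ ≫ τ ≫ B.hom = p₁ ≫ τ ≫ B.hom
    rw [← Category.assoc, ← hpb.w, Category.assoc])
  have hR : IsPullback P₁ P₂ cT cT :=
    IsPullback.of_map (Over.forget S) (Over.OverMorphism.ext hpb.w) hpb
  let Do : Over S := Over.mk ((d ≫ p₁) ≫ τ ≫ B.hom)
  let dO : Do ⟶ RTo := Over.homMk d (by
    change d ≫ p₁ ≫ τ ≫ B.hom = (d ≫ p₁) ≫ τ ≫ B.hom
    rw [Category.assoc])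
  have hRTaff : IsAffine RTo.left := ‹IsAffine RT›
  have hv : ((yon S).map P₁ ≫ lT) ≫ s = ((yon S).map P₂ ≫ lT) ≫ s := by
    rw [Category.assoc, Category.assoc, hlT, ← Functor.map_comp, ← Functor.map_comp, hR.w]
  have hdv : (yon S).map dO ≫ (yon S).map P₁ ≫ lT = (yon S).map dO ≫ (yon S).map P₂ ≫ lT := by
    rw [← Category.assoc, ← Category.assoc, ← Functor.map_comp, ← Functor.map_comp]
    exact hagree
  have hveq : (yon S).map P₁ ≫ lT = (yon S).map P₂ ≫ lT :=
    eq_of_separated_of_injective_appTop s hs dO hd _ _ hv hdv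
  obtain ⟨σ, hσ⟩ := exists_desc_of_fppf cT h1 h2 h3 lT P₁ P₂ hR hveq
  refine ⟨σ, hσ, ?_⟩
  have hepi : Epi ((yon S).map cT) := epi_yon_map_of_fppf cT h1 h2 h3
  rw [← cancel_epi ((yon S).map cT), ← Category.assoc, hσ, hlT, Category.comp_id]

end Groth.Agent.Lib.Helper23.AlgSpMor
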