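import Groth.Agent.Lib.Helper23.AlgSpNoeth2
import Groth.Agent.Lib.Helper5.YonCoprod

/-!
# Quasi-compact flat surjective monomorphisms of algebraic spaces are isomorphisms (helper23)
-/

set_option autoImplicit false
universe u
open CategoryTheory CategoryTheory.Limits AlgebraicGeometry Opposite

namespace Groth.Agent.Lib.Helper23.AlgSpMor

open AlgSp Groth.Agent.Lib.Helper37.AlgSpPoints Groth.Agent.Lib.Helper12.AlgSpPoints
open Groth.Agent.Lib.Helper36.AlgSpCharts
open Groth.Agent.Lib.Helper46 Groth.Agent.Lib.Helper46.LocPChart Groth.Agent.Lib.Helper30.EtLocalInst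

variable {S : Scheme.{u}}

/-- The case of an affine target. -/
theorem isIso_of_flat_mono_to_affine {T : Over S} (hT : IsAffine T.left) {W : Sp S}
    (hW : IsAlgSpace W) (f : W ⟶ (yon S).obj T) [Mono f] (hqc : IsQuasiCompactMor f)
    (hflat : LocP @Flat f) (hsurj : IsSurjectiveMor f) : IsIso f := by
  have hWqc : IsQuasiCompactSp W :=
    hqc (IsAlgSpace.yon_obj T) (isQuasiCompactSp_yon T) (𝟙 _) (𝟙 W) f IsPullback.of_id_fst
  obtain ⟨U, x, hU, hxe, hxs⟩ := exists_affine_chart_of_isQuasiCompactSp hWqc
  let g : U ⟶ T := (yon S).preimage (x ≫ f)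
  have hg : (yon S).map g = x ≫ f := (yon S).map_preimage _
  have hgflat : Flat g.left := hflat x (𝟙 _) g hxe (repWith_id _ T) (by rw [hg, Category.comp_id])
  have hgsurj : Surjective g.left := by
    have h1 : IsSurjectiveMor (x ≫ f) :=
      isSurjectiveMor_comp _ _ (isSurjectiveMor_of_repWith_surjective x hxs) hsurj
    rw [← hg] at h1
    exact (repWith_yon_map_iff @Surjective g).1
      (repWith_surjective_of_isSurjectiveMor _ (representable_of_yon _) h1)
  have hgqc : QuasiCompact g.left := inferInstance
  have sqO : IsPullback (pullback.fst g g) (pullback.snd g g) g g := IsPullback.of_hasPullback g g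
  have sqY := sqO.map (yon S)
  rw [hg] at sqY
  have sqY' : IsPullback ((yon S).map (pullback.fst g g)) ((yon S).map (pullback.snd g g)) x x :=
    isPullback_of_comp_mono f sqY
  have het : Etale (pullback.fst g g).left := hxe.property x _ _ sqY'.flip
  have sqS : IsPullback (pullback.fst g g).left (pullback.snd g g).left g.left g.left :=
    sqO.map (Over.forget S)
  have hsfq : (@Surjective ⊓ @Flat ⊓ @QuasiCompact : MorphismProperty Scheme.{u}) g.left :=
    ⟨⟨hgsurj, hgflat⟩, hgqc⟩
  have hget : Etale g.left :=
    MorphismProperty.of_isPullback_of_descendsAlong (P := @Etale)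
      (Q := @Surjective ⊓ @Flat ⊓ @QuasiCompact) sqS hsfq het
  have hepi : Epi ((yon S).map g) :=
    epi_of_etale_surjective _ ((repWith_yon_map_iff @Etale g).2 hget)
      ((repWith_yon_map_iff @Surjective g).2 hgsurj)
  rw [hg] at hepi
  have : Epi f := epi_of_epi x f
  exact isIso_of_mono_of_epi f

end Groth.Agent.Lib.Helper23.AlgSpMor

namespace Groth.Agent.Lib.Helper23.AlgSpMor

open AlgSp Groth.Agent.Lib.Helper37.AlgSpPoints Groth.Agent.Lib.Helper12.AlgSpPoints
open Groth.Agent.Lib.Helper36.AlgSpCharts Groth.Agent.Lib.Helper5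
open Groth.Agent.Lib.Helper46 Groth.Agent.Lib.Helper46.LocPChart Groth.Agent.Lib.Helper30.EtLocalInst

variable {S : Scheme.{u}}

/-- Morphisms out of `h_V` are determined by their restrictions to the members of the affine open
cover of `V`. -/
theorem yon_hom_ext_of_affineCover {V : Over S} {Z : Sp S} (a b : (yon S).obj V ⟶ Z)
    (h : ∀ i : V.left.affineCover.I₀,
      (yon S).map (Over.homMk (V.left.affineCover.f i) rfl :
        Over.mk (V.left.affineCover.f i ≫ V.hom) ⟶ V) ≫ a =
      (yon S).map (Over.homMk (V.left.affineCover.f i) rfl :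
        Over.mk (V.left.affineCover.f i ≫ V.hom) ⟶ V) ≫ b) : a = b := by
  let Xf : V.left.affineCover.I₀ → Over S := fun i => Over.mk (V.left.affineCover.f i ≫ V.hom)
  let c : sigmaOver Xf ⟶ V := Over.homMk (Sigma.desc V.left.affineCover.f) (by
    apply Sigma.hom_ext
    intro i
    simp [sigmaOver, Xf])
  have hce : Etale c.left := by
    change Etale (Sigma.desc V.left.affineCover.f)
    exact IsZariskiLocalAtSource.sigmaDesc (P := @Etale) fun i => inferInstance
  have hcs : Surjective c.left := by
    change Surjective (Sigma.desc V.left.affineCover.f)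
    infer_instance
  have hepi : Epi ((yon S).map c) :=
    epi_of_etale_surjective _ ((repWith_yon_map_iff @Etale c).2 hce)
      ((repWith_yon_map_iff @Surjective c).2 hcs)
  rw [← cancel_epi ((yon S).map c)]
  apply (isColimitYonSigmaOver Xf).hom_ext
  rintro ⟨i⟩
  have hci : sigmaOverι Xf i ≫ c = (Over.homMk (V.left.affineCover.f i) rfl : Xf i ⟶ V) := by
    apply Over.OverMorphism.ext
    simp [c, Xf]
  change (yon S).map (sigmaOverι Xf i) ≫ (yon S).map c ≫ a =
    (yon S).map (sigmaOverι Xf i) ≫ (yon S).map c ≫ b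
  rw [← Category.assoc, ← Category.assoc, ← Functor.map_comp, hci]
  exact h i

/-- A monomorphism of algebraic spaces that is quasi-compact, flat and surjective is an
isomorphism. -/
theorem isIso_of_qc_flat_surjective_mono {X Y : Sp S} (hX : IsAlgSpace X) (hY : IsAlgSpace Y)
    (f : X ⟶ Y) [Mono f] (hqc : IsQuasiCompactMor f) (hflat : LocP @Flat f)
    (hsurj : IsSurjectiveMor f) : IsIso f := by
  obtain ⟨V, p, hpe, hps⟩ := hY.atlas
  have hp : Epi p := epi_of_etale_surjective p hpe hps
  have hepi : Epi f := by
    refine ⟨fun {Z} a b hab => ?_⟩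
    rw [← cancel_epi p]
    apply yon_hom_ext_of_affineCover
    intro i
    set j : Over.mk (V.left.affineCover.f i ≫ V.hom) ⟶ V :=
      Over.homMk (V.left.affineCover.f i) rfl with hj
    have sq : IsPullback (pullback.fst f ((yon S).map j ≫ p)) (pullback.snd f ((yon S).map j ≫ p))
        f ((yon S).map j ≫ p) := IsPullback.of_hasPullback _ _
    have hPsp : IsAlgSpace (pullback f ((yon S).map j ≫ p)) :=
      isAlgSpace_of_isPullback hX (IsAlgSpace.yon_obj _) hY.diag sq
    have hT : IsAffine (Over.mk (V.left.affineCover.f i ≫ V.hom)).left := by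
      change IsAffine (V.left.affineCover.X i)
      infer_instance
    haveI : IsIso (pullback.snd f ((yon S).map j ≫ p)) :=
      isIso_of_flat_mono_to_affine hT hPsp _
        (isQuasiCompactMor_of_isPullback sq hqc)
        (locP_of_isPullback etLocal_flat hX hY hPsp (IsAlgSpace.yon_obj _) sq hflat)
        (isSurjectiveMor_of_isPullback sq hsurj)
    have hfac : (yon S).map j ≫ p =
        inv (pullback.snd f ((yon S).map j ≫ p)) ≫ pullback.fst f ((yon S).map j ≫ p) ≫ f := by
      rw [IsIso.eq_inv_comp]; exact sq.w.symm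
    rw [← Category.assoc, ← Category.assoc, hfac]
    simp only [Category.assoc, hab]
  exact isIso_of_mono_of_epi f

end Groth.Agent.Lib.Helper23.AlgSpMor
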