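import Groth.Agent.Lib.Helper23.AffDescDD
import Groth.Agent.Lib.Helper23.AlgSpDescent
import Groth.Agent.Lib.Helper5.QuotShDescend
import Groth.Agent.Lib.Helper46.IsoFpqc
import Groth.Agent.Lib.Helper23.AlgSpNoeth2
import Groth.Agent.Lib.Helper46.EtLocal

/-!
# Effective descent for algebraic spaces over a scheme along an fpqc morphism (helper23)

If `F` is an algebraic space over `h_Z`, `c : W ⟶ Z` is a flat surjective affine morphism of schemes
and `F ×_{h_Z} h_W` is a scheme `V` whose canonical descent datum is effective, then `F` is a scheme.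
-/

set_option autoImplicit false
universe u
open CategoryTheory CategoryTheory.Limits AlgebraicGeometry Opposite

namespace Groth.Agent.Lib.Helper23.AffDesc

open AlgSp

variable {S : Scheme.{u}} {Z W V : Over S} {F : Sp S} {c : W ⟶ Z} {π : F ⟶ (yon S).obj Z}
  {q : V ⟶ W} {v : (yon S).obj V ⟶ F}

section Val

variable (sq : IsPullback v ((yon S).map q) π ((yon S).map c)) (U : Over Z.left)
  (θ : (Desc.toDD c.left).obj U ≅ dd sq)

/-- The comparison `V ⟶ W ×_Z U`. -/
noncomputable def kk : V.left ⟶ pullback c.left U.hom := θ.inv.hom.left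

theorem kk_fst : kk sq U θ ≫ pullback.fst c.left U.hom = q.left := Over.w θ.inv.hom

/-- The value in `U` of a point of `V`. -/
noncomputable def val {T : Scheme.{u}} (t : T ⟶ V.left) : T ⟶ U.left :=
  t ≫ kk sq U θ ≫ pullback.snd c.left U.hom

theorem val_precomp {T T' : Scheme.{u}} (g : T' ⟶ T) (t : T ⟶ V.left) :
    val sq U θ (g ≫ t) = g ≫ val sq U θ t := by
  simp [val]

theorem val_hom {T : Scheme.{u}} (t : T ⟶ V.left) :
    val sq U θ t ≫ U.hom = t ≫ q.left ≫ c.left := by
  rw [val, Category.assoc, Category.assoc, ← pullback.condition, ← Category.assoc (kk sq U θ),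
    kk_fst]

theorem val_eq_of_rel {T : Scheme.{u}} {t₀ t₁ : T ⟶ V.left} (hr : Rel v t₀ t₁)
    (h : (t₀ ≫ q.left) ≫ c.left = (t₁ ≫ q.left) ≫ c.left) :
    val sq U θ t₀ = val sq U θ t₁ := by
  let lv₀ : Desc.Lifts (dd sq).obj (t₀ ≫ q.left) := ⟨t₀, rfl⟩
  let lv₁ : Desc.Lifts (dd sq).obj (t₁ ≫ q.left) := ⟨t₁, rfl⟩
  have e1 : (dd sq).φ (t₀ ≫ q.left) (t₁ ≫ q.left) h lv₀ = lv₁ :=
    dd_φ_eq_of_rel sq _ _ h lv₀ lv₁ hr
  let lw₀ : Desc.Lifts ((Desc.toDD c.left).obj U).obj (t₀ ≫ q.left) :=
    ⟨t₀ ≫ kk sq U θ, by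
      show (t₀ ≫ kk sq U θ) ≫ pullback.fst c.left U.hom = t₀ ≫ q.left
      rw [Category.assoc, kk_fst]⟩
  have e2 := θ.inv.comm (t₀ ≫ q.left) (t₁ ≫ q.left) h lv₀ lw₀ rfl
  rw [e1] at e2
  have e3 : (((Desc.toDD c.left).obj U).φ (t₀ ≫ q.left) (t₁ ≫ q.left) h lw₀).1 ≫
      pullback.snd c.left U.hom = lw₀.1 ≫ pullback.snd c.left U.hom := by
    show (Desc.canMap c.left U _ _ h lw₀).1 ≫ pullback.snd c.left U.hom = _
    rw [Desc.canMap_val, pullback.lift_snd]
    rfl
  rw [e2] at e3
  show t₀ ≫ kk sq U θ ≫ pullback.snd c.left U.hom = t₁ ≫ kk sq U θ ≫ pullback.snd c.left U.hom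
  rw [← Category.assoc, ← Category.assoc]
  exact e3.symm

end Val

section Pt

variable (sq : IsPullback v ((yon S).map q) π ((yon S).map c))
include sq

/-- The point of `V` attached to a point of `F` and a point of `W` over the same point of `Z`. -/
theorem exists_tV {T : Over S} (ξ : (yon S).obj T ⟶ F) (w : T ⟶ W)
    (h : ξ ≫ π = (yon S).map (w ≫ c)) :
    ∃ t : T ⟶ V, (yon S).map t ≫ v = ξ ∧ t ≫ q = w := by
  obtain ⟨t, ht⟩ := (yon S).map_surjective
    (sq.lift ξ ((yon S).map w) (by rw [h, Functor.map_comp]))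
  refine ⟨t, by rw [ht, sq.lift_fst], ?_⟩
  apply (yon S).map_injective
  rw [Functor.map_comp, ht, sq.lift_snd]

theorem tV_unique {T : Over S} (t t' : T ⟶ V) (h1 : (yon S).map t ≫ v = (yon S).map t' ≫ v)
    (h2 : t ≫ q = t' ≫ q) : t = t' := by
  apply (yon S).map_injective
  apply sq.hom_ext h1
  rw [← Functor.map_comp, ← Functor.map_comp, h2]

end Pt

section Main

variable (sq : IsPullback v ((yon S).map q) π ((yon S).map c)) (U : Over Z.left)
  (θ : (Desc.toDD c.left).obj U ≅ dd sq)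

/-- The value of a point of `V` over `S` in the descended scheme. -/
noncomputable def valO {T : Over S} (t : T ⟶ V) : T ⟶ Over.mk (U.hom ≫ Z.hom) :=
  Over.homMk (val sq U θ t.left) (by
    show val sq U θ t.left ≫ U.hom ≫ Z.hom = T.hom
    rw [← Category.assoc, val_hom, Category.assoc, Category.assoc, Over.w c, Over.w q, Over.w t])

theorem valO_left {T : Over S} (t : T ⟶ V) : (valO sq U θ t).left = val sq U θ t.left := rfl

theorem valO_precomp {T T' : Over S} (g : T' ⟶ T) (t : T ⟶ V) :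
    valO sq U θ (g ≫ t) = g ≫ valO sq U θ t := by
  ext1
  exact val_precomp sq U θ g.left t.left

theorem valO_q₀ {T : Over S} (t : T ⟶ V) :
    valO sq U θ t ≫ (Over.homMk U.hom rfl : Over.mk (U.hom ≫ Z.hom) ⟶ Z) = t ≫ q ≫ c := by
  ext1
  exact val_hom sq U θ t.left

/-- Base change of a scheme over `Z` along `c`. -/
theorem exists_bc {T : Over S} (β : T ⟶ Z) :
    ∃ (TW : Over S) (f : TW ⟶ T) (w : TW ⟶ W), f ≫ β = w ≫ c ∧
      IsPullback f.left w.left β.left c.left := by
  have h2 : pullback.snd β.left c.left ≫ W.hom = pullback.fst β.left c.left ≫ T.hom := by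
    rw [← Over.w c, ← Category.assoc, ← pullback.condition, Category.assoc, Over.w β]
  refine ⟨Over.mk (pullback.fst β.left c.left ≫ T.hom), Over.homMk (pullback.fst β.left c.left) rfl,
    Over.homMk (pullback.snd β.left c.left) h2, ?_, IsPullback.of_hasPullback _ _⟩
  ext1
  exact pullback.condition

include θ in
/-- Descent of the comparison map to the atlas. -/
theorem exists_desc_atlas [Flat c.left] [Surjective c.left] [QuasiCompact c.left] {A : Over S}
    (a : (yon S).obj A ⟶ F) (α : A ⟶ Z) (hα : (yon S).map α = a ≫ π) :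
    ∃ u₀ : A ⟶ Over.mk (U.hom ≫ Z.hom),
      u₀ ≫ (Over.homMk U.hom rfl : Over.mk (U.hom ≫ Z.hom) ⟶ Z) = α ∧
      ∀ (T : Over S) (γ : T ⟶ A) (t : T ⟶ V),
        (yon S).map t ≫ v = (yon S).map γ ≫ a → γ ≫ u₀ = valO sq U θ t := by
  obtain ⟨PS, pr₁, pr₂, hpr, hP⟩ := exists_bc (c := c) α
  haveI : Flat pr₁.left := MorphismProperty.of_isPullback hP.flip ‹Flat c.left›
  haveI : Surjective pr₁.left := MorphismProperty.of_isPullback hP.flip ‹Surjective c.left›
  haveI : QuasiCompact pr₁.left := MorphismProperty.of_isPullback hP.flip ‹QuasiCompact c.left›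
  obtain ⟨tP, htP1, htP2⟩ := exists_tV sq ((yon S).map pr₁ ≫ a) pr₂ (by
    rw [Category.assoc, ← hα, ← Functor.map_comp, hpr])
  have htP2' : tP.left ≫ q.left = pr₂.left := congrArg CommaMorphism.left htP2
  obtain ⟨m, hm⟩ : ∃ m : PS.left ⟶ U.left, m = val sq U θ tP.left := ⟨_, rfl⟩
  have hker : ∀ {T : Scheme.{u}} (g₁ g₂ : T ⟶ PS.left),
      g₁ ≫ pr₁.left = g₂ ≫ pr₁.left → g₁ ≫ m = g₂ ≫ m := by
    intro T g₁ g₂ hg
    rw [hm, ← val_precomp, ← val_precomp]
    apply val_eq_of_rel
    · let T' : Over S := Over.mk (g₁ ≫ PS.hom)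
      let g₁' : T' ⟶ PS := Over.homMk g₁ rfl
      let g₂' : T' ⟶ PS := Over.homMk g₂ (by
        show g₂ ≫ PS.hom = g₁ ≫ PS.hom
        rw [← Over.w pr₁, ← Category.assoc, ← Category.assoc, hg])
      have hg' : g₁' ≫ pr₁ = g₂' ≫ pr₁ := by
        ext1
        exact hg
      exact rel_of_eq (g₁' ≫ tP) (g₂' ≫ tP) (by
        rw [Functor.map_comp, Functor.map_comp, Category.assoc, Category.assoc, htP1,
          ← Category.assoc, ← Category.assoc, ← Functor.map_comp, ← Functor.map_comp, hg'])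
    · simp only [Category.assoc]
      rw [← Category.assoc tP.left, htP2', ← hP.w, ← Category.assoc, ← Category.assoc, hg]
  obtain ⟨u, hu⟩ : ∃ u : A.left ⟶ U.left, pr₁.left ≫ u = m :=
    ⟨EffectiveEpi.desc pr₁.left m hker, EffectiveEpi.fac _ _ _⟩
  have huU : u ≫ U.hom = α.left := by
    rw [← cancel_epi pr₁.left, ← Category.assoc, hu, hm, val_hom, ← Category.assoc, htP2', ← hP.w]
  refine ⟨Over.homMk u (by
    show u ≫ U.hom ≫ Z.hom = A.hom
    rw [← Category.assoc, huU, Over.w α]), by ext1; exact huU, ?_⟩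
  intro T γ t ht1
  have hγ : γ ≫ α = (t ≫ q) ≫ c := by
    apply (yon S).map_injective
    rw [Functor.map_comp, hα, ← Category.assoc, ← ht1, Category.assoc, sq.w, Functor.map_comp,
      Functor.map_comp, Category.assoc]
  have hγ' : γ.left ≫ α.left = (t ≫ q).left ≫ c.left := congrArg CommaMorphism.left hγ
  let δ' : T ⟶ PS := Over.homMk (hP.lift γ.left (t ≫ q).left hγ') (by
    rw [← Over.w pr₁, ← Category.assoc, hP.lift_fst, Over.w γ])
  have hδ1 : δ' ≫ pr₁ = γ := by
    ext1
    exact hP.lift_fst _ _ _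
  have hδ2 : δ' ≫ pr₂ = t ≫ q := by
    ext1
    exact hP.lift_snd _ _ _
  have hδt : δ' ≫ tP = t := by
    apply tV_unique sq
    · rw [Functor.map_comp, Category.assoc, htP1, ← Category.assoc, ← Functor.map_comp, hδ1, ht1]
    · rw [Category.assoc, htP2, hδ2]
  ext1
  show γ.left ≫ u = val sq U θ t.left
  rw [← hδt]
  show γ.left ≫ u = val sq U θ (δ'.left ≫ tP.left)
  rw [val_precomp, ← hm, ← hu, ← Category.assoc]
  congr 1
  exact (congrArg CommaMorphism.left hδ1).symm

include θ in
/-- The comparison morphism from `F` to the descended scheme. -/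
theorem exists_psi (hF : IsAlgSpace F) [Flat c.left] [Surjective c.left] [QuasiCompact c.left] :
    ∃ ψ : F ⟶ (yon S).obj (Over.mk (U.hom ≫ Z.hom)),
      ψ ≫ (yon S).map (Over.homMk U.hom rfl : Over.mk (U.hom ≫ Z.hom) ⟶ Z) = π ∧
      ∀ (T : Over S) (t : T ⟶ V), ((yon S).map t ≫ v) ≫ ψ = (yon S).map (valO sq U θ t) := by
  obtain ⟨A, a, hae, has⟩ := hF.atlas
  obtain ⟨α, hα⟩ := (yon S).map_surjective (a ≫ π)
  obtain ⟨u₀, hu₀α, hu₀⟩ := exists_desc_atlas sq U θ a α hα
  haveI : Epi a := by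
    have : Sheaf.IsLocallySurjective a :=
      Groth.Agent.S9885.result S _ _ a
        (MorphismProperty.relative_monotone (fun _ _ g hg => by
          have : Etale g.left := hg
          exact (inferInstance : Flat g.left)) _ hae)
        (MorphismProperty.relative_monotone (fun _ _ g hg => by
          have : Etale g.left := hg
          exact (inferInstance : LocallyOfFinitePresentation g.left)) _ hae) has
    infer_instance
  have hdesc : ∀ (T : Over S) (g₁ g₂ : (yon S).obj T ⟶ (yon S).obj A), g₁ ≫ a = g₂ ≫ a →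
      g₁ ≫ (yon S).map u₀ = g₂ ≫ (yon S).map u₀ := by
    intro T g₁ g₂ hg
    obtain ⟨γ₁, rfl⟩ := (yon S).map_surjective g₁
    obtain ⟨γ₂, rfl⟩ := (yon S).map_surjective g₂
    rw [← Functor.map_comp, ← Functor.map_comp]
    congr 1
    obtain ⟨TW, f, w, hfw, hTW⟩ := exists_bc (c := c) (γ₁ ≫ α)
    haveI : Flat f.left := MorphismProperty.of_isPullback hTW.flip ‹Flat c.left›
    haveI : Surjective f.left := MorphismProperty.of_isPullback hTW.flip ‹Surjective c.left›
    haveI : Epi f.left := Flat.epi_of_flat_of_surjective f.left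
    obtain ⟨t, ht1, ht2⟩ := exists_tV sq ((yon S).map (f ≫ γ₁) ≫ a) w (by
      rw [Category.assoc, ← hα, ← Functor.map_comp, Category.assoc, hfw])
    have e1 := hu₀ TW (f ≫ γ₁) t ht1
    have e2 := hu₀ TW (f ≫ γ₂) t (by
      rw [ht1, Functor.map_comp, Functor.map_comp, Category.assoc, Category.assoc, hg])
    have e3 : f ≫ (γ₁ ≫ u₀) = f ≫ (γ₂ ≫ u₀) := by
      rw [← Category.assoc, ← Category.assoc, e1, e2]
    ext1
    rw [← cancel_epi f.left]
    exact congrArg CommaMorphism.left e3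
  obtain ⟨ψ, hψ, -⟩ :=
    Groth.Agent.Lib.Helper5.QuotShDescend.existsUnique_desc_of_epi a ((yon S).map u₀) hdesc
  refine ⟨ψ, ?_, ?_⟩
  · rw [← cancel_epi a, ← Category.assoc, hψ, ← Functor.map_comp, hu₀α, hα]
  intro T t
  obtain ⟨ξ, hξ⟩ : ∃ ξ, ξ = (yon S).map t ≫ v := ⟨_, rfl⟩
  rw [← hξ]
  have hsqR := hae.rep.isPullback ξ
  obtain ⟨γ, hγ⟩ := (yon S).map_surjective (hae.rep.fst ξ)
  haveI : Etale (hae.rep.snd ξ).left := hae.property_snd ξ
  haveI : Surjective (hae.rep.snd ξ).left := has.property ξ _ _ hsqR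
  haveI : Epi ((yon S).map (hae.rep.snd ξ)) :=
    Groth.Agent.Lib.Helper23.AlgSpMor.epi_yon_map_of_fppf _ inferInstance inferInstance
      inferInstance
  rw [← cancel_epi ((yon S).map (hae.rep.snd ξ)), ← Category.assoc, ← hsqR.w, ← hγ,
    Category.assoc, hψ, ← Functor.map_comp, ← Functor.map_comp, ← valO_precomp]
  congr 1
  apply hu₀
  rw [Functor.map_comp, Category.assoc, ← hξ, hγ, hsqR.w]

include θ in
/-- **Effective descent for algebraic spaces**: if the descent datum of `V = F ×_{h_Z} h_W` is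
effective, then `F` is representable by the descended scheme. -/
theorem exists_iso_of_effective (hF : IsAlgSpace F) [Flat c.left] [Surjective c.left]
    [IsAffineHom c.left] :
    ∃ e : (yon S).obj (Over.mk (U.hom ≫ Z.hom)) ≅ F,
      e.hom ≫ π = (yon S).map (Over.homMk U.hom rfl : Over.mk (U.hom ≫ Z.hom) ⟶ Z) := by
  obtain ⟨ψ, hψπ, hψ⟩ := exists_psi sq U θ hF
  have hQS : pullback.fst c.left U.hom ≫ W.hom = pullback.snd c.left U.hom ≫ U.hom ≫ Z.hom := by
    rw [← Over.w c, ← Category.assoc, pullback.condition, Category.assoc]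
  let QS : Over S := Over.mk (pullback.snd c.left U.hom ≫ U.hom ≫ Z.hom)
  let sndQ : QS ⟶ Over.mk (U.hom ≫ Z.hom) := Over.homMk (pullback.snd c.left U.hom) rfl
  let fstQ : QS ⟶ W := Over.homMk (pullback.fst c.left U.hom) hQS
  let q₀ : Over.mk (U.hom ≫ Z.hom) ⟶ Z := Over.homMk U.hom rfl
  have hQ : IsPullback sndQ fstQ q₀ c := by
    apply IsPullback.of_map (Over.forget S) (by ext1; exact pullback.condition.symm)
    exact (IsPullback.of_hasPullback c.left U.hom).flip
  have hQy := hQ.map (yon S)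
  let k' : V ⟶ QS := Over.homMk (kk sq U θ) (by
    show kk sq U θ ≫ pullback.snd c.left U.hom ≫ U.hom ≫ Z.hom = V.hom
    rw [← pullback.condition_assoc, ← Category.assoc, kk_fst, Over.w c, Over.w q])
  have hk'1 : k' ≫ fstQ = q := by
    ext1
    exact kk_fst sq U θ
  have hk'2 : k' ≫ sndQ = valO sq U θ (𝟙 V) := by
    ext1
    show kk sq U θ ≫ pullback.snd c.left U.hom = val sq U θ (𝟙 V.left)
    simp [val]
  have hkiso : IsIso k' := by
    obtain ⟨kh, hkh⟩ : ∃ kh : pullback c.left U.hom ⟶ V.left, kh = θ.hom.hom.left := ⟨_, rfl⟩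
    have h1 : kk sq U θ ≫ kh = 𝟙 _ := by
      rw [hkh]
      exact congrArg (fun f => f.hom.left) θ.inv_hom_id
    have h2 : kh ≫ kk sq U θ = 𝟙 _ := by
      rw [hkh]
      exact congrArg (fun f => f.hom.left) θ.hom_inv_id
    have h3 : kh ≫ q.left = pullback.fst c.left U.hom := by
      rw [hkh]
      exact Over.w θ.hom.hom
    let kinv : QS ⟶ V := Over.homMk kh (by
      show kh ≫ V.hom = pullback.snd c.left U.hom ≫ U.hom ≫ Z.hom
      rw [← Over.w q, ← Category.assoc, h3, hQS])
    refine ⟨kinv, ?_, ?_⟩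
    · ext1
      exact h1
    · ext1
      exact h2
  have hcomm : v ≫ ψ = (yon S).map k' ≫ (yon S).map sndQ := by
    have := hψ V (𝟙 V)
    rw [CategoryTheory.Functor.map_id, Category.id_comp] at this
    rw [this, ← Functor.map_comp, hk'2]
  have hleft : IsPullback v ((yon S).map k') ψ ((yon S).map sndQ) := by
    refine IsPullback.of_bot ?_ hcomm hQy
    rw [← Functor.map_comp, hk'1, hψπ]
    exact sq
  have hcov : IsFpqcCover (fun _ : PUnit.{u + 1} => (yon S).obj QS)
      (fun _ => (yon S).map sndQ) := by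
    refine ⟨fun _ => Groth.Agent.Lib.Helper23.AlgSpMor.locP_yon_map_of
      Groth.Agent.Lib.Helper46.etLocal_flat sndQ
      (inferInstance : Flat (pullback.snd c.left U.hom)), fun T' hT' h => ?_⟩
    obtain ⟨η, rfl⟩ := (yon S).map_surjective h
    haveI := hT'
    haveI : IsAffineHom (pullback.snd c.left U.hom) :=
      MorphismProperty.pullback_snd (P := @IsAffineHom) _ _ inferInstance
    haveI : IsAffine (pullback η.left (pullback.snd c.left U.hom)) :=
      isAffine_of_isAffineHom (pullback.fst η.left (pullback.snd c.left U.hom))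
    refine ⟨1, fun _ => Over.mk (pullback.fst η.left (pullback.snd c.left U.hom) ≫ T'.hom),
      fun _ => Over.homMk (pullback.fst η.left (pullback.snd c.left U.hom)) rfl,
      fun _ => ‹IsAffine (pullback η.left (pullback.snd c.left U.hom))›,
      fun _ => (inferInstance : Flat (pullback.fst η.left (pullback.snd c.left U.hom))),
      fun z => ⟨0, (inferInstance : Surjective
        (pullback.fst η.left (pullback.snd c.left U.hom))).surj z⟩,
      fun _ => ⟨PUnit.unit, (yon S).map (Over.homMk (pullback.snd η.left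
        (pullback.snd c.left U.hom)) (by
          show pullback.snd η.left (pullback.snd c.left U.hom) ≫
            pullback.snd c.left U.hom ≫ U.hom ≫ Z.hom = _ ≫ T'.hom
          rw [← pullback.condition_assoc]
          congr 1
          exact Over.w η)), ?_⟩⟩
    rw [← Functor.map_comp, ← Functor.map_comp]
    congr 1
    ext1
    exact pullback.condition.symm
  have hiso : IsIso ψ :=
    (Groth.Agent.Lib.Helper46.IsoFpqc.isLocalOnBase_isomorphisms
      (fun _ : PUnit.{u + 1} => (yon S).obj QS) (fun _ => (yon S).map sndQ)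
      (IsAlgSpace.yon_obj _) (fun _ => IsAlgSpace.yon_obj _) hcov ψ hF
      (fun _ => (yon S).obj V) (fun _ => (yon S).map k') (fun _ => v)
      (fun _ => IsAlgSpace.yon_obj _) (fun _ => hleft)).2
      (fun _ => (inferInstance : IsIso ((yon S).map k')))
  exact ⟨(asIso ψ).symm, by rw [Iso.symm_hom, asIso_inv, IsIso.inv_comp_eq, hψπ]⟩

end Main

end Groth.Agent.Lib.Helper23.AffDesc
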