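import Groth.Agent.Lib.Helper23.AffDescLocal
import Groth.Agent.S1134

/-!
# Quasi-affine variants of the fpqc descent lemmas of `AffDescFam`, `AffDescLocal` (helper23)

Same statements with the hypothesis `P ≤ @IsAffineHom` weakened to `P ≤ quasi-affine`
(using effectiveness of quasi-affine descent data, S1134).
-/

set_option autoImplicit false
universe u
open CategoryTheory CategoryTheory.Limits AlgebraicGeometry Opposite

namespace Groth.Agent.Lib.Helper23.AffDesc

open AlgSp Groth.Agent.Lib.Helper5 Groth.Agent.Lib.Helper23.AlgSpMor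

variable {S : Scheme.{u}}

/-- If `F ×_{h_Z} h_W` is a scheme `V` with `V ⟶ W` having an affine property `P` that descends
along fpqc morphisms, then `F` is a scheme `V₀` with `V₀ ⟶ Z` having `P`. -/
theorem exists_rep_of_single' (P : MorphismProperty Scheme.{u})
    [P.DescendsAlong (@Surjective ⊓ @Flat ⊓ @QuasiCompact : MorphismProperty Scheme.{u})]
    (hP : ∀ ⦃A B : Scheme.{u}⦄ (h : A ⟶ B), P h → Mor2.IsQuasiAffine h) {Z W V : Over S} {F : Sp S} {c : W ⟶ Z} {π : F ⟶ (yon S).obj Z}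
    {q : V ⟶ W} {v : (yon S).obj V ⟶ F} (sq : IsPullback v ((yon S).map q) π ((yon S).map c))
    (hF : IsAlgSpace F) [Flat c.left] [Surjective c.left] [IsAffineHom c.left] (hq : P q.left) :
    ∃ (V₀ : Over S) (q₀ : V₀ ⟶ Z) (e : (yon S).obj V₀ ≅ F),
      e.hom ≫ π = (yon S).map q₀ ∧ P q₀.left := by
  have hD : Mor2.IsQuasiAffine (dd sq).obj.hom := hP _ hq
  obtain ⟨U, ⟨θ⟩⟩ := Groth.Agent.S1134.result c.left (dd sq) hD
  obtain ⟨e, he⟩ := exists_iso_of_effective sq U θ hF
  obtain ⟨k, hk⟩ := (yon S).map_surjective (v ≫ e.inv)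
  refine ⟨_, _, e, he, ?_⟩
  have h1 : IsPullback ((yon S).map k) ((yon S).map q)
      ((yon S).map (Over.homMk U.hom rfl : Over.mk (U.hom ≫ Z.hom) ⟶ Z)) ((yon S).map c) := by
    rw [hk, ← he]
    exact IsPullback.of_iso sq (Iso.refl _) e.symm (Iso.refl _) (Iso.refl _) (by simp) (by simp)
      (by simp) (by simp)
  have h2 : IsPullback k q (Over.homMk U.hom rfl : Over.mk (U.hom ≫ Z.hom) ⟶ Z) c :=
    IsPullback.of_map (yon S) ((yon S).map_injective (by
      rw [Functor.map_comp, Functor.map_comp]; exact h1.w)) h1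
  have h3 : IsPullback q.left k.left c.left U.hom := (h2.map (Over.forget S)).flip
  exact MorphismProperty.of_isPullback_of_descendsAlong (P := P)
    (Q := (@Surjective ⊓ @Flat ⊓ @QuasiCompact : MorphismProperty Scheme.{u})) h3
    ⟨⟨‹Surjective c.left›, ‹Flat c.left›⟩, (inferInstance : QuasiCompact c.left)⟩ hq

/-- Family version: a standard fpqc covering of an affine scheme. -/
theorem exists_rep_of_family' (P : MorphismProperty Scheme.{u})
    [IsZariskiLocalAtTarget P]
    [P.DescendsAlong (@Surjective ⊓ @Flat ⊓ @QuasiCompact : MorphismProperty Scheme.{u})]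
    (hP : ∀ ⦃A B : Scheme.{u}⦄ (h : A ⟶ B), P h → Mor2.IsQuasiAffine h) {Z : Over S} [IsAffine Z.left] {F : Sp S} (hF : IsAlgSpace F)
    (π : F ⟶ (yon S).obj Z) {m : ℕ} (Wj : Fin m → Over S) (cj : ∀ j, Wj j ⟶ Z)
    (hWa : ∀ j, IsAffine (Wj j).left) (hcf : ∀ j, Flat (cj j).left)
    (hcs : ∀ z : ↥Z.left, ∃ j, z ∈ Set.range (cj j).left)
    (Vj : Fin m → Over S) (qj : ∀ j, Vj j ⟶ Wj j) (vj : ∀ j, (yon S).obj (Vj j) ⟶ F)
    (sqj : ∀ j, IsPullback (vj j) ((yon S).map (qj j)) π ((yon S).map (cj j)))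
    (hq : ∀ j, P (qj j).left) :
    ∃ (V₀ : Over S) (q₀ : V₀ ⟶ Z) (e : (yon S).obj V₀ ≅ F),
      e.hom ≫ π = (yon S).map q₀ ∧ P q₀.left := by
  let c : sigmaOver Wj ⟶ Z := Over.homMk (Sigma.desc fun j => (cj j).left) (by
    apply Sigma.hom_ext
    intro j
    change Sigma.ι _ j ≫ Sigma.desc _ ≫ Z.hom = Sigma.ι _ j ≫ Sigma.desc _
    rw [Sigma.ι_desc_assoc, Sigma.ι_desc]
    exact Over.w (cj j))
  have hcι : ∀ j, sigmaOverι Wj j ≫ c = cj j := by
    intro j
    ext1
    exact Sigma.ι_desc _ _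
  haveI : Flat c.left := IsZariskiLocalAtSource.sigmaDesc (P := @Flat) hcf
  haveI : Surjective c.left := by
    apply Surjective.sigmaDesc_of_union_range_eq_univ
    rw [Set.eq_univ_iff_forall]
    intro z
    obtain ⟨j, hj⟩ := hcs z
    exact Set.mem_iUnion.2 ⟨j, hj⟩
  haveI : ∀ j, IsAffine (Wj j).left := hWa
  haveI : IsAffine (sigmaOver Wj).left := (inferInstance : IsAffine (∐ fun j => (Wj j).left))
  haveI : IsAffineHom c.left := inferInstance
  let q : sigmaOver Vj ⟶ sigmaOver Wj := Over.homMk (Limits.Sigma.map fun j => (qj j).left) (by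
    apply Sigma.hom_ext
    intro j
    change Sigma.ι _ j ≫ Limits.Sigma.map _ ≫ Sigma.desc _ = Sigma.ι _ j ≫ Sigma.desc _
    rw [Limits.Sigma.ι_map_assoc, Sigma.ι_desc, Sigma.ι_desc]
    exact Over.w (qj j))
  have hqι : ∀ j, sigmaOverι Vj j ≫ q = qj j ≫ sigmaOverι Wj j := by
    intro j
    ext1
    exact Limits.Sigma.ι_map (fun j => (qj j).left) j
  have hPq : P q.left := prop_of_sigmaOver P Vj Wj q qj hqι hq
  let cV : Cofan (fun j => (yon S).obj (Vj j)) :=
    Cofan.mk ((yon S).obj (sigmaOver Vj)) fun j => (yon S).map (sigmaOverι Vj j)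
  have hcV : IsColimit cV := isColimitYonSigmaOver Vj
  let cW : Cofan (fun j => (yon S).obj (Wj j)) :=
    Cofan.mk ((yon S).obj (sigmaOver Wj)) fun j => (yon S).map (sigmaOverι Wj j)
  have hcW : IsColimit cW := isColimitYonSigmaOver Wj
  obtain ⟨v, hv⟩ : ∃ v : (yon S).obj (sigmaOver Vj) ⟶ F,
      ∀ j, (yon S).map (sigmaOverι Vj j) ≫ v = vj j :=
    ⟨Cofan.IsColimit.desc hcV vj, fun j => Cofan.IsColimit.fac hcV vj j⟩
  have hcomm : v ≫ π = (yon S).map q ≫ (yon S).map c := by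
    apply Cofan.IsColimit.hom_ext hcV
    intro j
    change (yon S).map (sigmaOverι Vj j) ≫ v ≫ π =
      (yon S).map (sigmaOverι Vj j) ≫ (yon S).map q ≫ (yon S).map c
    have e1 : (yon S).map (sigmaOverι Vj j) ≫ (yon S).map q =
        (yon S).map (qj j) ≫ (yon S).map (sigmaOverι Wj j) := by
      rw [← Functor.map_comp, hqι, Functor.map_comp]
    have e2 : (yon S).map (sigmaOverι Wj j) ≫ (yon S).map c = (yon S).map (cj j) := by
      rw [← Functor.map_comp, hcι]
    rw [← Category.assoc, hv, (sqj j).w, ← Category.assoc, e1, Category.assoc, e2]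
  let inj : ∀ j, (yon S).obj (Vj j) ⟶ pullback π ((yon S).map c) := fun j =>
    pullback.lift (vj j) ((yon S).map (qj j) ≫ (yon S).map (sigmaOverι Wj j)) (by
      rw [(sqj j).w, Category.assoc]
      congr 1
      rw [← Functor.map_comp, hcι])
  have sqi : ∀ j, IsPullback (inj j) ((yon S).map (qj j)) (pullback.snd π ((yon S).map c))
      ((yon S).map (sigmaOverι Wj j)) := by
    intro j
    have t : IsPullback (inj j ≫ pullback.fst π ((yon S).map c)) ((yon S).map (qj j)) π
        ((yon S).map (sigmaOverι Wj j) ≫ (yon S).map c) := by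
      rw [pullback.lift_fst, ← Functor.map_comp, hcι]
      exact sqj j
    exact IsPullback.of_right t (pullback.lift_snd _ _ _) (IsPullback.of_hasPullback π _)
  let c' : Cofan (fun j => (yon S).obj (Vj j)) := Cofan.mk (pullback π ((yon S).map c)) inj
  have hc' : IsColimit c' :=
    ((cofan_sheaf_vanKampen (J S) cW hcW c' (fun j => (yon S).map (qj j))
      (pullback.snd π ((yon S).map c)) (fun j => (pullback.lift_snd _ _ _).symm)).mpr sqi).some
  let κ : (yon S).obj (sigmaOver Vj) ⟶ pullback π ((yon S).map c) :=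
    pullback.lift v ((yon S).map q) hcomm
  have hκ : κ = (hcV.coconePointUniqueUpToIso hc').hom := by
    apply Cofan.IsColimit.hom_ext hcV
    intro j
    have e1 : cV.inj j ≫ (hcV.coconePointUniqueUpToIso hc').hom = c'.inj j :=
      IsColimit.comp_coconePointUniqueUpToIso_hom hcV hc' ⟨j⟩
    rw [e1]
    apply pullback.hom_ext
    · change ((yon S).map (sigmaOverι Vj j) ≫ κ) ≫ pullback.fst _ _ = inj j ≫ pullback.fst _ _
      rw [Category.assoc, pullback.lift_fst, pullback.lift_fst, hv]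
    · change ((yon S).map (sigmaOverι Vj j) ≫ κ) ≫ pullback.snd _ _ = inj j ≫ pullback.snd _ _
      rw [Category.assoc, pullback.lift_snd, pullback.lift_snd, ← Functor.map_comp, hqι,
        Functor.map_comp]
  have hκiso : IsIso κ := by
    rw [hκ]
    infer_instance
  have sq : IsPullback v ((yon S).map q) π ((yon S).map c) :=
    IsPullback.of_iso_pullback ⟨hcomm⟩ (asIso κ) (pullback.lift_fst _ _ _)
      (pullback.lift_snd _ _ _)
  exact exists_rep_of_single' P hP sq hF hPq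

/-- The affine-test form of fpqc descent for a property `P` of affine morphisms of schemes. -/
theorem exists_isPullback_of_fpqc' (P : MorphismProperty Scheme.{u}) [IsZariskiLocalAtTarget P]
    [P.DescendsAlong (@Surjective ⊓ @Flat ⊓ @QuasiCompact : MorphismProperty Scheme.{u})]
    (hP : ∀ ⦃A B : Scheme.{u}⦄ (h : A ⟶ B), P h → Mor2.IsQuasiAffine h) {ι : Type u} {Y : Sp S} (Yi : ι → Sp S) (g : ∀ i, Yi i ⟶ Y)
    (hY : IsAlgSpace Y) (hcov : IsFpqcCover Yi g) {X : Sp S} (f : X ⟶ Y) (hX : IsAlgSpace X)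
    (Xi : ι → Sp S) (p : ∀ i, Xi i ⟶ Yi i) (q : ∀ i, Xi i ⟶ X)
    (hsq : ∀ i, IsPullback (q i) (p i) f (g i))
    (hp : ∀ i, ∀ ⦃Z' : Over S⦄, IsAffine Z'.left → ∀ (g' : (yon S).obj Z' ⟶ Yi i),
      ∃ (W' : Over S) (i' : W' ⟶ Z') (fst' : (yon S).obj W' ⟶ Xi i),
        IsPullback fst' ((yon S).map i') (p i) g' ∧ P i'.left)
    {Z : Over S} (hZ : IsAffine Z.left) (gZ : (yon S).obj Z ⟶ Y) :
    ∃ (W : Over S) (i : W ⟶ Z) (fst : (yon S).obj W ⟶ X),
      IsPullback fst ((yon S).map i) f gZ ∧ P i.left := by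
  obtain ⟨m, Wj, cj, hWa, hcf, hcs, hl⟩ := hcov.2 Z hZ gZ
  choose ij lj hlj using hl
  choose Vj qj fstj sqj' hPj using fun j => hp (ij j) (hWa j) (lj j)
  have hF : IsAlgSpace (pullback f gZ) :=
    isAlgSpace_of_isPullback hX (IsAlgSpace.yon_obj Z) hY.diag (IsPullback.of_hasPullback f gZ)
  have hbig : ∀ j, IsPullback (fstj j ≫ q (ij j)) ((yon S).map (qj j)) f
      ((yon S).map (cj j) ≫ gZ) := by
    intro j
    rw [← hlj j]
    exact (sqj' j).paste_horiz (hsq (ij j))
  let vj : ∀ j, (yon S).obj (Vj j) ⟶ pullback f gZ := fun j =>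
    pullback.lift (fstj j ≫ q (ij j)) ((yon S).map (qj j) ≫ (yon S).map (cj j)) (by
      rw [(hbig j).w, Category.assoc])
  have sqj : ∀ j, IsPullback (vj j) ((yon S).map (qj j)) (pullback.snd f gZ)
      ((yon S).map (cj j)) := by
    intro j
    have t : IsPullback (vj j ≫ pullback.fst f gZ) ((yon S).map (qj j)) f
        ((yon S).map (cj j) ≫ gZ) := by
      rw [pullback.lift_fst]
      exact hbig j
    exact IsPullback.of_right t (pullback.lift_snd _ _ _) (IsPullback.of_hasPullback f gZ)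
  haveI := hZ
  obtain ⟨V₀, q₀, e, he, hP₀⟩ :=
    exists_rep_of_family' P hP hF (pullback.snd f gZ) Wj cj hWa hcf hcs Vj qj vj sqj hPj
  refine ⟨V₀, q₀, e.hom ≫ pullback.fst f gZ, ?_, hP₀⟩
  exact IsPullback.of_iso_pullback ⟨by
    rw [Category.assoc, pullback.condition, ← Category.assoc, he]⟩ e rfl he

end Groth.Agent.Lib.Helper23.AffDesc
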