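import Groth.Agent.Lib.Helper23.AlgSpProper2

/-!
# Cancelling a pullback along an etale surjective cover (helper23)
-/

set_option autoImplicit false
universe u
open CategoryTheory CategoryTheory.Limits AlgebraicGeometry Opposite

namespace Groth.Agent.Lib.Helper23.AlgSpMor

open AlgSp

variable {S : Scheme.{u}}

/-- If the base change of `k` along a representable etale surjective `q` is an isomorphism, then `k`
is an isomorphism. -/
theorem isIso_of_etale_cover {X Y V P : Sp S} (k : X ⟶ Y) (q : V ⟶ Y) (hq : RepWith @Etale q)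
    (hqs : RepWith @Surjective q) {fst : P ⟶ X} {snd : P ⟶ V} (sq : IsPullback fst snd k q)
    [IsIso snd] : IsIso k := by
  have hm : Mono k := mono_of_etale_cover k q hq hqs sq
  have hq' : Epi q := epi_of_etale_surjective q hq hqs
  have he : Epi k := by
    have h1 : Epi (snd ≫ q) := epi_comp _ _
    rw [← sq.w] at h1
    exact epi_of_epi fst k
  exact isIso_of_mono_of_epi k

/-- Cancellation of pullback squares along a representable etale surjective cover. -/
theorem isPullback_of_etale_cover {C D E F U A : Sp S} (cd : C ⟶ D) (ce : C ⟶ E) (df : D ⟶ F)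
    (ef : E ⟶ F) (hcomm : cd ≫ df = ce ≫ ef) (e : U ⟶ D) (he : RepWith @Etale e)
    (hes : RepWith @Surjective e) (ac : A ⟶ C) (au : A ⟶ U) (hl : IsPullback ac au cd e)
    (hout : IsPullback (ac ≫ ce) au ef (e ≫ df)) : IsPullback ce cd ef df := by
  -- the comparison map
  let k : C ⟶ pullback ef df := pullback.lift ce cd hcomm.symm
  have hk1 : k ≫ pullback.fst ef df = ce := pullback.lift_fst _ _ _
  have hk2 : k ≫ pullback.snd ef df = cd := pullback.lift_snd _ _ _
  -- `Q = P ×_D U`
  have sqQ : IsPullback (pullback.fst (pullback.snd ef df) e) (pullback.snd (pullback.snd ef df) e)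
      (pullback.snd ef df) e := IsPullback.of_hasPullback _ _
  set q1 := pullback.fst (pullback.snd ef df) e
  set q2 := pullback.snd (pullback.snd ef df) e
  -- `Q` is the pullback of `ef` along `e ≫ df`
  have sqP : IsPullback (pullback.fst ef df) (pullback.snd ef df) ef df :=
    IsPullback.of_hasPullback _ _
  have sqQ' : IsPullback (q1 ≫ pullback.fst ef df) q2 ef (e ≫ df) := sqQ.paste_horiz sqP
  -- the map `j : A ⟶ Q`
  let j : A ⟶ pullback (pullback.snd ef df) e := sqQ.lift (ac ≫ k) au (by
    rw [Category.assoc, hk2]; exact hl.w)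
  have hj1 : j ≫ q1 = ac ≫ k := sqQ.lift_fst _ _ _
  have hj2 : j ≫ q2 = au := sqQ.lift_snd _ _ _
  have hjiso : IsIso j := by
    have : j = (hout.isoIsPullback _ _ sqQ').hom := by
      apply sqQ'.hom_ext
      · rw [IsPullback.isoIsPullback_hom_fst, ← Category.assoc, hj1, Category.assoc, hk1]
      · rw [IsPullback.isoIsPullback_hom_snd, hj2]
    rw [this]; infer_instance
  -- the left square is cartesian
  have sqL : IsPullback ac j k q1 := by
    refine (IsPullback.of_right ?_ hj1 sqQ.flip).flip
    rw [hj2, hk2]; exact hl.flip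
  have hkiso : IsIso k :=
    isIso_of_etale_cover k q1 ((RepWith @Etale).of_isPullback sqQ.flip he)
      ((RepWith @Surjective).of_isPullback sqQ.flip hes) sqL
  exact IsPullback.of_iso_pullback ⟨hcomm.symm⟩ (asIso k) hk1 hk2

end Groth.Agent.Lib.Helper23.AlgSpMor
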