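import Groth.Agent.Lib.Helper23.AlgSpMor10

/-!
# Universally closed morphisms of algebraic spaces (helper23)
-/

set_option autoImplicit false
universe u
open CategoryTheory CategoryTheory.Limits AlgebraicGeometry Opposite

namespace Groth.Agent.Lib.Helper23.AlgSpMor

open AlgSp Groth.Agent.Lib.Helper37.AlgSpPoints Groth.Agent.Lib.Helper12.AlgSpPoints

variable {S : Scheme.{u}}

/-- A morphism of sheaves is closed on points if all its base changes to affine schemes are. -/
theorem isClosedMap_points_of_affine {Z' Z : Sp S} (snd : Z' ⟶ Z)
    (H : ∀ (T : Over S), IsAffine T.left → ∀ (t : (yon S).obj T ⟶ Z) (P : Sp S) (e : P ⟶ Z')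
      (e2 : P ⟶ (yon S).obj T), IsPullback e e2 snd t → IsClosedMap (Points.map e2)) :
    IsClosedMap (Points.map snd) := by
  intro W hW
  rw [Points.isClosed_iff_affine]
  intro T hT t
  have sq : IsPullback (pullback.fst snd t) (pullback.snd snd t) snd t :=
    IsPullback.of_hasPullback snd t
  rw [preimage_ofPt_image_map sq W]
  exact (H T hT t _ _ _ sq _ (hW.preimage (Points.continuous_map _))).preimage
    (Points.schemeHomeo T).continuous

/-- Universal closedness can be tested on affine schemes over the target. -/
theorem isUnivClosedMor_iff_affine {X Y : Sp S} (f : X ⟶ Y) :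
    IsUnivClosedMor f ↔
      ∀ (Z : Over S), IsAffine Z.left → ∀ (g : (yon S).obj Z ⟶ Y) (P : Sp S)
        (fst : P ⟶ X) (snd : P ⟶ (yon S).obj Z), IsPullback fst snd f g →
        IsClosedMap (Points.map snd) := by
  constructor
  · intro hf Z _ g P fst snd sq
    exact hf (IsAlgSpace.yon_obj Z) g fst snd sq
  · intro H Z Z' _ g fst snd sq
    refine isClosedMap_points_of_affine snd fun T hT t P e e2 sq2 => ?_
    exact H T hT (t ≫ g) P (e ≫ fst) e2 (sq2.paste_horiz sq)

/-- The map on points of `h_φ` is closed iff the underlying map of `φ` is. -/
theorem isClosedMap_points_yon_map_iff {T T' : Over S} (φ : T ⟶ T') :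
    IsClosedMap (Points.map ((yon S).map φ)) ↔ IsClosedMap φ.left := by
  rw [Points.map_yon_map_eq]
  constructor
  · intro h
    have := ((Points.schemeHomeo T').symm.isClosedMap.comp h).comp (Points.schemeHomeo T).isClosedMap
    convert this using 1
    ext t
    simp
  · intro h
    exact ((Points.schemeHomeo T').isClosedMap.comp h).comp (Points.schemeHomeo T).symm.isClosedMap

/-- A representable universally closed morphism of sheaves is closed on points. -/
theorem isClosedMap_points_of_repWith_universallyClosed {X Y : Sp S} (f : X ⟶ Y)
    (hf : RepWith @UniversallyClosed f) : IsClosedMap (Points.map f) := by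
  refine Points.isClosedMap_of_affine_charts f fun V _ h => ?_
  refine ⟨hf.rep.pullback h, hf.rep.snd h, hf.rep.fst h, hf.rep.isPullback h, ?_⟩
  have : UniversallyClosed (hf.rep.snd h).left := hf.property_snd h
  exact (hf.rep.snd h).left.isClosedMap

/-- A representable universally closed morphism of sheaves is universally closed. -/
theorem isUnivClosedMor_of_repWith {X Y : Sp S} (f : X ⟶ Y) (hf : RepWith @UniversallyClosed f) :
    IsUnivClosedMor f := by
  intro Z Z' _ g fst snd sq
  exact isClosedMap_points_of_repWith_universallyClosed snd
    ((RepWith @UniversallyClosed).of_isPullback sq hf)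

/-- A representable morphism of sheaves which is universally closed is representable universally
closed. -/
theorem repWith_universallyClosed_of_isUnivClosedMor {X Y : Sp S} (f : X ⟶ Y)
    (hrep : Representable f) (hf : IsUnivClosedMor f) : RepWith @UniversallyClosed f := by
  refine ⟨hrep, fun U V u fst g sq => ?_⟩
  change UniversallyClosed g.left
  refine ⟨MorphismProperty.universally_mk' _ _ fun {T} j _ => ?_⟩
  have hpaste := isPullback_bc_paste g j sq
  have := hf (IsAlgSpace.yon_obj _) _ _ _ hpaste
  exact (isClosedMap_points_yon_map_iff (bcFst g j)).1 this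

end Groth.Agent.Lib.Helper23.AlgSpMor
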