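import Groth.Agent.Lib.Helper23.AlgSpClosed4
import Mathlib.AlgebraicGeometry.ZariskisMainTheorem

/-!
# Separation of the target of a surjective universally closed morphism (helper23)
-/

set_option autoImplicit false
universe u
open CategoryTheory CategoryTheory.Limits AlgebraicGeometry Opposite

namespace Groth.Agent.Lib.Helper23.AlgSpMor

open AlgSp Groth.Agent.Lib.Helper37.AlgSpPoints Groth.Agent.Lib.Helper12.AlgSpPoints

variable {S : Scheme.{u}}

theorem separation_of_surjective_univClosed {X Y B : Sp S} (hX : IsAlgSpace X) (hY : IsAlgSpace Y)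
    (hB : IsAlgSpace B) (f : X ⟶ Y) (p : X ⟶ B) (q : Y ⟶ B) (comm : f ≫ q = p)
    (hs : IsSurjectiveMor f) (hc : IsUnivClosedMor f) :
    (IsQuasiSeparatedMor p → IsQuasiSeparatedMor q) ∧ (IsSeparatedMor p → IsSeparatedMor q) := by
  have sqq : IsPullback (pullback.fst q q) (pullback.snd q q) q q := IsPullback.of_hasPullback q q
  set y₁ := pullback.fst q q with hy₁
  set y₂ := pullback.snd q q with hy₂
  have hYY : IsAlgSpace (pullback q q) := isAlgSpace_of_isPullback hY hY hB.diag sqq
  have sqa : IsPullback (pullback.fst y₂ f) (pullback.snd y₂ f) y₂ f :=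
    IsPullback.of_hasPullback _ _
  set a := pullback.fst y₂ f with ha
  set b := pullback.snd y₂ f with hb
  have hYX : IsAlgSpace (pullback y₂ f) := isAlgSpace_of_isPullback hYY hX hY.diag sqa
  have sqc : IsPullback (pullback.fst (a ≫ y₁) f) (pullback.snd (a ≫ y₁) f) (a ≫ y₁) f :=
    IsPullback.of_hasPullback _ _
  set c := pullback.fst (a ≫ y₁) f with hc'
  set d := pullback.snd (a ≫ y₁) f with hd'
  have hXX : IsAlgSpace (pullback (a ≫ y₁) f) := isAlgSpace_of_isPullback hYX hX hY.diag sqc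
  have sqab : IsPullback b (a ≫ y₁) p q := by
    have := sqa.flip.paste_vert sqq.flip
    rwa [comm] at this
  have sqbig : IsPullback (c ≫ b) d p p := by
    have := sqc.paste_horiz sqab
    rwa [comm] at this
  let h := f ≫ pullback.diagonal q
  have hh1 : h ≫ y₁ = f := by simp [h, hy₁]
  have hh2 : h ≫ y₂ = 𝟙 X ≫ f := by simp [h, hy₂]
  let l₁ : X ⟶ pullback y₂ f := sqa.lift h (𝟙 X) hh2
  have hl₁a : l₁ ≫ a = h := sqa.lift_fst _ _ _
  have hl₁y : l₁ ≫ a ≫ y₁ = 𝟙 X ≫ f := by rw [← Category.assoc, hl₁a, hh1, Category.id_comp]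
  let l₂ : X ⟶ pullback (a ≫ y₁) f := sqc.lift l₁ (𝟙 X) hl₁y
  have hl₂c : l₂ ≫ c = l₁ := sqc.lift_fst _ _ _
  have hl₂d : l₂ ≫ d = 𝟙 X := sqc.lift_snd _ _ _
  have hfac : f ≫ pullback.diagonal q = l₂ ≫ c ≫ a := by
    rw [← Category.assoc, hl₂c, hl₁a]
  have ha_uc : IsUnivClosedMor a := isUnivClosedMor_of_isPullback sqa.flip hc
  have hc_uc : IsUnivClosedMor c := isUnivClosedMor_of_isPullback sqc.flip hc
  have hca_uc : IsUnivClosedMor (c ≫ a) := isUnivClosedMor_comp hYX hYY.diag c a hc_uc ha_uc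
  obtain ⟨hΔrep, hΔlft, hΔmono, hΔsep, -⟩ := diagonal_hom_properties hY q
  obtain ⟨-, -, -, -, -, hsec_sep, hsec_qs⟩ := section_properties hXX d l₂ hl₂d
  constructor
  · intro hp
    have hd : IsQuasiSeparatedMor d :=
      MorphismProperty.of_isPullback (P := (RepWith (S := S) @QuasiCompact).diagonal) sqbig hp
    have hl₂ : IsQuasiCompactMor l₂ := isQuasiCompactMor_of_repWith _ (hsec_qs hd)
    have hca : IsQuasiCompactMor (c ≫ a) := isQuasiCompactMor_of_isUnivClosedMor hXX hYY _ hca_uc
    have hcomp : IsQuasiCompactMor (l₂ ≫ c ≫ a) :=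
      isQuasiCompactMor_comp hXX hYY.diag _ _ hl₂ hca
    rw [← hfac] at hcomp
    have hΔ : IsQuasiCompactMor (pullback.diagonal q) :=
      isQuasiCompactMor_of_surjective_triangle hY hYY.diag f _ hs hcomp
    exact repWith_quasiCompact_of_isQuasiCompactMor _ hΔrep hΔ
  · intro hp
    have hd : IsSeparatedMor d :=
      MorphismProperty.of_isPullback (P := (RepWith (S := S) @IsClosedImmersion).diagonal) sqbig hp
    have hl₂ : IsUnivClosedMor l₂ :=
      isUnivClosedMor_of_repWith _ (repWith_universallyClosed_of_isClosedImmersion _ (hsec_sep hd))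
    have hcomp : IsUnivClosedMor (l₂ ≫ c ≫ a) :=
      isUnivClosedMor_comp hXX hYY.diag _ _ hl₂ hca_uc
    rw [← hfac] at hcomp
    have hΔ : IsUnivClosedMor (pullback.diagonal q) :=
      isUnivClosedMor_of_comp_surjective f _ hs hcomp
    have hΔuc : RepWith @UniversallyClosed (pullback.diagonal q) :=
      repWith_universallyClosed_of_isUnivClosedMor _ hΔrep hΔ
    refine ⟨hΔrep, fun U V u fst g sq => ?_⟩
    change IsClosedImmersion g.left
    have h1 : Mono g.left := hΔmono.property u fst g sq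
    have h2 : LocallyOfFiniteType g.left := hΔlft.property u fst g sq
    have h3 : IsSeparated g.left := hΔsep.property u fst g sq
    have h4 : UniversallyClosed g.left := hΔuc.property u fst g sq
    have h5 : IsProper g.left := {}
    exact (IsClosedImmersion.iff_isProper_and_mono g.left).2 ⟨h5, h1⟩

end Groth.Agent.Lib.Helper23.AlgSpMor
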