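import Groth.Agent.Lib.Helper23.AlgSpLimClosed

/-!
# The predicate "the base change of `f` along `y : h_T ⟶ Y` is closed on points" (helper23)
-/

set_option autoImplicit false
universe u
open CategoryTheory CategoryTheory.Limits AlgebraicGeometry Opposite

namespace Groth.Agent.Lib.Helper23.AlgSpMor

open AlgSp Groth.Agent.Lib.Helper37.AlgSpPoints Groth.Agent.Lib.Helper12.AlgSpPoints

variable {S : Scheme.{u}}

/-- An isomorphism of sheaves is closed on points. -/
theorem isClosedMap_points_of_isIso {A B : Sp S} (e : A ⟶ B) [IsIso e] :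
    IsClosedMap (Points.map e) := by
  intro C hC
  have : Points.map e '' C = Points.map (inv e) ⁻¹' C := by
    ext y
    constructor
    · rintro ⟨x, hx, rfl⟩
      change Points.map (inv e) (Points.map e x) ∈ C
      rw [← Points.map_comp, IsIso.hom_inv_id, Points.map_id]; exact hx
    · intro hy
      refine ⟨Points.map (inv e) y, hy, ?_⟩
      rw [← Points.map_comp, IsIso.inv_hom_id, Points.map_id]
  rw [this]
  exact hC.preimage (Points.continuous_map _)

variable {X Y : Sp S} (f : X ⟶ Y)

/-- The base change of `f` along `y` is closed on points. -/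
def ClosedOver {T : Over S} (y : (yon S).obj T ⟶ Y) : Prop :=
  IsClosedMap (Points.map (pullback.snd f y))

variable {f}

theorem closedOver_iff_of_isPullback {T : Over S} {y : (yon S).obj T ⟶ Y} {P : Sp S}
    {fst : P ⟶ X} {snd : P ⟶ (yon S).obj T} (sq : IsPullback fst snd f y) :
    ClosedOver f y ↔ IsClosedMap (Points.map snd) := by
  have h1 : snd = sq.isoPullback.hom ≫ pullback.snd f y := (sq.isoPullback_hom_snd).symm
  have h2 : pullback.snd f y = sq.isoPullback.inv ≫ snd := (sq.isoPullback_inv_snd).symm
  constructor
  · intro h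
    rw [h1]
    have : Points.map (sq.isoPullback.hom ≫ pullback.snd f y) =
        Points.map (pullback.snd f y) ∘ Points.map sq.isoPullback.hom := by
      funext z; exact Points.map_comp _ _ _
    rw [this]
    exact h.comp (isClosedMap_points_of_isIso _)
  · intro h
    change IsClosedMap (Points.map (pullback.snd f y))
    rw [h2]
    have : Points.map (sq.isoPullback.inv ≫ snd) =
        Points.map snd ∘ Points.map sq.isoPullback.inv := by
      funext z; exact Points.map_comp _ _ _
    rw [this]
    exact h.comp (isClosedMap_points_of_isIso _)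

/-- Invariance under isomorphisms of the test scheme. -/
theorem ClosedOver.precomp_iso {T T' : Over S} {y : (yon S).obj T ⟶ Y} (h : ClosedOver f y)
    (e : T' ≅ T) : ClosedOver f ((yon S).map e.hom ≫ y) := by
  have sq : IsPullback (pullback.fst f ((yon S).map e.hom ≫ y))
      (pullback.snd f ((yon S).map e.hom ≫ y)) f ((yon S).map e.hom ≫ y) :=
    IsPullback.of_hasPullback _ _
  have sq' : IsPullback (pullback.fst f ((yon S).map e.hom ≫ y))
      (pullback.snd f ((yon S).map e.hom ≫ y) ≫ (yon S).map e.hom) f y :=
    IsPullback.of_iso sq (Iso.refl _) (Iso.refl _) ((yon S).mapIso e) (Iso.refl _)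
      (by simp) (by simp) (by simp) (by simp)
  have h1 := (closedOver_iff_of_isPullback sq').1 h
  change IsClosedMap (Points.map (pullback.snd f ((yon S).map e.hom ≫ y)))
  have h2 : pullback.snd f ((yon S).map e.hom ≫ y) =
      (pullback.snd f ((yon S).map e.hom ≫ y) ≫ (yon S).map e.hom) ≫ (yon S).map e.inv := by
    rw [Category.assoc, ← Functor.map_comp, e.hom_inv_id, CategoryTheory.Functor.map_id,
      Category.comp_id]
  rw [h2]
  have : Points.map ((pullback.snd f ((yon S).map e.hom ≫ y) ≫ (yon S).map e.hom) ≫
      (yon S).map e.inv) = Points.map ((yon S).map e.inv) ∘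
        Points.map (pullback.snd f ((yon S).map e.hom ≫ y) ≫ (yon S).map e.hom) := by
    funext z; exact Points.map_comp _ _ _
  rw [this]
  have : IsIso ((yon S).map e.inv) := inferInstance
  exact (isClosedMap_points_of_isIso _).comp h1

/-- Base change along a preimmersion of test schemes. -/
theorem ClosedOver.precomp_preimmersion (hX : IsAlgSpace X) (hY : IsAlgSpace Y) {T T' : Over S}
    {y : (yon S).obj T ⟶ Y} (h : ClosedOver f y) (i : T' ⟶ T) (hi : IsPreimmersion i.left) :
    ClosedOver f ((yon S).map i ≫ y) := by
  have sq : IsPullback (pullback.fst f ((yon S).map i ≫ y)) (pullback.snd f ((yon S).map i ≫ y)) f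
      ((yon S).map i ≫ y) := IsPullback.of_hasPullback _ _
  have sqy : IsPullback (pullback.fst f y) (pullback.snd f y) f y := IsPullback.of_hasPullback _ _
  let j' : pullback f ((yon S).map i ≫ y) ⟶ pullback f y :=
    sqy.lift (pullback.fst f ((yon S).map i ≫ y))
      (pullback.snd f ((yon S).map i ≫ y) ≫ (yon S).map i) (by rw [Category.assoc]; exact sq.w)
  have hj1 : j' ≫ pullback.fst f y = pullback.fst f ((yon S).map i ≫ y) := sqy.lift_fst _ _ _
  have hj2 : j' ≫ pullback.snd f y = pullback.snd f ((yon S).map i ≫ y) ≫ (yon S).map i :=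
    sqy.lift_snd _ _ _
  have sqj : IsPullback j' (pullback.snd f ((yon S).map i ≫ y)) (pullback.snd f y)
      ((yon S).map i) := by
    refine (IsPullback.of_bot ?_ hj2.symm sqy.flip).flip
    rw [hj1]; exact sq.flip
  have hPy : IsAlgSpace (pullback f y) :=
    isAlgSpace_of_isPullback hX (IsAlgSpace.yon_obj T) hY.diag sqy
  have hrep : RepWith @IsPreimmersion j' :=
    (RepWith @IsPreimmersion).of_isPullback sqj.flip ((repWith_yon_map_iff @IsPreimmersion i).2 hi)
  have hind : Topology.IsInducing (Points.map j') :=
    isInducing_points_of_repWith (Q := @IsPreimmersion)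
      (fun g hg => by
        have : IsPreimmersion g := hg
        exact g.isEmbedding.isInducing) hPy j' hrep
  exact isClosedMap_of_isPullback_of_isInducing sqj hind h

/-- Locality on the test scheme for the Zariski topology. -/
theorem closedOver_of_openCover {T : Over S} (y : (yon S).obj T ⟶ Y) {ι : Type*}
    (O : ι → T.left.Opens) (hO : ⨆ k, O k = ⊤)
    (H : ∀ k, ClosedOver f
      ((yon S).map (Over.homMk (O k).ι rfl : Over.mk ((O k).ι ≫ T.hom) ⟶ T) ≫ y)) :
    ClosedOver f y := by
  refine isClosedMap_points_of_openCover (pullback.snd f y) O hO fun k P e e2 sq => ?_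
  have sqy : IsPullback (pullback.fst f y) (pullback.snd f y) f y := IsPullback.of_hasPullback _ _
  exact (closedOver_iff_of_isPullback (sq.paste_horiz sqy)).1 (H k)

end Groth.Agent.Lib.Helper23.AlgSpMor
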