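import Mathlib
import Groth.Agent.Lib.Helper5.FppfLocal

/-!
# fpqc / fppf descent for quasi-compact morphisms, monomorphisms and closed immersions (helper23)
-/

set_option autoImplicit false
universe u
open CategoryTheory CategoryTheory.Limits AlgebraicGeometry MorphismProperty

namespace Groth.Agent.Lib.Helper23

/-- Quasi-compactness satisfies fpqc descent. -/
instance descendsAlong_quasiCompact_fpqc :
    DescendsAlong @QuasiCompact.{u} (@Surjective ⊓ @Flat ⊓ @QuasiCompact) := by
  refine IsZariskiLocalAtTarget.descendsAlong_inf_quasiCompact _ _ ?_ ?_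
  · rw [inf_comm]
    exact inf_le_inf le_rfl (IsLocalIso.le_of_isZariskiLocalAtSource _)
  intro R S Y φ g hφ hfst
  have h1 : QuasiCompact (pullback.fst (Spec.map φ) g) := hfst
  have h2 : Surjective (Spec.map φ) := hφ.1
  have h3 : CompactSpace ↥(pullback (Spec.map φ) g) :=
    QuasiCompact.compactSpace_of_compactSpace (pullback.fst (Spec.map φ) g)
  have h4 : Surjective (pullback.snd (Spec.map φ) g) := inferInstance
  have h5 : CompactSpace ↥Y := by
    refine ⟨?_⟩
    rw [← (pullback.snd (Spec.map φ) g).surjective.range_eq]
    exact isCompact_range (pullback.snd (Spec.map φ) g).continuous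
  exact (quasiCompact_iff_compactSpace g).mpr h5

/-- Monomorphisms satisfy fpqc descent. -/
instance descendsAlong_monomorphisms_fpqc :
    DescendsAlong (monomorphisms Scheme.{u}) (@Surjective ⊓ @Flat ⊓ @QuasiCompact) := by
  rw [← diagonal_isomorphisms]
  infer_instance

/-- Closed immersions satisfy fpqc descent. -/
instance descendsAlong_isClosedImmersion_fpqc :
    DescendsAlong @IsClosedImmersion.{u} (@Surjective ⊓ @Flat ⊓ @QuasiCompact) := by
  refine ⟨fun {A X Y Z fst snd f g} h hf hfst => ?_⟩
  have h0 : IsClosedImmersion fst := hfst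
  have h1 : UniversallyClosed g :=
    of_isPullback_of_descendsAlong (P := @UniversallyClosed) h hf inferInstance
  have h2 : LocallyOfFiniteType g :=
    of_isPullback_of_descendsAlong (P := @LocallyOfFiniteType) h hf inferInstance
  have h3 : Mono g :=
    of_isPullback_of_descendsAlong (P := monomorphisms Scheme.{u}) h hf
      (show Mono fst from inferInstance)
  exact (IsClosedImmersion.iff_isProper_and_mono g).mpr ⟨{}, h3⟩

instance : MorphismProperty.IsLocalAtTarget (@QuasiCompact : MorphismProperty Scheme.{u})
    Scheme.fppfPrecoverage.{u} :=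
  Groth.Agent.Lib.Helper5.isLocalAtTarget_fppf _

instance : MorphismProperty.IsLocalAtTarget (@IsClosedImmersion : MorphismProperty Scheme.{u})
    Scheme.fppfPrecoverage.{u} :=
  Groth.Agent.Lib.Helper5.isLocalAtTarget_fppf _

instance : MorphismProperty.IsLocalAtTarget (monomorphisms Scheme.{u})
    Scheme.fppfPrecoverage.{u} :=
  Groth.Agent.Lib.Helper5.isLocalAtTarget_fppf _

end Groth.Agent.Lib.Helper23
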