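import Groth.Agent.Lib.Helper23.AlgSpDiag3
import Groth.Agent.Lib.Helper23.FppfDescent
import Groth.Agent.S9884
import Groth.Agent.S9885

/-!
# Separatedness descends along etale surjective base change (helper23)
-/

set_option autoImplicit false
universe u
open CategoryTheory CategoryTheory.Limits AlgebraicGeometry Opposite

namespace Groth.Agent.Lib.Helper23.AlgSpMor

section Cat

variable {C : Type*} [Category C] [HasPullbacks C]

/-- For a pullback square `P = X ×_Y V`, the induced map `P ×_V P ⟶ X ×_Y X` is a base change of
`V ⟶ Y`. -/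
theorem isPullback_map_of_isPullback {P V X Y : C} {fst : P ⟶ X} {snd : P ⟶ V} {f : X ⟶ Y}
    {p : V ⟶ Y} (sq : IsPullback fst snd f p) (m : pullback snd snd ⟶ pullback f f)
    (hm1 : m ≫ pullback.fst f f = pullback.fst snd snd ≫ fst)
    (hm2 : m ≫ pullback.snd f f = pullback.snd snd snd ≫ fst) :
    IsPullback m (pullback.fst snd snd ≫ snd) (pullback.fst f f ≫ f) p := by
  refine ⟨⟨?_⟩, ⟨PullbackCone.IsLimit.mk _ ?_ ?_ ?_ ?_⟩⟩
  · rw [← Category.assoc, hm1, Category.assoc, sq.w, Category.assoc]
  · intro c
    have hc := c.condition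
    refine pullback.lift (sq.lift (c.fst ≫ pullback.fst f f) c.snd (by
        rw [Category.assoc]; exact hc))
      (sq.lift (c.fst ≫ pullback.snd f f) c.snd (by
        rw [Category.assoc, ← pullback.condition]; exact hc)) ?_
    rw [sq.lift_snd, sq.lift_snd]
  · intro c
    apply pullback.hom_ext
    · rw [Category.assoc, hm1, ← Category.assoc, pullback.lift_fst, sq.lift_fst]
    · rw [Category.assoc, hm2, ← Category.assoc, pullback.lift_snd, sq.lift_fst]
  · intro c
    rw [← Category.assoc, pullback.lift_fst, sq.lift_snd]
  · intro c k hk1 hk2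
    apply pullback.hom_ext
    · rw [pullback.lift_fst]
      apply sq.hom_ext
      · rw [sq.lift_fst, Category.assoc, ← hm1, ← Category.assoc, hk1]
      · rw [sq.lift_snd, Category.assoc, hk2]
    · rw [pullback.lift_snd]
      apply sq.hom_ext
      · rw [sq.lift_fst, Category.assoc, ← hm2, ← Category.assoc, hk1]
      · rw [sq.lift_snd, Category.assoc, ← pullback.condition, hk2]

end Cat

open AlgSp

variable {S : Scheme.{u}}

/-- A representable etale surjective morphism of sheaves is locally surjective. -/
theorem isLocallySurjective_of_etale_surjective {F G : Sp S} (a : F ⟶ G)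
    (h1 : RepWith @Etale a) (h2 : RepWith @Surjective a) : Sheaf.IsLocallySurjective a :=
  Groth.Agent.S9885.result S F G a
    (MorphismProperty.relative_monotone (fun _ _ g hg => by
      have : Etale g.left := hg
      exact (inferInstance : Flat g.left)) _ h1)
    (MorphismProperty.relative_monotone (fun _ _ g hg => by
      have : Etale g.left := hg
      exact (inferInstance : LocallyOfFinitePresentation g.left)) _ h1) h2

/-- A property (fppf local on the target) of the diagonal descends along a representable etale surjective
base change. -/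
theorem repWith_diagonal_of_etale_cover (Q : MorphismProperty Scheme.{u})
    [Q.IsStableUnderBaseChange] [Q.IsLocalAtTarget Scheme.fppfPrecoverage]
    {X Y V P : Sp S} (f : X ⟶ Y) (hΔ : Representable (pullback.diagonal f)) (p : V ⟶ Y)
    (hp : RepWith @Etale p) (hps : RepWith @Surjective p) {fst : P ⟶ X} {snd : P ⟶ V}
    (sq : IsPullback fst snd f p) (h : RepWith Q (pullback.diagonal snd)) :
    RepWith Q (pullback.diagonal f) := by
  let m : pullback snd snd ⟶ pullback f f := pullback.map _ _ _ _ fst fst p sq.w.symm sq.w.symm
  have hm1 : m ≫ pullback.fst f f = pullback.fst snd snd ≫ fst := pullback.lift_fst _ _ _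
  have hm2 : m ≫ pullback.snd f f = pullback.snd snd snd ≫ fst := pullback.lift_snd _ _ _
  have sqm := isPullback_map_of_isPullback sq m hm1 hm2
  have hme : RepWith @Etale m := (RepWith @Etale).of_isPullback sqm.flip hp
  have hms : RepWith @Surjective m := (RepWith @Surjective).of_isPullback sqm.flip hps
  have : Sheaf.IsLocallySurjective m := isLocallySurjective_of_etale_surjective m hme hms
  exact Groth.Agent.S9884.result S _ _ _ (pullback.diagonal f) hΔ m _ fst (pullback.diagonal snd)
    (isPullback_diagonal sq m hm1 hm2) Q h

theorem separation_of_etale_cover {X Y V P : Sp S} (hX : IsAlgSpace X) (f : X ⟶ Y) (p : V ⟶ Y)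
    (hp : RepWith @Etale p) (hps : RepWith @Surjective p) {fst : P ⟶ X} {snd : P ⟶ V}
    (sq : IsPullback fst snd f p) :
    (IsSeparatedMor snd → IsSeparatedMor f) ∧ (IsQuasiSeparatedMor snd → IsQuasiSeparatedMor f) :=
  ⟨fun h => repWith_diagonal_of_etale_cover _ f (diagonal_hom_properties hX f).1 p hp hps sq h,
    fun h => repWith_diagonal_of_etale_cover _ f (diagonal_hom_properties hX f).1 p hp hps sq h⟩

end Groth.Agent.Lib.Helper23.AlgSpMor
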