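import Groth.Agent.Lib.Helper23.AlgSpDiag4

/-!
# Separatedness tested on affine base changes (helper23)
-/

set_option autoImplicit false
universe u
open CategoryTheory CategoryTheory.Limits AlgebraicGeometry Opposite

namespace Groth.Agent.Lib.Helper23.AlgSpMor

open AlgSp

variable {S : Scheme.{u}}

/-- Two representing pullback squares of the same morphism along the same map have isomorphic
projections, so a property respecting isomorphisms holds for one iff for the other. -/
theorem property_of_isPullback_of_isPullback (Q : MorphismProperty Scheme.{u}) [Q.RespectsIso]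
    {A B : Sp S} {φ : A ⟶ B} {T W W' : Over S} {t : (yon S).obj T ⟶ B}
    {a : (yon S).obj W ⟶ A} {b : W ⟶ T} (sq : IsPullback a ((yon S).map b) φ t)
    {a' : (yon S).obj W' ⟶ A} {b' : W' ⟶ T} (sq' : IsPullback a' ((yon S).map b') φ t)
    (h : Q b'.left) : Q b.left := by
  let e : W ≅ W' := (yon S).preimageIso (sq.isoIsPullback _ _ sq')
  have he : e.hom ≫ b' = b := by
    apply (yon S).map_injective
    rw [Functor.map_comp]
    simp [e]
  have : b.left = e.hom.left ≫ b'.left := by rw [← he]; rfl
  rw [this]
  have : IsIso e.hom.left := (inferInstance : IsIso ((Over.forget S).map e.hom))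
  exact (Q.cancel_left_of_respectsIso e.hom.left b'.left).2 h

/-- A representable morphism of sheaves has `Q` (Zariski local on the target, stable under base change)
in the representable sense as soon as every base change to an affine scheme has a representing square
with `Q`. -/
theorem repWith_of_affine (Q : MorphismProperty Scheme.{u}) [Q.IsStableUnderBaseChange]
    [IsZariskiLocalAtTarget Q] {A B : Sp S} (φ : A ⟶ B) (hrep : Representable φ)
    (H : ∀ (T : Over S), IsAffine T.left → ∀ t : (yon S).obj T ⟶ B,
      ∃ (W : Over S) (a : (yon S).obj W ⟶ A) (b : W ⟶ T),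
        IsPullback a ((yon S).map b) φ t ∧ Q b.left) : RepWith Q φ := by
  have : Q.RespectsIso := MorphismProperty.IsStableUnderBaseChange.respectsIso
  refine ⟨hrep, fun T W t a b sq => ?_⟩
  change Q b.left
  rw [IsZariskiLocalAtTarget.iff_of_openCover (P := Q) T.left.affineCover]
  intro i
  have hp := isPullback_bc_paste b (T.left.affineCover.f i) sq
  have haff : IsAffine (bcBase (T.left.affineCover.f i)).left := by
    change IsAffine (T.left.affineCover.X i)
    infer_instance
  obtain ⟨W', a', b', sq', hb'⟩ := H _ haff ((yon S).map (bcBaseι (T.left.affineCover.f i)) ≫ t)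
  have h1 : Q (bcFst b (T.left.affineCover.f i)).left :=
    property_of_isPullback_of_isPullback Q hp sq' hb'
  change Q (pullback.snd b.left (T.left.affineCover.f i))
  rw [← pullbackSymmetry_hom_comp_fst, Q.cancel_left_of_respectsIso]
  exact h1

/-- The local form of `repWith_diagonal_of_repWith`: a representing square with `Q` for the
diagonal of `f` along `t`, from `Q` for the diagonal of a base change of `f`. -/
theorem exists_isPullback_diagonal (Q : MorphismProperty Scheme.{u}) {X Y : Sp S} (f : X ⟶ Y)
    {T : Over S} (t : (yon S).obj T ⟶ pullback f f) {P : Sp S} {a : P ⟶ X}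
    {g : P ⟶ (yon S).obj T} (sq : IsPullback a g f ((t ≫ pullback.fst f f) ≫ f))
    (h : RepWith Q (pullback.diagonal g)) :
    ∃ (W : Over S) (a' : (yon S).obj W ⟶ X) (b : W ⟶ T),
      IsPullback a' ((yon S).map b) (pullback.diagonal f) t ∧ Q b.left := by
  have ht : (t ≫ pullback.fst f f) ≫ f = (t ≫ pullback.snd f f) ≫ f := by
    rw [Category.assoc, Category.assoc, pullback.condition]
  let s1 : (yon S).obj T ⟶ P :=
    sq.lift (t ≫ pullback.fst f f) (𝟙 _) (by rw [Category.id_comp])
  let s2 : (yon S).obj T ⟶ P :=
    sq.lift (t ≫ pullback.snd f f) (𝟙 _) (by rw [Category.id_comp]; exact ht.symm)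
  let σ : (yon S).obj T ⟶ pullback g g :=
    pullback.lift s1 s2 (by rw [sq.lift_snd, sq.lift_snd])
  let m : pullback g g ⟶ pullback f f :=
    pullback.map _ _ _ _ a a ((t ≫ pullback.fst f f) ≫ f) sq.w.symm sq.w.symm
  have hm1 : m ≫ pullback.fst f f = pullback.fst _ _ ≫ a := pullback.lift_fst _ _ _
  have hm2 : m ≫ pullback.snd f f = pullback.snd _ _ ≫ a := pullback.lift_snd _ _ _
  have hσ : σ ≫ m = t := by
    apply pullback.hom_ext
    · rw [Category.assoc, hm1, ← Category.assoc, pullback.lift_fst, sq.lift_fst]
    · rw [Category.assoc, hm2, ← Category.assoc, pullback.lift_snd, sq.lift_fst]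
  have sq2 := h.rep.isPullback σ
  have sq3 := sq2.paste_horiz (isPullback_diagonal sq m hm1 hm2)
  rw [hσ] at sq3
  exact ⟨_, _, _, sq3, h.property_snd σ⟩

/-- A property of diagonals (stable under base change, Zariski local on the target) can be tested on
base changes to affine schemes. -/
theorem repWith_diagonal_iff_affine (Q : MorphismProperty Scheme.{u}) [Q.IsStableUnderBaseChange]
    [IsZariskiLocalAtTarget Q] {X Y : Sp S} (f : X ⟶ Y)
    (hΔ : Representable (pullback.diagonal f)) :
    RepWith Q (pullback.diagonal f) ↔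
      ∀ (Z : Over S), IsAffine Z.left → ∀ (g : (yon S).obj Z ⟶ Y) (P : Sp S)
        (fst : P ⟶ X) (snd : P ⟶ (yon S).obj Z), IsPullback fst snd f g →
        RepWith Q (pullback.diagonal snd) := by
  constructor
  · intro h Z _ g P fst snd sq
    have h' : (RepWith (S := S) Q).diagonal f := h
    exact MorphismProperty.of_isPullback (P := (RepWith (S := S) Q).diagonal) sq h'
  · intro H
    refine repWith_of_affine Q _ hΔ fun T hT t => ?_
    have sq : IsPullback (pullback.fst f ((t ≫ pullback.fst f f) ≫ f))
        (pullback.snd f ((t ≫ pullback.fst f f) ≫ f)) f ((t ≫ pullback.fst f f) ≫ f) :=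
      IsPullback.of_hasPullback _ _
    exact exists_isPullback_diagonal Q f t sq (H T hT _ _ _ _ sq)

theorem separation_iff_affine_base_change {X Y : Sp S} (hX : IsAlgSpace X) (f : X ⟶ Y) :
    (IsSeparatedMor f ↔
      ∀ (Z : Over S), IsAffine Z.left → ∀ (g : (yon S).obj Z ⟶ Y) (P : Sp S)
        (fst : P ⟶ X) (snd : P ⟶ (yon S).obj Z), IsPullback fst snd f g →
        IsSeparatedMor snd) ∧
    (IsQuasiSeparatedMor f ↔
      ∀ (Z : Over S), IsAffine Z.left → ∀ (g : (yon S).obj Z ⟶ Y) (P : Sp S)
        (fst : P ⟶ X) (snd : P ⟶ (yon S).obj Z), IsPullback fst snd f g →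
        IsQuasiSeparatedMor snd) :=
  ⟨repWith_diagonal_iff_affine _ f (diagonal_hom_properties hX f).1,
    repWith_diagonal_iff_affine _ f (diagonal_hom_properties hX f).1⟩

end Groth.Agent.Lib.Helper23.AlgSpMor
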