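import Mathlib

/-!
# An fppf cover of the spectrum of a discrete valuation ring from a specializing point (helper23)

Given an affine scheme `U` locally of finite type over a discrete valuation ring `A`, a field-valued
point `mL : Spec L ⟶ U` over the generic point and a specialization `u` of it over the closed point,
the scheme-theoretic closure `T` of the point is a flat, finitely presented, surjective cover of
`Spec A`, and `Spec (L ⊗_A L) ⟶ T ×_A T` induces an injection on global sections.
-/

set_option autoImplicit false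
universe u
open CategoryTheory CategoryTheory.Limits AlgebraicGeometry TensorProduct

namespace Groth.Agent.Lib.Helper23.DvrCover

section Algebra

variable {A : Type u} [CommRing A] [IsDomain A] [IsDiscreteValuationRing A]

theorem isTorsionFree_of_injective_field {R L : Type u} [CommRing R] [Algebra A R] [Field L]
    [Algebra A L] (ρ : R →ₐ[A] L) (hρ : Function.Injective ρ)
    (hAL : Function.Injective (algebraMap A L)) : Module.IsTorsionFree A R where
  isSMulRegular r hr x y h := by
    apply hρ
    have h1 : ρ (r • x) = ρ (r • y) := congrArg ρ h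
    rw [map_smul, map_smul, Algebra.smul_def, Algebra.smul_def] at h1
    have hr0 : algebraMap A L r ≠ 0 := by
      intro h0
      have : r = 0 := hAL (by rw [h0, map_zero])
      exact hr.ne_zero this
    exact mul_left_cancel₀ hr0 h1

theorem flat_of_injective_field {R L : Type u} [CommRing R] [Algebra A R] [Field L]
    [Algebra A L] (ρ : R →ₐ[A] L) (hρ : Function.Injective ρ)
    (hAL : Function.Injective (algebraMap A L)) : Module.Flat A R := by
  have := isTorsionFree_of_injective_field ρ hρ hAL
  infer_instance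

theorem tensor_map_injective {R L : Type u} [CommRing R] [Algebra A R] [Field L]
    [Algebra A L] (ρ : R →ₐ[A] L) (hρ : Function.Injective ρ)
    (hAL : Function.Injective (algebraMap A L)) :
    Function.Injective (Algebra.TensorProduct.map ρ ρ) := by
  have h1 : Module.Flat A R := flat_of_injective_field ρ hρ hAL
  have h2 : Module.Flat A L := flat_of_injective_field (AlgHom.id A L) Function.injective_id hAL
  exact TensorProduct.map_injective_of_flat_flat ρ.toLinearMap ρ.toLinearMap hρ hρ

omit [IsDomain A] [IsDiscreteValuationRing A] in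
/-- Two ring maps out of the fraction field agreeing on `A`. -/
theorem include_eq_on_fractionRing {K L : Type u} [Field K] [Algebra A K] [IsFractionRing A K]
    [Field L] [Algebra A L] (ψ : K →+* L) (hψ : ψ.comp (algebraMap A K) = algebraMap A L) :
    (Algebra.TensorProduct.includeLeftRingHom : L →+* L ⊗[A] L).comp ψ =
      ((Algebra.TensorProduct.includeRight : L →ₐ[A] L ⊗[A] L) : L →+* L ⊗[A] L).comp ψ := by
  apply IsLocalization.ringHom_ext (nonZeroDivisors A)
  ext a
  simp only [RingHom.comp_apply]
  have := congrArg (fun φ => φ a) hψ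
  simp only [RingHom.comp_apply] at this
  rw [this]
  simp [Algebra.TensorProduct.includeLeftRingHom, Algebra.algebraMap_eq_smul_one]

end Algebra

/-- `Spec.map φ` induces an injection on global sections when `φ` is injective. -/
theorem injective_appTop_SpecMap {B C : CommRingCat.{u}} (φ : B ⟶ C)
    (hφ : Function.Injective φ.hom) : Function.Injective (Spec.map φ).appTop := by
  have h2 : (Spec.map φ).appTop =
      (Scheme.ΓSpecIso B).hom ≫ φ ≫ (Scheme.ΓSpecIso C).inv := by
    rw [← Category.assoc, ← Scheme.ΓSpecIso_naturality, Category.assoc, Iso.hom_inv_id,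
      Category.comp_id]
  rw [h2]
  intro a b hab
  simp only [CommRingCat.hom_comp, RingHom.coe_comp, Function.comp_apply] at hab
  have h3 := (ConcreteCategory.bijective_of_isIso (Scheme.ΓSpecIso C).inv).1 hab
  have h4 := hφ h3
  exact (ConcreteCategory.bijective_of_isIso (Scheme.ΓSpecIso B).hom).1 h4

open IsLocalRing in
/-- The points of the spectrum of a discrete valuation ring: generic or closed. -/
theorem asIdeal_eq_bot_or_eq_closedPoint {A : Type u} [CommRing A] [IsDomain A]
    [IsDiscreteValuationRing A] (x : Spec (.of A)) :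
    x.asIdeal = ⊥ ∨ x = closedPoint A := by
  by_cases h : x.asIdeal = ⊥
  · exact Or.inl h
  · right
    have hmax : x.asIdeal.IsMaximal := x.isPrime.isMaximal h
    apply PrimeSpectrum.ext
    exact IsLocalRing.eq_maximalIdeal hmax

open IsLocalRing in
/-- **The cover.** -/
theorem exists_fppf_cover_of_point {A : Type u} [CommRing A] [IsDomain A]
    [IsDiscreteValuationRing A] {U : Scheme.{u}} [IsAffine U] (g : U ⟶ Spec (.of A))
    [LocallyOfFiniteType g] {L : Type u} [Field L] (mL : Spec (.of L) ⟶ U) (ιL : A →+* L)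
    (hιL : Function.Injective ιL) (hm : mL ≫ g = Spec.map (CommRingCat.ofHom ιL))
    (u : U) (hu : mL (closedPoint L) ⤳ u) (hgu : g u = closedPoint A) :
    ∃ (T RT D : Scheme.{u}) (iT : T ⟶ U) (mbar : Spec (.of L) ⟶ T) (p₁ p₂ : RT ⟶ T)
      (d : D ⟶ RT) (q₁ q₂ : D ⟶ Spec (.of L)),
      mbar ≫ iT = mL ∧ Flat (iT ≫ g) ∧ LocallyOfFinitePresentation (iT ≫ g) ∧
      Surjective (iT ≫ g) ∧ IsPullback p₁ p₂ (iT ≫ g) (iT ≫ g) ∧ IsAffine RT ∧
      Function.Injective d.appTop ∧ d ≫ p₁ = q₁ ≫ mbar ∧ d ≫ p₂ = q₂ ≫ mbar ∧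
      ∀ {K : Type u} [Field K] [Algebra A K] [IsFractionRing A K]
        (w : Spec (.of L) ⟶ Spec (.of K)),
        w ≫ Spec.map (CommRingCat.ofHom (algebraMap A K)) = Spec.map (CommRingCat.ofHom ιL) →
          q₁ ≫ w = q₂ ≫ w := by
  -- the ring map of the point
  let R₀ : CommRingCat.{u} := Γ(U, ⊤)
  let ρ : R₀ ⟶ .of L := mL.appTop ≫ (Scheme.ΓSpecIso (.of L)).hom
  have hρ : mL = Spec.map ρ ≫ U.isoSpec.inv := by
    rw [Iso.eq_comp_inv, ← Scheme.isoSpec_hom_naturality, Scheme.isoSpec_Spec_hom,
      ← Spec.map_comp]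
  let I : Ideal R₀ := RingHom.ker ρ.hom
  let Rbar : Type u := R₀ ⧸ I
  let π : R₀ ⟶ .of Rbar := CommRingCat.ofHom (Ideal.Quotient.mk I)
  let ρbar : CommRingCat.of Rbar ⟶ .of L := CommRingCat.ofHom (RingHom.kerLift ρ.hom)
  have hπρ : π ≫ ρbar = ρ := by
    ext x
    exact RingHom.kerLift_mk ρ.hom x
  have hρbar_inj : Function.Injective ρbar.hom := RingHom.kerLift_injective ρ.hom
  let T : Scheme.{u} := Spec (.of Rbar)
  let iT : T ⟶ U := Spec.map π ≫ U.isoSpec.inv
  let mbar : Spec (.of L) ⟶ T := Spec.map ρbar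
  have hmbar : mbar ≫ iT = mL := by
    rw [hρ, ← hπρ, Spec.map_comp, Category.assoc]
  have hci : IsClosedImmersion (Spec.map π) :=
    IsClosedImmersion.spec_of_surjective π Ideal.Quotient.mk_surjective
  have hciT : IsClosedImmersion iT := inferInstance
  let τ : T ⟶ Spec (.of A) := iT ≫ g
  let θ : CommRingCat.of A ⟶ .of Rbar := Spec.preimage τ
  have hθ : Spec.map θ = τ := Spec.map_preimage τ
  have hθρ : θ ≫ ρbar = CommRingCat.ofHom ιL := by
    apply Spec.map_injective
    rw [Spec.map_comp, hθ, ← hm, ← hmbar, Category.assoc]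
  letI algR : Algebra A Rbar := θ.hom.toAlgebra
  letI algL : Algebra A L := ιL.toAlgebra
  have hθalg : CommRingCat.ofHom (algebraMap A Rbar) = θ := rfl
  let ρa : Rbar →ₐ[A] L :=
    { RingHom.kerLift ρ.hom with
      commutes' := fun a => by
        have := congrArg (fun φ => φ.hom a) hθρ
        exact this }
  have hρa_inj : Function.Injective ρa := hρbar_inj
  have hAL : Function.Injective (algebraMap A L) := hιL
  -- flatness
  have hflat : Flat τ := by
    rw [← hθ]
    refine (HasRingHomProperty.Spec_iff (P := @Flat)).2 ?_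
    change Module.Flat A Rbar
    exact flat_of_injective_field ρa hρa_inj hAL
  -- finite presentation
  have hlft : LocallyOfFiniteType τ := inferInstance
  have hlfp : LocallyOfFinitePresentation τ := inferInstance
  -- surjectivity
  have hsurj : Surjective τ := by
    refine ⟨fun x => ?_⟩
    rcases asIdeal_eq_bot_or_eq_closedPoint x with hx | hx
    · refine ⟨mbar (closedPoint L), ?_⟩
      have h1 : τ (mbar (closedPoint L)) = (Spec.map (CommRingCat.ofHom ιL)) (closedPoint L) := by
        rw [← hm, ← hmbar]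
        rfl
      rw [h1]
      apply PrimeSpectrum.ext
      rw [hx]
      change Ideal.comap ιL (maximalIdeal L) = ⊥
      rw [IsLocalRing.maximalIdeal_eq_bot, ← RingHom.ker_eq_comap_bot]
      exact (RingHom.injective_iff_ker_eq_bot ιL).1 hιL
    · have hmem : u ∈ Set.range iT := by
        have hcl : IsClosed (Set.range iT) := iT.isClosedEmbedding.isClosed_range
        refine hcl.stableUnderSpecialization hu ⟨mbar (closedPoint L), ?_⟩
        rw [← hmbar]
        rfl
      obtain ⟨t, ht⟩ := hmem
      refine ⟨t, ?_⟩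
      change g (iT t) = x
      rw [ht, hgu, hx]
  -- the fibre products
  let RT : Scheme.{u} := Spec (.of (Rbar ⊗[A] Rbar))
  let p₁ : RT ⟶ T := Spec.map (CommRingCat.ofHom Algebra.TensorProduct.includeLeftRingHom)
  let p₂ : RT ⟶ T := Spec.map (CommRingCat.ofHom
    (Algebra.TensorProduct.includeRight : Rbar →ₐ[A] Rbar ⊗[A] Rbar).toRingHom)
  have hpb : IsPullback p₁ p₂ τ τ := by
    rw [← hθ, ← hθalg]
    exact isPullback_SpecMap_of_isPushout _ _ _ _ (CommRingCat.isPushout_tensorProduct A Rbar Rbar)
  let D : Scheme.{u} := Spec (.of (L ⊗[A] L))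
  let d : D ⟶ RT := Spec.map (CommRingCat.ofHom (Algebra.TensorProduct.map ρa ρa).toRingHom)
  let q₁ : D ⟶ Spec (.of L) := Spec.map (CommRingCat.ofHom Algebra.TensorProduct.includeLeftRingHom)
  let q₂ : D ⟶ Spec (.of L) := Spec.map (CommRingCat.ofHom
    (Algebra.TensorProduct.includeRight : L →ₐ[A] L ⊗[A] L).toRingHom)
  have hd : Function.Injective d.appTop :=
    injective_appTop_SpecMap _ (tensor_map_injective ρa hρa_inj hAL)
  have hd1 : d ≫ p₁ = q₁ ≫ mbar := by
    change Spec.map _ ≫ Spec.map _ = Spec.map _ ≫ Spec.map _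
    rw [← Spec.map_comp, ← Spec.map_comp]
    congr 1
    ext x
    change (Algebra.TensorProduct.map ρa ρa) (x ⊗ₜ 1) = (ρa x) ⊗ₜ 1
    rw [Algebra.TensorProduct.map_tmul, map_one]
  have hd2 : d ≫ p₂ = q₂ ≫ mbar := by
    change Spec.map _ ≫ Spec.map _ = Spec.map _ ≫ Spec.map _
    rw [← Spec.map_comp, ← Spec.map_comp]
    congr 1
    ext x
    change (Algebra.TensorProduct.map ρa ρa) (1 ⊗ₜ x) = 1 ⊗ₜ (ρa x)
    rw [Algebra.TensorProduct.map_tmul, map_one]
  refine ⟨T, RT, D, iT, mbar, p₁, p₂, d, q₁, q₂, hmbar, hflat, hlfp, hsurj, hpb, inferInstance,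
    hd, hd1, hd2, ?_⟩
  intro K _ _ _ w hw
  let ψ : CommRingCat.of K ⟶ .of L := Spec.preimage w
  have hψ : Spec.map ψ = w := Spec.map_preimage w
  have hψA : ψ.hom.comp (algebraMap A K) = algebraMap A L := by
    have h1 : CommRingCat.ofHom (algebraMap A K) ≫ ψ = CommRingCat.ofHom ιL := by
      apply Spec.map_injective
      rw [Spec.map_comp, hψ, hw]
    exact congrArg CommRingCat.Hom.hom h1
  have key := include_eq_on_fractionRing (A := A) ψ.hom hψA
  rw [← hψ]
  change Spec.map _ ≫ Spec.map _ = Spec.map _ ≫ Spec.map _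
  rw [← Spec.map_comp, ← Spec.map_comp]
  congr 1
  ext x
  exact congrArg (fun φ => φ x) key

end Groth.Agent.Lib.Helper23.DvrCover
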