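import Groth.Agent.Lib.Helper23.ValCoverAlg
import Groth.Agent.Lib.Helper23.DvrCover

/-!
# An etale cover of `Spec A` from a lift over a faithfully flat extension (helper23)
-/

set_option autoImplicit false
set_option linter.style.haveILetI false
universe u
open CategoryTheory CategoryTheory.Limits AlgebraicGeometry TensorProduct

namespace Groth.Agent.Lib.Helper23.ValCover

open Groth.Agent.Lib.Helper23.DvrCover

/-- `Spec.map` of an injective ring map into a domain target... is scheme-theoretically dominant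
when the source ring is reduced. -/
theorem isSchemeTheoreticallyDominant_SpecMap {R R' : Type u} [CommRing R] [IsReduced R]
    [CommRing R'] (f : R →+* R') (hf : Function.Injective f) :
    IsSchemeTheoreticallyDominant (Spec.map (CommRingCat.ofHom f)) := by
  have hd : IsDominant (Spec.map (CommRingCat.ofHom f)) := by
    rw [isDominant_iff]
    change DenseRange (PrimeSpectrum.comap f)
    rw [PrimeSpectrum.denseRange_comap_iff_ker_le_nilRadical,
      (RingHom.injective_iff_ker_eq_bot f).1 hf]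
    exact bot_le
  exact IsSchemeTheoreticallyDominant.of_isDominant _

/-- A morphism from an affine scheme to `Spec R` in terms of the ring map. -/
theorem eq_isoSpec_hom_comp_SpecMap {X : Scheme.{u}} [IsAffine X] {R : CommRingCat.{u}}
    (f : X ⟶ Spec R) :
    f = X.isoSpec.hom ≫ Spec.map ((Scheme.ΓSpecIso R).inv ≫ f.appTop) := by
  have h := Scheme.isoSpec_hom_naturality f
  rw [Scheme.isoSpec_Spec_hom] at h
  rw [Spec.map_comp, ← Category.assoc, h, Category.assoc, ← Spec.map_comp, Iso.inv_hom_id,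
    Spec.map_id, Category.comp_id]

theorem ΓSpecIso_inv_comp_appTop {R R' : CommRingCat.{u}} (f : R ⟶ R') :
    (Scheme.ΓSpecIso R).inv ≫ (Spec.map f).appTop = f ≫ (Scheme.ΓSpecIso R').inv := by
  rw [Iso.inv_comp_eq, ← Category.assoc, Iso.eq_comp_inv, Scheme.ΓSpecIso_naturality]

/-- **The etale cover.** -/
theorem exists_etale_cover_of_domExt
    {A A' K K' : Type u} [CommRing A] [IsDomain A] [CommRing A'] [IsDomain A'] [Field K] [Field K']
    [Algebra A K] [IsFractionRing A K] [Algebra A' K']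
    (hA'K' : Function.Injective (algebraMap A' K'))
    (φ : A →+* A') (ψ : K →+* K')
    (hφψ : (algebraMap A' K').comp φ = ψ.comp (algebraMap A K)) (hφ : φ.FaithfullyFlat)
    {U V' VK W Q : Scheme.{u}} [IsAffine U] [IsAffine V'] [IsAffine VK]
    (g : U ⟶ Spec (.of A))
    (i' : V' ⟶ U) (e' : V' ⟶ Spec (.of A'))
    (h' : i' ≫ g = e' ≫ Spec.map (CommRingCat.ofHom φ)) [Etale e'] [Surjective e']
    (pU : Q ⟶ U) (pA' : Q ⟶ Spec (.of A'))
    (hQ : IsPullback pU pA' g (Spec.map (CommRingCat.ofHom φ)))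
    (κ : V' ⟶ Q) (hci : IsClosedImmersion κ) (hκ1 : κ ≫ pU = i') (hκ2 : κ ≫ pA' = e')
    (iK : VK ⟶ U) (eK : VK ⟶ Spec (.of K))
    (hK : iK ≫ g = eK ≫ Spec.map (CommRingCat.ofHom (algebraMap A K)))
    (w' : W ⟶ V') (wK : W ⟶ VK) (eW : W ⟶ Spec (.of K'))
    (hW1 : IsPullback w' eW e' (Spec.map (CommRingCat.ofHom (algebraMap A' K'))))
    (hW2 : IsPullback wK eW eK (Spec.map (CommRingCat.ofHom ψ)))
    (hW3 : w' ≫ i' = wK ≫ iK) :
    ∃ (T RT D : Scheme.{u}) (iT : T ⟶ U) (m : VK ⟶ T) (p₁ p₂ : RT ⟶ T) (d : D ⟶ RT)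
      (q₁ q₂ : D ⟶ VK),
      m ≫ iT = iK ∧ Flat (iT ≫ g) ∧ LocallyOfFinitePresentation (iT ≫ g) ∧
      Surjective (iT ≫ g) ∧ IsPullback p₁ p₂ (iT ≫ g) (iT ≫ g) ∧ IsAffine RT ∧
      Function.Injective d.appTop ∧ d ≫ p₁ = q₁ ≫ m ∧ d ≫ p₂ = q₂ ≫ m ∧ q₁ ≫ eK = q₂ ≫ eK := by
  -- rings
  let B : CommRingCat.{u} := Γ(U, ⊤)
  let B' : CommRingCat.{u} := Γ(V', ⊤)
  let E : CommRingCat.{u} := Γ(VK, ⊤)
  let N : CommRingCat.{u} := Γ(W, ⊤)
  let a : CommRingCat.of A ⟶ B := (Scheme.ΓSpecIso (.of A)).inv ≫ g.appTop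
  let bE : B ⟶ E := iK.appTop
  let kE : CommRingCat.of K ⟶ E := (Scheme.ΓSpecIso (.of K)).inv ≫ eK.appTop
  let b' : B ⟶ B' := i'.appTop
  let a' : CommRingCat.of A' ⟶ B' := (Scheme.ΓSpecIso (.of A')).inv ≫ e'.appTop
  let ε : E ⟶ N := wK.appTop
  let ν₀ : B' ⟶ N := w'.appTop
  let κ' : CommRingCat.of K' ⟶ N := (Scheme.ΓSpecIso (.of K')).inv ≫ eW.appTop
  have r1 : a ≫ bE = CommRingCat.ofHom (algebraMap A K) ≫ kE := by
    change ((Scheme.ΓSpecIso _).inv ≫ g.appTop) ≫ iK.appTop =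
      _ ≫ (Scheme.ΓSpecIso _).inv ≫ eK.appTop
    rw [Category.assoc, ← Scheme.Hom.comp_appTop, hK, Scheme.Hom.comp_appTop, ← Category.assoc,
      ΓSpecIso_inv_comp_appTop, Category.assoc]
  have r2 : a ≫ b' = CommRingCat.ofHom φ ≫ a' := by
    change ((Scheme.ΓSpecIso _).inv ≫ g.appTop) ≫ i'.appTop =
      _ ≫ (Scheme.ΓSpecIso _).inv ≫ e'.appTop
    rw [Category.assoc, ← Scheme.Hom.comp_appTop, h', Scheme.Hom.comp_appTop, ← Category.assoc,
      ΓSpecIso_inv_comp_appTop, Category.assoc]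
  have r3 : b' ≫ ν₀ = bE ≫ ε := by
    change i'.appTop ≫ w'.appTop = iK.appTop ≫ wK.appTop
    rw [← Scheme.Hom.comp_appTop, ← Scheme.Hom.comp_appTop, hW3]
  have r4 : a' ≫ ν₀ = CommRingCat.ofHom (algebraMap A' K') ≫ κ' := by
    change ((Scheme.ΓSpecIso _).inv ≫ e'.appTop) ≫ w'.appTop =
      _ ≫ (Scheme.ΓSpecIso _).inv ≫ eW.appTop
    rw [Category.assoc, ← Scheme.Hom.comp_appTop, hW1.w, Scheme.Hom.comp_appTop, ← Category.assoc,
      ΓSpecIso_inv_comp_appTop, Category.assoc]
  have r5 : kE ≫ ε = CommRingCat.ofHom ψ ≫ κ' := by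
    change ((Scheme.ΓSpecIso _).inv ≫ eK.appTop) ≫ wK.appTop =
      _ ≫ (Scheme.ΓSpecIso _).inv ≫ eW.appTop
    rw [Category.assoc, ← Scheme.Hom.comp_appTop, hW2.w, Scheme.Hom.comp_appTop, ← Category.assoc,
      ΓSpecIso_inv_comp_appTop, Category.assoc]
  -- algebra structures
  letI algAA' : Algebra A A' := φ.toAlgebra
  letI algKK' : Algebra K K' := ψ.toAlgebra
  letI algAK' : Algebra A K' := ((algebraMap A' K').comp φ).toAlgebra
  haveI : IsScalarTower A A' K' := IsScalarTower.of_algebraMap_eq (fun _ => rfl)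
  haveI : IsScalarTower A K K' := IsScalarTower.of_algebraMap_eq (fun x => by
    change (algebraMap A' K') (φ x) = ψ (algebraMap A K x)
    exact congrArg (fun f => f x) hφψ)
  letI algAB : Algebra A B := a.hom.toAlgebra
  letI algAE : Algebra A E := (a ≫ bE).hom.toAlgebra
  letI algKE : Algebra K E := kE.hom.toAlgebra
  haveI : IsScalarTower A K E := IsScalarTower.of_algebraMap_eq (fun x => by
    change (a ≫ bE).hom x = kE.hom (algebraMap A K x)
    rw [r1]; rfl)
  letI algAB' : Algebra A B' := (a ≫ b').hom.toAlgebra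
  letI algA'B' : Algebra A' B' := a'.hom.toAlgebra
  haveI : IsScalarTower A A' B' := IsScalarTower.of_algebraMap_eq (fun x => by
    change (a ≫ b').hom x = a'.hom (φ x)
    rw [r2]; rfl)
  haveI : Module.FaithfullyFlat A A' := hφ
  let bEa : B →ₐ[A] E := { bE.hom with commutes' := fun _ => rfl }
  let b'a : B →ₐ[A] B' := { b'.hom with commutes' := fun _ => rfl }
  haveI hEt : Algebra.Etale A' B' := by
    have h0 := eq_isoSpec_hom_comp_SpecMap e'
    have h2 : Etale (V'.isoSpec.hom ≫ Spec.map a') := by rw [← h0]; infer_instance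
    have h1 : Etale (Spec.map a') := (MorphismProperty.cancel_left_of_respectsIso @Etale _ _).1 h2
    exact (HasRingHomProperty.Spec_iff (P := @Etale)).1 h1
  -- `N` as the tensor product
  have hP0 := isPushout_appTop_of_isPullback hW2
  have hP1 : IsPushout (CommRingCat.ofHom ψ) kE κ' ε := by
    refine hP0.flip.of_iso (Scheme.ΓSpecIso (.of K)) (Scheme.ΓSpecIso (.of K')) (Iso.refl _)
      (Iso.refl _) ?_ ?_ ?_ ?_
    · exact Scheme.ΓSpecIso_naturality _
    · change eK.appTop ≫ 𝟙 _ = _ ≫ _ ≫ eK.appTop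
      rw [Category.comp_id, Iso.hom_inv_id_assoc]
    · change eW.appTop ≫ 𝟙 _ = _ ≫ _ ≫ eW.appTop
      rw [Category.comp_id, Iso.hom_inv_id_assoc]
    · change wK.appTop ≫ 𝟙 _ = 𝟙 _ ≫ wK.appTop
      rw [Category.comp_id, Category.id_comp]
  have hT := CommRingCat.isPushout_tensorProduct K K' E
  let isoN : N ≅ CommRingCat.of (K' ⊗[K] E) := hP1.isoIsPushout _ _ hT
  let ν : B' →+* K' ⊗[K] E := (ν₀ ≫ isoN.hom).hom
  have hν1 : ∀ b, ν (b'a b) = 1 ⊗ₜ bEa b := by
    intro b
    have h1 : b' ≫ ν₀ ≫ isoN.hom =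
        bE ≫ CommRingCat.ofHom (Algebra.TensorProduct.includeRight.toRingHom) := by
      rw [← Category.assoc, r3, Category.assoc]
      congr 1
      exact hP1.inr_isoIsPushout_hom _ _ hT
    exact congrArg (fun f => f.hom b) h1
  have hν2 : ∀ x, ν (algebraMap A' B' x) = (algebraMap A' K' x) ⊗ₜ 1 := by
    intro x
    have h1 : a' ≫ ν₀ ≫ isoN.hom = CommRingCat.ofHom (algebraMap A' K') ≫
        CommRingCat.ofHom Algebra.TensorProduct.includeLeftRingHom := by
      rw [← Category.assoc, r4, Category.assoc]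
      congr 1
      exact hP1.inl_isoIsPushout_hom _ _ hT
    exact congrArg (fun f => f.hom x) h1
  have hνinj : Function.Injective ν := by
    have hdom := isSchemeTheoreticallyDominant_SpecMap (algebraMap A' K') hA'K'
    haveI : Flat e' := inferInstance
    haveI hw' : IsSchemeTheoreticallyDominant w' :=
      IsSchemeTheoreticallyDominant.of_isPullback hW1.flip
    haveI : QuasiCompact w' :=
      MorphismProperty.of_isPullback (P := @QuasiCompact) hW1.flip inferInstance
    have h1 : Function.Injective w'.appTop := w'.app_injective ⊤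
    intro x y hxy
    apply h1
    exact (ConcreteCategory.bijective_of_isIso isoN.hom).1 hxy
  have hsurj : Algebra.adjoin A' (Set.range b'a) = ⊤ := by
    haveI : IsAffine Q := IsAffine.of_isPullback hQ
    obtain ⟨-, hs⟩ := IsClosedImmersion.isAffine_surjective_of_isAffine κ
    have hcl := CommRingCat.closure_range_union_range_eq_top_of_isPushout
      (isPushout_appTop_of_isPullback hQ)
    rw [eq_top_iff]
    rintro y -
    obtain ⟨m, rfl⟩ := hs y
    have hm : m ∈ Subring.closure (Set.range pU.appTop ∪ Set.range pA'.appTop) := by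
      rw [hcl]; trivial
    induction hm using Subring.closure_induction with
    | mem x hx =>
      rcases hx with ⟨b, rfl⟩ | ⟨x, rfl⟩
      · have : κ.appTop (pU.appTop b) = b'a b := by
          rw [← CommRingCat.comp_apply, ← Scheme.Hom.comp_appTop, hκ1]
          rfl
        rw [this]
        exact Algebra.subset_adjoin ⟨b, rfl⟩
      · have : κ.appTop (pA'.appTop x) =
            algebraMap A' B' ((Scheme.ΓSpecIso (.of A')).hom x) := by
          rw [← CommRingCat.comp_apply, ← Scheme.Hom.comp_appTop, hκ2]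
          change e'.appTop x = ((Scheme.ΓSpecIso (.of A')).inv ≫ e'.appTop)
            ((Scheme.ΓSpecIso (.of A')).hom x)
          simp
        rw [this]
        exact Subalgebra.algebraMap_mem _ _
    | zero => simp
    | one => simp
    | add x y _ _ hx hy => rw [map_add]; exact add_mem hx hy
    | mul x y _ _ hx hy => rw [map_mul]; exact mul_mem hx hy
    | neg x _ hx => rw [map_neg]; exact neg_mem hx
  have hCet : Algebra.Etale A (B ⧸ RingHom.ker bEa) :=
    etale_quotient bEa b'a ν hν1 hν2 hνinj hA'K' hsurj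
  -- the cover
  let C : Type u := B ⧸ RingHom.ker bEa
  let ιa : C →ₐ[A] E := Ideal.kerLiftAlg bEa
  let γa : C →ₐ[A] B' := gammaHom bEa b'a ν hν1 hνinj
  let π : B ⟶ CommRingCat.of C := CommRingCat.ofHom (Ideal.Quotient.mk _)
  let ι : CommRingCat.of C ⟶ E := CommRingCat.ofHom ιa.toRingHom
  let γ : CommRingCat.of C ⟶ B' := CommRingCat.ofHom γa.toRingHom
  have hπι : π ≫ ι = bE := by
    ext x
    rfl
  have hπγ : π ≫ γ = b' := by
    ext x
    exact gammaHom_mk bEa b'a ν hν1 hνinj x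
  let T : Scheme.{u} := Spec (.of C)
  let iT : T ⟶ U := Spec.map π ≫ U.isoSpec.inv
  let m : VK ⟶ T := VK.isoSpec.hom ≫ Spec.map ι
  let mγ : V' ⟶ T := V'.isoSpec.hom ≫ Spec.map γ
  have hm : m ≫ iT = iK := by
    change (VK.isoSpec.hom ≫ Spec.map ι) ≫ Spec.map π ≫ U.isoSpec.inv = iK
    rw [Category.assoc, ← Category.assoc (Spec.map ι), ← Spec.map_comp, hπι, ← Category.assoc,
      Iso.comp_inv_eq]
    exact Scheme.isoSpec_hom_naturality iK
  have hmγ : mγ ≫ iT = i' := by
    change (V'.isoSpec.hom ≫ Spec.map γ) ≫ Spec.map π ≫ U.isoSpec.inv = i'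
    rw [Category.assoc, ← Category.assoc (Spec.map γ), ← Spec.map_comp, hπγ, ← Category.assoc,
      Iso.comp_inv_eq]
    exact Scheme.isoSpec_hom_naturality i'
  have hτ : iT ≫ g = Spec.map (CommRingCat.ofHom (algebraMap A C)) := by
    have hg := eq_isoSpec_hom_comp_SpecMap g
    change (Spec.map π ≫ U.isoSpec.inv) ≫ g = _
    rw [Category.assoc]
    conv_lhs => rw [hg]
    rw [Iso.inv_hom_id_assoc, ← Spec.map_comp]
    rfl
  have hτet : Etale (iT ≫ g) := by
    rw [hτ]
    exact (HasRingHomProperty.Spec_iff (P := @Etale)).2 (RingHom.etale_algebraMap.2 hCet)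
  have hflat : Flat (iT ≫ g) := inferInstance
  have hlfp : LocallyOfFinitePresentation (iT ≫ g) := inferInstance
  have hsφ : Surjective (Spec.map (CommRingCat.ofHom φ)) := ⟨by
    change Function.Surjective (PrimeSpectrum.comap φ)
    exact PrimeSpectrum.comap_surjective_of_faithfullyFlat (A := A) (B := A')⟩
  have hsurjτ : Surjective (iT ≫ g) := by
    have h1 : mγ ≫ iT ≫ g = e' ≫ Spec.map (CommRingCat.ofHom φ) := by
      rw [← Category.assoc, hmγ, h']
    have h2 : Surjective (mγ ≫ iT ≫ g) := by rw [h1]; infer_instance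
    exact Surjective.of_comp mγ (iT ≫ g)
  -- fibre products
  let RT : Scheme.{u} := Spec (.of (C ⊗[A] C))
  let p₁ : RT ⟶ T := Spec.map (CommRingCat.ofHom Algebra.TensorProduct.includeLeftRingHom)
  let p₂ : RT ⟶ T := Spec.map (CommRingCat.ofHom
    (Algebra.TensorProduct.includeRight : C →ₐ[A] C ⊗[A] C).toRingHom)
  have hpb : IsPullback p₁ p₂ (iT ≫ g) (iT ≫ g) := by
    rw [hτ]
    exact isPullback_SpecMap_of_isPushout _ _ _ _ (CommRingCat.isPushout_tensorProduct A C C)
  let D : Scheme.{u} := Spec (.of (E ⊗[A] E))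
  let d : D ⟶ RT := Spec.map (CommRingCat.ofHom (Algebra.TensorProduct.map ιa ιa).toRingHom)
  let q₁ : D ⟶ VK :=
    Spec.map (CommRingCat.ofHom Algebra.TensorProduct.includeLeftRingHom) ≫ VK.isoSpec.inv
  let q₂ : D ⟶ VK := Spec.map (CommRingCat.ofHom
    (Algebra.TensorProduct.includeRight : E →ₐ[A] E ⊗[A] E).toRingHom) ≫ VK.isoSpec.inv
  have : Module.Flat A C := inferInstance
  have hd : Function.Injective d.appTop :=
    injective_appTop_SpecMap _ (tensor_kerLift_injective K bEa)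
  have hd1 : d ≫ p₁ = q₁ ≫ m := by
    change Spec.map _ ≫ Spec.map _ = (Spec.map _ ≫ VK.isoSpec.inv) ≫ VK.isoSpec.hom ≫ Spec.map ι
    rw [Category.assoc, Iso.inv_hom_id_assoc, ← Spec.map_comp, ← Spec.map_comp]
    congr 1
    ext x
    change (Algebra.TensorProduct.map ιa ιa) (x ⊗ₜ 1) = (ιa x) ⊗ₜ 1
    rw [Algebra.TensorProduct.map_tmul, map_one]
  have hd2 : d ≫ p₂ = q₂ ≫ m := by
    change Spec.map _ ≫ Spec.map _ = (Spec.map _ ≫ VK.isoSpec.inv) ≫ VK.isoSpec.hom ≫ Spec.map ι
    rw [Category.assoc, Iso.inv_hom_id_assoc, ← Spec.map_comp, ← Spec.map_comp]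
    congr 1
    ext x
    change (Algebra.TensorProduct.map ιa ιa) (1 ⊗ₜ x) = 1 ⊗ₜ (ιa x)
    rw [Algebra.TensorProduct.map_tmul, map_one]
  have hq : q₁ ≫ eK = q₂ ≫ eK := by
    have heK := eq_isoSpec_hom_comp_SpecMap eK
    have hkey := include_eq_on_fractionRing' (A := A) (K := K) (E := E) kE.hom
      (by
        ext x
        exact (IsScalarTower.algebraMap_apply A K E x).symm)
    change (Spec.map _ ≫ VK.isoSpec.inv) ≫ eK = (Spec.map _ ≫ VK.isoSpec.inv) ≫ eK
    rw [heK, Category.assoc, Category.assoc, Iso.inv_hom_id_assoc,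
      ← Spec.map_comp, ← Spec.map_comp]
    congr 1
    ext x
    exact congrArg (fun f => f x) hkey
  exact ⟨T, RT, D, iT, m, p₁, p₂, d, q₁, q₂, hm, hflat, hlfp, hsurjτ, hpb, inferInstance, hd, hd1,
    hd2, hq⟩

end Groth.Agent.Lib.Helper23.ValCover
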