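import Groth.Agent.Lib.Helper23.AlgSpDvrLift
import Groth.Agent.Lib.Helper23.ValCover

/-!
# Lifts in valuative squares descend along dominating extensions, for separated morphisms (helper23)
-/

set_option autoImplicit false
set_option linter.style.haveILetI false
universe u
open CategoryTheory CategoryTheory.Limits AlgebraicGeometry Opposite

namespace Groth.Agent.Lib.Helper23.AlgSpMor

open AlgSp Groth.Agent.Lib.Helper37.AlgSpPoints Groth.Agent.Lib.Helper12.AlgSpPoints
open Groth.Agent.Lib.Helper37.AlgSpFibres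
open Groth.Agent.Lib.Helper23.DvrCover Groth.Agent.Lib.Helper23.ValCover

variable {S : Scheme.{u}}

/-- For a separated `s : P ⟶ h_{B₀}`, a chart `a : h_U ⟶ P` and a `T`-valued point `t` of `P`, the
scheme representing `h_U ×_P h_T` is a closed subscheme of `U ×_{B₀} T`. -/
theorem exists_closedImmersion_of_chart_pullback {P : Sp S} {B₀ : Over S}
    (s : P ⟶ (yon S).obj B₀) (hs : RepWith @IsClosedImmersion (pullback.diagonal s))
    {U : Over S} (a : (yon S).obj U ⟶ P) (c₀ : U ⟶ B₀) (hc₀ : (yon S).map c₀ = a ≫ s)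
    {T : Scheme.{u}} (j : T ⟶ B₀.left) (t : (yon S).obj (bcBase (U := B₀) j) ⟶ P)
    (ht : t ≫ s = (yon S).map (bcBaseι (U := B₀) j))
    {V : Over S} (r1 : V ⟶ U) (r2 : V ⟶ bcBase (U := B₀) j)
    (hV : IsPullback ((yon S).map r1) ((yon S).map r2) a t) :
    ∃ κ : V ⟶ bcTop c₀ j, κ ≫ bcSnd c₀ j = r1 ∧ κ ≫ bcFst c₀ j = r2 ∧
      IsClosedImmersion κ.left := by
  have comm : r2 ≫ bcBaseι (U := B₀) j = r1 ≫ c₀ := by
    apply (yon S).map_injective
    rw [Functor.map_comp, Functor.map_comp, hc₀, ← ht, ← Category.assoc, ← Category.assoc, hV.w]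
  let κ : V ⟶ bcTop c₀ j := (isPullback_bc c₀ j).lift r2 r1 comm
  have hκ1 : κ ≫ bcFst c₀ j = r2 := (isPullback_bc c₀ j).lift_fst _ _ _
  have hκ2 : κ ≫ bcSnd c₀ j = r1 := (isPullback_bc c₀ j).lift_snd _ _ _
  have hmd : RepWith @IsClosedImmersion (pullback.mapDesc a t s) :=
    repWith_mapDesc_of_diagonal _ a t s hs
  have hQ' : IsPullback ((yon S).map (bcSnd c₀ j)) ((yon S).map (bcFst c₀ j)) (a ≫ s) (t ≫ s) := by
    rw [← hc₀, ht]
    exact (isPullback_yon_bc c₀ j).flip
  have hcomm : (yon S).map κ ≫ hQ'.isoPullback.hom = hV.isoPullback.hom ≫ pullback.mapDesc a t s := by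
    apply pullback.hom_ext
    · rw [Category.assoc, IsPullback.isoPullback_hom_fst, ← Functor.map_comp, hκ2, Category.assoc]
      have : pullback.mapDesc a t s ≫ pullback.fst _ _ = pullback.fst _ _ := by
        unfold pullback.mapDesc pullback.map
        rw [pullback.lift_fst, Category.comp_id]
      rw [this, IsPullback.isoPullback_hom_fst]
    · rw [Category.assoc, IsPullback.isoPullback_hom_snd, ← Functor.map_comp, hκ1, Category.assoc]
      have : pullback.mapDesc a t s ≫ pullback.snd _ _ = pullback.snd _ _ := by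
        unfold pullback.mapDesc pullback.map
        rw [pullback.lift_snd, Category.comp_id]
      rw [this, IsPullback.isoPullback_hom_snd]
  have sq : IsPullback ((yon S).map κ) hV.isoPullback.hom hQ'.isoPullback.hom
      (pullback.mapDesc a t s) := IsPullback.of_vert_isIso ⟨hcomm⟩
  have hκ : RepWith @IsClosedImmersion ((yon S).map κ) :=
    (RepWith @IsClosedImmersion).of_isPullback sq.flip hmd
  exact ⟨κ, hκ2, hκ1, (repWith_yon_map_iff @IsClosedImmersion κ).1 hκ⟩

/-- Comparison of the two chart pullbacks over a common refinement of the points. -/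
theorem exists_pullback_comparison {P : Sp S} {U V' VK A₁ K₁ K₂ : Over S}
    (a : (yon S).obj U ⟶ P) (l : (yon S).obj A₁ ⟶ P) (t : (yon S).obj K₁ ⟶ P)
    (r1' : V' ⟶ U) (r2' : V' ⟶ A₁) (hV' : IsPullback ((yon S).map r1') ((yon S).map r2') a l)
    (r1 : VK ⟶ U) (r2 : VK ⟶ K₁) (hVK : IsPullback ((yon S).map r1) ((yon S).map r2) a t)
    (cA : K₂ ⟶ A₁) (cK : K₂ ⟶ K₁) (hc : (yon S).map cA ≫ l = (yon S).map cK ≫ t)
    {W : Over S} (wK : W ⟶ VK) (eW : W ⟶ K₂) (hW : IsPullback wK eW r2 cK) :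
    ∃ w' : W ⟶ V', w' ≫ r1' = wK ≫ r1 ∧ IsPullback w' eW r2' cA := by
  have big : IsPullback ((yon S).map wK ≫ (yon S).map r1) ((yon S).map eW) a
      ((yon S).map cK ≫ t) := (hW.map (yon S)).paste_horiz hVK
  rw [← hc] at big
  have hw : ((yon S).map wK ≫ (yon S).map r1) ≫ a = ((yon S).map eW ≫ (yon S).map cA) ≫ l := by
    rw [big.w, Category.assoc]
  obtain ⟨w', hw'⟩ := (yon S).map_surjective (hV'.lift _ _ hw)
  have h1 : (yon S).map w' ≫ (yon S).map r1' = (yon S).map wK ≫ (yon S).map r1 := by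
    rw [hw', hV'.lift_fst]
  have h2 : (yon S).map w' ≫ (yon S).map r2' = (yon S).map eW ≫ (yon S).map cA := by
    rw [hw', hV'.lift_snd]
  rw [← h1] at big
  have left := IsPullback.of_right big h2 hV'
  refine ⟨w', ?_, ?_⟩
  · apply (yon S).map_injective
    rw [Functor.map_comp, Functor.map_comp, h1]
  · refine IsPullback.of_map (yon S) ?_ left
    apply (yon S).map_injective
    rw [Functor.map_comp, Functor.map_comp, h2]

/-- A dominating extension of valuation rings is faithfully flat. -/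
theorem faithfullyFlat_of_domExt {A A' K K' : Type u} [CommRing A] [IsDomain A] [ValuationRing A]
    [CommRing A'] [IsDomain A'] [ValuationRing A'] [Field K] [Field K'] [Algebra A K]
    [IsFractionRing A K] [Algebra A' K'] [IsFractionRing A' K'] (φ : A →+* A') (ψ : K →+* K')
    (hcomm : (algebraMap A' K').comp φ = ψ.comp (algebraMap A K)) (hloc : IsLocalHom φ) :
    φ.FaithfullyFlat := by
  letI : Algebra A A' := φ.toAlgebra
  have hinj : Function.Injective φ := by
    rw [injective_iff_map_eq_zero]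
    intro x hx
    have h1 : ψ (algebraMap A K x) = 0 := by
      have := congrArg (fun f => f x) hcomm
      simp only [RingHom.comp_apply] at this
      rw [← this, hx, map_zero]
    have h2 : algebraMap A K x = 0 := by
      rwa [map_eq_zero_iff ψ ψ.injective] at h1
    exact (map_eq_zero_iff _ (IsFractionRing.injective A K)).1 h2
  have htf : Submodule.torsion A A' = ⊥ := by
    rw [eq_bot_iff]
    rintro y ⟨⟨r, hr⟩, h⟩
    have hr0 : φ r ≠ 0 := by
      intro h0
      have : r = 0 := hinj (by rw [h0, map_zero])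
      exact nonZeroDivisors.ne_zero hr this
    have h' : φ r * y = 0 := h
    rcases mul_eq_zero.1 h' with h1 | h1
    · exact absurd h1 hr0
    · exact h1
  have hflat : Module.Flat A A' := Module.Flat.flat_iff_torsion_eq_bot_of_isBezout.2 htf
  have : IsLocalHom (algebraMap A A') := hloc
  exact Module.FaithfullyFlat.of_flat_of_isLocalHom

open IsLocalRing in
/-- **Lifts descend along dominating extensions** for separated morphisms of algebraic spaces. -/
theorem hasLift_of_domExt_of_separated {X Y : Sp S} (hX : IsAlgSpace X) (hY : IsAlgSpace Y)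
    (f : X ⟶ Y) (hsep : IsSeparatedMor f) (sq : ValSq f) (e : sq.DomExt) (he : e.HasLift) :
    sq.HasLift := by
  obtain ⟨l', hl1, hl2⟩ := he
  -- base change
  let P := pullback f sq.bot
  let fstP : P ⟶ X := pullback.fst f sq.bot
  let sndP : P ⟶ (yon S).obj sq.ptA := pullback.snd f sq.bot
  have psq : IsPullback fstP sndP f sq.bot := IsPullback.of_hasPullback _ _
  have hP : IsAlgSpace P := isAlgSpace_of_isPullback hX (IsAlgSpace.yon_obj _) hY.diag psq
  let tP : (yon S).obj sq.ptK ⟶ P := pullback.lift sq.top ((yon S).map sq.j) sq.comm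
  have htP1 : tP ≫ fstP = sq.top := pullback.lift_fst _ _ _
  have htP2 : tP ≫ sndP = (yon S).map sq.j := pullback.lift_snd _ _ _
  have hsepP : RepWith @IsClosedImmersion (pullback.diagonal sndP) :=
    isSeparatedMor_of_isPullback psq hsep
  -- the maps of points
  let cAA : e.ptA' ⟶ sq.ptA := Over.homMk (Spec.map (CommRingCat.ofHom e.φ)) rfl
  let cKA : e.ptK' ⟶ e.ptA' :=
    Over.homMk (Spec.map (CommRingCat.ofHom (algebraMap e.A' e.K'))) rfl
  have hcKK : Spec.map (CommRingCat.ofHom e.ψ) ≫ sq.ptK.hom = e.ptK'.hom := by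
    change Spec.map _ ≫ Spec.map _ ≫ _ = Spec.map _ ≫ Spec.map _ ≫ _
    rw [← Spec.map_comp_assoc, ← Spec.map_comp_assoc, ← CommRingCat.ofHom_comp,
      ← CommRingCat.ofHom_comp, e.comm]
  let cKK : e.ptK' ⟶ sq.ptK := Over.homMk (Spec.map (CommRingCat.ofHom e.ψ)) hcKK
  have hl1' : (yon S).map cKA ≫ l' = (yon S).map cKK ≫ sq.top := hl1
  have hl2' : l' ≫ f = (yon S).map cAA ≫ sq.bot := hl2
  let lP : (yon S).obj e.ptA' ⟶ P := pullback.lift l' ((yon S).map cAA) hl2'
  have hlP1 : lP ≫ fstP = l' := pullback.lift_fst _ _ _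
  have hlP2 : lP ≫ sndP = (yon S).map cAA := pullback.lift_snd _ _ _
  have hcomp : cKA ≫ cAA = cKK ≫ sq.j := by
    apply Over.OverMorphism.ext
    change Spec.map _ ≫ Spec.map _ = Spec.map _ ≫ Spec.map _
    rw [← Spec.map_comp, ← Spec.map_comp, ← CommRingCat.ofHom_comp, ← CommRingCat.ofHom_comp,
      e.comm]
  have hlt : (yon S).map cKA ≫ lP = (yon S).map cKK ≫ tP := by
    apply pullback.hom_ext
    · change ((yon S).map cKA ≫ lP) ≫ fstP = ((yon S).map cKK ≫ tP) ≫ fstP
      rw [Category.assoc, Category.assoc, hlP1, htP1]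
      exact hl1'
    · change ((yon S).map cKA ≫ lP) ≫ sndP = ((yon S).map cKK ≫ tP) ≫ sndP
      rw [Category.assoc, Category.assoc, hlP2, htP2, ← Functor.map_comp, ← Functor.map_comp,
        hcomp]
  -- the chart
  let x' := Points.ofPt lP (closedPoint e.A')
  obtain ⟨U₁, a₁, ha₁e, ha₁s⟩ := hP.atlas
  obtain ⟨u₁, hu₁⟩ := ofPt_surjective a₁ ha₁s x'
  obtain ⟨U₀, hU₀, hu₁U₀, -⟩ := exists_isAffineOpen_mem_and_subset
    (show u₁ ∈ (⊤ : U₁.left.Opens) from trivial)
  let U : Over S := openOver U₁ U₀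
  let a : (yon S).obj U ⟶ P := (yon S).map (openι U₁ U₀) ≫ a₁
  have hae : RepWith @Etale a := repWith_etale_restrict a₁ ha₁e U₀
  have hUaff : IsAffine U.left := hU₀
  let u : ↥U.left := ⟨u₁, hu₁U₀⟩
  have hu : Points.ofPt a u = Points.ofPt lP (closedPoint e.A') := by
    rw [ofPt_restrict]
    exact hu₁
  obtain ⟨c₀, hc₀⟩ := (yon S).map_surjective (a ≫ sndP)
  -- chart pullbacks
  have rsq' := hae.rep.isPullback' lP
  have hr2'e : Etale (hae.rep.snd lP).left := hae.property_snd lP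
  have rsqK := hae.rep.isPullback' tP
  have hr2e : Etale (hae.rep.snd tP).left := hae.property_snd tP
  obtain ⟨V', r1', r2', rsq', hr2'e⟩ : ∃ (V' : Over S) (r1' : V' ⟶ U) (r2' : V' ⟶ e.ptA'),
      IsPullback ((yon S).map r1') ((yon S).map r2') a lP ∧ Etale r2'.left :=
    ⟨_, _, _, rsq', hr2'e⟩
  obtain ⟨VK, r1, r2, rsqK, hr2e⟩ : ∃ (VK : Over S) (r1 : VK ⟶ U) (r2 : VK ⟶ sq.ptK),
      IsPullback ((yon S).map r1) ((yon S).map r2) a tP ∧ Etale r2.left :=
    ⟨_, _, _, rsqK, hr2e⟩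
  -- closed immersions into the scheme-theoretic fibre products
  obtain ⟨κ', hκ'1, hκ'2, hκ'ci⟩ := exists_closedImmersion_of_chart_pullback sndP hsepP a c₀ hc₀
    (Spec.map (CommRingCat.ofHom e.φ)) lP hlP2 r1' r2' rsq'
  obtain ⟨κK, hκK1, hκK2, hκKci⟩ := exists_closedImmersion_of_chart_pullback sndP hsepP a c₀ hc₀
    (Spec.map (CommRingCat.ofHom (algebraMap sq.A sq.K))) tP htP2 r1 r2 rsqK
  have hQ'aff : IsAffine (bcTop c₀ (Spec.map (CommRingCat.ofHom e.φ))).left := by
    change IsAffine (pullback (Spec.map (CommRingCat.ofHom e.φ)) c₀.left)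
    infer_instance
  have hQKaff : IsAffine (bcTop c₀ (Spec.map (CommRingCat.ofHom (algebraMap sq.A sq.K)))).left := by
    change IsAffine (pullback (Spec.map (CommRingCat.ofHom (algebraMap sq.A sq.K))) c₀.left)
    infer_instance
  have hV'aff : IsAffine V'.left := (IsClosedImmersion.isAffine_surjective_of_isAffine κ'.left).1
  have hVKaff : IsAffine VK.left := (IsClosedImmersion.isAffine_surjective_of_isAffine κK.left).1
  -- surjectivity of `V' ⟶ Spec A'`
  have hr2's : Surjective r2'.left := by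
    obtain ⟨v', hv'1, hv'2⟩ := (ofPt_eq_ofPt_iff rsq' u (closedPoint e.A')).1 hu
    have hopen : IsOpen (Set.range r2'.left) := r2'.left.isOpenMap.isOpen_range
    have hmem : closedPoint e.A' ∈
        (⟨Set.range r2'.left, hopen⟩ : TopologicalSpace.Opens (PrimeSpectrum e.A')) := ⟨v', hv'2⟩
    have htop := (IsLocalRing.closedPoint_mem_iff _).1 hmem
    refine ⟨fun y => ?_⟩
    have : y ∈ (⟨Set.range r2'.left, hopen⟩ : TopologicalSpace.Opens (PrimeSpectrum e.A')) := by
      rw [htop]; trivial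
    exact this
  -- the common refinement
  let W : Over S := pullback r2 cKK
  let wK : W ⟶ VK := pullback.fst r2 cKK
  let eW : W ⟶ e.ptK' := pullback.snd r2 cKK
  have hW : IsPullback wK eW r2 cKK := IsPullback.of_hasPullback _ _
  obtain ⟨w', hw'1, hw'2⟩ := exists_pullback_comparison a lP tP r1' r2' rsq' r1 r2 rsqK cKA cKK hlt
    wK eW hW
  have hW1 : IsPullback w'.left eW.left r2'.left
      (Spec.map (CommRingCat.ofHom (algebraMap e.A' e.K'))) := hw'2.map (Over.forget S)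
  have hW2 : IsPullback wK.left eW.left r2.left (Spec.map (CommRingCat.ofHom e.ψ)) :=
    hW.map (Over.forget S)
  have hW3 : w'.left ≫ r1'.left = wK.left ≫ r1.left := congrArg (fun m => m.left) hw'1
  have hφff : e.φ.FaithfullyFlat := faithfullyFlat_of_domExt e.φ e.ψ e.comm e.isLocalHom
  have hh' : r1'.left ≫ c₀.left = r2'.left ≫ Spec.map (CommRingCat.ofHom e.φ) := by
    have h1 : r1' ≫ c₀ = r2' ≫ cAA := by
      apply (yon S).map_injective
      rw [Functor.map_comp, Functor.map_comp, hc₀, ← hlP2]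
      exact (Category.assoc _ _ _).symm.trans
        ((congrArg (· ≫ sndP) rsq'.w).trans (Category.assoc _ _ _))
    exact congrArg (fun m => m.left) h1
  have hhK : r1.left ≫ c₀.left =
      r2.left ≫ Spec.map (CommRingCat.ofHom (algebraMap sq.A sq.K)) := by
    have h1 : r1 ≫ c₀ = r2 ≫ sq.j := by
      apply (yon S).map_injective
      rw [Functor.map_comp, Functor.map_comp, hc₀, ← htP2]
      exact (Category.assoc _ _ _).symm.trans
        ((congrArg (· ≫ sndP) rsqK.w).trans (Category.assoc _ _ _))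
    exact congrArg (fun m => m.left) h1
  obtain ⟨T, RT, D, iT, m, p₁, p₂, d, q₁, q₂, hm, hflat, hlfp, hsurj, hpb, hRTaff, hd, hd1, hd2,
    hq⟩ := exists_etale_cover_of_domExt (A := sq.A) (A' := e.A') (K := sq.K) (K' := e.K')
      (IsFractionRing.injective e.A' e.K') e.φ e.ψ e.comm hφff
      (U := U.left) (V' := V'.left) (VK := VK.left) (W := W.left)
      (Q := (bcTop c₀ (Spec.map (CommRingCat.ofHom e.φ))).left)
      c₀.left r1'.left r2'.left hh'
      (pullback.snd (Spec.map (CommRingCat.ofHom e.φ)) c₀.left)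
      (pullback.fst (Spec.map (CommRingCat.ofHom e.φ)) c₀.left)
      (IsPullback.of_hasPullback (Spec.map (CommRingCat.ofHom e.φ)) c₀.left).flip
      κ'.left hκ'ci (congrArg (fun m => m.left) hκ'1) (congrArg (fun m => m.left) hκ'2)
      r1.left r2.left hhK w'.left wK.left eW.left hW1 hW2 hW3
  obtain ⟨τ, hτ⟩ : ∃ τ : T ⟶ sq.ptA.left, τ = iT ≫ c₀.left := ⟨_, rfl⟩
  rw [← hτ] at hflat hlfp hsurj hpb
  have h12 : p₁ ≫ τ ≫ sq.ptA.hom = p₂ ≫ τ ≫ sq.ptA.hom := by
    rw [← Category.assoc, hpb.w, Category.assoc]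
  have hcompat : (d ≫ p₂) ≫ τ ≫ sq.ptA.hom = (d ≫ p₁) ≫ τ ≫ sq.ptA.hom := by
    simp only [Category.assoc, h12]
  -- the morphism on the cover
  let To : Over S := bcBase (U := sq.ptA) τ
  let iT' : To ⟶ U := Over.homMk iT (by
    change iT ≫ U.hom = τ ≫ sq.str
    rw [hτ, Category.assoc]
    congr 1
    exact (Over.w c₀).symm)
  let lT : (yon S).obj To ⟶ P := (yon S).map iT' ≫ a
  have hiTc : iT' ≫ c₀ = bcBaseι (U := sq.ptA) τ := Over.OverMorphism.ext hτ.symm
  have hlT : lT ≫ sndP = (yon S).map (bcBaseι (U := sq.ptA) τ) := by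
    change ((yon S).map iT' ≫ a) ≫ sndP = _
    rw [Category.assoc, ← hc₀, ← Functor.map_comp, hiTc]
  have hVKhom : VK.hom = r1.left ≫ c₀.left ≫ sq.str := by
    rw [← Over.w r1]
    congr 1
    exact (Over.w c₀).symm
  have hmτ : m ≫ τ = r1.left ≫ c₀.left := by
    rw [hτ, ← Category.assoc, hm]
  let Do : Over S := Over.mk ((d ≫ p₁) ≫ τ ≫ sq.ptA.hom)
  let Q₁ : Do ⟶ VK := Over.homMk q₁ (by
    change q₁ ≫ VK.hom = (d ≫ p₁) ≫ τ ≫ sq.str
    calc q₁ ≫ VK.hom
        = q₁ ≫ (r1.left ≫ c₀.left) ≫ sq.str := by rw [hVKhom]; simp only [Category.assoc]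
      _ = q₁ ≫ (m ≫ τ) ≫ sq.str := by rw [hmτ]
      _ = (q₁ ≫ m) ≫ τ ≫ sq.str := by simp only [Category.assoc]
      _ = (d ≫ p₁) ≫ τ ≫ sq.str := by rw [hd1])
  let Q₂ : Do ⟶ VK := Over.homMk q₂ (by
    change q₂ ≫ VK.hom = (d ≫ p₁) ≫ τ ≫ sq.str
    calc q₂ ≫ VK.hom
        = q₂ ≫ (r1.left ≫ c₀.left) ≫ sq.str := by rw [hVKhom]; simp only [Category.assoc]
      _ = q₂ ≫ (m ≫ τ) ≫ sq.str := by rw [hmτ]
      _ = (q₂ ≫ m) ≫ τ ≫ sq.str := by simp only [Category.assoc]
      _ = (d ≫ p₂) ≫ τ ≫ sq.str := by rw [hd2]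
      _ = (d ≫ p₁) ≫ τ ≫ sq.str := hcompat)
  have hQ : Q₁ ≫ r2 = Q₂ ≫ r2 := Over.OverMorphism.ext hq
  have hagree : (yon S).map (Over.homMk (d ≫ p₁) rfl :
        Over.mk ((d ≫ p₁) ≫ τ ≫ sq.ptA.hom) ⟶ bcBase (U := sq.ptA) τ) ≫ lT =
      (yon S).map (Over.homMk (d ≫ p₂) hcompat :
        Over.mk ((d ≫ p₁) ≫ τ ≫ sq.ptA.hom) ⟶ bcBase (U := sq.ptA) τ) ≫ lT := by
    have e1 : (Over.homMk (d ≫ p₁) rfl : Do ⟶ To) ≫ iT' = Q₁ ≫ r1 := by
      apply Over.OverMorphism.ext
      change (d ≫ p₁) ≫ iT = q₁ ≫ r1.left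
      rw [hd1, Category.assoc, hm]
    have e2 : (Over.homMk (d ≫ p₂) hcompat : Do ⟶ To) ≫ iT' = Q₂ ≫ r1 := by
      apply Over.OverMorphism.ext
      change (d ≫ p₂) ≫ iT = q₂ ≫ r1.left
      rw [hd2, Category.assoc, hm]
    have E1 : (yon S).map (Over.homMk (d ≫ p₁) rfl : Do ⟶ To) ≫ (yon S).map iT' =
        (yon S).map Q₁ ≫ (yon S).map r1 := by
      rw [← Functor.map_comp, ← Functor.map_comp, e1]
    have E2 : (yon S).map (Over.homMk (d ≫ p₂) hcompat : Do ⟶ To) ≫ (yon S).map iT' =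
        (yon S).map Q₂ ≫ (yon S).map r1 := by
      rw [← Functor.map_comp, ← Functor.map_comp, e2]
    have E3 : (yon S).map Q₁ ≫ (yon S).map r2 = (yon S).map Q₂ ≫ (yon S).map r2 := by
      rw [← Functor.map_comp, ← Functor.map_comp, hQ]
    have F1 : ((yon S).map Q₁ ≫ (yon S).map r1) ≫ a = ((yon S).map Q₁ ≫ (yon S).map r2) ≫ tP :=
      (Category.assoc _ _ _).trans ((congrArg ((yon S).map Q₁ ≫ ·) rsqK.w).trans
        (Category.assoc _ _ _).symm)
    have F2 : ((yon S).map Q₂ ≫ (yon S).map r1) ≫ a = ((yon S).map Q₂ ≫ (yon S).map r2) ≫ tP :=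
      (Category.assoc _ _ _).trans ((congrArg ((yon S).map Q₂ ≫ ·) rsqK.w).trans
        (Category.assoc _ _ _).symm)
    change (yon S).map _ ≫ (yon S).map iT' ≫ a = (yon S).map _ ≫ (yon S).map iT' ≫ a
    exact (Category.assoc _ _ _).symm.trans ((congrArg (· ≫ a) E1).trans (F1.trans
      ((congrArg (· ≫ tP) E3).trans (F2.symm.trans ((congrArg (· ≫ a) E2).symm.trans
        (Category.assoc _ _ _))))))
  obtain ⟨σ, hσ1, hσ2⟩ := exists_section_of_fppf_cover sndP hsepP τ hflat hlfp hsurj p₁ p₂ hpb d hd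
    lT hlT hagree
  -- compatibility with the `K`-point
  have hr2surj : Surjective r2.left := by
    have heWs : Surjective eW.left := MorphismProperty.of_isPullback (P := @Surjective) hW1 hr2's
    obtain ⟨w, -⟩ := heWs.surj (closedPoint e.K')
    refine ⟨fun y => ⟨wK.left w, ?_⟩⟩
    exact (inferInstance : Subsingleton (PrimeSpectrum sq.K)).elim _ _
  have hr2epi : Epi ((yon S).map r2) := epi_yon_map_of_fppf r2 inferInstance inferInstance hr2surj
  let M' : VK ⟶ To := Over.homMk m (by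
    change m ≫ τ ≫ sq.str = VK.hom
    rw [← Category.assoc, hmτ, hVKhom, Category.assoc])
  have hM1 : M' ≫ bcBaseι (U := sq.ptA) τ = r2 ≫ sq.j := by
    apply Over.OverMorphism.ext
    change m ≫ τ = r2.left ≫ Spec.map (CommRingCat.ofHom (algebraMap sq.A sq.K))
    rw [hmτ, hhK]
  have hM2 : M' ≫ iT' = r1 := Over.OverMorphism.ext hm
  have hσK : (yon S).map sq.j ≫ σ = tP := by
    rw [← cancel_epi ((yon S).map r2), ← Category.assoc, ← Functor.map_comp, ← hM1,
      Functor.map_comp, Category.assoc, hσ1]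
    change (yon S).map M' ≫ (yon S).map iT' ≫ a = _
    rw [← Category.assoc, ← Functor.map_comp, hM2, rsqK.w]
  refine ⟨σ ≫ fstP, ?_, ?_⟩
  · rw [← Category.assoc, hσK, htP1]
  · rw [Category.assoc, psq.w, ← Category.assoc, hσ2, Category.id_comp]

end Groth.Agent.Lib.Helper23.AlgSpMor
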