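import Groth.Agent.Lib.Helper23.AlgSpDomExt

/-!
# Lifts in valuative squares descend along dominating extensions, for representable morphisms
(helper23)
-/

set_option autoImplicit false
universe u
open CategoryTheory CategoryTheory.Limits AlgebraicGeometry Opposite

namespace Groth.Agent.Lib.Helper23.AlgSpMor

open AlgSp Groth.Agent.Lib.Helper37.AlgSpPoints Groth.Agent.Lib.Helper12.AlgSpPoints
open Groth.Agent.Lib.Helper37.AlgSpFibres

variable {S : Scheme.{u}}

open IsLocalRing in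
theorem hasLift_of_domExt_of_representable {X Y : Sp S} (f : X ⟶ Y) (hf : Representable f)
    (sq : ValSq f) (e : sq.DomExt) (he : e.HasLift) : sq.HasLift := by
  obtain ⟨l', hl1, hl2⟩ := he
  let cAA : e.ptA' ⟶ sq.ptA := Over.homMk (Spec.map (CommRingCat.ofHom e.φ)) rfl
  let cKA : e.ptK' ⟶ e.ptA' :=
    Over.homMk (Spec.map (CommRingCat.ofHom (algebraMap e.A' e.K'))) rfl
  have hcKK : Spec.map (CommRingCat.ofHom e.ψ) ≫ sq.ptK.hom = e.ptK'.hom := by
    change Spec.map _ ≫ Spec.map _ ≫ _ = Spec.map _ ≫ Spec.map _ ≫ _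
    rw [← Spec.map_comp_assoc, ← Spec.map_comp_assoc, ← CommRingCat.ofHom_comp,
      ← CommRingCat.ofHom_comp, e.comm]
  let cKK : e.ptK' ⟶ sq.ptK := Over.homMk (Spec.map (CommRingCat.ofHom e.ψ)) hcKK
  have hl1' : (yon S).map cKA ≫ l' = (yon S).map cKK ≫ sq.top := hl1
  have hl2' : l' ≫ f = (yon S).map cAA ≫ sq.bot := hl2
  have hcomp : cKA ≫ cAA = cKK ≫ sq.j := by
    apply Over.OverMorphism.ext
    change Spec.map _ ≫ Spec.map _ = Spec.map _ ≫ Spec.map _
    rw [← Spec.map_comp, ← Spec.map_comp, ← CommRingCat.ofHom_comp, ← CommRingCat.ofHom_comp,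
      e.comm]
  -- the representing scheme
  obtain ⟨P₀, fst, s₀, psq⟩ : ∃ (P₀ : Over S) (fst : (yon S).obj P₀ ⟶ X) (s₀ : P₀ ⟶ sq.ptA),
      IsPullback fst ((yon S).map s₀) f sq.bot := ⟨_, _, _, hf.isPullback sq.bot⟩
  obtain ⟨t₀, ht₀⟩ := (yon S).map_surjective (psq.lift sq.top ((yon S).map sq.j) sq.comm)
  obtain ⟨l₀, hl₀⟩ := (yon S).map_surjective (psq.lift l' ((yon S).map cAA) hl2')
  have ht₀1 : (yon S).map t₀ ≫ fst = sq.top := by rw [ht₀, psq.lift_fst]
  have ht₀2 : t₀ ≫ s₀ = sq.j := by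
    apply (yon S).map_injective
    rw [Functor.map_comp, ht₀, psq.lift_snd]
  have hl₀1 : (yon S).map l₀ ≫ fst = l' := by rw [hl₀, psq.lift_fst]
  have hl₀2 : l₀ ≫ s₀ = cAA := by
    apply (yon S).map_injective
    rw [Functor.map_comp, hl₀, psq.lift_snd]
  have hlt : cKA ≫ l₀ = cKK ≫ t₀ := by
    apply (yon S).map_injective
    apply psq.hom_ext
    · rw [Functor.map_comp, Functor.map_comp, Category.assoc, Category.assoc, hl₀1, ht₀1]
      exact hl1'
    · rw [← Functor.map_comp, ← Functor.map_comp, Category.assoc, Category.assoc, hl₀2, ht₀2, hcomp]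
  -- an affine open neighbourhood of the image of the closed point
  obtain ⟨O, hO, hxO, -⟩ := exists_isAffineOpen_mem_and_subset
    (show l₀.left (closedPoint e.A') ∈ (⊤ : P₀.left.Opens) from trivial)
  have hlO : ∀ y, l₀.left y ∈ O := by
    intro y
    have htop : l₀.left ⁻¹ᵁ O = ⊤ :=
      (IsLocalRing.closedPoint_mem_iff (R := e.A') (l₀.left ⁻¹ᵁ O)).1 hxO
    have : y ∈ l₀.left ⁻¹ᵁ O := by rw [htop]; trivial
    exact this
  have htO : ∀ y, t₀.left y ∈ O := by
    intro y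
    have h1 := congrArg (fun m => m.left (closedPoint e.K')) hlt
    simp only [Over.comp_left, Scheme.Hom.comp_apply] at h1
    have h2 : cKK.left (closedPoint e.K') = y :=
      (inferInstance : Subsingleton (PrimeSpectrum sq.K)).elim _ _
    rw [h2] at h1
    rw [← h1]
    exact hlO _
  let l₁ : e.ptA'.left ⟶ O.toScheme := IsOpenImmersion.lift O.ι l₀.left (by
    rw [Scheme.Opens.range_ι]
    rintro _ ⟨y, rfl⟩
    exact hlO y)
  have hl₁ : l₁ ≫ O.ι = l₀.left := IsOpenImmersion.lift_fac _ _ _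
  let t₁ : sq.ptK.left ⟶ O.toScheme := IsOpenImmersion.lift O.ι t₀.left (by
    rw [Scheme.Opens.range_ι]
    rintro _ ⟨y, rfl⟩
    exact htO y)
  have ht₁ : t₁ ≫ O.ι = t₀.left := IsOpenImmersion.lift_fac _ _ _
  -- over `S`
  let Oo : Over S := openOver P₀ O
  let ι : Oo ⟶ P₀ := openι P₀ O
  let s₁ : Oo ⟶ sq.ptA := ι ≫ s₀
  let t₁o : sq.ptK ⟶ Oo := Over.homMk t₁ (by
    change t₁ ≫ O.ι ≫ P₀.hom = sq.ptK.hom
    rw [← Category.assoc, ht₁]
    exact Over.w t₀)
  let l₁o : e.ptA' ⟶ Oo := Over.homMk l₁ (by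
    change l₁ ≫ O.ι ≫ P₀.hom = e.ptA'.hom
    rw [← Category.assoc, hl₁]
    exact Over.w l₀)
  have ht₁o : t₁o ≫ ι = t₀ := Over.OverMorphism.ext ht₁
  have hl₁o : l₁o ≫ ι = l₀ := Over.OverMorphism.ext hl₁
  have hιmono : Mono ι := by
    have : Mono ((Over.forget S).map ι) := by
      change Mono O.ι
      infer_instance
    exact (Over.forget S).mono_of_mono_map this
  -- the auxiliary valuative square
  let sq₁ : ValSq ((yon S).map s₁) :=
    { A := sq.A, K := sq.K, str := sq.str, top := (yon S).map t₁o, bot := 𝟙 _,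
      comm := by
        rw [Category.comp_id, ← Functor.map_comp]
        congr 1
        change t₁o ≫ ι ≫ s₀ = sq.j
        rw [← Category.assoc, ht₁o, ht₀2] }
  let e₁ : sq₁.DomExt :=
    { A' := e.A', K' := e.K', φ := e.φ, ψ := e.ψ, comm := e.comm, isLocalHom := e.isLocalHom }
  have he₁ : e₁.HasLift := by
    refine ⟨(yon S).map l₁o, ?_, ?_⟩
    · change (yon S).map cKA ≫ (yon S).map l₁o = (yon S).map cKK ≫ (yon S).map t₁o
      rw [← Functor.map_comp, ← Functor.map_comp]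
      congr 1
      rw [← cancel_mono ι, Category.assoc, Category.assoc, hl₁o, ht₁o, hlt]
    · change (yon S).map l₁o ≫ (yon S).map s₁ = (yon S).map cAA ≫ 𝟙 _
      rw [Category.comp_id, ← Functor.map_comp]
      congr 1
      change l₁o ≫ ι ≫ s₀ = cAA
      rw [← Category.assoc, hl₁o, hl₀2]
  have hOaff : IsAffine Oo.left := hO
  have hsep : IsSeparatedMor ((yon S).map s₁) := by
    refine (isSeparatedMor_iff_repWith _ (representable_yon_map s₁)).2
      ((repWith_yon_map_iff @IsSeparated s₁).2 ?_)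
    change IsSeparated s₁.left
    infer_instance
  obtain ⟨σ₁, hσ1, hσ2⟩ := hasLift_of_domExt_of_separated (IsAlgSpace.yon_obj _)
    (IsAlgSpace.yon_obj _) ((yon S).map s₁) hsep sq₁ e₁ he₁
  have hσ1' : (yon S).map sq.j ≫ σ₁ = (yon S).map t₁o := hσ1
  have hσ2' : σ₁ ≫ (yon S).map s₁ = 𝟙 _ := hσ2
  refine ⟨σ₁ ≫ (yon S).map ι ≫ fst, ?_, ?_⟩
  · rw [← Category.assoc, hσ1', ← Category.assoc, ← Functor.map_comp, ht₁o, ht₀1]
  · rw [Category.assoc, Category.assoc, psq.w, ← Category.assoc, ← Category.assoc]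
    have : (σ₁ ≫ (yon S).map ι) ≫ (yon S).map s₀ = σ₁ ≫ (yon S).map s₁ := by
      rw [Category.assoc, ← Functor.map_comp]
    rw [this, hσ2', Category.id_comp]

end Groth.Agent.Lib.Helper23.AlgSpMor
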