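import Groth.Agent.Lib.Helper23.AlgSpUnivClosedAn2
import Groth.Agent.Lib.Helper23.AlgSpClosed2
import Groth.Agent.Lib.Helper23.AlgSpNoeth2
import Groth.Agent.Lib.Helper37.ValuativeClosed
import Groth.Agent.Lib.Helper50.DvrCrit
import Groth.Agent.Lib.Helper30.EtLocalInst
import Groth.Agent.Lib.Helper46.LocPChart

/-!
# Discrete valuation rings and universal closedness for algebraic spaces (helper23)

* `ValSq.HasLift.hasLiftExt`: a lift is a lift after the trivial extension.
* `DvrExt f`: every valuative square over a discrete valuation ring has a lift after a dominating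
  extension; `dvrExt_of_isPullback`.
* `mem_image_of_specializes_of_dvrExt`, `isClosedMap_of_dvrExt`: the closedness step over a locally
  Noetherian base.
* `isUnivClosedMor_of_affSp`: the affine-space criterion, packaged.
* `isUnivClosedMor_of_dvrExt`: finite type + `DvrExt` over a locally Noetherian base ⇒ universally
  closed.
-/

set_option autoImplicit false
universe u
open CategoryTheory CategoryTheory.Limits AlgebraicGeometry Opposite

namespace Groth.Agent.Lib.Helper23.AlgSpMor

open AlgSp Groth.Agent.Lib.Helper37.AlgSpPoints Groth.Agent.Lib.Helper12.AlgSpPoints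
open Groth.Agent.Lib.Helper37.AlgSpFibres
open Groth.Agent.Lib.Helper50

variable {S : Scheme.{u}}

/-- A lift is a lift after the trivial extension. -/
theorem hasLiftExt_of_hasLift {F G : Sp S} {f : F ⟶ G} (sq : ValSq f) (h : sq.HasLift) :
    sq.HasLiftExt := by
  obtain ⟨l, hl1, hl2⟩ := h
  let e : sq.DomExt :=
    { A' := sq.A, K' := sq.K, φ := RingHom.id _, ψ := RingHom.id _, comm := rfl,
      isLocalHom := ⟨fun a ha => ha⟩ }
  have hid : Spec.map (CommRingCat.ofHom (RingHom.id sq.A)) = 𝟙 _ := Spec.map_id _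
  let i : e.ptA' ⟶ sq.ptA := Over.homMk (Spec.map (CommRingCat.ofHom e.φ)) rfl
  refine ⟨e, (yon S).map i ≫ l, ?_, by rw [Category.assoc, hl2]⟩
  rw [← Category.assoc, ← Functor.map_comp, ← hl1, ← Category.assoc, ← Functor.map_comp]
  congr 2
  apply Over.OverMorphism.ext
  change Spec.map (CommRingCat.ofHom (algebraMap sq.A sq.K)) ≫
      Spec.map (CommRingCat.ofHom (RingHom.id sq.A)) =
    Spec.map (CommRingCat.ofHom (RingHom.id sq.K)) ≫
      Spec.map (CommRingCat.ofHom (algebraMap sq.A sq.K))
  rw [← Spec.map_comp, ← Spec.map_comp]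
  rfl

/-- Every valuative square for `f` over a discrete valuation ring has a lift after a dominating
extension. -/
def DvrExt {F G : Sp S} (f : F ⟶ G) : Prop :=
  ∀ sq : ValSq f, IsDiscreteValuationRing sq.A → sq.HasLiftExt

/-- `DvrExt` is stable under base change. -/
theorem dvrExt_of_isPullback {X Y Z X' : Sp S} {f : X ⟶ Y} {g : Z ⟶ Y} {fst : X' ⟶ X}
    {f' : X' ⟶ Z} (sq : IsPullback fst f' f g) (hE : DvrExt f) : DvrExt f' := by
  intro sq' hdvr
  let vs : AlgSp.ValSq f :=
    { A := sq'.A, K := sq'.K, str := sq'.str, top := sq'.top ≫ fst, bot := sq'.bot ≫ g,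
      comm := by
        rw [Category.assoc, sq.w, ← Category.assoc, sq'.comm, Category.assoc] }
  obtain ⟨e, l, hl1, hl2⟩ := hE vs hdvr
  let e' : sq'.DomExt :=
    { A' := e.A', K' := e.K', φ := e.φ, ψ := e.ψ, comm := e.comm, isLocalHom := e.isLocalHom }
  refine ⟨e', sq.lift l ((AlgSp.yon S).map (Over.homMk (Spec.map (CommRingCat.ofHom e.φ)) rfl :
    e.ptA' ⟶ vs.ptA) ≫ sq'.bot) (by rw [hl2, Category.assoc]), ?_, ?_⟩
  · apply sq.hom_ext
    · rw [Category.assoc, IsPullback.lift_fst, Category.assoc]
      exact hl1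
    · rw [Category.assoc, IsPullback.lift_snd, Category.assoc, sq'.comm, ← Category.assoc,
        ← Category.assoc, ← Functor.map_comp, ← Functor.map_comp]
      congr 2
      ext
      change Spec.map _ ≫ Spec.map _ = Spec.map _ ≫ Spec.map _
      rw [← Spec.map_comp, ← Spec.map_comp, ← CommRingCat.ofHom_comp, ← CommRingCat.ofHom_comp,
        e.comm]
  · rw [IsPullback.lift_snd]

open IsLocalRing in
/-- Key step: for a chart diagram `h_U ⟶ X`, `h_W ⟶ Y`, `h : U ⟶ W` over `f` with `h` locally of
finite type and `W` locally Noetherian, `f` satisfying `DvrExt`, and `T ⊆ |X|` closed: if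
`w' = h u'` with `u'` over `T` and `w' ⤳ w`, then the image of `w` in `|Y|` lies in `f(T)`. -/
theorem mem_image_of_specializes_of_dvrExt {X Y : Sp S} (f : X ⟶ Y) (he : DvrExt f)
    {U W : Over S} (a : (yon S).obj U ⟶ X) (b : (yon S).obj W ⟶ Y) (h : U ⟶ W)
    [IsLocallyNoetherian W.left] [LocallyOfFiniteType h.left]
    (hcomm : a ≫ f = (yon S).map h ≫ b) (T : Set (Points X)) (hT : IsClosed T)
    (u' : ↥U.left) (hu' : Points.ofPt a u' ∈ T) (w : ↥W.left) (hw : h.left u' ⤳ w) :
    Points.ofPt b w ∈ Points.map f '' T := by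
  by_cases hne : w = h.left u'
  · refine ⟨Points.ofPt a u', hu', ?_⟩
    rw [Points.map_ofPt, hcomm, ofPt_map_comp, hne]
  obtain ⟨A, hA, hdvr, hcl, hcomp⟩ := exists_dvr_through_specialization h.left u' w hw hne
  let str : Spec (.of A) ⟶ S := hA ≫ W.hom
  let ptA : Over S := Over.mk str
  let ptK : Over S :=
    Over.mk (Spec.map (CommRingCat.ofHom (algebraMap A (U.left.residueField u'))) ≫ str)
  have hw0 : U.left.fromSpecResidueField u' ≫ h.left =
      Spec.map (CommRingCat.ofHom (algebraMap A (U.left.residueField u'))) ≫ hA := hcomp.symm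
  let iK : ptK ⟶ U := Over.homMk (U.left.fromSpecResidueField u') (by
    change _ ≫ U.hom = Spec.map _ ≫ hA ≫ W.hom
    rw [← Over.w h, ← Category.assoc, hw0]
    simp only [Category.assoc])
  let iA : ptA ⟶ W := Over.homMk hA rfl
  let j : ptK ⟶ ptA :=
    Over.homMk (Spec.map (CommRingCat.ofHom (algebraMap A (U.left.residueField u')))) rfl
  have hji : iK ≫ h = j ≫ iA := by
    ext
    exact hw0
  let sq : ValSq f :=
    { A := A, K := U.left.residueField u', str := str, top := (yon S).map iK ≫ a,
      bot := (yon S).map iA ≫ b,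
      comm := by
        have e1 : (yon S).map iK ≫ (yon S).map h = (yon S).map j ≫ (yon S).map iA := by
          rw [← Functor.map_comp, ← Functor.map_comp, hji]
        rw [Category.assoc, hcomm]
        exact (Category.assoc _ _ _).symm.trans
          ((congrArg (· ≫ b) e1).trans (Category.assoc _ _ _)) }
  obtain ⟨e, l, hl1, hl2⟩ := he sq hdvr
  refine ⟨Points.ofPt l (closedPoint e.A'), ?_, ?_⟩
  · have hgen : Points.ofPt l ((Spec.map (CommRingCat.ofHom (algebraMap e.A' e.K')))
        (closedPoint e.K')) ∈ T := by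
      have h1 := ofPt_map_comp (Over.homMk (Spec.map (CommRingCat.ofHom (algebraMap e.A' e.K')))
        rfl : e.ptK' ⟶ e.ptA') l (closedPoint e.K')
      change _ = Points.ofPt l ((Spec.map (CommRingCat.ofHom (algebraMap e.A' e.K')))
        (closedPoint e.K')) at h1
      rw [← h1, hl1, ofPt_map_comp]
      change Points.ofPt ((yon S).map iK ≫ a) _ ∈ T
      rw [ofPt_map_comp]
      change Points.ofPt a ((U.left.fromSpecResidueField u') _) ∈ T
      rw [Scheme.fromSpecResidueField_apply]
      exact hu'
    have hsp : (Spec.map (CommRingCat.ofHom (algebraMap e.A' e.K'))) (closedPoint e.K') ⤳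
        closedPoint e.A' := specializes_closedPoint _
    exact hT.stableUnderSpecialization (hsp.map (Points.continuous_ofPt l)) hgen
  · rw [Points.map_ofPt, hl2, ofPt_map_comp]
    change Points.ofPt ((yon S).map iA ≫ b) _ = _
    rw [ofPt_map_comp]
    congr 1
    change hA ((Spec.map (CommRingCat.ofHom e.φ)) (closedPoint e.A')) = w
    have h1 : (Spec.map (CommRingCat.ofHom e.φ)) (closedPoint e.A') = closedPoint A := by
      have := e.isLocalHom
      exact comap_closedPoint e.φ
    rw [h1]
    exact hcl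

open Groth.Agent.Lib.Helper37.ValuativeClosed in
/-- A quasi-compact, locally of finite type morphism to a locally Noetherian algebraic space that
satisfies `DvrExt` is closed on points. -/
theorem isClosedMap_of_dvrExt {X Y : Sp S} (hY : IsAlgSpace Y) (hYN : IsLocNoethSp Y) (f : X ⟶ Y)
    (hq : IsQuasiCompactMor f) (hlft : LocP @LocallyOfFiniteType f) (he : DvrExt f) :
    IsClosedMap (Points.map f) := by
  intro T hT
  obtain ⟨V, b, hbe, hbs⟩ := hY.atlas
  rw [← (isQuotientMap_ofPt b hbe hbs).isClosed_preimage]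
  have hcov : TopologicalSpace.IsOpenCover (fun i : V.left.affineOpens => (i : V.left.Opens)) :=
    iSup_affineOpens_eq_top V.left
  rw [hcov.isClosed_iff_coe_preimage]
  rintro ⟨W, hW⟩
  let Wo : Over S := openOver V W
  let bW : (yon S).obj Wo ⟶ Y := (yon S).map (openι V W) ≫ b
  have hbW : RepWith @Etale bW := repWith_etale_restrict b hbe W
  have hWaff : IsAffine Wo.left := hW
  have hWc : CompactSpace ↥Wo.left := inferInstance
  have hWN : IsLocallyNoetherian Wo.left := isLocallyNoetherian_of_etale_chart hYN bW hbW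
  have hqW : IsQuasiCompactSp (pullback f bW) :=
    hq (IsAlgSpace.yon_obj Wo) (isQuasiCompactSp_yon Wo) bW (pullback.fst f bW) (pullback.snd f bW)
      (IsPullback.of_hasPullback f bW)
  obtain ⟨U, p, hpe, hps, hU⟩ := hqW
  obtain ⟨h, hh⟩ := (yon S).map_surjective (p ≫ pullback.snd f bW)
  let a : (yon S).obj U ⟶ X := p ≫ pullback.fst f bW
  have hcomm : a ≫ f = (yon S).map h ≫ bW := by
    rw [hh, Category.assoc, Category.assoc, pullback.condition]
  have hae : RepWith @Etale a :=
    (RepWith @Etale).comp_mem _ _ hpe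
      (MorphismProperty.pullback_fst (P := RepWith @Etale) f bW hbW)
  have hhlft : LocallyOfFiniteType h.left := hlft a bW h hae hbW hcomm
  let T' : Set ↥U.left := Points.ofPt a ⁻¹' T
  have hT' : IsClosed T' := hT.preimage (Points.continuous_ofPt a)
  have hclaim : (Subtype.val ⁻¹' (Points.ofPt b ⁻¹' (Points.map f '' T)) : Set ↥W) =
      h.left '' T' := by
    ext w
    constructor
    · rintro ⟨x, hxT, hx⟩
      have hx' : Points.map bW (Points.ofScheme Wo w) = Points.map f x := by
        rw [← Points.ofPt_eq_map_ofScheme, ofPt_restrict]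
        exact hx.symm
      obtain ⟨x', hx'1, hx'2⟩ := points_exists_of_isPullback
        (IsPullback.of_hasPullback f bW).flip (Points.ofScheme Wo w) x hx'
      obtain ⟨u, rfl⟩ := ofPt_surjective p hps x'
      refine ⟨u, ?_, ?_⟩
      · change Points.ofPt (p ≫ pullback.fst f bW) u ∈ T
        rw [← Points.map_ofPt, hx'2]
        exact hxT
      · have := hx'1
        rw [Points.map_ofPt, ← hh, ofPt_yon_map] at this
        have h2 := congrArg (Points.toScheme Wo) this
        rw [Points.toScheme_ofScheme, Points.toScheme_ofScheme] at h2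
        exact h2
    · rintro ⟨u, hu, rfl⟩
      refine ⟨Points.ofPt a u, hu, ?_⟩
      rw [Points.map_ofPt, hcomm, ofPt_map_comp, ofPt_restrict]
  rw [hclaim]
  apply isClosed_image_of_stableUnderSpecialization_scheme h.left T' hT'
  rintro w' w hww ⟨u', hu', rfl⟩
  have key := mem_image_of_specializes_of_dvrExt f he a bW h hcomm T hT u' hu' w hww
  rw [← hclaim]
  change Points.ofPt b w.1 ∈ Points.map f '' T
  rw [← ofPt_restrict b W w]
  exact key

/-- The affine-space criterion for universal closedness of a quasi-compact morphism, packaged. -/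
theorem isUnivClosedMor_of_affSp {X Y : Sp S} (hX : IsAlgSpace X) (hY : IsAlgSpace Y) (f : X ⟶ Y)
    (hqc : IsQuasiCompactMor f) (V : Over S) (p : (yon S).obj V ⟶ Y) (hpe : RepWith @Etale p)
    (hps : RepWith @Surjective p)
    (H3 : ∀ n : ℕ, ClosedOver f ((yon S).map (affSpπ V n) ≫ p)) : IsUnivClosedMor f := by
  have sq : IsPullback (pullback.fst f p) (pullback.snd f p) f p := IsPullback.of_hasPullback _ _
  refine isUnivClosedMor_of_etale_cover hY (IsAlgSpace.yon_obj V) f p hpe hps sq ?_
  rw [isUnivClosedMor_iff_affine]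
  intro Z _ g P fst snd sqZ
  obtain ⟨τ, rfl⟩ := (yon S).map_surjective g
  have h := closedOver_of_affSp hX hY f hqc p H3 τ
  exact (closedOver_iff_of_isPullback (sqZ.paste_horiz sq)).1 h

/-- A scheme that is locally Noetherian gives a locally Noetherian sheaf. -/
theorem isLocNoethSp_yon (T : Over S) [IsLocallyNoetherian T.left] :
    IsLocNoethSp ((yon S).obj T) :=
  ⟨T, 𝟙 _, repWith_id _ T, repWith_id _ T, inferInstance⟩

/-- **Finite type + `DvrExt` over a locally Noetherian base ⇒ universally closed.** -/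
theorem isUnivClosedMor_of_dvrExt {X Y : Sp S} (hX : IsAlgSpace X) (hY : IsAlgSpace Y)
    (hYN : IsLocNoethSp Y) (f : X ⟶ Y) (hq : IsQuasiCompactMor f)
    (hlft : LocP @LocallyOfFiniteType f) (he : DvrExt f) : IsUnivClosedMor f := by
  obtain ⟨V, p, hpe, hps⟩ := hY.atlas
  have hVN : IsLocallyNoetherian V.left := isLocallyNoetherian_of_etale_chart hYN p hpe
  refine isUnivClosedMor_of_affSp hX hY f hq V p hpe hps fun n => ?_
  set y : (yon S).obj (affSp V n) ⟶ Y := (yon S).map (affSpπ V n) ≫ p with hy
  have sq : IsPullback (pullback.fst f y) (pullback.snd f y) f y := IsPullback.of_hasPullback _ _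
  have hTN : IsLocallyNoetherian (affSp V n).left :=
    LocallyOfFiniteType.isLocallyNoetherian (𝔸(ULift.{u} (Fin n); V.left) ↘ V.left)
  have hP : IsAlgSpace (pullback f y) :=
    isAlgSpace_of_isPullback hX (IsAlgSpace.yon_obj _) hY.diag sq
  exact isClosedMap_of_dvrExt (IsAlgSpace.yon_obj _) (isLocNoethSp_yon _) (pullback.snd f y)
    (Groth.Agent.Lib.Helper37.ValuativeClosed.isQuasiCompactMor_of_isPullback sq hq)
    (Groth.Agent.Lib.Helper46.LocPChart.locP_of_isPullback
      Groth.Agent.Lib.Helper30.EtLocalInst.etLocal_lft hX hY hP (IsAlgSpace.yon_obj _) sq hlft)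
    (dvrExt_of_isPullback sq he)

end Groth.Agent.Lib.Helper23.AlgSpMor
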