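import Groth.Agent.Lib.Helper23.AlgSpDvr
import Groth.Agent.Lib.Helper23.AlgSpProper
import Groth.Agent.Lib.Helper37.ClosedPoint
import Groth.Agent.Lib.Helper37.DiagChart
import Groth.Agent.S9951

/-!
# Separatedness from uniqueness of lifts over discrete valuation rings (helper23)
-/

set_option autoImplicit false
universe u
open CategoryTheory CategoryTheory.Limits AlgebraicGeometry Opposite

namespace Groth.Agent.Lib.Helper23.AlgSpMor

open AlgSp Groth.Agent.Lib.Helper37.AlgSpPoints Groth.Agent.Lib.Helper12.AlgSpPoints
open Groth.Agent.Lib.Helper37.AlgSpFibres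
open Groth.Agent.Lib.Helper50

variable {S : Scheme.{u}}

/-- The source of a morphism locally of finite type to a locally Noetherian algebraic space is
locally Noetherian (sheaf-level form of S9951). -/
theorem isLocNoethSp_of_locP_lft {X Y : Sp S} (hX : IsAlgSpace X) (hY : IsAlgSpace Y) (f : X ⟶ Y)
    (hf : LocP @LocallyOfFiniteType f) (hYN : IsLocNoethSp Y) : IsLocNoethSp X :=
  Groth.Agent.S9951.result (X := ⟨X, hX⟩) (Y := ⟨Y, hY⟩) (ObjectProperty.homMk f) hf hYN

open Groth.Agent.Lib.Helper37.DiagChart Groth.Agent.Lib.Helper37.ClosedPoint in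
/-- Quasi-separated, locally of finite type over a locally Noetherian base, and at most one lift in
every valuative square over a discrete valuation ring ⇒ separated. -/
theorem isSeparatedMor_of_dvr_uniq {X Y : Sp S} (hX : IsAlgSpace X) (hY : IsAlgSpace Y)
    (hYN : IsLocNoethSp Y) (f : X ⟶ Y) (hqs : RepWith @QuasiCompact (pullback.diagonal f))
    (hlft : LocP @LocallyOfFiniteType f)
    (hu : ∀ sq : ValSq f, IsDiscreteValuationRing sq.A → sq.HasUniq) :
    IsSeparatedMor f := by
  have sqZ : IsPullback (pullback.fst f f) (pullback.snd f f) f f := IsPullback.of_hasPullback _ _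
  have hZ : IsAlgSpace (pullback f f) := isAlgSpace_of_isPullback hX hX hY.diag sqZ
  have hXN : IsLocNoethSp X := isLocNoethSp_of_locP_lft hX hY f hlft hYN
  have hsndlft : LocP @LocallyOfFiniteType (pullback.snd f f) :=
    Groth.Agent.Lib.Helper46.LocPChart.locP_of_isPullback
      Groth.Agent.Lib.Helper30.EtLocalInst.etLocal_lft hX hY hZ hX sqZ hlft
  have hZN : IsLocNoethSp (pullback f f) :=
    isLocNoethSp_of_locP_lft hZ hX (pullback.snd f f) hsndlft hXN
  obtain ⟨T, c, hce, hcs⟩ := hZ.atlas
  have hTN : IsLocallyNoetherian T.left := isLocallyNoetherian_of_etale_chart hZN c hce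
  have hΔlft := repWith_locallyOfFiniteType_diagonal hX hY f
  have hΔ := hqs.rep
  have psq := hΔ.isPullback c
  set W := hΔ.pullback c
  set snd := hΔ.snd c
  set fst := hΔ.fst c
  have h1 : QuasiCompact snd.left := hqs.property_snd c
  have h2 : LocallyOfFiniteType snd.left := hΔlft.property_snd c
  have h4 : DvrExistence snd.left := by
    intro L _ A hA i₁ i₂ w
    let ptA : Over S := Over.mk (i₂ ≫ T.hom)
    let ptK : Over S := Over.mk (Spec.map (CommRingCat.ofHom (algebraMap A L)) ≫ i₂ ≫ T.hom)
    let i₂' : ptA ⟶ T := Over.homMk i₂ rfl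
    let i₁' : ptK ⟶ W := Over.homMk i₁ (by
      change i₁ ≫ W.hom = Spec.map _ ≫ i₂ ≫ T.hom
      rw [← Over.w snd, ← Category.assoc, w, Category.assoc]
      rfl)
    let j : ptK ⟶ ptA := Over.homMk (Spec.map (CommRingCat.ofHom (algebraMap A L))) rfl
    have hj : i₁' ≫ snd = j ≫ i₂' := by
      ext
      exact w
    let a : (yon S).obj ptA ⟶ X := (yon S).map i₂' ≫ c ≫ pullback.fst f f
    let b : (yon S).obj ptA ⟶ X := (yon S).map i₂' ≫ c ≫ pullback.snd f f
    have hfst1 : fst = (yon S).map snd ≫ c ≫ pullback.fst f f := by
      have := psq.w =≫ pullback.fst f f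
      simpa only [Category.assoc, pullback.diagonal_fst, Category.comp_id] using this
    have hfst2 : fst = (yon S).map snd ≫ c ≫ pullback.snd f f := by
      have := psq.w =≫ pullback.snd f f
      simpa only [Category.assoc, pullback.diagonal_snd, Category.comp_id] using this
    have hta : (yon S).map i₁' ≫ fst = (yon S).map j ≫ a := by
      rw [hfst1, ← Category.assoc, ← Functor.map_comp, hj, Functor.map_comp, Category.assoc]
    have htb : (yon S).map i₁' ≫ fst = (yon S).map j ≫ b := by
      rw [hfst2, ← Category.assoc, ← Functor.map_comp, hj, Functor.map_comp, Category.assoc]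
    let sq : ValSq f :=
      { A := A, K := L, str := i₂ ≫ T.hom, top := (yon S).map i₁' ≫ fst, bot := a ≫ f,
        comm := by rw [hta, Category.assoc] }
    have hab : a = b := hu sq hA a b hta.symm rfl htb.symm (by
      change ((yon S).map i₂' ≫ c ≫ pullback.snd f f) ≫ f =
        ((yon S).map i₂' ≫ c ≫ pullback.fst f f) ≫ f
      simp only [Category.assoc, pullback.condition])
    have hfac : a ≫ pullback.diagonal f = (yon S).map i₂' ≫ c := by
      apply pullback.hom_ext
      · simp only [Category.assoc, pullback.diagonal_fst, Category.comp_id]; rfl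
      · simp only [Category.assoc, pullback.diagonal_snd, Category.comp_id]; exact hab
    obtain ⟨l', hl'⟩ := (yon S).map_surjective (psq.lift a ((yon S).map i₂') hfac)
    have hl2 : l' ≫ snd = i₂' := (yon S).map_injective (by rw [Functor.map_comp, hl', psq.lift_snd])
    have hl3 : l'.left ≫ snd.left = i₂ := by
      rw [← Over.comp_left, hl2]; rfl
    have h3 : Mono snd.left := by
      have : Mono (pullback.diagonal f) := inferInstance
      have : Mono ((yon S).map snd) := psq.mono_snd_of_mono
      have : Mono snd := (yon S).mono_of_mono_map this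
      infer_instance
    refine ⟨l'.left, hl3, ?_⟩
    rw [← cancel_mono snd.left, Category.assoc, hl3, w]
  have h5 : UniversallyClosed snd.left := universallyClosed_of_dvrExistence snd.left h4
  have h6 : RepWith @UniversallyClosed (pullback.diagonal f) :=
    repWith_of_atlas (pullback.diagonal f) hΔ c hce hcs h5
  exact isSeparatedMor_of_isUnivClosedMor_diagonal hX f (isUnivClosedMor_of_repWith _ h6)

end Groth.Agent.Lib.Helper23.AlgSpMor
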