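import Groth.Agent.Lib.Helper23.AlgSpDvr2

/-!
# A discrete valuation ring through a point in the closure of the image (helper23)
-/

set_option autoImplicit false
universe u
open CategoryTheory CategoryTheory.Limits AlgebraicGeometry Opposite

namespace Groth.Agent.Lib.Helper23.AlgSpMor

open AlgSp Groth.Agent.Lib.Helper37.AlgSpPoints Groth.Agent.Lib.Helper12.AlgSpPoints
open Groth.Agent.Lib.Helper37.AlgSpFibres
open Groth.Agent.Lib.Helper50

variable {S : Scheme.{u}}

/-- From a chart diagram and a discrete valuation ring mapping compatibly to the charts, the diagram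
of sheaves `Spec Frac(A) ⟶ X`, `Spec A ⟶ Y`. -/
theorem exists_dvr_diagram_of_chart {X Y : Sp S} (f : X ⟶ Y) {U W : Over S}
    (a : (yon S).obj U ⟶ X) (b : (yon S).obj W ⟶ Y) (h : U ⟶ W)
    (hcomm : a ≫ f = (yon S).map h ≫ b)
    (A : Type u) [CommRing A] [IsDomain A] [IsDiscreteValuationRing A] (L : Type u) [Field L]
    [Algebra A L] [IsFractionRing A L]
    (x : Spec (.of L) ⟶ U.left) (hA : Spec (.of A) ⟶ W.left)
    (hx : x ≫ h.left = Spec.map (CommRingCat.ofHom (algebraMap A L)) ≫ hA) :
    ∃ (a₀ : Spec (CommRingCat.of A) ⟶ S)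
      (α : (yon S).obj (Over.mk a₀) ⟶ Y)
      (κ : (yon S).obj (Over.mk
        (Spec.map (CommRingCat.ofHom (algebraMap A (FractionRing A))) ≫ a₀)) ⟶ X),
      κ ≫ f = (yon S).map (Over.homMk
        (Spec.map (CommRingCat.ofHom (algebraMap A (FractionRing A))))) ≫ α ∧
      Points.map α (Points.schemeEquiv (Over.mk a₀) (IsLocalRing.closedPoint A)) =
        Points.ofPt b (hA (IsLocalRing.closedPoint A)) := by
  let a₀ : Spec (CommRingCat.of A) ⟶ S := hA ≫ W.hom
  let iA : Over.mk a₀ ⟶ W := Over.homMk hA rfl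
  let ε : L →+* FractionRing A := ((FractionRing.algEquiv A L).symm : L →+* FractionRing A)
  have hε : Spec.map (CommRingCat.ofHom (algebraMap A (FractionRing A))) =
      Spec.map (CommRingCat.ofHom ε) ≫ Spec.map (CommRingCat.ofHom (algebraMap A L)) := by
    rw [← Spec.map_comp]
    congr 1
    ext r
    exact ((FractionRing.algEquiv A L).symm.commutes r).symm
  let x' : Spec (.of (FractionRing A)) ⟶ U.left := Spec.map (CommRingCat.ofHom ε) ≫ x
  have hx' : x' ≫ h.left = Spec.map (CommRingCat.ofHom (algebraMap A (FractionRing A))) ≫ hA := by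
    rw [hε, Category.assoc, Category.assoc, hx]
  let iK : Over.mk (Spec.map (CommRingCat.ofHom (algebraMap A (FractionRing A))) ≫ a₀) ⟶ U :=
    Over.homMk x' (by
      change x' ≫ U.hom = Spec.map _ ≫ hA ≫ W.hom
      rw [← Over.w h, ← Category.assoc, hx', Category.assoc])
  let j : Over.mk (Spec.map (CommRingCat.ofHom (algebraMap A (FractionRing A))) ≫ a₀) ⟶
      Over.mk a₀ := Over.homMk (Spec.map (CommRingCat.ofHom (algebraMap A (FractionRing A)))) rfl
  have hji : iK ≫ h = j ≫ iA := by
    ext
    exact hx'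
  refine ⟨a₀, (yon S).map iA ≫ b, (yon S).map iK ≫ a, ?_, ?_⟩
  · have e1 : (yon S).map iK ≫ (yon S).map h = (yon S).map j ≫ (yon S).map iA := by
      rw [← Functor.map_comp, ← Functor.map_comp, hji]
    rw [Category.assoc, hcomm]
    exact (Category.assoc _ _ _).symm.trans
      ((congrArg (· ≫ b) e1).trans (Category.assoc _ _ _))
  · change Points.map _ (Points.ofScheme _ _) = _
    rw [← Points.ofPt_eq_map_ofScheme, ofPt_map_comp]
    rfl

/-- A quasi-compact chart of `f` over a quasi-compact etale chart of the target, with the description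
of images. -/
theorem exists_chart_over_qc {X Y : Sp S} (f : X ⟶ Y) (hq : IsQuasiCompactMor f) (Wo : Over S)
    [CompactSpace ↥Wo.left] (bW : (yon S).obj Wo ⟶ Y) (hbW : RepWith @Etale bW) :
    ∃ (U : Over S) (a : (yon S).obj U ⟶ X) (h : U ⟶ Wo), CompactSpace ↥U.left ∧
      RepWith @Etale a ∧ a ≫ f = (yon S).map h ≫ bW ∧
      ∀ T : Set (Points X),
        Points.ofPt bW ⁻¹' (Points.map f '' T) = h.left '' (Points.ofPt a ⁻¹' T) := by
  have hqW : IsQuasiCompactSp (pullback f bW) :=
    hq (IsAlgSpace.yon_obj Wo) (isQuasiCompactSp_yon Wo) bW (pullback.fst f bW) (pullback.snd f bW)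
      (IsPullback.of_hasPullback f bW)
  obtain ⟨U, p, hpe, hps, hU⟩ := hqW
  obtain ⟨h, hh⟩ := (yon S).map_surjective (p ≫ pullback.snd f bW)
  let a : (yon S).obj U ⟶ X := p ≫ pullback.fst f bW
  have hcomm : a ≫ f = (yon S).map h ≫ bW := by
    rw [hh, Category.assoc, Category.assoc, pullback.condition]
  have hae : RepWith @Etale a :=
    (RepWith @Etale).comp_mem _ _ hpe
      (MorphismProperty.pullback_fst (P := RepWith @Etale) f bW hbW)
  refine ⟨U, a, h, hU, hae, hcomm, fun T => ?_⟩
  ext w
  constructor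
  · rintro ⟨x, hxT, hx⟩
    have hx' : Points.map bW (Points.ofScheme Wo w) = Points.map f x := by
      rw [← Points.ofPt_eq_map_ofScheme]
      exact hx.symm
    obtain ⟨x', hx'1, hx'2⟩ := points_exists_of_isPullback
      (IsPullback.of_hasPullback f bW).flip (Points.ofScheme Wo w) x hx'
    obtain ⟨u, rfl⟩ := ofPt_surjective p hps x'
    refine ⟨u, ?_, ?_⟩
    · change Points.ofPt (p ≫ pullback.fst f bW) u ∈ T
      rw [← Points.map_ofPt, hx'2]
      exact hxT
    · have := hx'1
      rw [Points.map_ofPt, ← hh, ofPt_yon_map] at this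
      have h2 := congrArg (Points.toScheme Wo) this
      rw [Points.toScheme_ofScheme, Points.toScheme_ofScheme] at h2
      exact h2
  · rintro ⟨u, hu, rfl⟩
    refine ⟨Points.ofPt a u, hu, ?_⟩
    rw [Points.map_ofPt, hcomm, ofPt_map_comp]

open IsLocalRing in
/-- **A discrete valuation ring through a point in the closure of the image** of a morphism of finite
type to a locally Noetherian algebraic space. -/
theorem exists_dvr_diagram_of_mem_closure {X Y : Sp S} (hY : IsAlgSpace Y) (hYN : IsLocNoethSp Y)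
    (f : X ⟶ Y) (hq : IsQuasiCompactMor f) (hlft : LocP @LocallyOfFiniteType f) (y : Points Y)
    (hy : y ∈ closure (Set.range (Points.map f))) :
    ∃ (A : Type u) (_ : CommRing A) (_ : IsDomain A) (_ : IsDiscreteValuationRing A)
      (a₀ : Spec (CommRingCat.of A) ⟶ S)
      (α : (yon S).obj (Over.mk a₀) ⟶ Y)
      (κ : (yon S).obj (Over.mk
        (Spec.map (CommRingCat.ofHom (algebraMap A (FractionRing A))) ≫ a₀)) ⟶ X),
      κ ≫ f = (yon S).map (Over.homMk
        (Spec.map (CommRingCat.ofHom (algebraMap A (FractionRing A))))) ≫ α ∧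
      Points.map α (Points.schemeEquiv (Over.mk a₀) (IsLocalRing.closedPoint A)) = y := by
  obtain ⟨V, b, hbe, hbs⟩ := hY.atlas
  obtain ⟨v, rfl⟩ := ofPt_surjective b hbs y
  obtain ⟨W, hW, hvW, -⟩ := exists_isAffineOpen_mem_and_subset
    (show v ∈ (⊤ : V.left.Opens) from trivial)
  let Wo : Over S := openOver V W
  let bW : (yon S).obj Wo ⟶ Y := (yon S).map (openι V W) ≫ b
  have hbW : RepWith @Etale bW := repWith_etale_restrict b hbe W
  have hWaff : IsAffine Wo.left := hW
  have hWc : CompactSpace ↥Wo.left := inferInstance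
  have hWN : IsLocallyNoetherian Wo.left := isLocallyNoetherian_of_etale_chart hYN bW hbW
  let w : ↥Wo.left := ⟨v, hvW⟩
  have hwv : Points.ofPt bW w = Points.ofPt b v := ofPt_restrict b W w
  obtain ⟨U, a, h, hUc, hae, hcomm, hcl⟩ := exists_chart_over_qc f hq Wo bW hbW
  have hhlft : LocallyOfFiniteType h.left := hlft a bW h hae hbW hcomm
  have hrange : Points.ofPt bW ⁻¹' (Set.range (Points.map f)) = Set.range h.left := by
    have := hcl Set.univ
    rwa [Set.image_univ, Set.preimage_univ, Set.image_univ] at this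
  have hwcl : w ∈ closure (Set.range h.left) := by
    rw [← hrange]
    apply (isOpenMap_ofPt bW hbW).preimage_closure_subset_closure_preimage
    change Points.ofPt bW w ∈ closure (Set.range (Points.map f))
    rw [hwv]
    exact hy
  have hUN : IsLocallyNoetherian U.left := LocallyOfFiniteType.isLocallyNoetherian h.left
  have : IsNoetherian U.left := {}
  obtain ⟨ξ, -, hξ⟩ := exists_generic_specializes_of_mem_closure_range h.left
    h.left.continuous w hwcl
  by_cases hne : w = h.left ξ
  · -- constant discrete valuation ring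
    let k := U.left.residueField ξ
    let A := PowerSeries k
    let c : Spec (.of A) ⟶ Spec (.of k) := Spec.map (CommRingCat.ofHom (PowerSeries.C : k →+* A))
    obtain ⟨a₀, α, κ, h1, h2⟩ := exists_dvr_diagram_of_chart f a bW h hcomm A (FractionRing A)
      (Spec.map (CommRingCat.ofHom (algebraMap A (FractionRing A))) ≫ c ≫
        U.left.fromSpecResidueField ξ)
      (c ≫ U.left.fromSpecResidueField ξ ≫ h.left) (by simp only [Category.assoc])
    refine ⟨A, inferInstance, inferInstance, inferInstance, a₀, α, κ, h1, ?_⟩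
    rw [h2, ← hwv, hne]
    congr 1
    change h.left ((U.left.fromSpecResidueField ξ) (c (closedPoint A))) = h.left ξ
    rw [Scheme.fromSpecResidueField_apply]
  · obtain ⟨A, hA, hdvr, hclp, hcomp⟩ := exists_dvr_through_specialization h.left ξ w hξ hne
    obtain ⟨a₀, α, κ, h1, h2⟩ := exists_dvr_diagram_of_chart f a bW h hcomm A
      (U.left.residueField ξ) (U.left.fromSpecResidueField ξ) hA hcomp.symm
    refine ⟨A, inferInstance, inferInstance, hdvr, a₀, α, κ, h1, ?_⟩
    rw [h2, ← hwv]
    congr 1

end Groth.Agent.Lib.Helper23.AlgSpMor
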