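import Groth.Agent.Lib.Helper23.AlgSpDescent
import Groth.Agent.Lib.Helper23.DvrCover
import Groth.Agent.Lib.Helper23.AlgSpProper2
import Groth.Agent.Lib.Helper37.ValuativeExist
import Groth.Agent.Lib.Helper37.ValuativeSep

/-!
# Lifts in valuative squares over discrete valuation rings without extension (helper23)

For a separated, locally of finite type, universally closed morphism of algebraic spaces, every
valuative square over a discrete valuation ring has a lift (no extension of the ring needed).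
-/

set_option autoImplicit false
universe u
open CategoryTheory CategoryTheory.Limits AlgebraicGeometry Opposite

namespace Groth.Agent.Lib.Helper23.AlgSpMor

open AlgSp Groth.Agent.Lib.Helper37.AlgSpPoints Groth.Agent.Lib.Helper12.AlgSpPoints
open Groth.Agent.Lib.Helper37.AlgSpFibres
open Groth.Agent.Lib.Helper23.DvrCover

variable {S : Scheme.{u}}

open IsLocalRing in
/-- Lifting step: given a chart diagram `a : h_U ⟶ P` (`U` affine, of finite type over `Spec A`),
`s : P ⟶ h_{Spec A}` separated, a `K`-point `tP` of `P` over `Spec K ⟶ Spec A`, and a point `r` of a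
scheme `R` unramified over `Spec K` with `R ⟶ U` compatible, whose image in `U` specializes to a
point over the closed point of the discrete valuation ring `A`: the valuative square has a lift. -/
theorem hasLift_of_chart_point {X Y : Sp S} (f : X ⟶ Y) (sq : ValSq f)
    (hdvr : IsDiscreteValuationRing sq.A)
    {P : Sp S} (fstP : P ⟶ X) (sndP : P ⟶ (yon S).obj sq.ptA) (hw : fstP ≫ f = sndP ≫ sq.bot)
    (hsep : RepWith @IsClosedImmersion (pullback.diagonal sndP))
    (tP : (yon S).obj sq.ptK ⟶ P) (htP1 : tP ≫ fstP = sq.top)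
    (htP2 : tP ≫ sndP = (yon S).map sq.j)
    {U R : Over S} [IsAffine U.left] (a : (yon S).obj U ⟶ P) (c₀ : U ⟶ sq.ptA)
    (hc₀ : (yon S).map c₀ = a ≫ sndP) [LocallyOfFiniteType c₀.left]
    (r1 : R ⟶ U) (r2 : R ⟶ sq.ptK) (hR : (yon S).map r1 ≫ a = (yon S).map r2 ≫ tP)
    [FormallyUnramified r2.left] [LocallyOfFiniteType r2.left]
    (r : ↥R.left) (u : ↥U.left) (hru : r1.left r ⤳ u)
    (hu : c₀.left u = closedPoint sq.A) : sq.HasLift := by
  let L := R.left.residueField r
  let wK : Spec (.of L) ⟶ Spec (.of sq.K) := R.left.fromSpecResidueField r ≫ r2.left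
  let ψ : sq.K →+* L := (Spec.preimage wK).hom
  have hψ : Spec.map (CommRingCat.ofHom ψ) = wK := by
    change Spec.map (CommRingCat.ofHom (Spec.preimage wK).hom) = wK
    rw [CommRingCat.ofHom_hom, Spec.map_preimage]
  obtain ⟨hfin, -⟩ :=
    Groth.Agent.Lib.Helper37.ValuativeSep.finite_isSeparable_residueField_over_field r2.left r
  let ιL : sq.A →+* L := ψ.comp (algebraMap sq.A sq.K)
  have hιL : Function.Injective ιL :=
    ψ.injective.comp (IsFractionRing.injective sq.A sq.K)
  have hιLmap : Spec.map (CommRingCat.ofHom ιL) =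
      wK ≫ Spec.map (CommRingCat.ofHom (algebraMap sq.A sq.K)) := by
    rw [← hψ, ← Spec.map_comp]
    rfl
  let mL : Spec (.of L) ⟶ U.left := R.left.fromSpecResidueField r ≫ r1.left
  have hr12 : r1 ≫ c₀ = r2 ≫ sq.j := by
    apply (yon S).map_injective
    rw [Functor.map_comp, hc₀, ← Category.assoc, hR, Category.assoc, htP2, Functor.map_comp]
  have hr12l : r1.left ≫ c₀.left = r2.left ≫ Spec.map (CommRingCat.ofHom (algebraMap sq.A sq.K)) :=
    congrArg (fun m => m.left) hr12
  have hm : mL ≫ c₀.left = Spec.map (CommRingCat.ofHom ιL) := by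
    rw [hιLmap]
    change (_ ≫ r1.left) ≫ c₀.left = (_ ≫ r2.left) ≫ _
    rw [Category.assoc, hr12l, Category.assoc]
  have hmu : mL (closedPoint L) ⤳ u := by
    have : mL (closedPoint L) = r1.left r := by
      change r1.left ((R.left.fromSpecResidueField r) (closedPoint L)) = r1.left r
      rw [Scheme.fromSpecResidueField_apply]
    rw [this]
    exact hru
  obtain ⟨T, RT, D, iT, mbar, p₁, p₂, d, q₁, q₂, hmbar, hflat, hlfp, hsurj, hpb, hRTaff, hd, hd1,
    hd2, hq⟩ := exists_fppf_cover_of_point c₀.left mL ιL hιL hm u hmu hu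
  have hq12 : q₁ ≫ wK = q₂ ≫ wK := hq wK hιLmap.symm
  obtain ⟨τ, hτ⟩ : ∃ τ : T ⟶ sq.ptA.left, τ = iT ≫ c₀.left := ⟨_, rfl⟩
  rw [← hτ] at hflat hlfp hsurj hpb
  have h12 : p₁ ≫ τ ≫ sq.ptA.hom = p₂ ≫ τ ≫ sq.ptA.hom := by
    rw [← Category.assoc, hpb.w, Category.assoc]
  have hcompat : (d ≫ p₂) ≫ τ ≫ sq.ptA.hom = (d ≫ p₁) ≫ τ ≫ sq.ptA.hom := by
    simp only [Category.assoc, h12]
  -- the morphism on the cover
  let To : Over S := bcBase (U := sq.ptA) τ
  let iT' : To ⟶ U := Over.homMk iT (by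
    change iT ≫ U.hom = τ ≫ sq.str
    rw [hτ, Category.assoc]
    congr 1
    exact (Over.w c₀).symm)
  let lT : (yon S).obj To ⟶ P := (yon S).map iT' ≫ a
  have hiTc : iT' ≫ c₀ = bcBaseι (U := sq.ptA) τ := Over.OverMorphism.ext hτ.symm
  have hlT : lT ≫ sndP = (yon S).map (bcBaseι (U := sq.ptA) τ) := by
    change ((yon S).map iT' ≫ a) ≫ sndP = _
    rw [Category.assoc, ← hc₀, ← Functor.map_comp, hiTc]
  -- structure morphisms to `R`
  have hRhom : R.hom = r1.left ≫ c₀.left ≫ sq.str := by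
    rw [← Over.w r1]
    congr 1
    exact (Over.w c₀).symm
  have hmLτ : mbar ≫ τ = mL ≫ c₀.left := by
    rw [hτ, ← Category.assoc, hmbar]
  let Do : Over S := Over.mk ((d ≫ p₁) ≫ τ ≫ sq.ptA.hom)
  let Q₁ : Do ⟶ R := Over.homMk (q₁ ≫ R.left.fromSpecResidueField r) (by
    change (q₁ ≫ R.left.fromSpecResidueField r) ≫ R.hom = (d ≫ p₁) ≫ τ ≫ sq.str
    calc (q₁ ≫ R.left.fromSpecResidueField r) ≫ R.hom
        = q₁ ≫ (mL ≫ c₀.left) ≫ sq.str := by rw [hRhom]; simp only [mL, Category.assoc]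
      _ = q₁ ≫ (mbar ≫ τ) ≫ sq.str := by rw [hmLτ]
      _ = (q₁ ≫ mbar) ≫ τ ≫ sq.str := by simp only [Category.assoc]
      _ = (d ≫ p₁) ≫ τ ≫ sq.str := by rw [hd1])
  let Q₂ : Do ⟶ R := Over.homMk (q₂ ≫ R.left.fromSpecResidueField r) (by
    change (q₂ ≫ R.left.fromSpecResidueField r) ≫ R.hom = (d ≫ p₁) ≫ τ ≫ sq.str
    calc (q₂ ≫ R.left.fromSpecResidueField r) ≫ R.hom
        = q₂ ≫ (mL ≫ c₀.left) ≫ sq.str := by rw [hRhom]; simp only [mL, Category.assoc]
      _ = q₂ ≫ (mbar ≫ τ) ≫ sq.str := by rw [hmLτ]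
      _ = (q₂ ≫ mbar) ≫ τ ≫ sq.str := by simp only [Category.assoc]
      _ = (d ≫ p₂) ≫ τ ≫ sq.str := by rw [hd2]
      _ = (d ≫ p₁) ≫ τ ≫ sq.str := hcompat)
  have hQ : Q₁ ≫ r2 = Q₂ ≫ r2 := by
    apply Over.OverMorphism.ext
    change (q₁ ≫ R.left.fromSpecResidueField r) ≫ r2.left =
      (q₂ ≫ R.left.fromSpecResidueField r) ≫ r2.left
    rw [Category.assoc, Category.assoc]
    exact hq12
  have hagree : (yon S).map (Over.homMk (d ≫ p₁) rfl :
        Over.mk ((d ≫ p₁) ≫ τ ≫ sq.ptA.hom) ⟶ bcBase (U := sq.ptA) τ) ≫ lT =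
      (yon S).map (Over.homMk (d ≫ p₂) hcompat :
        Over.mk ((d ≫ p₁) ≫ τ ≫ sq.ptA.hom) ⟶ bcBase (U := sq.ptA) τ) ≫ lT := by
    have e1 : (Over.homMk (d ≫ p₁) rfl : Do ⟶ To) ≫ iT' = Q₁ ≫ r1 := by
      apply Over.OverMorphism.ext
      change (d ≫ p₁) ≫ iT = (q₁ ≫ R.left.fromSpecResidueField r) ≫ r1.left
      rw [hd1, Category.assoc, hmbar, Category.assoc]
    have e2 : (Over.homMk (d ≫ p₂) hcompat : Do ⟶ To) ≫ iT' = Q₂ ≫ r1 := by
      apply Over.OverMorphism.ext
      change (d ≫ p₂) ≫ iT = (q₂ ≫ R.left.fromSpecResidueField r) ≫ r1.left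
      rw [hd2, Category.assoc, hmbar, Category.assoc]
    have E1 : (yon S).map (Over.homMk (d ≫ p₁) rfl : Do ⟶ To) ≫ (yon S).map iT' =
        (yon S).map Q₁ ≫ (yon S).map r1 := by
      rw [← Functor.map_comp, ← Functor.map_comp, e1]
    have E2 : (yon S).map (Over.homMk (d ≫ p₂) hcompat : Do ⟶ To) ≫ (yon S).map iT' =
        (yon S).map Q₂ ≫ (yon S).map r1 := by
      rw [← Functor.map_comp, ← Functor.map_comp, e2]
    have E3 : (yon S).map Q₁ ≫ (yon S).map r2 = (yon S).map Q₂ ≫ (yon S).map r2 := by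
      rw [← Functor.map_comp, ← Functor.map_comp, hQ]
    have F1 : ((yon S).map Q₁ ≫ (yon S).map r1) ≫ a = ((yon S).map Q₁ ≫ (yon S).map r2) ≫ tP :=
      (Category.assoc _ _ _).trans ((congrArg ((yon S).map Q₁ ≫ ·) hR).trans
        (Category.assoc _ _ _).symm)
    have F2 : ((yon S).map Q₂ ≫ (yon S).map r1) ≫ a = ((yon S).map Q₂ ≫ (yon S).map r2) ≫ tP :=
      (Category.assoc _ _ _).trans ((congrArg ((yon S).map Q₂ ≫ ·) hR).trans
        (Category.assoc _ _ _).symm)
    change (yon S).map _ ≫ (yon S).map iT' ≫ a = (yon S).map _ ≫ (yon S).map iT' ≫ a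
    exact (Category.assoc _ _ _).symm.trans ((congrArg (· ≫ a) E1).trans (F1.trans
      ((congrArg (· ≫ tP) E3).trans (F2.symm.trans ((congrArg (· ≫ a) E2).symm.trans
        (Category.assoc _ _ _))))))
  obtain ⟨σ, hσ1, hσ2⟩ := exists_section_of_fppf_cover sndP hsep τ hflat hlfp hsurj p₁ p₂ hpb d hd
    lT hlT hagree
  -- compatibility with the `K`-point
  let ptL : Over S := Over.mk (wK ≫ sq.ptK.hom)
  let cL : ptL ⟶ sq.ptK := Over.homMk wK rfl
  have hcLepi : Epi ((yon S).map cL) := by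
    letI : Algebra sq.K L := ψ.toAlgebra
    refine epi_yon_map_of_fppf cL ?_ ?_ ?_
    · change Flat wK
      rw [← hψ]
      refine (HasRingHomProperty.Spec_iff (P := @Flat)).2 ?_
      change Module.Flat sq.K L
      infer_instance
    · change LocallyOfFinitePresentation wK
      rw [← hψ]
      refine (HasRingHomProperty.Spec_iff (P := @LocallyOfFinitePresentation)).2 ?_
      change Algebra.FinitePresentation sq.K L
      have : Module.Finite sq.K L := hfin
      have : Algebra.FiniteType sq.K L := inferInstance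
      exact Algebra.FinitePresentation.of_finiteType.1 this
    · change Surjective wK
      refine ⟨fun x => ⟨closedPoint L, ?_⟩⟩
      exact Subsingleton.elim _ _
  let M' : ptL ⟶ To := Over.homMk mbar (by
    change mbar ≫ τ ≫ sq.str = wK ≫ Spec.map (CommRingCat.ofHom (algebraMap sq.A sq.K)) ≫ sq.str
    rw [← Category.assoc, hmLτ, hm, hιLmap, Category.assoc])
  let ρr : ptL ⟶ R := Over.homMk (R.left.fromSpecResidueField r) (by
    change R.left.fromSpecResidueField r ≫ R.hom = wK ≫ sq.ptK.hom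
    rw [← Over.w r2]
    rfl)
  have hM1 : M' ≫ bcBaseι (U := sq.ptA) τ = cL ≫ sq.j := by
    apply Over.OverMorphism.ext
    change mbar ≫ τ = wK ≫ Spec.map (CommRingCat.ofHom (algebraMap sq.A sq.K))
    rw [hmLτ, hm, hιLmap]
  have hM2 : M' ≫ iT' = ρr ≫ r1 := Over.OverMorphism.ext hmbar
  have hρr2 : ρr ≫ r2 = cL := Over.OverMorphism.ext rfl
  have hσK : (yon S).map sq.j ≫ σ = tP := by
    rw [← cancel_epi ((yon S).map cL), ← Category.assoc, ← Functor.map_comp, ← hM1,
      Functor.map_comp, Category.assoc, hσ1]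
    change (yon S).map M' ≫ (yon S).map iT' ≫ a = _
    rw [← Category.assoc, ← Functor.map_comp, hM2, Functor.map_comp, Category.assoc, hR,
      ← Category.assoc, ← Functor.map_comp, hρr2]
  refine ⟨σ ≫ fstP, ?_, ?_⟩
  · rw [← Category.assoc, hσK, htP1]
  · rw [Category.assoc, hw, ← Category.assoc, hσ2, Category.id_comp]

open IsLocalRing Groth.Agent.Lib.Helper37.ValuativeExist in
/-- **Lifts over discrete valuation rings without extension**: a separated, locally of finite type,
universally closed morphism of algebraic spaces has a lift in every valuative square over a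
discrete valuation ring. -/
theorem hasLift_of_separated_univClosed_dvr {X Y : Sp S} (hX : IsAlgSpace X) (hY : IsAlgSpace Y)
    (f : X ⟶ Y) (hsep : IsSeparatedMor f) (hlft : LocP @LocallyOfFiniteType f)
    (hc : IsUnivClosedMor f) (sq : ValSq f) (hdvr : IsDiscreteValuationRing sq.A) :
    sq.HasLift := by
  let P := pullback f sq.bot
  let fstP : P ⟶ X := pullback.fst f sq.bot
  let sndP : P ⟶ (yon S).obj sq.ptA := pullback.snd f sq.bot
  have psq : IsPullback fstP sndP f sq.bot := IsPullback.of_hasPullback _ _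
  have hP : IsAlgSpace P := isAlgSpace_of_isPullback hX (IsAlgSpace.yon_obj _) hY.diag psq
  let tP : (yon S).obj sq.ptK ⟶ P := pullback.lift sq.top ((yon S).map sq.j) sq.comm
  have htP1 : tP ≫ fstP = sq.top := pullback.lift_fst _ _ _
  have htP2 : tP ≫ sndP = (yon S).map sq.j := pullback.lift_snd _ _ _
  have hclosedMap : IsClosedMap (Points.map sndP) :=
    hc (IsAlgSpace.yon_obj sq.ptA) sq.bot fstP sndP psq
  have hqs : RepWith @QuasiCompact (pullback.diagonal f) :=
    repWith_quasiCompact_of_isClosedImmersion _ hsep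
  have hsepP : RepWith @IsClosedImmersion (pullback.diagonal sndP) :=
    isSeparatedMor_of_isPullback psq hsep
  have hqP : RepWith @QuasiCompact (pullback.diagonal sndP) :=
    repWith_quasiCompact_diagonal_of_isPullback psq hqs
  have hj : RepWith @QuasiCompact ((yon S).map sq.j) :=
    (repWith_yon_map_iff _ _).2 (by
      change QuasiCompact (Spec.map (CommRingCat.ofHom (algebraMap sq.A sq.K)))
      infer_instance)
  have htq : RepWith @QuasiCompact tP :=
    repWith_quasiCompact_of_comp tP sndP hqP (by rw [htP2]; exact hj)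
  let k0 : ↥sq.ptK.left := closedPoint sq.K
  let xK := Points.ofPt tP k0
  have hxK : Points.map sndP xK = Points.ofScheme sq.ptA (sq.j.left k0) := by
    rw [Points.map_ofPt, htP2, ofPt_yon_map]
  obtain ⟨x, hx1, hx2⟩ := exists_specialization_over_closedPoint sndP hclosedMap xK
    (sq.j.left k0) (closedPoint sq.A) (specializes_closedPoint _) hxK
  obtain ⟨U₁, a₁, ha₁e, ha₁s⟩ := hP.atlas
  obtain ⟨u₁, hu₁⟩ := ofPt_surjective a₁ ha₁s x
  obtain ⟨U₀, hU₀, hu₁U₀, -⟩ := exists_isAffineOpen_mem_and_subset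
    (show u₁ ∈ (⊤ : U₁.left.Opens) from trivial)
  let U : Over S := openOver U₁ U₀
  let a : (yon S).obj U ⟶ P := (yon S).map (openι U₁ U₀) ≫ a₁
  have hae : RepWith @Etale a := repWith_etale_restrict a₁ ha₁e U₀
  have hUaff : IsAffine U.left := hU₀
  let u : ↥U.left := ⟨u₁, hu₁U₀⟩
  have hu : Points.ofPt a u = x := by
    rw [ofPt_restrict]
    exact hu₁
  obtain ⟨u', hu's, hu'⟩ := exists_specializes_lift_of_qc_point x xK hx1 (FieldPt.ofPt tP k0) rfl
    (repWith_quasiCompact_toHom_ofPt tP htq k0) a hae u hu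
  have rsq := hae.rep.isPullback' tP
  have hr2e : Etale (hae.rep.snd tP).left := hae.property_snd tP
  obtain ⟨r, hr1, hr2⟩ := (ofPt_eq_ofPt_iff rsq u' k0).1 hu'
  obtain ⟨c₀, hc₀⟩ := (yon S).map_surjective (a ≫ sndP)
  have hsndlft : LocP @LocallyOfFiniteType sndP :=
    Groth.Agent.Lib.Helper46.LocPChart.locP_of_isPullback
      Groth.Agent.Lib.Helper30.EtLocalInst.etLocal_lft hX hY hP (IsAlgSpace.yon_obj _) psq hlft
  have hc₀lft : LocallyOfFiniteType c₀.left :=
    hsndlft a (𝟙 _) c₀ hae (repWith_id _ _) (by rw [hc₀, Category.comp_id])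
  have hucl : c₀.left u = closedPoint sq.A := by
    have h1 : Points.ofScheme sq.ptA (c₀.left u) = Points.ofScheme sq.ptA (closedPoint sq.A) := by
      rw [← ofPt_yon_map, hc₀, ← hx2, ← hu, Points.map_ofPt]
    have h2 := congrArg (Points.toScheme sq.ptA) h1
    rwa [Points.toScheme_ofScheme, Points.toScheme_ofScheme] at h2
  exact hasLift_of_chart_point f sq hdvr fstP sndP psq.w hsepP tP htP1 htP2 a c₀ hc₀
    (hae.rep.fst' tP) (hae.rep.snd tP) rsq.w r u (by rw [hr1]; exact hu's) hucl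

end Groth.Agent.Lib.Helper23.AlgSpMor
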