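import Groth.Agent.Lib.Helper37.ValuativeSep
import Groth.Agent.Lib.Helper50.DvrSpec
import Groth.Agent.Lib.Helper23.AlgSpDvr3
import Groth.Agent.Lib.Helper23.AlgSpDvrLift

/-!
# Lifts over discrete valuation rings after a finite separable extension (helper23)

A variant of `Helper37.ValuativeExist.exists_domExt_of_chart_point`: when the chart is locally
Noetherian, the dominating extension can be taken to be a discrete valuation ring with fraction
field finite separable over `K`.
-/

set_option autoImplicit false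
universe u
open CategoryTheory CategoryTheory.Limits AlgebraicGeometry
open AlgSp
open Groth.Agent.Lib.Helper37.AlgSpPoints Groth.Agent.Lib.Helper37.AlgSpFibres
open Groth.Agent.Lib.Helper23.AlgSpMor Groth.Agent.Lib.Helper37.ValuativeExist
open Groth.Agent.Lib.Helper37.ValuativeSep

namespace Groth.Agent.Lib.Helper23.AlgSpMor

variable {S : Scheme.{u}}

/-- Finite generation of a finite extension over the fraction field of a subring. -/
theorem exists_finset_closure_eq_top {A K L B : Type u} [CommRing A] [Field K] [Algebra A K]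
    [IsFractionRing A K] [Field L] [CommRing B] (ψ : K →+* L) (φ₀ : B →+* L) (ρ₀ : A →+* B)
    (hcomp : φ₀.comp ρ₀ = ψ.comp (algebraMap A K))
    (hfin : letI := ψ.toAlgebra; Module.Finite K L) :
    ∃ F : Finset L, Subfield.closure (Set.range φ₀ ∪ ↑F) = ⊤ := by
  letI := ψ.toAlgebra
  obtain ⟨F, hF⟩ := (Module.Finite.fg_top : (⊤ : Submodule K L).FG)
  refine ⟨F, ?_⟩
  rw [eq_top_iff]
  rintro x -
  have hA : ∀ a : A, ψ (algebraMap A K a) ∈ Subfield.closure (Set.range φ₀ ∪ ↑F) := by
    intro a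
    have h1 := congrArg (fun g => g a) hcomp
    simp only [RingHom.comp_apply] at h1
    rw [← h1]
    exact Subfield.subset_closure (Or.inl ⟨ρ₀ a, rfl⟩)
  have hK : ∀ k : K, ψ k ∈ Subfield.closure (Set.range φ₀ ∪ ↑F) := by
    intro k
    obtain ⟨a, b, hb, rfl⟩ := IsFractionRing.div_surjective (A := A) k
    rw [map_div₀]
    exact div_mem (hA a) (hA b)
  have hx : x ∈ Submodule.span K (F : Set L) := by rw [hF]; trivial
  induction hx using Submodule.span_induction with
  | mem y hy => exact Subfield.subset_closure (Or.inr hy)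
  | zero => exact zero_mem _
  | add y z _ _ hy hz => exact add_mem hy hz
  | smul k y _ hy =>
    have : k • y = ψ k * y := Algebra.smul_def k y
    rw [this]
    exact mul_mem (hK k) hy

open IsLocalRing in
/-- Lifting step over a locally Noetherian chart: the dominating extension is a discrete valuation
ring whose fraction field is finite separable over `K`. -/
theorem exists_dvr_domExt_of_chart_point {X Y : Sp S} (f : X ⟶ Y) (sq : ValSq f)
    {P : Sp S} (fstP : P ⟶ X) (sndP : P ⟶ (yon S).obj sq.ptA) (hw : fstP ≫ f = sndP ≫ sq.bot)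
    (tP : (yon S).obj sq.ptK ⟶ P) (htP1 : tP ≫ fstP = sq.top) (htP2 : tP ≫ sndP = (yon S).map sq.j)
    {U R : Over S} [IsLocallyNoetherian U.left] (a : (yon S).obj U ⟶ P)
    (c₀ : U ⟶ sq.ptA) (hc₀ : (yon S).map c₀ = a ≫ sndP)
    (r1 : R ⟶ U) (r2 : R ⟶ sq.ptK)
    (hR : (yon S).map r1 ≫ a = (yon S).map r2 ≫ tP)
    [FormallyUnramified r2.left] [LocallyOfFiniteType r2.left]
    (r : ↥R.left) (u : ↥U.left)
    (hru : r1.left r ⤳ u) (hne : r1.left r ≠ u)
    (hu : Points.map sndP (Points.ofPt a u) = Points.ofScheme sq.ptA (closedPoint sq.A)) :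
    ∃ e : sq.DomExt, IsDiscreteValuationRing e.A' ∧ e.HasLift ∧
      (letI := e.ψ.toAlgebra; Module.Finite sq.K e.K' ∧ Algebra.IsSeparable sq.K e.K') := by
  let L := R.left.residueField r
  let φ₀ : U.left.presheaf.stalk u ⟶ R.left.residueField r :=
    U.left.presheaf.stalkSpecializes hru ≫ r1.left.stalkMap r ≫ R.left.residue r
  have hφ₀spec : Spec.map φ₀ ≫ U.left.fromSpecStalk u = R.left.fromSpecResidueField r ≫ r1.left := by
    rw [Scheme.fromSpecResidueField, Category.assoc, ← Scheme.SpecMap_stalkMap_fromSpecStalk,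
      ← Scheme.SpecMap_stalkSpecializes_fromSpecStalk hru]
    simp_rw [← Spec.map_comp_assoc]
    rfl
  -- the kernel is not the maximal ideal
  have hker : RingHom.ker φ₀.hom ≠ maximalIdeal (U.left.presheaf.stalk u) := by
    intro hk
    have h1 := Groth.Agent.Lib.Helper50.apply_closedPoint_of_ker_eq (L := L) u φ₀ hk
    rw [hφ₀spec] at h1
    apply hne
    rw [← h1]
    exact (congrArg r1.left (Scheme.fromSpecResidueField_apply r _)).symm
  -- finite generation
  let ψc : CommRingCat.of sq.K ⟶ L :=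
    Spec.preimage (R.left.fromSpecResidueField r ≫ r2.left : Spec L ⟶ Spec (.of sq.K))
  have hψc : Spec.map ψc = R.left.fromSpecResidueField r ≫ r2.left := Spec.map_preimage _
  have hfs := finite_isSeparable_residueField_over_field (K := sq.K) r2.left r
  have hr12 : r1 ≫ c₀ = r2 ≫ sq.j := by
    apply (yon S).map_injective
    rw [Functor.map_comp, hc₀, ← Category.assoc, hR, Category.assoc, htP2, Functor.map_comp]
  have hr12l : r1.left ≫ c₀.left =
      r2.left ≫ Spec.map (CommRingCat.ofHom (algebraMap sq.A sq.K)) :=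
    congrArg (fun m => m.left) hr12
  let ρc : CommRingCat.of sq.A ⟶ U.left.presheaf.stalk u :=
    Spec.preimage (U.left.fromSpecStalk u ≫ c₀.left :
      Spec (U.left.presheaf.stalk u) ⟶ Spec (.of sq.A))
  have hρc : Spec.map ρc = U.left.fromSpecStalk u ≫ c₀.left := Spec.map_preimage _
  have hcompρ : ρc ≫ φ₀ = CommRingCat.ofHom (algebraMap sq.A sq.K) ≫ ψc := by
    apply Spec.map_injective
    have e1 : Spec.map (ρc ≫ φ₀) = Spec.map φ₀ ≫ Spec.map ρc := Spec.map_comp _ _
    have e2 : Spec.map (CommRingCat.ofHom (algebraMap sq.A sq.K) ≫ ψc) =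
        Spec.map ψc ≫ Spec.map (CommRingCat.ofHom (algebraMap sq.A sq.K)) := Spec.map_comp _ _
    rw [e1, e2, hρc, hψc, ← Category.assoc, hφ₀spec, Category.assoc, Category.assoc, hr12l]
  have hfg := exists_finset_closure_eq_top (A := sq.A) (K := sq.K) ψc.hom φ₀.hom ρc.hom
    (congrArg CommRingCat.Hom.hom hcompρ) hfs.1
  obtain ⟨A', hA'dvr, ψ₀, hψ₀loc, hψ₀⟩ :=
    Groth.Agent.Lib.Helper50.exists_dvr_factor φ₀.hom hker hfg
  have hA' : ∀ x, φ₀.hom x ∈ A'.toSubring := by
    intro x
    rw [← hψ₀]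
    exact (ψ₀ x).2
  have hA'_local : IsLocalHom (φ₀.hom.codRestrict A'.toSubring hA') := by
    have : φ₀.hom.codRestrict A'.toSubring hA' = ψ₀ := by
      ext x
      exact congrArg (fun g => g x) hψ₀.symm
    rw [this]
    exact hψ₀loc
  let toA : U.left.presheaf.stalk u ⟶ .of A' := CommRingCat.ofHom (φ₀.hom.codRestrict _ hA')
  have hw0 : R.left.fromSpecResidueField r ≫ r1.left =
      Spec.map (CommRingCat.ofHom (algebraMap A' (R.left.residueField r))) ≫
        Spec.map toA ≫ U.left.fromSpecStalk u := by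
    rw [Scheme.fromSpecResidueField, Category.assoc, ← Scheme.SpecMap_stalkMap_fromSpecStalk,
      ← Scheme.SpecMap_stalkSpecializes_fromSpecStalk hru]
    simp_rw [← Spec.map_comp_assoc]
    rfl
  let ptA₀ : Over S := Over.mk (Spec.map toA ≫ U.left.fromSpecStalk u ≫ U.hom)
  let ptL₀ : Over S :=
    Over.mk (Spec.map (CommRingCat.ofHom (algebraMap A' (R.left.residueField r))) ≫ ptA₀.hom)
  let ρ : ptL₀ ⟶ R := Over.homMk (R.left.fromSpecResidueField r) (by
    change _ ≫ R.hom = Spec.map _ ≫ Spec.map toA ≫ U.left.fromSpecStalk u ≫ U.hom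
    rw [← Over.w r1, ← Category.assoc, hw0]
    simp only [Category.assoc])
  let iA : ptA₀ ⟶ U := Over.homMk (Spec.map toA ≫ U.left.fromSpecStalk u) (by
    change (_ ≫ _) ≫ U.hom = Spec.map toA ≫ U.left.fromSpecStalk u ≫ U.hom
    rw [Category.assoc])
  let jL : ptL₀ ⟶ ptA₀ :=
    Over.homMk (Spec.map (CommRingCat.ofHom (algebraMap A' (R.left.residueField r)))) rfl
  have hρ : ρ ≫ r1 = jL ≫ iA := by
    ext
    exact hw0
  -- the map to Spec A
  obtain ⟨c, hc⟩ := (yon S).map_surjective ((yon S).map iA ≫ a ≫ sndP)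
  let φ : sq.A →+* A' := (Spec.preimage c.left).hom
  have hφ : Spec.map (CommRingCat.ofHom φ) = c.left := by
    change Spec.map (CommRingCat.ofHom (Spec.preimage c.left).hom) = c.left
    rw [CommRingCat.ofHom_hom, Spec.map_preimage]
  let ψ : sq.K →+* R.left.residueField r := (Spec.preimage (ρ ≫ r2).left).hom
  have hψ : Spec.map (CommRingCat.ofHom ψ) = (ρ ≫ r2).left := by
    change Spec.map (CommRingCat.ofHom (Spec.preimage (ρ ≫ r2).left).hom) = (ρ ≫ r2).left
    rw [CommRingCat.ofHom_hom, Spec.map_preimage]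
  -- compatibility in Over S
  have hcomp : jL ≫ c = (ρ ≫ r2) ≫ sq.j := by
    apply (yon S).map_injective
    calc (yon S).map (jL ≫ c) = (yon S).map (jL ≫ iA) ≫ a ≫ sndP := by
          rw [Functor.map_comp, hc, Functor.map_comp, Category.assoc]
      _ = (yon S).map ρ ≫ ((yon S).map r1 ≫ a) ≫ sndP := by
          rw [← hρ, Functor.map_comp, Category.assoc, Category.assoc]
      _ = (yon S).map ρ ≫ (yon S).map r2 ≫ tP ≫ sndP := by
          rw [hR, Category.assoc]
      _ = (yon S).map ((ρ ≫ r2) ≫ sq.j) := by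
          rw [htP2]; simp only [Functor.map_comp, Category.assoc]
  have hcomm : (algebraMap A' (R.left.residueField r)).comp φ = ψ.comp (algebraMap sq.A sq.K) := by
    have h1 := congrArg (fun m => m.left) hcomp
    simp only [Over.comp_left] at h1
    change Spec.map (CommRingCat.ofHom (algebraMap A' (R.left.residueField r))) ≫ c.left =
      (ρ ≫ r2).left ≫ Spec.map (CommRingCat.ofHom (algebraMap sq.A sq.K)) at h1
    rw [← hφ, ← hψ, ← Spec.map_comp, ← Spec.map_comp, ← CommRingCat.ofHom_comp,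
      ← CommRingCat.ofHom_comp] at h1
    have h2 := Spec.map_injective h1
    have h3 := congrArg CommRingCat.Hom.hom h2
    exact h3
  have hclosed : c.left (closedPoint A') = closedPoint sq.A := by
    have h1 : Points.ofScheme sq.ptA (c.left (closedPoint A')) =
        Points.ofScheme sq.ptA (closedPoint sq.A) := by
      rw [← ofPt_yon_map, hc, ← hu, Points.map_ofPt, ofPt_map_comp]
      congr 1
      change (Spec.map toA ≫ U.left.fromSpecStalk u) (closedPoint A') = u
      simp only [Scheme.Hom.comp_base, TopCat.coe_comp, Function.comp_apply]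
      have : Spec.map toA (closedPoint A') = closedPoint (U.left.presheaf.stalk u) :=
        comap_closedPoint (S := A') (φ₀.hom.codRestrict A'.toSubring hA')
      rw [this, U.left.fromSpecStalk_closedPoint]
    have h2 := congrArg (Points.toScheme sq.ptA) h1
    rwa [Points.toScheme_ofScheme, Points.toScheme_ofScheme] at h2
  have hlocal : IsLocalHom φ := by
    rw [← hφ] at hclosed
    have h1 : (maximalIdeal A').comap φ = maximalIdeal sq.A := by
      have := congrArg PrimeSpectrum.asIdeal hclosed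
      exact this
    exact ((local_hom_TFAE φ).out 0 4).2 h1
  let e : sq.DomExt :=
    { A' := A', K' := R.left.residueField r, φ := φ, ψ := ψ, comm := hcomm, isLocalHom := hlocal }
  have hcw : c.left ≫ sq.str = ptA₀.hom := Over.w c
  let ι : e.ptA' ⟶ ptA₀ := Over.homMk (𝟙 _) (by
    change 𝟙 _ ≫ ptA₀.hom = Spec.map (CommRingCat.ofHom φ) ≫ sq.str
    rw [Category.id_comp, hφ, hcw])
  let ιK : e.ptK' ⟶ ptL₀ := Over.homMk (𝟙 _) (by
    change 𝟙 _ ≫ Spec.map _ ≫ ptA₀.hom = Spec.map _ ≫ Spec.map (CommRingCat.ofHom φ) ≫ sq.str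
    rw [Category.id_comp, hφ, hcw])
  refine ⟨e, hA'dvr, ⟨(yon S).map ι ≫ (yon S).map iA ≫ a ≫ fstP, ?_, ?_⟩, hfs⟩
  · have h1 : (Over.homMk (Spec.map (CommRingCat.ofHom (algebraMap e.A' e.K'))) rfl :
        e.ptK' ⟶ e.ptA') ≫ ι ≫ iA = ιK ≫ ρ ≫ r1 := by
      rw [hρ]
      ext
      change Spec.map _ ≫ 𝟙 _ ≫ _ = 𝟙 _ ≫ Spec.map _ ≫ _
      rw [Category.id_comp, Category.id_comp]
    have h2 : ιK ≫ ρ ≫ r2 = (Over.homMk (Spec.map (CommRingCat.ofHom e.ψ)) (by
          change Spec.map _ ≫ Spec.map _ ≫ _ = Spec.map _ ≫ Spec.map _ ≫ _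
          rw [← Spec.map_comp_assoc, ← Spec.map_comp_assoc, ← CommRingCat.ofHom_comp,
            ← CommRingCat.ofHom_comp, e.comm]) : e.ptK' ⟶ sq.ptK) := by
      ext
      change 𝟙 _ ≫ (ρ ≫ r2).left = Spec.map (CommRingCat.ofHom ψ)
      rw [Category.id_comp, hψ]
    rw [← h2]
    calc (yon S).map _ ≫ (yon S).map ι ≫ (yon S).map iA ≫ a ≫ fstP
        = (yon S).map ((Over.homMk (Spec.map (CommRingCat.ofHom (algebraMap e.A' e.K'))) rfl :
            e.ptK' ⟶ e.ptA') ≫ ι ≫ iA) ≫ a ≫ fstP := by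
          simp only [Functor.map_comp, Category.assoc]
      _ = (yon S).map (ιK ≫ ρ) ≫ ((yon S).map r1 ≫ a) ≫ fstP := by
          rw [h1]; simp only [Functor.map_comp, Category.assoc]
      _ = (yon S).map (ιK ≫ ρ ≫ r2) ≫ sq.top := by
          rw [hR, ← htP1]; simp only [Functor.map_comp, Category.assoc]
  · have h1 : ι ≫ c = (Over.homMk (Spec.map (CommRingCat.ofHom e.φ)) rfl : e.ptA' ⟶ sq.ptA) := by
      ext
      change 𝟙 _ ≫ c.left = Spec.map (CommRingCat.ofHom φ)
      rw [Category.id_comp, hφ]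
    rw [← h1, Functor.map_comp, hc]
    simp only [Category.assoc, hw]

open IsLocalRing in
/-- Over a discrete valuation ring, for `f` locally of finite type, a lift after some dominating
extension gives a lift after a dominating extension by a discrete valuation ring whose fraction
field is finite separable over `K`. -/
theorem exists_dvr_finite_separable_domExt {X Y : Sp S} (hX : IsAlgSpace X) (hY : IsAlgSpace Y)
    (f : X ⟶ Y) (hlft : LocP @LocallyOfFiniteType f) (sq : ValSq f)
    (hdvr : IsDiscreteValuationRing sq.A) (h0 : sq.HasLiftExt) :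
    ∃ e : sq.DomExt, IsDiscreteValuationRing e.A' ∧
      (letI := e.ψ.toAlgebra; Module.Finite sq.K e.K' ∧ Algebra.IsSeparable sq.K e.K') ∧
      e.HasLift := by
  obtain ⟨e₀, l₀, hl1, hl2⟩ := h0
  let P := pullback f sq.bot
  let fstP : P ⟶ X := pullback.fst f sq.bot
  let sndP : P ⟶ (yon S).obj sq.ptA := pullback.snd f sq.bot
  have psq : IsPullback fstP sndP f sq.bot := IsPullback.of_hasPullback _ _
  have hP : IsAlgSpace P := isAlgSpace_of_isPullback hX (IsAlgSpace.yon_obj _) hY.diag psq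
  let tP : (yon S).obj sq.ptK ⟶ P := pullback.lift sq.top ((yon S).map sq.j) sq.comm
  have htP1 : tP ≫ fstP = sq.top := pullback.lift_fst _ _ _
  have htP2 : tP ≫ sndP = (yon S).map sq.j := pullback.lift_snd _ _ _
  let φm : e₀.ptA' ⟶ sq.ptA := Over.homMk (Spec.map (CommRingCat.ofHom e₀.φ)) rfl
  let jK' : e₀.ptK' ⟶ e₀.ptA' :=
    Over.homMk (Spec.map (CommRingCat.ofHom (algebraMap e₀.A' e₀.K'))) rfl
  let ψm : e₀.ptK' ⟶ sq.ptK := Over.homMk (Spec.map (CommRingCat.ofHom e₀.ψ)) (by
    change Spec.map _ ≫ Spec.map _ ≫ _ = Spec.map _ ≫ Spec.map _ ≫ _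
    rw [← Spec.map_comp_assoc, ← Spec.map_comp_assoc, ← CommRingCat.ofHom_comp,
      ← CommRingCat.ofHom_comp, e₀.comm])
  let lP : (yon S).obj e₀.ptA' ⟶ P := pullback.lift l₀ ((yon S).map φm) hl2
  have hlP1 : lP ≫ fstP = l₀ := pullback.lift_fst _ _ _
  have hlP2 : lP ≫ sndP = (yon S).map φm := pullback.lift_snd _ _ _
  have hjφ : jK' ≫ φm = ψm ≫ sq.j := by
    ext
    change Spec.map _ ≫ Spec.map _ = Spec.map _ ≫ Spec.map _
    rw [← Spec.map_comp, ← Spec.map_comp, ← CommRingCat.ofHom_comp, ← CommRingCat.ofHom_comp,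
      e₀.comm]
  have hgen : (yon S).map jK' ≫ lP = (yon S).map ψm ≫ tP := by
    apply pullback.hom_ext
    · rw [Category.assoc, Category.assoc]
      change _ ≫ lP ≫ fstP = _ ≫ tP ≫ fstP
      rw [hlP1, htP1]
      exact hl1
    · rw [Category.assoc, Category.assoc]
      change _ ≫ lP ≫ sndP = _ ≫ tP ≫ sndP
      rw [hlP2, htP2, ← Functor.map_comp, ← Functor.map_comp, hjφ]
  -- the closed point
  let c' : ↥e₀.ptA'.left := closedPoint e₀.A'
  let x := Points.ofPt lP c'
  have hloc := e₀.isLocalHom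
  have hx : Points.map sndP x = Points.ofScheme sq.ptA (closedPoint sq.A) := by
    rw [Points.map_ofPt, hlP2, ofPt_yon_map]
    congr 1
    exact comap_closedPoint e₀.φ
  obtain ⟨U, a, hae, has⟩ := hP.atlas
  obtain ⟨u, hu⟩ := ofPt_surjective a has x
  -- the chart is locally Noetherian
  obtain ⟨c₀, hc₀⟩ := (yon S).map_surjective (a ≫ sndP)
  have hsndlft : LocP @LocallyOfFiniteType sndP :=
    Groth.Agent.Lib.Helper46.LocPChart.locP_of_isPullback
      Groth.Agent.Lib.Helper30.EtLocalInst.etLocal_lft hX hY hP (IsAlgSpace.yon_obj _) psq hlft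
  have hc₀lft : LocallyOfFiniteType c₀.left :=
    hsndlft a (𝟙 _) c₀ hae (repWith_id _ _) (by rw [hc₀, Category.comp_id])
  have hAN : IsLocallyNoetherian sq.ptA.left := by
    change IsLocallyNoetherian (Spec (CommRingCat.of sq.A))
    infer_instance
  have hUN : IsLocallyNoetherian U.left := LocallyOfFiniteType.isLocallyNoetherian c₀.left
  -- pull back the chart to Spec A'
  have rsq' := hae.rep.isPullback' lP
  have hr2'e : Etale (hae.rep.snd lP).left := hae.property_snd lP
  obtain ⟨r', hr'1, hr'2⟩ := (ofPt_eq_ofPt_iff rsq' u c').1 hu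
  let k' : ↥e₀.ptK'.left := closedPoint e₀.K'
  have hη : jK'.left k' ⤳ (hae.rep.snd lP).left r' := by
    rw [hr'2]
    exact specializes_closedPoint _
  obtain ⟨r'', hr''s, hr''⟩ := Flat.generalizingMap (hae.rep.snd lP).left hη
  let u' := (hae.rep.fst' lP).left r''
  have hu's : u' ⤳ u := by
    rw [← hr'1]
    exact hr''s.map (hae.rep.fst' lP).left.continuous
  let k0 : ↥sq.ptK.left := closedPoint sq.K
  have hu' : Points.ofPt a u' = Points.ofPt tP k0 := by
    have h1 : Points.ofPt a u' = Points.ofPt lP ((hae.rep.snd lP).left r'') :=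
      (ofPt_eq_ofPt_iff rsq' _ _).2 ⟨r'', rfl, rfl⟩
    rw [h1, hr'', ← ofPt_map_comp, hgen, ofPt_map_comp]
    congr 1
    exact Subsingleton.elim (α := PrimeSpectrum sq.K) _ _
  have rsq := hae.rep.isPullback' tP
  have hr2e : Etale (hae.rep.snd tP).left := hae.property_snd tP
  obtain ⟨r, hr1, hr2⟩ := (ofPt_eq_ofPt_iff rsq u' k0).1 hu'
  -- `u' ≠ u`
  have hucl : c₀.left u = closedPoint sq.A := by
    have h1 : Points.ofScheme sq.ptA (c₀.left u) = Points.ofScheme sq.ptA (closedPoint sq.A) := by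
      rw [← ofPt_yon_map, hc₀, ← hx, ← hu, Points.map_ofPt]
    have h2 := congrArg (Points.toScheme sq.ptA) h1
    rwa [Points.toScheme_ofScheme, Points.toScheme_ofScheme] at h2
  have hr12 : hae.rep.fst' tP ≫ c₀ = hae.rep.snd tP ≫ sq.j := by
    apply (yon S).map_injective
    rw [Functor.map_comp, hc₀, ← Category.assoc, rsq.w, Category.assoc, htP2, Functor.map_comp]
  have hu'gen : c₀.left u' = sq.j.left k0 := by
    have h1 := congrArg (fun m => m.left r) hr12
    simp only [Over.comp_left, Scheme.Hom.comp_apply] at h1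
    rw [hr1, hr2] at h1
    exact h1
  have hne : (hae.rep.fst' tP).left r ≠ u := by
    rw [hr1]
    intro h
    have h1 : sq.j.left k0 = closedPoint sq.A := by rw [← hu'gen, h, hucl]
    have h2 : (sq.j.left k0).asIdeal = ⊥ := by
      change Ideal.comap (algebraMap sq.A sq.K) (maximalIdeal sq.K) = ⊥
      rw [IsLocalRing.maximalIdeal_eq_bot, ← RingHom.ker_eq_comap_bot]
      exact (RingHom.injective_iff_ker_eq_bot _).1 (IsFractionRing.injective sq.A sq.K)
    rw [h1] at h2
    have h3 : maximalIdeal sq.A = ⊥ := h2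
    exact IsDiscreteValuationRing.not_isField sq.A
      ((IsLocalRing.isField_iff_maximalIdeal_eq).2 h3)
  obtain ⟨e, hedvr, he, hfs⟩ := exists_dvr_domExt_of_chart_point f sq fstP sndP psq.w tP htP1 htP2
    a c₀ hc₀ (hae.rep.fst' tP) (hae.rep.snd tP) rsq.w r u (by rw [hr1]; exact hu's) hne
    (by rw [hu]; exact hx)
  exact ⟨e, hedvr, hfs, he⟩

end Groth.Agent.Lib.Helper23.AlgSpMor
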