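import Groth.Agent.Lib.Helper23.AlgSpMono2

/-!
# Permanence properties for `Z ⟶ Y ⟶ X` (helper23)
-/

set_option autoImplicit false
universe u
open CategoryTheory CategoryTheory.Limits AlgebraicGeometry Opposite

namespace Groth.Agent.Lib.Helper23.AlgSpMor

open AlgSp Groth.Agent.Lib.Helper37.AlgSpPoints Groth.Agent.Lib.Helper12.AlgSpPoints

variable {S : Scheme.{u}}

/-- If `a ≫ b` has a property `P` (stable under composition and base change) in the representable
sense and the diagonal of `b` has `P`, then `a` has `P`. -/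
theorem repWith_of_comp_of_diagonal (P : MorphismProperty Scheme.{u}) [P.IsStableUnderComposition]
    [P.IsStableUnderBaseChange] {Z Y X : Sp S} (a : Z ⟶ Y) (b : Y ⟶ X)
    (hab : RepWith P (a ≫ b)) (hb : RepWith P (pullback.diagonal b)) : RepWith P a := by
  have sq : IsPullback (pullback.fst (a ≫ b) b) (pullback.snd (a ≫ b) b) (a ≫ b) b :=
    IsPullback.of_hasPullback _ _
  let Γ : Z ⟶ pullback (a ≫ b) b := pullback.lift (𝟙 Z) a (by simp)
  have hΓ1 : Γ ≫ pullback.fst (a ≫ b) b = 𝟙 Z := pullback.lift_fst _ _ _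
  have hΓ2 : Γ ≫ pullback.snd (a ≫ b) b = a := pullback.lift_snd _ _ _
  have h2 : RepWith P (pullback.snd (a ≫ b) b) := (RepWith P).of_isPullback sq hab
  have hd : RepWith P (pullback.diagonal (pullback.fst (a ≫ b) b)) :=
    MorphismProperty.of_isPullback (P := (RepWith (S := S) P).diagonal) sq.flip hb
  have h1 : RepWith P Γ := repWith_section_of_diagonal _ _ Γ hΓ1 hd
  rw [← hΓ2]
  exact (RepWith P).comp_mem _ _ h1 h2

theorem representable_of_comp {Z Y X : Sp S} (hY : IsAlgSpace Y) (a : Z ⟶ Y) (b : Y ⟶ X)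
    (hab : Representable (a ≫ b)) : Representable a := by
  have h := repWith_of_comp_of_diagonal ⊤ a b ⟨hab, fun _ _ _ _ _ _ => trivial⟩
    ⟨(diagonal_hom_properties hY b).1, fun _ _ _ _ _ _ => trivial⟩
  exact h.rep

theorem permanence {Z Y X : Sp S} (hY : IsAlgSpace Y) (a : Z ⟶ Y) (b : Y ⟶ X) :
    ((Representable (a ≫ b) ∧ RepWith @LocallyOfFiniteType (a ≫ b) ∧
        RepWith (@LocallyQuasiFinite ⊓ @LocallyOfFiniteType) (a ≫ b) ∧
        RepWith @IsSeparated (a ≫ b) ∧
        RepWith (MorphismProperty.monomorphisms Scheme.{u}) (a ≫ b)) →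
      (Representable a ∧ RepWith @LocallyOfFiniteType a ∧
        RepWith (@LocallyQuasiFinite ⊓ @LocallyOfFiniteType) a ∧
        RepWith @IsSeparated a ∧
        RepWith (MorphismProperty.monomorphisms Scheme.{u}) a)) ∧
    (RepWith @IsClosedImmersion (a ≫ b) → IsSeparatedMor b →
      RepWith @IsClosedImmersion a) := by
  obtain ⟨-, d1, d2, d3, d4⟩ := diagonal_hom_properties hY b
  refine ⟨fun ⟨h0, h1, h2, h3, h4⟩ => ⟨representable_of_comp hY a b h0,
    repWith_of_comp_of_diagonal _ a b h1 d1, repWith_of_comp_of_diagonal _ a b h2 d4,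
    repWith_of_comp_of_diagonal _ a b h3 d3, repWith_of_comp_of_diagonal _ a b h4 d2⟩,
    fun h hb => repWith_of_comp_of_diagonal _ a b h hb⟩

end Groth.Agent.Lib.Helper23.AlgSpMor
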