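import Groth.Agent.Lib.Helper23.AlgSpImm

/-!
# Closed immersions among immersions of algebraic spaces (helper23)
-/

set_option autoImplicit false
universe u
open CategoryTheory CategoryTheory.Limits AlgebraicGeometry Opposite

namespace Groth.Agent.Lib.Helper23.AlgSpMor

open AlgSp Groth.Agent.Lib.Helper37.AlgSpPoints Groth.Agent.Lib.Helper12.AlgSpPoints

variable {S : Scheme.{u}}

theorem repWith_universallyClosed_of_isClosedImmersion {X Y : Sp S} (f : X ⟶ Y)
    (hf : RepWith @IsClosedImmersion f) : RepWith @UniversallyClosed f :=
  MorphismProperty.relative_monotone (fun _ _ g hg => by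
    have : IsClosedImmersion g.left := hg
    exact (inferInstance : UniversallyClosed g.left)) _ hf

/-- An immersion of sheaves is a closed immersion iff its range on points is closed. -/
theorem repWith_isClosedImmersion_iff_isClosed_range {Z X : Sp S} (i : Z ⟶ X)
    (hi : RepWith @IsImmersion i) :
    RepWith @IsClosedImmersion i ↔ IsClosed (Set.range (Points.map i)) := by
  constructor
  · intro h
    rw [← Set.image_univ]
    exact isClosedMap_points_of_repWith_universallyClosed i
      (repWith_universallyClosed_of_isClosedImmersion i h) _ isClosed_univ
  · intro h
    refine ⟨hi.rep, fun U V u fst g sq => ?_⟩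
    change IsClosedImmersion g.left
    have himm : IsImmersion g.left := hi.property u fst g sq
    refine IsClosedImmersion.of_isPreimmersion g.left ?_
    have := Points.preimage_image_of_isPullback sq Set.univ
    rw [Set.image_univ, Set.preimage_univ, Set.image_univ] at this
    rw [← this]
    exact h.preimage (Points.continuous_ofPt u)

end Groth.Agent.Lib.Helper23.AlgSpMor
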