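import Groth.Agent.Lib.Helper23.AlgSpMono
import Mathlib.AlgebraicGeometry.Morphisms.UniversallyInjective

/-!
# Universally injective morphisms of algebraic spaces (helper23)
-/

set_option autoImplicit false
universe u
open CategoryTheory CategoryTheory.Limits AlgebraicGeometry Opposite

namespace Groth.Agent.Lib.Helper23.AlgSpMor

open AlgSp Groth.Agent.Lib.Helper37.AlgSpPoints Groth.Agent.Lib.Helper12.AlgSpPoints

variable {S : Scheme.{u}}

/-- Injectivity on field-valued points. -/
def KInj {X Y : Sp S} (f : X ⟶ Y) : Prop :=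
  ∀ (K : Type u) [Field K] (str : Spec (CommRingCat.of K) ⟶ S),
    Function.Injective (fun a : (yon S).obj (Over.mk str) ⟶ X => a ≫ f)

theorem KInj.of_isPullback {X Y Z Z' : Sp S} {f : X ⟶ Y} {g : Z ⟶ Y} {fst : Z' ⟶ X}
    {snd : Z' ⟶ Z} (sq : IsPullback fst snd f g) (hf : KInj f) : KInj snd := by
  intro K _ str a b hab
  dsimp only at hab
  refine sq.hom_ext (hf K str ?_) hab
  dsimp only
  rw [Category.assoc, Category.assoc, sq.w, ← Category.assoc, hab, Category.assoc]

/-- A representable universally injective morphism is injective on field-valued points. -/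
theorem kInj_of_repWith_universallyInjective {X Y : Sp S} (f : X ⟶ Y)
    (hf : RepWith @UniversallyInjective f) : KInj f := by
  intro K _ str a b hab
  dsimp only at hab
  have hw : UniversallyInjective (hf.rep.snd (a ≫ f)).left := hf.property_snd (a ≫ f)
  have h2 : ∀ (K : Type u) [Field K], Function.Injective
      (fun g : Spec (.of K) ⟶ _ ↦ g ≫ (hf.rep.snd (a ≫ f)).left) :=
    ((tfae_universallyInjective (hf.rep.snd (a ≫ f)).left).out 0 1).1 hw
  have e : hf.rep.lift (g := a ≫ f) a (𝟙 _) (by simp) =
      hf.rep.lift b (𝟙 _) (by simp [← hab]) := by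
    apply Over.OverMorphism.ext
    apply h2 K
    dsimp only
    rw [← Over.comp_left, ← Over.comp_left, Functor.relativelyRepresentable.lift_snd,
      Functor.relativelyRepresentable.lift_snd]
  simpa using (yon S).congr_map e =≫ (hf.rep.fst (a ≫ f))

/-- A representable morphism injective on field-valued points is representable universally
injective. -/
theorem repWith_universallyInjective_of_kInj {X Y : Sp S} (f : X ⟶ Y) (hrep : Representable f)
    (hf : KInj f) : RepWith @UniversallyInjective f := by
  refine ⟨hrep, fun U V u fst g sq => ?_⟩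
  change UniversallyInjective g.left
  have h2 : (∀ (K : Type u) [Field K], Function.Injective
      (fun g' : Spec (.of K) ⟶ _ ↦ g' ≫ g.left)) → UniversallyInjective g.left :=
    ((tfae_universallyInjective g.left).out 0 1).2
  refine h2 fun K _ g₁ g₂ hg => ?_
  dsimp only at hg
  let str : Spec (CommRingCat.of K) ⟶ S := g₁ ≫ V.hom
  have hstr : g₂ ≫ V.hom = str := by
    change g₂ ≫ V.hom = g₁ ≫ V.hom
    rw [← Over.w g, ← Category.assoc, ← hg, Category.assoc]
  let h₁ : Over.mk str ⟶ V := Over.homMk g₁ rfl
  let h₂ : Over.mk str ⟶ V := Over.homMk g₂ hstr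
  have h12 : h₁ ≫ g = h₂ ≫ g := Over.OverMorphism.ext hg
  have key : (yon S).map h₁ ≫ fst = (yon S).map h₂ ≫ fst := by
    apply hf K str
    dsimp only
    rw [Category.assoc, Category.assoc, sq.w, ← Category.assoc, ← Category.assoc,
      ← Functor.map_comp, ← Functor.map_comp, h12]
  have : (yon S).map h₁ = (yon S).map h₂ :=
    sq.hom_ext key (by rw [← Functor.map_comp, ← Functor.map_comp, h12])
  exact congrArg (fun m => m.left) ((yon S).map_injective this)

end Groth.Agent.Lib.Helper23.AlgSpMor
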