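import Groth.Agent.Lib.Helper23.AlgSpTopo
import Groth.Agent.Lib.Helper50.LimOC

/-!
# Closedness on points passes to cofiltered limits of the base (helper23)

For a morphism `w : W ⟶ h_B` from an algebraic space with a quasi-compact chart, closedness on points of
the base changes of `w` along the stages of a cofiltered diagram of schemes over `B` with affine
transition maps implies closedness of the base change along the limit.
-/

set_option autoImplicit false
universe u
open CategoryTheory CategoryTheory.Limits AlgebraicGeometry Opposite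

namespace Groth.Agent.Lib.Helper23.AlgSpMor

open AlgSp Groth.Agent.Lib.Helper37.AlgSpPoints Groth.Agent.Lib.Helper12.AlgSpPoints
open Groth.Agent.Lib.Helper50

variable {S : Scheme.{u}}

section Upb

variable {B U : Over S} (g : U ⟶ B) {T : Scheme.{u}} (t : T ⟶ B.left)

/-- `U ×_B T` (the scheme pullback `pullback g.left t`) as a scheme over `S`. -/
noncomputable abbrev upb : Over S := Over.mk (pullback.snd g.left t ≫ t ≫ B.hom)

/-- The projection `U ×_B T ⟶ U` over `S`. -/
noncomputable abbrev upbFst : upb g t ⟶ U :=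
  Over.homMk (pullback.fst g.left t) (by
    change pullback.fst g.left t ≫ U.hom = pullback.snd g.left t ≫ t ≫ B.hom
    rw [← Over.w g, ← Category.assoc, pullback.condition, Category.assoc])

/-- The projection `U ×_B T ⟶ T` over `S`. -/
noncomputable abbrev upbSnd : upb g t ⟶ bcBase t := Over.homMk (pullback.snd g.left t) rfl

theorem isPullback_upb : IsPullback (upbFst g t) (upbSnd g t) g (bcBaseι t) :=
  IsPullback.of_map (Over.forget S) (Over.OverMorphism.ext pullback.condition)
    (IsPullback.of_hasPullback g.left t)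

variable {W : Sp S} (w : W ⟶ (yon S).obj B) (x : (yon S).obj U ⟶ W)
  (hg : (yon S).map g = x ≫ w)

include hg in
/-- The chart of a base change of `w` induced by the chart `x` of `W`. -/
theorem exists_chart_upb {P : Sp S} (fst : P ⟶ W) (snd : P ⟶ (yon S).obj (bcBase t))
    (sq : IsPullback fst snd w ((yon S).map (bcBaseι t))) :
    ∃ xt : (yon S).obj (upb g t) ⟶ P, xt ≫ fst = (yon S).map (upbFst g t) ≫ x ∧
      xt ≫ snd = (yon S).map (upbSnd g t) ∧ IsPullback xt ((yon S).map (upbFst g t)) fst x := by
  have hcomm : ((yon S).map (upbFst g t) ≫ x) ≫ w =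
      (yon S).map (upbSnd g t) ≫ (yon S).map (bcBaseι t) := by
    rw [Category.assoc, ← hg, ← Functor.map_comp, ← Functor.map_comp, (isPullback_upb g t).w]
  refine ⟨sq.lift _ _ hcomm, sq.lift_fst _ _ _, sq.lift_snd _ _ _, ?_⟩
  refine IsPullback.of_right ?_ (sq.lift_fst _ _ _) sq.flip
  rw [sq.lift_snd, ← hg]
  exact ((isPullback_upb g t).map (yon S)).flip

end Upb

section Core

variable {I : Type u} [SmallCategory I] [IsCofiltered I] (D : I ⥤ Scheme.{u})
  [∀ (i j : I) (f : i ⟶ j), IsAffineHom (D.map f)]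
  (c : Cone D) (hc : IsLimit c) {B U : Over S}
  (β : ∀ j, D.obj j ⟶ B.left) (hβ : ∀ {j k : I} (φ : j ⟶ k), D.map φ ≫ β k = β j)
  (b : c.pt ⟶ B.left) (hb : ∀ j, c.π.app j ≫ β j = b)
  {W : Sp S} (w : W ⟶ (yon S).obj B) (x : (yon S).obj U ⟶ W)
  (hxe : RepWith @Etale x) (hxs : RepWith @Surjective x)
  (g : U ⟶ B) (hg : (yon S).map g = x ≫ w)

attribute [local instance] IsCofiltered.isConnected

include hc hβ hb hxe hxs hg in
/-- Closedness on points passes to the limit. -/
theorem isClosedMap_points_of_limit [QuasiCompact g.left]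
    (H : ∀ j, IsClosedMap (Points.map (pullback.snd w ((yon S).map (bcBaseι (β j))))))
    {P : Sp S} (fst : P ⟶ W) (snd : P ⟶ (yon S).obj (bcBase b))
    (sq : IsPullback fst snd w ((yon S).map (bcBaseι b))) :
    IsClosedMap (Points.map snd) := by
  intro Z hZ
  -- the scheme-level pullback and its limit presentation
  have h : IsPullback (pullback.fst g.left b) (pullback.snd g.left b) g.left b :=
    IsPullback.of_hasPullback _ _
  set p := pullback.fst g.left b with hp
  set q := pullback.snd g.left b with hq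
  let cX := bcCone D β hβ g.left c b hb p q h.w
  have hcX : IsLimit cX := isLimitBcCone D β hβ g.left c b hb p q hc h
  have hqc : QuasiCompact q := MorphismProperty.of_isPullback h inferInstance
  -- the chart of `P`
  obtain ⟨xc, hxc1, hxc2, sqxc⟩ := exists_chart_upb g b w x hg fst snd sq
  have hxce : RepWith @Etale xc := (RepWith @Etale).of_isPullback sqxc.flip hxe
  have hxcs : RepWith @Surjective xc := (RepWith @Surjective).of_isPullback sqxc.flip hxs
  have hsnd_ofPt : ∀ x' : ↥(pullback g.left b),
      Points.map snd (Points.ofPt xc x') = Points.schemeHomeo (bcBase b) (q x') := by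
    intro x'
    rw [Points.map_ofPt, hxc2, ofPt_yon_map]
    rfl
  let Z' : Set ↥(pullback g.left b) := Points.ofPt xc ⁻¹' Z
  have hZ' : IsClosed Z' := hZ.preimage (Points.continuous_ofPt xc)
  rw [← isOpen_compl_iff, ← (Points.schemeHomeo (bcBase b)).isOpen_preimage,
    isOpen_iff_forall_mem_open]
  intro s hs
  have hF : IsCompact (q ⁻¹' {s}) := q.isCompact_preimage_singleton s
  have hFZ : q ⁻¹' {s} ⊆ Z'ᶜ := by
    intro x' hx' hxZ
    apply hs
    refine ⟨Points.ofPt xc x', hxZ, ?_⟩
    rw [hsnd_ofPt]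
    exact congrArg _ hx'
  obtain ⟨K, hKc, hKo, hFK, hKZ⟩ :=
    PrespectralSpace.exists_isCompact_and_isOpen_between hF hZ'.isOpen_compl hFZ
  obtain ⟨j, V, hVc, hVK⟩ := exists_preimage_eq _ cX hcX ⟨K, hKo⟩ hKc
  let qj : pullback g.left b ⟶ pullback g.left (β j) := bcConeπ D β g.left c b hb p q h.w j
  let V' : Set ↥(pullback g.left (β j)) := (V : Set ↥((bcDiagram D β hβ g.left).obj j))
  have hV'o : IsOpen V' := V.isOpen
  have hVK' : ∀ x' : ↥(pullback g.left b), x' ∈ K ↔ qj x' ∈ V' := fun x' ↦ by
    have h1 : qj ⁻¹' V' = K :=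
      congrArg (fun O : (pullback g.left b).Opens ↦ (O : Set ↥(pullback g.left b))) hVK
    rw [← h1]
    exact Iff.rfl
  -- the stage `j`
  have sqj : IsPullback (pullback.fst w ((yon S).map (bcBaseι (β j))))
      (pullback.snd w ((yon S).map (bcBaseι (β j)))) w ((yon S).map (bcBaseι (β j))) :=
    IsPullback.of_hasPullback _ _
  set fstj := pullback.fst w ((yon S).map (bcBaseι (β j))) with hfstj
  set sndj := pullback.snd w ((yon S).map (bcBaseι (β j))) with hsndj
  obtain ⟨xj, hxj1, hxj2, sqxj⟩ := exists_chart_upb g (β j) w x hg fstj sndj sqj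
  have hxje : RepWith @Etale xj := (RepWith @Etale).of_isPullback sqxj.flip hxe
  have hxjs : RepWith @Surjective xj := (RepWith @Surjective).of_isPullback sqxj.flip hxs
  have hsndj_ofPt : ∀ u : ↥(pullback g.left (β j)),
      Points.map sndj (Points.ofPt xj u) =
        Points.schemeHomeo (bcBase (β j)) (pullback.snd g.left (β j) u) := by
    intro u
    rw [Points.map_ofPt, hxj2, ofPt_yon_map]
    rfl
  -- the transition maps
  let πo : bcBase b ⟶ bcBase (β j) := Over.homMk (c.π.app j) (by
    change c.π.app j ≫ β j ≫ B.hom = b ≫ B.hom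
    rw [← Category.assoc, hb])
  have hπo : πo ≫ bcBaseι (β j) = bcBaseι b := Over.OverMorphism.ext (hb j)
  let ρ : P ⟶ pullback w ((yon S).map (bcBaseι (β j))) :=
    sqj.lift fst (snd ≫ (yon S).map πo) (by
      rw [Category.assoc, ← Functor.map_comp, hπo]; exact sq.w)
  have hρ1 : ρ ≫ fstj = fst := sqj.lift_fst _ _ _
  have hρ2 : ρ ≫ sndj = snd ≫ (yon S).map πo := sqj.lift_snd _ _ _
  let qjo : upb g b ⟶ upb g (β j) := Over.homMk qj (by
    change qj ≫ pullback.snd g.left (β j) ≫ β j ≫ B.hom = q ≫ b ≫ B.hom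
    rw [← Category.assoc, bcConeπ_snd, Category.assoc, ← Category.assoc (c.π.app j), hb])
  have hqjo1 : qjo ≫ upbFst g (β j) = upbFst g b :=
    Over.OverMorphism.ext (bcConeπ_fst D β g.left c b hb p q h.w j)
  have hqjo2 : qjo ≫ upbSnd g (β j) = upbSnd g b ≫ πo :=
    Over.OverMorphism.ext (bcConeπ_snd D β g.left c b hb p q h.w j)
  have hcompat : (yon S).map qjo ≫ xj = xc ≫ ρ := by
    apply sqj.hom_ext
    · rw [Category.assoc, hxj1, Category.assoc, hρ1, hxc1, ← Category.assoc, ← Functor.map_comp,
        hqjo1]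
    · rw [Category.assoc, hxj2, Category.assoc, hρ2, ← Category.assoc, hxc2, ← Functor.map_comp,
        ← Functor.map_comp, hqjo2]
  have sqρ : IsPullback ((yon S).map qjo) xc xj ρ := by
    refine IsPullback.of_right ?_ hcompat sqxj.flip
    rw [← Functor.map_comp, hqjo1, hρ1]
    exact sqxc.flip
  -- the open set at stage `j`
  let O : Set (Points (pullback w ((yon S).map (bcBaseι (β j))))) := Points.ofPt xj '' V'
  have hOo : IsOpen O := isOpenMap_ofPt xj hxje V' hV'o
  have hDj : IsClosed (Points.map sndj '' Oᶜ) := H j _ hOo.isClosed_compl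
  refine ⟨c.π.app j ⁻¹' ((Points.schemeHomeo (bcBase (β j))) ⁻¹' (Points.map sndj '' Oᶜ)ᶜ),
    ?_, ?_, ?_⟩
  · -- the neighbourhood misses the image of `Z`
    rintro t ht ⟨z, hz, hzt⟩
    apply ht
    refine ⟨Points.map ρ z, ?_, ?_⟩
    · rintro ⟨v, hv, hvz⟩
      rw [Points.ofPt_eq_map_ofScheme] at hvz
      obtain ⟨ω, hω1, hω2⟩ := Points.exists_of_isPullback sqρ (Points.ofScheme _ v) z hvz
      obtain ⟨x'', rfl⟩ := (Points.schemeHomeo (upb g b)).surjective ω
      rw [Points.map_yon_map_apply] at hω1
      have hx''v : qj x'' = v := (Points.schemeHomeo (upb g (β j))).injective hω1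
      have hx''K : x'' ∈ K := by
        rw [hVK']
        change qj x'' ∈ V'
        rw [hx''v]; exact hv
      apply hKZ hx''K
      change Points.ofPt xc x'' ∈ Z
      rw [Points.ofPt_eq_map_ofScheme]
      change Points.map xc (Points.schemeHomeo (upb g b) x'') ∈ Z
      rw [hω2]; exact hz
    · rw [← Points.map_comp, hρ2, Points.map_comp, hzt, Points.map_yon_map_apply]
      rfl
  · exact ((hDj.isOpen_compl.preimage (Points.schemeHomeo (bcBase (β j))).continuous)).preimage
      (c.π.app j).continuous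
  · -- `s` lies in the neighbourhood
    rintro ⟨cc, hcc, hccs⟩
    obtain ⟨uj, rfl⟩ := ofPt_surjective xj hxjs cc
    rw [hsndj_ofPt] at hccs
    have huj : pullback.snd g.left (β j) uj = c.π.app j s :=
      (Points.schemeHomeo (bcBase (β j))).injective hccs
    obtain ⟨x', hx'1, hx'2⟩ := Scheme.exists_preimage_of_isPullback
      (isPullback_bcConeπ D β g.left c b hb p q h j) uj s huj
    apply hcc
    refine ⟨uj, ?_, rfl⟩
    have : x' ∈ K := hFK hx'2
    rw [hVK'] at this
    rwa [← hx'1]

end Core

end Groth.Agent.Lib.Helper23.AlgSpMor
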