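import Groth.Agent.Lib.Helper23.AlgSpQc3

/-!
# Monomorphisms of algebraic spaces (helper23)
-/

set_option autoImplicit false
universe u
open CategoryTheory CategoryTheory.Limits AlgebraicGeometry Opposite

namespace Groth.Agent.Lib.Helper23.AlgSpMor

open AlgSp Groth.Agent.Lib.Helper37.AlgSpPoints Groth.Agent.Lib.Helper12.AlgSpPoints

variable {S : Scheme.{u}}

/-- A representable etale surjective morphism of sheaves is an epimorphism. -/
theorem epi_of_etale_surjective {F G : Sp S} (a : F ⟶ G)
    (h1 : RepWith @Etale a) (h2 : RepWith @Surjective a) : Epi a := by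
  have := isLocallySurjective_of_etale_surjective a h1 h2
  infer_instance

/-- Being a monomorphism descends along a representable etale surjective base change. -/
theorem mono_of_etale_cover {X Y V P : Sp S} (f : X ⟶ Y) (p : V ⟶ Y) (hp : RepWith @Etale p)
    (hps : RepWith @Surjective p) {fst : P ⟶ X} {snd : P ⟶ V} (sq : IsPullback fst snd f p)
    [Mono snd] : Mono f := by
  refine ⟨fun {Z} a b h => ?_⟩
  have sqZ : IsPullback (pullback.fst (a ≫ f) p) (pullback.snd (a ≫ f) p) (a ≫ f) p :=
    IsPullback.of_hasPullback (a ≫ f) p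
  set w := pullback.fst (a ≫ f) p
  set v := pullback.snd (a ≫ f) p
  have hw : Epi w :=
    epi_of_etale_surjective w ((RepWith @Etale).of_isPullback sqZ.flip hp)
      ((RepWith @Surjective).of_isPullback sqZ.flip hps)
  rw [← cancel_epi w]
  have h1 : (w ≫ a) ≫ f = v ≫ p := by rw [Category.assoc]; exact sqZ.w
  have h2 : (w ≫ b) ≫ f = v ≫ p := by rw [Category.assoc, ← h]; exact sqZ.w
  have key : sq.lift (w ≫ a) v h1 = sq.lift (w ≫ b) v h2 := by
    rw [← cancel_mono snd, sq.lift_snd, sq.lift_snd]
  have := congrArg (· ≫ fst) key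
  simpa using this

end Groth.Agent.Lib.Helper23.AlgSpMor
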