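import Groth.Agent.Lib.Helper23.AlgSpInj2
import Mathlib.AlgebraicGeometry.Morphisms.LocalFlatDescent

/-!
# Monomorphisms from an algebraic space to the spectrum of a field (helper23)
-/

set_option autoImplicit false
universe u
open CategoryTheory CategoryTheory.Limits AlgebraicGeometry Opposite

namespace Groth.Agent.Lib.Helper23.AlgSpMor

open AlgSp Groth.Agent.Lib.Helper37.AlgSpPoints Groth.Agent.Lib.Helper12.AlgSpPoints

variable {S : Scheme.{u}}

theorem sfq_to_field {A : Scheme.{u}} [IsAffine A] [Nonempty ↥A] {k : Type u} [Field k]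
    (g : A ⟶ Spec (CommRingCat.of k)) :
    (@Surjective ⊓ @Flat ⊓ @QuasiCompact : MorphismProperty Scheme.{u}) g := by
  have hs : Subsingleton ↥(Spec (CommRingCat.of k)) :=
    inferInstanceAs (Subsingleton (PrimeSpectrum k))
  have hsurj : Surjective g := ⟨fun y => ⟨Classical.arbitrary _, Subsingleton.elim _ _⟩⟩
  have hflat : Flat g := inferInstance
  have hqc : QuasiCompact g := inferInstance
  exact ⟨⟨hsurj, hflat⟩, hqc⟩

/-- A monomorphism from a nonempty algebraic space to the spectrum of a field is an isomorphism. -/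
theorem isIso_of_mono_to_field {k : Type u} [Field k] (str : Spec (CommRingCat.of k) ⟶ S)
    {Z : Sp S} (hZ : IsAlgSpace Z) (f : Z ⟶ (yon S).obj (Over.mk str)) [Mono f]
    (hne : Nonempty (Points Z)) : IsIso f := by
  obtain ⟨x⟩ := hne
  obtain ⟨U, c, hce, hcs⟩ := hZ.atlas
  obtain ⟨u, -⟩ := ofPt_surjective c hcs x
  obtain ⟨_, ⟨U₀, hU₀, rfl⟩, hu, -⟩ :=
    (U.left.isBasis_affineOpens).exists_subset_of_mem_open (Set.mem_univ u) isOpen_univ
  have hU₀aff : IsAffine (overOpens U U₀).left := hU₀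
  have hc₀ : RepWith @Etale ((yon S).map (overOpensι U U₀) ≫ c) :=
    (RepWith @Etale).comp_mem _ _ (repWith_etale_overOpensι U U₀) hce
  set c₀ := (yon S).map (overOpensι U U₀) ≫ c with hc₀def
  let g₀ : overOpens U U₀ ⟶ Over.mk str := (yon S).preimage (c₀ ≫ f)
  have hg₀ : (yon S).map g₀ = c₀ ≫ f := (yon S).map_preimage _
  have sqO : IsPullback (pullback.fst g₀ g₀) (pullback.snd g₀ g₀) g₀ g₀ :=
    IsPullback.of_hasPullback g₀ g₀
  have sqY := sqO.map (yon S)
  rw [hg₀] at sqY
  have sqY' : IsPullback ((yon S).map (pullback.fst g₀ g₀)) ((yon S).map (pullback.snd g₀ g₀))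
      c₀ c₀ := isPullback_of_comp_mono f sqY
  have het : Etale (pullback.fst g₀ g₀).left := hc₀.property c₀ _ _ sqY'.flip
  have sqS : IsPullback (pullback.fst g₀ g₀).left (pullback.snd g₀ g₀).left g₀.left g₀.left :=
    sqO.map (Over.forget S)
  have hne' : Nonempty ↥(overOpens U U₀).left := ⟨⟨u, hu⟩⟩
  have hsfq : (@Surjective ⊓ @Flat ⊓ @QuasiCompact : MorphismProperty Scheme.{u}) g₀.left :=
    sfq_to_field (k := k) g₀.left
  have hsurj : Surjective g₀.left := hsfq.1.1
  have hg₀et : Etale g₀.left :=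
    MorphismProperty.of_isPullback_of_descendsAlong (P := @Etale)
      (Q := @Surjective ⊓ @Flat ⊓ @QuasiCompact) sqS hsfq het
  have hepi : Epi ((yon S).map g₀) :=
    epi_of_etale_surjective _ ((repWith_yon_map_iff @Etale g₀).2 hg₀et)
      ((repWith_yon_map_iff @Surjective g₀).2 hsurj)
  rw [hg₀] at hepi
  have : Epi f := epi_of_epi c₀ f
  exact isIso_of_mono_of_epi f

end Groth.Agent.Lib.Helper23.AlgSpMor
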