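import Groth.Agent.Lib.Helper23.AlgSpMor7

/-!
# Universally open morphisms of algebraic spaces tested on affines (helper23)
-/

set_option autoImplicit false
universe u
open CategoryTheory CategoryTheory.Limits AlgebraicGeometry Opposite

namespace Groth.Agent.Lib.Helper23.AlgSpMor

open AlgSp Groth.Agent.Lib.Helper37.AlgSpPoints Groth.Agent.Lib.Helper12.AlgSpPoints

variable {S : Scheme.{u}}

/-- Open sets of `|F|` are tested on affine schemes mapping to `F`. -/
theorem isOpen_iff_affine {F : Sp S} (W : Set (Points F)) :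
    IsOpen W ↔ ∀ (V : Over S), IsAffine V.left → ∀ h : (yon S).obj V ⟶ F,
      IsOpen (Points.ofPt h ⁻¹' W) := by
  rw [← isClosed_compl_iff, Points.isClosed_iff_affine]
  refine forall_congr' fun V => forall_congr' fun _ => forall_congr' fun h => ?_
  rw [Set.preimage_compl, isClosed_compl_iff]

/-- Preimage of an image under a chart, through any pullback square. -/
theorem preimage_ofPt_image_map {Z' Z P : Sp S} {T : Over S} {snd : Z' ⟶ Z}
    {t : (yon S).obj T ⟶ Z} {e : P ⟶ Z'} {e2 : P ⟶ (yon S).obj T} (sq : IsPullback e e2 snd t)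
    (W : Set (Points Z')) :
    Points.ofPt t ⁻¹' (Points.map snd '' W) =
      (Points.schemeHomeo T) ⁻¹' (Points.map e2 '' (Points.map e ⁻¹' W)) := by
  ext x
  simp only [Set.mem_preimage, Set.mem_image]
  constructor
  · rintro ⟨w, hw, hwx⟩
    rw [Points.ofPt_eq_map_ofScheme] at hwx
    obtain ⟨p, hp1, hp2⟩ := points_exists_of_isPullback sq.flip (Points.ofScheme T x) w hwx.symm
    exact ⟨p, by rw [hp2]; exact hw, hp1⟩
  · rintro ⟨p, hp, hpx⟩
    refine ⟨Points.map e p, hp, ?_⟩
    rw [Points.ofPt_eq_map_ofScheme]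
    change _ = Points.map t (Points.schemeHomeo T x)
    rw [← hpx, ← Points.map_comp, ← Points.map_comp, sq.w]

/-- A morphism of sheaves is open on points if all its base changes to affine schemes are. -/
theorem isOpenMap_points_of_affine {Z' Z : Sp S} (snd : Z' ⟶ Z)
    (H : ∀ (T : Over S), IsAffine T.left → ∀ (t : (yon S).obj T ⟶ Z) (P : Sp S) (e : P ⟶ Z')
      (e2 : P ⟶ (yon S).obj T), IsPullback e e2 snd t → IsOpenMap (Points.map e2)) :
    IsOpenMap (Points.map snd) := by
  intro W hW
  rw [isOpen_iff_affine]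
  intro T hT t
  have sq : IsPullback (pullback.fst snd t) (pullback.snd snd t) snd t :=
    IsPullback.of_hasPullback snd t
  rw [preimage_ofPt_image_map sq W]
  exact (H T hT t _ _ _ sq _ (hW.preimage (Points.continuous_map _))).preimage
    (Points.schemeHomeo T).continuous

/-- Universal openness can be tested on affine schemes over the target. -/
theorem isUnivOpenMor_iff_affine {X Y : Sp S} (f : X ⟶ Y) :
    IsUnivOpenMor f ↔
      ∀ (Z : Over S), IsAffine Z.left → ∀ (g : (yon S).obj Z ⟶ Y) (P : Sp S)
        (fst : P ⟶ X) (snd : P ⟶ (yon S).obj Z), IsPullback fst snd f g →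
        IsOpenMap (Points.map snd) := by
  constructor
  · intro hf Z _ g P fst snd sq
    exact hf (IsAlgSpace.yon_obj Z) g fst snd sq
  · intro H Z Z' _ g fst snd sq
    refine isOpenMap_points_of_affine snd fun T hT t P e e2 sq2 => ?_
    exact H T hT (t ≫ g) P (e ≫ fst) e2 (sq2.paste_horiz sq)

end Groth.Agent.Lib.Helper23.AlgSpMor
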