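import Groth.Agent.Lib.Helper23.AlgSpMor8

/-!
# Universal openness descends along etale surjective base change (helper23)
-/

set_option autoImplicit false
universe u
open CategoryTheory CategoryTheory.Limits AlgebraicGeometry Opposite

namespace Groth.Agent.Lib.Helper23.AlgSpMor

open AlgSp Groth.Agent.Lib.Helper37.AlgSpPoints Groth.Agent.Lib.Helper12.AlgSpPoints

variable {S : Scheme.{u}}

/-- Openness on points descends along a base change which is open and surjective on points. -/
theorem isOpenMap_of_isPullback_of_surjective_open {Z₁' Z' Z₁ Z : Sp S} {d : Z₁' ⟶ Z'}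
    {c : Z₁' ⟶ Z₁} {s : Z' ⟶ Z} {a : Z₁ ⟶ Z} (sq : IsPullback d c s a)
    (has : IsSurjectiveMor a) (hao : IsOpenMap (Points.map a)) (hc : IsOpenMap (Points.map c)) :
    IsOpenMap (Points.map s) := by
  intro W hW
  have : Points.map s '' W = Points.map a '' (Points.map c '' (Points.map d ⁻¹' W)) := by
    ext z
    constructor
    · rintro ⟨w, hw, rfl⟩
      obtain ⟨z₁, hz₁⟩ := has (Points.map s w)
      obtain ⟨p, hp1, hp2⟩ := points_exists_of_isPullback sq w z₁ hz₁.symm
      exact ⟨z₁, ⟨p, by rw [Set.mem_preimage, hp1]; exact hw, hp2⟩, hz₁⟩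
    · rintro ⟨_, ⟨p, hp, rfl⟩, rfl⟩
      refine ⟨Points.map d p, hp, ?_⟩
      rw [← Points.map_comp, ← Points.map_comp, sq.w]
  rw [this]
  exact hao _ (hc _ (hW.preimage (Points.continuous_map d)))

/-- Universal openness descends along a representable etale surjective base change. -/
theorem isUnivOpenMor_of_etale_cover {X Y V P : Sp S} (hY : IsAlgSpace Y) (hV : IsAlgSpace V)
    (f : X ⟶ Y) (p : V ⟶ Y) (hp : RepWith @Etale p) (hps : RepWith @Surjective p)
    {fst : P ⟶ X} {snd : P ⟶ V} (sq : IsPullback fst snd f p) (h : IsUnivOpenMor snd) :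
    IsUnivOpenMor f := by
  intro Z Z' hZ g fst' snd' sqZ
  have sq1 : IsPullback (pullback.fst g p) (pullback.snd g p) g p := IsPullback.of_hasPullback g p
  set a := pullback.fst g p with ha
  set b := pullback.snd g p with hb
  have hZ₁ : IsAlgSpace (pullback g p) := isAlgSpace_of_isPullback hZ hV hY.diag sq1
  have hae : RepWith @Etale a := (RepWith @Etale).of_isPullback sq1.flip hp
  have has : RepWith @Surjective a := (RepWith @Surjective).of_isPullback sq1.flip hps
  have sq2 : IsPullback (pullback.fst snd' a) (pullback.snd snd' a) snd' a :=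
    IsPullback.of_hasPullback snd' a
  set d := pullback.fst snd' a with hd
  set c := pullback.snd snd' a with hc
  have sq3 : IsPullback (d ≫ fst') c f (a ≫ g) := sq2.paste_horiz sqZ
  rw [sq1.w] at sq3
  have hlift : (d ≫ fst') ≫ f = (c ≫ b) ≫ p := by rw [sq3.w, Category.assoc]
  have sq4 : IsPullback (sq.lift (d ≫ fst') (c ≫ b) hlift) c snd b := by
    refine IsPullback.of_right (h₁₂ := fst) (h₂₂ := p) (v₁₃ := f) ?_ ?_ sq
    · rw [sq.lift_fst]; exact sq3
    · rw [sq.lift_snd]
  have hcopen : IsOpenMap (Points.map c) := h hZ₁ b _ c sq4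
  exact isOpenMap_of_isPullback_of_surjective_open sq2
    (isSurjectiveMor_of_repWith_surjective a has) (isOpenMap_points_of_repWith_etale a hae) hcopen

end Groth.Agent.Lib.Helper23.AlgSpMor
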