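import Groth.Agent.Lib.Helper23.AlgSpCancel
import Groth.Agent.Lib.Helper55.NoethDescent
import Groth.Agent.Lib.Helper36.AlgSpCharts

/-!
# Locally Noetherian fibres of morphisms of algebraic spaces (helper23)
-/

set_option autoImplicit false
universe u
open CategoryTheory CategoryTheory.Limits AlgebraicGeometry Opposite

namespace Groth.Agent.Lib.Helper23.AlgSpMor

open AlgSp Groth.Agent.Lib.Helper37.AlgSpPoints Groth.Agent.Lib.Helper12.AlgSpPoints
open Groth.Agent.Lib.Helper36.AlgSpCharts Groth.Agent.Lib.Helper55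

variable {S : Scheme.{u}}

/-- An etale chart of a locally Noetherian sheaf is a locally Noetherian scheme. -/
theorem isLocallyNoetherian_of_etale_chart {P : Sp S} (hP : IsLocNoethSp P) {E : Over S}
    (e : (yon S).obj E ⟶ P) (he : RepWith @Etale e) : IsLocallyNoetherian E.left := by
  obtain ⟨W, w, hwe, hws, hW⟩ := hP
  obtain ⟨R, p1, p2, sq⟩ := exists_isPullback_yon e w hws.rep
  have h1 : Etale p1.left := prop_fst_of_isPullback sq hwe
  have h1s : Surjective p1.left := prop_fst_of_isPullback sq hws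
  have h2 : Etale p2.left := prop_snd_of_isPullback sq he
  haveI : IsLocallyNoetherian W.left := hW
  haveI : IsLocallyNoetherian R.left := LocallyOfFiniteType.isLocallyNoetherian p2.left
  exact (isLocallyNoetherian_iff_of_fppf p1.left).2 inferInstance

/-- Descent of local Noetherianity of a fibre along a flat, surjective, universally open change of the
base point (e.g. an extension of fields). -/
theorem isLocNoethSp_fibre_descent {X Y : Sp S} (hX : IsAlgSpace X) (hY : IsAlgSpace Y) (f : X ⟶ Y)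
    {T T₀ : Over S} (g : T ⟶ T₀) (hfl : Flat g.left) (hsurj : Surjective g.left)
    (hopen : UniversallyOpen g.left) (t₀ : (yon S).obj T₀ ⟶ Y)
    {Q : Sp S} (qfst : Q ⟶ X) (qsnd : Q ⟶ (yon S).obj T₀) (hQ : IsPullback qfst qsnd f t₀)
    {P : Sp S} (pfst : P ⟶ X) (psnd : P ⟶ (yon S).obj T)
    (hP : IsPullback pfst psnd f ((yon S).map g ≫ t₀)) (hN : IsLocNoethSp P) :
    IsLocNoethSp Q := by
  have hQsp : IsAlgSpace Q := isAlgSpace_of_isPullback hX (IsAlgSpace.yon_obj T₀) hY.diag hQ
  obtain ⟨E, e, hee, hes⟩ := hQsp.atlas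
  obtain ⟨k₀, hk₀⟩ := (yon S).map_surjective (e ≫ qsnd)
  -- the map `π : P ⟶ Q`
  let π : P ⟶ Q := hQ.lift pfst (psnd ≫ (yon S).map g) (by rw [Category.assoc]; exact hP.w)
  have hπ1 : π ≫ qfst = pfst := hQ.lift_fst _ _ _
  have hπ2 : π ≫ qsnd = psnd ≫ (yon S).map g := hQ.lift_snd _ _ _
  have sqπ : IsPullback π psnd qsnd ((yon S).map g) := by
    refine (IsPullback.of_bot ?_ hπ2.symm hQ.flip).flip
    rw [hπ1]; exact hP.flip
  -- the scheme `E' = E ×_{T₀} T`
  have sqO : IsPullback (pullback.fst k₀ g) (pullback.snd k₀ g) k₀ g := IsPullback.of_hasPullback k₀ g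
  have sqY := sqO.map (yon S)
  have sqS : IsPullback (pullback.fst k₀ g).left (pullback.snd k₀ g).left k₀.left g.left :=
    sqO.map (Over.forget S)
  set pr1 := pullback.fst k₀ g
  set pr2 := pullback.snd k₀ g
  -- the chart `e' : h_{E'} ⟶ P`
  let e' : (yon S).obj (pullback k₀ g) ⟶ P :=
    sqπ.lift ((yon S).map pr1 ≫ e) ((yon S).map pr2) (by
      rw [Category.assoc, ← hk₀]; exact sqY.w)
  have he'1 : e' ≫ π = (yon S).map pr1 ≫ e := sqπ.lift_fst _ _ _
  have he'2 : e' ≫ psnd = (yon S).map pr2 := sqπ.lift_snd _ _ _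
  have sqe : IsPullback e' ((yon S).map pr1) π e := by
    refine IsPullback.of_right ?_ he'1 sqπ.flip
    rw [he'2, ← hk₀]; exact sqY.flip
  have he'e : RepWith @Etale e' := (RepWith @Etale).of_isPullback sqe.flip hee
  have hE' : IsLocallyNoetherian (pullback k₀ g).left := isLocallyNoetherian_of_etale_chart hN e' he'e
  -- descend to `E`
  haveI : Flat pr1.left := MorphismProperty.of_isPullback (P := @Flat) sqS.flip hfl
  haveI : Surjective pr1.left := MorphismProperty.of_isPullback (P := @Surjective) sqS.flip hsurj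
  haveI : UniversallyOpen pr1.left :=
    MorphismProperty.of_isPullback (P := @UniversallyOpen) sqS.flip hopen
  exact ⟨E, e, hee, hes, isLocallyNoetherian_of_flat_surjective_open pr1.left pr1.left.isOpenMap⟩

/-- If two field points define the same point and the second is a monomorphism, the first factors
through the second. -/
theorem exists_factor_of_mono_fieldPt {Y : Sp S} (hY : IsAlgSpace Y) (p p₀ : FieldPt Y)
    (hpp : Points.mk p = Points.mk p₀) (hmono : Mono p₀.toHom) :
    ∃ g : p.pt ⟶ p₀.pt, (yon S).map g ≫ p₀.toHom = p.toHom := by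
  obtain ⟨Ω, _, w, a, b, hab⟩ := (rel_iff_toHom p p₀).1 (Points.mk_eq_mk_iff.1 hpp)
  have sqZ : IsPullback (pullback.fst p.toHom p₀.toHom) (pullback.snd p.toHom p₀.toHom) p.toHom
      p₀.toHom := IsPullback.of_hasPullback _ _
  have hZ : IsAlgSpace (pullback p.toHom p₀.toHom) :=
    isAlgSpace_of_isPullback (IsAlgSpace.yon_obj _) (IsAlgSpace.yon_obj _) hY.diag sqZ
  have hne : Nonempty (Points (pullback p.toHom p₀.toHom)) :=
    ⟨Points.mk (fieldPtOfHom w (pullback.lift ((yon S).map a) ((yon S).map b) hab))⟩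
  haveI : IsIso (pullback.fst p.toHom p₀.toHom) :=
    isIso_of_mono_to_field p.str hZ (pullback.fst p.toHom p₀.toHom) hne
  refine ⟨(yon S).preimage (inv (pullback.fst p.toHom p₀.toHom) ≫ pullback.snd p.toHom p₀.toHom), ?_⟩
  rw [Functor.map_preimage, Category.assoc, ← pullback.condition, IsIso.inv_hom_id_assoc]

end Groth.Agent.Lib.Helper23.AlgSpMor
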