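import Groth.Agent.Lib.Helper23.AlgSpClosed2
import Groth.Agent.Lib.Helper23.AlgSpDiag5

/-!
# Quasi-compact morphisms of algebraic spaces: cancellation (helper23)
-/

set_option autoImplicit false
universe u
open CategoryTheory CategoryTheory.Limits AlgebraicGeometry Opposite

namespace Groth.Agent.Lib.Helper23.AlgSpMor

open AlgSp Groth.Agent.Lib.Helper37.AlgSpPoints Groth.Agent.Lib.Helper12.AlgSpPoints

variable {S : Scheme.{u}}

/-- If `f ≫ g` is quasi-compact and `g` is quasi-separated then `f` is quasi-compact. -/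
theorem isQuasiCompactMor_of_comp_of_isQuasiSeparatedMor {X Y Z : Sp S} (hX : IsAlgSpace X)
    (hZ : Representable (Limits.diag Z)) (f : X ⟶ Y) (g : Y ⟶ Z)
    (hgf : IsQuasiCompactMor (f ≫ g)) (hg : IsQuasiSeparatedMor g) : IsQuasiCompactMor f := by
  intro W W' hW hWqc h fst snd sq
  have sqT : IsPullback (pullback.fst (h ≫ g) (f ≫ g)) (pullback.snd (h ≫ g) (f ≫ g))
      (h ≫ g) (f ≫ g) := IsPullback.of_hasPullback _ _
  have hTalg : IsAlgSpace (pullback (h ≫ g) (f ≫ g)) := isAlgSpace_of_isPullback hW hX hZ sqT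
  have hTqc : IsQuasiCompactSp (pullback (h ≫ g) (f ≫ g)) := hgf hW hWqc (h ≫ g) _ _ sqT.flip
  have hm : IsQuasiCompactMor (pullback.mapDesc h f g) :=
    isQuasiCompactMor_of_repWith _ (repWith_mapDesc_of_diagonal _ h f g hg)
  let e : W' ≅ pullback h f := sq.flip.isoPullback
  refine hm hTalg hTqc (𝟙 _) e.hom (e.hom ≫ pullback.mapDesc h f g) ?_
  exact IsPullback.of_horiz_isIso ⟨by simp⟩

end Groth.Agent.Lib.Helper23.AlgSpMor
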