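import Groth.Agent.Lib.Helper23.AlgSpQc2

/-!
# Fibre products of qcqs algebraic spaces over a quasi-separated base (helper23)
-/

set_option autoImplicit false
universe u
open CategoryTheory CategoryTheory.Limits AlgebraicGeometry Opposite

namespace Groth.Agent.Lib.Helper23.AlgSpMor

open AlgSp Groth.Agent.Lib.Helper37.AlgSpPoints Groth.Agent.Lib.Helper12.AlgSpPoints

variable {S : Scheme.{u}}

/-- A fibre product `X ×_Y Z` with `X`, `Z` quasi-separated over the base is quasi-separated over
the base. -/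
theorem isQuasiSeparatedSp_of_isPullback {X Y Z P : Sp S} {f : X ⟶ Y} {g : Z ⟶ Y} {fst : P ⟶ X}
    {snd : P ⟶ Z} (sq : IsPullback fst snd f g) (hX : IsQuasiSeparatedSp X)
    (hZ : IsQuasiSeparatedSp Z) : IsQuasiSeparatedSp P := by
  rw [isQuasiSeparatedSp_iff_terminal]
  have hg : (RepWith (S := S) @QuasiCompact).diagonal g :=
    repWith_diagonal_of_repWith_diag _ g hZ
  have hfst : (RepWith (S := S) @QuasiCompact).diagonal fst :=
    MorphismProperty.of_isPullback (P := (RepWith (S := S) @QuasiCompact).diagonal) sq.flip hg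
  have hX' : (RepWith (S := S) @QuasiCompact).diagonal (terminal.from X) :=
    (isQuasiSeparatedSp_iff_terminal X).1 hX
  have := (RepWith (S := S) @QuasiCompact).diagonal.comp_mem _ _ hfst hX'
  rwa [terminal.comp_from] at this

/-- A fibre product `X ×_Y Z` with `X`, `Z` separated over the base is separated over the base. -/
theorem isSeparatedSp_of_isPullback {X Y Z P : Sp S} {f : X ⟶ Y} {g : Z ⟶ Y} {fst : P ⟶ X}
    {snd : P ⟶ Z} (sq : IsPullback fst snd f g) (hX : IsSeparatedSp X)
    (hZ : IsSeparatedSp Z) : IsSeparatedSp P := by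
  rw [isSeparatedSp_iff_terminal]
  have hg : (RepWith (S := S) @IsClosedImmersion).diagonal g :=
    repWith_diagonal_of_repWith_diag _ g hZ
  have hfst : (RepWith (S := S) @IsClosedImmersion).diagonal fst :=
    MorphismProperty.of_isPullback (P := (RepWith (S := S) @IsClosedImmersion).diagonal) sq.flip hg
  have hX' : (RepWith (S := S) @IsClosedImmersion).diagonal (terminal.from X) :=
    (isSeparatedSp_iff_terminal X).1 hX
  have := (RepWith (S := S) @IsClosedImmersion).diagonal.comp_mem _ _ hfst hX'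
  rwa [terminal.comp_from] at this

theorem qcqs_of_isPullback_qcqs [QuasiSeparatedSpace ↥S] {X Y Z P : Sp S} (hX : IsAlgSpace X)
    (hZ : IsAlgSpace Z) {f : X ⟶ Y} {g : Z ⟶ Y} {fst : P ⟶ X} {snd : P ⟶ Z}
    (sq : IsPullback fst snd f g)
    (hXq : IsQuasiCompactSp X) (hXs : IsQuasiSeparatedSp X) (hYs : IsQuasiSeparatedSp Y)
    (hZq : IsQuasiCompactSp Z) (hZs : IsQuasiSeparatedSp Z) :
    IsQuasiCompactSp P ∧ IsQuasiSeparatedSp P :=
  ⟨isQuasiCompactMor_of_isQuasiCompactSp_of_isQuasiSeparatedSp hX f hXq hYs hZ hZq g fst snd sq,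
    isQuasiSeparatedSp_of_isPullback sq hXs hZs⟩

end Groth.Agent.Lib.Helper23.AlgSpMor
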