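import Groth.Agent.Lib.Helper23.AlgSpFlatMono

/-!
# Topological lemmas on points of base changes (helper23)
-/

set_option autoImplicit false
universe u
open CategoryTheory CategoryTheory.Limits AlgebraicGeometry Opposite

namespace Groth.Agent.Lib.Helper23.AlgSpMor

open AlgSp Groth.Agent.Lib.Helper37.AlgSpPoints Groth.Agent.Lib.Helper12.AlgSpPoints

variable {S : Scheme.{u}}

/-- Image and preimage on points through a pullback square. -/
theorem preimage_map_image_map {Z' Z Z₀ Z₀' : Sp S} {snd : Z' ⟶ Z} {j : Z₀ ⟶ Z} {j' : Z₀' ⟶ Z'}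
    {snd₀ : Z₀' ⟶ Z₀} (sq : IsPullback j' snd₀ snd j) (W : Set (Points Z')) :
    Points.map j ⁻¹' (Points.map snd '' W) = Points.map snd₀ '' (Points.map j' ⁻¹' W) := by
  ext x
  simp only [Set.mem_preimage, Set.mem_image]
  constructor
  · rintro ⟨w, hw, hwx⟩
    obtain ⟨p, hp1, hp2⟩ := Points.exists_of_isPullback sq w x hwx
    exact ⟨p, by rw [hp1]; exact hw, hp2⟩
  · rintro ⟨p, hp, rfl⟩
    exact ⟨Points.map j' p, hp, by rw [← Points.map_comp, ← Points.map_comp, sq.w]⟩

/-- The base change of a morphism closed on points along a morphism whose base change is inducing on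
points is closed on points. -/
theorem isClosedMap_of_isPullback_of_isInducing {Z' Z Z₀ Z₀' : Sp S} {snd : Z' ⟶ Z} {j : Z₀ ⟶ Z}
    {j' : Z₀' ⟶ Z'} {snd₀ : Z₀' ⟶ Z₀} (sq : IsPullback j' snd₀ snd j)
    (hind : Topology.IsInducing (Points.map j')) (h : IsClosedMap (Points.map snd)) :
    IsClosedMap (Points.map snd₀) := by
  intro W₀ hW₀
  obtain ⟨W, hW, rfl⟩ := hind.isClosed_iff.1 hW₀
  rw [← preimage_map_image_map sq]
  exact (h W hW).preimage (Points.continuous_map j)

/-- A morphism to an algebraic space which is representable by topological embeddings (e.g. by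
preimmersions) is inducing on points. -/
theorem isInducing_points_of_repWith {Q : MorphismProperty Scheme.{u}}
    (hQ : ∀ {A B : Scheme.{u}} (f : A ⟶ B), Q f → Topology.IsInducing f)
    {Z₀ Z : Sp S} (hZ : IsAlgSpace Z) (j : Z₀ ⟶ Z) (hj : RepWith Q j) :
    Topology.IsInducing (Points.map j) := by
  obtain ⟨U, a, hae, has⟩ := hZ.atlas
  have sq := hj.rep.isPullback a
  set fst := hj.rep.fst a
  set i := hj.rep.snd a
  have hi : Topology.IsInducing i.left := hQ _ (hj.property_snd a)
  have hfe : RepWith @Etale fst := (RepWith @Etale).of_isPullback sq.flip hae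
  have hfs : RepWith @Surjective fst := (RepWith @Surjective).of_isPullback sq.flip has
  refine ⟨le_antisymm (continuous_iff_le_induced.1 (Points.continuous_map j)) fun O₀ hO₀ => ?_⟩
  have hO₀' : IsOpen (Points.ofPt fst ⁻¹' O₀) := hO₀.preimage (Points.continuous_ofPt fst)
  obtain ⟨O₁, hO₁, hO₁eq⟩ := hi.isOpen_iff.1 hO₀'
  refine isOpen_induced_iff.2 ⟨Points.ofPt a '' O₁, isOpenMap_ofPt a hae O₁ hO₁, ?_⟩
  ext ξ
  simp only [Set.mem_preimage, Set.mem_image]
  constructor
  · rintro ⟨o₁, ho₁, he⟩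
    rw [Points.ofPt_eq_map_ofScheme] at he
    obtain ⟨p, hp1, hp2⟩ := Points.exists_of_isPullback sq ξ (Points.ofScheme U o₁) he.symm
    obtain ⟨u₀, rfl⟩ := (Points.schemeHomeo _).surjective p
    rw [Points.map_yon_map_apply] at hp2
    have hu₀ : i.left u₀ = o₁ := (Points.schemeHomeo U).injective hp2
    have : u₀ ∈ i.left ⁻¹' O₁ := by
      change i.left u₀ ∈ O₁
      rw [hu₀]; exact ho₁
    rw [hO₁eq] at this
    have h2 : Points.ofPt fst u₀ = ξ := by
      rw [Points.ofPt_eq_map_ofScheme]; exact hp1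
    rw [← h2]; exact this
  · intro hξ
    obtain ⟨u₀, rfl⟩ := ofPt_surjective fst hfs ξ
    have : u₀ ∈ i.left ⁻¹' O₁ := by rw [hO₁eq]; exact hξ
    refine ⟨i.left u₀, this, ?_⟩
    rw [Points.map_ofPt, sq.w, ofPt_map_comp]

/-- Closedness on points of a morphism to `h_T` is local on `T` for the Zariski topology. -/
theorem isClosedMap_points_of_openCover {T : Over S} {Z' : Sp S} (snd : Z' ⟶ (yon S).obj T)
    {ι : Type*} (O : ι → T.left.Opens) (hO : ⨆ k, O k = ⊤)
    (H : ∀ k, ∀ (P : Sp S) (e : P ⟶ Z')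
      (e2 : P ⟶ (yon S).obj (Over.mk ((O k).ι ≫ T.hom))),
      IsPullback e e2 snd ((yon S).map (Over.homMk (O k).ι rfl : Over.mk ((O k).ι ≫ T.hom) ⟶ T)) →
      IsClosedMap (Points.map e2)) :
    IsClosedMap (Points.map snd) := by
  intro W hW
  have hO' : TopologicalSpace.IsOpenCover O := hO
  rw [← (Points.schemeHomeo T).isClosed_preimage, hO'.isClosed_iff_coe_preimage]
  intro k
  set Tk : Over S := Over.mk ((O k).ι ≫ T.hom)
  set ιk : Tk ⟶ T := Over.homMk (O k).ι rfl
  have sq : IsPullback (pullback.fst snd ((yon S).map ιk)) (pullback.snd snd ((yon S).map ιk)) snd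
      ((yon S).map ιk) := IsPullback.of_hasPullback _ _
  have h1 := H k _ _ _ sq _ (hW.preimage (Points.continuous_map (pullback.fst snd ((yon S).map ιk))))
  have h2 := preimage_ofPt_image_map sq W
  have h3 : IsClosed (Points.ofPt ((yon S).map ιk) ⁻¹' (Points.map snd '' W)) := by
    rw [h2]; exact h1.preimage (Points.schemeHomeo Tk).continuous
  have heq : (Points.ofPt ((yon S).map ιk) ⁻¹' (Points.map snd '' W)) =
      (fun u : Tk.left => ιk.left u) ⁻¹' ((Points.schemeHomeo T) ⁻¹' (Points.map snd '' W)) := by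
    ext u
    simp only [Set.mem_preimage]
    rw [ofPt_yon_map]
    rfl
  rw [heq] at h3
  exact h3

end Groth.Agent.Lib.Helper23.AlgSpMor
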