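import Groth.Agent.Lib.Helper23.AlgSpClosedOver
import Groth.Agent.Lib.Helper50.UnivOC

/-!
# Universal closedness of quasi-compact morphisms of algebraic spaces via affine spaces (helper23)
-/

set_option autoImplicit false
universe u
open CategoryTheory CategoryTheory.Limits AlgebraicGeometry Opposite

namespace Groth.Agent.Lib.Helper23.AlgSpMor

open AlgSp Groth.Agent.Lib.Helper37.AlgSpPoints Groth.Agent.Lib.Helper12.AlgSpPoints
open Groth.Agent.Lib.Helper50

attribute [local instance] IsFiltered.isConnected IsCofiltered.isConnected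

variable {S : Scheme.{u}} {X Y : Sp S}

/-- Affine `n`-space over `V` as a scheme over `S`. -/
noncomputable abbrev affSp (V : Over S) (n : ℕ) : Over S :=
  Over.mk ((𝔸(ULift.{u} (Fin n); V.left) ↘ V.left) ≫ V.hom)

/-- The projection of affine space. -/
noncomputable abbrev affSpπ (V : Over S) (n : ℕ) : affSp V n ⟶ V :=
  Over.homMk (𝔸(ULift.{u} (Fin n); V.left) ↘ V.left) rfl

/-- The spectrum form of the limit argument. -/
theorem closedOver_spec (hX : IsAlgSpace X) (hY : IsAlgSpace Y) (f : X ⟶ Y)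
    (hqc : IsQuasiCompactMor f) {V : Over S} (p : (yon S).obj V ⟶ Y)
    (H3 : ∀ n : ℕ, ClosedOver f ((yon S).map (affSpπ V n) ≫ p))
    {U₀ : V.left.Opens} (hU₀ : IsAffineOpen U₀) (R : Type u) [CommRing R]
    [Algebra Γ(V.left, U₀) R] :
    ClosedOver f ((yon S).map (bcBaseι (U := bcBase (U := V) U₀.ι)
      (Spec.map (CommRingCat.ofHom (algebraMap Γ(V.left, U₀) R)) ≫ hU₀.isoSpec.inv)) ≫
      (yon S).map (bcBaseι (U := V) U₀.ι) ≫ p) := by
  set V₀ : Over S := bcBase (U := V) U₀.ι with hV₀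
  set ι₀ : V₀ ⟶ V := bcBaseι (U := V) U₀.ι with hι₀
  set y₀ : (yon S).obj V₀ ⟶ Y := (yon S).map ι₀ ≫ p with hy₀
  have hV₀aff : IsAffine V₀.left := hU₀
  have sqW : IsPullback (pullback.fst f y₀) (pullback.snd f y₀) f y₀ := IsPullback.of_hasPullback _ _
  set w := pullback.snd f y₀ with hw
  have hW : IsAlgSpace (pullback f y₀) :=
    isAlgSpace_of_isPullback hX (IsAlgSpace.yon_obj V₀) hY.diag sqW
  have hWqc : IsQuasiCompactSp (pullback f y₀) :=
    hqc (IsAlgSpace.yon_obj V₀) (isQuasiCompactSp_yon V₀) y₀ _ _ sqW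
  obtain ⟨U, x, hUaff, hxe, hxs⟩ := exists_affine_chart_of_isQuasiCompactSp hWqc
  let g : U ⟶ V₀ := (yon S).preimage (x ≫ w)
  have hg : (yon S).map g = x ≫ w := (yon S).map_preimage _
  have hgqc : QuasiCompact g.left := inferInstance
  -- the diagram of finitely generated subalgebras
  let F : FGSub Γ(V.left, U₀) R ⥤ Under Γ(V.left, U₀) := fgSubFunctor Γ(V.left, U₀) R
  let c : Cocone F := fgSubCocone Γ(V.left, U₀) R
  have hc : IsColimit c := fgSubIsColimit Γ(V.left, U₀) R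
  have hlim : IsLimit (specCone hU₀ F c) := isLimitSpecCone hU₀ F c hc
  let D : (FGSub Γ(V.left, U₀) R)ᵒᵖ ⥤ Scheme.{u} :=
    (specDiagram hU₀ F ⋙ Over.map U₀.ι) ⋙ Over.forget V.left
  have hDaff : ∀ (i j : (FGSub Γ(V.left, U₀) R)ᵒᵖ) (φ : i ⟶ j), IsAffineHom (D.map φ) :=
    fun i j φ ↦ by
      dsimp [D, specDiagram]; infer_instance
  let cD : Cone D := (Over.forget V.left).mapCone (specCone hU₀ F c)
  have hcD : IsLimit cD := isLimitOfPreserves (Over.forget V.left) hlim
  let β : ∀ j, D.obj j ⟶ V₀.left := fun j ↦ ((specDiagram hU₀ F).obj j).hom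
  have hβ : ∀ {j k : (FGSub Γ(V.left, U₀) R)ᵒᵖ} (φ : j ⟶ k), D.map φ ≫ β k = β j :=
    fun φ ↦ Over.w ((specDiagram hU₀ F).map φ)
  let b : cD.pt ⟶ V₀.left :=
    Spec.map (CommRingCat.ofHom (algebraMap Γ(V.left, U₀) R)) ≫ hU₀.isoSpec.inv
  have hb : ∀ j, cD.π.app j ≫ β j = b := fun j ↦ by
    change Spec.map (c.ι.app j.unop).right ≫ Spec.map (F.obj j.unop).hom ≫ hU₀.isoSpec.inv = _
    rw [← Spec.map_comp_assoc, Under.w]
    rfl
  -- closedness at the finite stages
  have Hj : ∀ j, IsClosedMap (Points.map (pullback.snd w ((yon S).map (bcBaseι (U := V₀) (β j))))) := by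
    intro j
    have sqj : IsPullback (pullback.fst w ((yon S).map (bcBaseι (U := V₀) (β j))))
        (pullback.snd w ((yon S).map (bcBaseι (U := V₀) (β j)))) w
        ((yon S).map (bcBaseι (U := V₀) (β j))) := IsPullback.of_hasPullback _ _
    refine (closedOver_iff_of_isPullback (sqj.paste_horiz sqW)).1 ?_
    let ψ : Γ(V.left, U₀) ⟶ CommRingCat.of j.unop.1 :=
      CommRingCat.ofHom (algebraMap Γ(V.left, U₀) j.unop.1)
    have hψ : ψ.hom.FiniteType := finiteType_algebraMap_fgSub Γ(V.left, U₀) R j.unop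
    obtain ⟨n, hn, i, hi, hiβ⟩ := exists_isPreimmersion_affineSpace hU₀.fromSpec ψ hψ
    have e : β j ≫ U₀.ι = i ≫ (𝔸(ULift.{u} (Fin n); V.left) ↘ V.left) := by
      rw [hiβ]
      change (Spec.map (F.obj j.unop).hom ≫ hU₀.isoSpec.inv) ≫ U₀.ι = Spec.map ψ ≫ hU₀.fromSpec
      rw [Category.assoc, IsAffineOpen.isoSpec_inv_ι]
      rfl
    let io : bcBase (U := V₀) (β j) ⟶ affSp V n := Over.homMk i (by
      change i ≫ (𝔸(ULift.{u} (Fin n); V.left) ↘ V.left) ≫ V.hom = β j ≫ U₀.ι ≫ V.hom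
      rw [← Category.assoc, ← e]
      exact Category.assoc _ _ _)
    have hio : bcBaseι (U := V₀) (β j) ≫ ι₀ = io ≫ affSpπ V n := Over.OverMorphism.ext e
    have h1 := (H3 n).precomp_preimmersion hX hY io hi
    rw [hy₀, ← Category.assoc, ← Functor.map_comp, hio, Functor.map_comp, Category.assoc]
    exact h1
  have sqb : IsPullback (pullback.fst w ((yon S).map (bcBaseι (U := V₀) b)))
      (pullback.snd w ((yon S).map (bcBaseι (U := V₀) b))) w
      ((yon S).map (bcBaseι (U := V₀) b)) := IsPullback.of_hasPullback _ _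
  have key := isClosedMap_points_of_limit D cD hcD β hβ b hb w x hxe hxs g hg Hj _ _ sqb
  exact (closedOver_iff_of_isPullback (sqb.paste_horiz sqW)).2 key

end Groth.Agent.Lib.Helper23.AlgSpMor
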