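import Groth.Agent.Lib.Helper23.AlgSpUnivClosedAn

/-!
# Universal closedness via affine spaces, step B: arbitrary test schemes over the atlas (helper23)
-/

set_option autoImplicit false
universe u
open CategoryTheory CategoryTheory.Limits AlgebraicGeometry Opposite

namespace Groth.Agent.Lib.Helper23.AlgSpMor

open AlgSp Groth.Agent.Lib.Helper37.AlgSpPoints Groth.Agent.Lib.Helper12.AlgSpPoints
open Groth.Agent.Lib.Helper50

variable {S : Scheme.{u}} {X Y : Sp S}

/-- Step B: closedness of the base change along any scheme over the atlas `V`. -/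
theorem closedOver_of_affSp (hX : IsAlgSpace X) (hY : IsAlgSpace Y) (f : X ⟶ Y)
    (hqc : IsQuasiCompactMor f) {V : Over S} (p : (yon S).obj V ⟶ Y)
    (H3 : ∀ n : ℕ, ClosedOver f ((yon S).map (affSpπ V n) ≫ p))
    {T : Over S} (τ : T ⟶ V) : ClosedOver f ((yon S).map τ ≫ p) := by
  choose U W hU hW htW hWU using exists_affine_nbhds τ.left
  have hcover : ⨆ t, W t = ⊤ := by
    refine top_le_iff.mp fun t _ ↦ ?_
    exact TopologicalSpace.Opens.mem_iSup.mpr ⟨t, htW t⟩
  refine closedOver_of_openCover _ W hcover fun t => ?_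
  have e : (W t).ι ≫ τ.left = (hW t).isoSpec.hom ≫
      Spec.map (τ.left.appLE (U t) (W t) (hWU t)) ≫ (hU t).fromSpec := by
    rw [IsAffineOpen.SpecMap_appLE_fromSpec τ.left (hU t) (hW t) (hWU t),
      ← IsAffineOpen.isoSpec_inv_ι (hW t), Category.assoc, Iso.hom_inv_id_assoc]
  algebraize [(τ.left.appLE (U t) (W t) (hWU t)).hom]
  have h1 := closedOver_spec hX hY f hqc p H3 (hU t) Γ(T.left, W t)
  set b : Spec Γ(T.left, W t) ⟶ (U t : Scheme) :=
    Spec.map (CommRingCat.ofHom (algebraMap Γ(V.left, U t) Γ(T.left, W t))) ≫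
      (hU t).isoSpec.inv with hb
  have e' : (W t).ι ≫ τ.left = (hW t).isoSpec.hom ≫ b ≫ (U t).ι := by
    rw [e, hb, Category.assoc, IsAffineOpen.isoSpec_inv_ι]
    rfl
  let ε : Over.mk ((W t).ι ≫ T.hom) ≅ bcBase (U := bcBase (U := V) (U t).ι) b :=
    Over.isoMk (hW t).isoSpec (by
      change (hW t).isoSpec.hom ≫ b ≫ (U t).ι ≫ V.hom = (W t).ι ≫ T.hom
      rw [← Over.w τ, ← Category.assoc (W t).ι, e']
      simp only [Category.assoc])
  have h2 := h1.precomp_iso ε
  have h3 : (yon S).map ε.hom ≫ (yon S).map (bcBaseι (U := bcBase (U := V) (U t).ι) b) ≫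
      (yon S).map (bcBaseι (U := V) (U t).ι) ≫ p =
      (yon S).map (Over.homMk (W t).ι rfl : Over.mk ((W t).ι ≫ T.hom) ⟶ T) ≫
        (yon S).map τ ≫ p := by
    rw [← Functor.map_comp_assoc, ← Functor.map_comp_assoc, ← Functor.map_comp_assoc]
    congr 2
    apply Over.OverMorphism.ext
    change ((hW t).isoSpec.hom ≫ b) ≫ (U t).ι = (W t).ι ≫ τ.left
    rw [e', Category.assoc]
  rw [← h3]
  exact h2

end Groth.Agent.Lib.Helper23.AlgSpMor
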