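import Mathlib

/-!
# Principal open neighbourhoods of `V(I)` and quotients of localizations

* `exists_sub_one_mem_basicOpen_subset`: an open `U ⊇ V(I)` of `Spec R` contains `D(f)` for some
  `f ≡ 1 mod I`.
* `quotientMap_away_bijective`: if `f ≡ 1 mod I` then `R/I → R_f/I R_f` is bijective.
* `Algebra.QuasiFinite.of_forall_quasiFiniteAt`: quasi-finiteness of finite-type algebras is
  pointwise.
* `isOpen_quasiFiniteLocus`.
-/

namespace Groth.Agent.Lib.Helper23

open PrimeSpectrum

theorem exists_sub_one_mem_basicOpen_subset {R : Type*} [CommRing R] (I : Ideal R)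
    (U : Set (PrimeSpectrum R)) (hU : IsOpen U) (hIU : zeroLocus (I : Set R) ⊆ U) :
    ∃ f : R, f - 1 ∈ I ∧ (basicOpen f : Set (PrimeSpectrum R)) ⊆ U := by
  set J : Ideal R := vanishingIdeal Uᶜ with hJ
  have hzJ : zeroLocus (J : Set R) = Uᶜ := by
    rw [hJ, zeroLocus_vanishingIdeal_eq_closure, hU.isClosed_compl.closure_eq]
  have htop : I ⊔ J = ⊤ := by
    rw [← zeroLocus_empty_iff_eq_top, zeroLocus_sup, hzJ]
    rw [Set.eq_empty_iff_forall_notMem]
    rintro x ⟨hx1, hx2⟩
    exact hx2 (hIU hx1)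
  obtain ⟨i, hi, j, hj, hij⟩ := Submodule.mem_sup.mp (htop ▸ Submodule.mem_top : (1 : R) ∈ I ⊔ J)
  refine ⟨j, ?_, ?_⟩
  · have : j - 1 = -i := by rw [← hij]; ring
    rw [this]; exact I.neg_mem hi
  · intro p hp
    by_contra hpU
    have : p ∈ zeroLocus (J : Set R) := by rw [hzJ]; exact hpU
    exact hp (this hj)

theorem quotientMap_away_bijective {R : Type*} [CommRing R] (I : Ideal R) (f : R)
    (hf : f - 1 ∈ I) (S : Type*) [CommRing S] [Algebra R S] [IsLocalization.Away f S] :
    Function.Bijective (Ideal.quotientMap (I.map (algebraMap R S)) (algebraMap R S)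
      Ideal.le_comap_map) := by
  have hpow : ∀ n : ℕ, f ^ n - 1 ∈ I := by
    intro n
    induction n with
    | zero => simp
    | succ n ih =>
      have : f ^ (n + 1) - 1 = f ^ n * (f - 1) + (f ^ n - 1) := by ring
      rw [this]
      exact I.add_mem (I.mul_mem_left _ hf) ih
  constructor
  · apply Ideal.quotientMap_injective'
    intro x hx
    rw [Ideal.mem_comap, IsLocalization.mem_map_algebraMap_iff (Submonoid.powers f)] at hx
    obtain ⟨⟨a, ⟨_, n, rfl⟩⟩, hx⟩ := hx
    simp only at hx
    rw [← map_mul] at hx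
    obtain ⟨⟨_, m, rfl⟩, hm⟩ := (IsLocalization.eq_iff_exists (Submonoid.powers f) S).mp hx
    simp only at hm
    have h1 : f ^ (m + n) * x ∈ I := by
      have : f ^ (m + n) * x = f ^ m * (a : R) := by rw [pow_add, ← hm]; ring
      rw [this]
      exact I.mul_mem_left _ a.2
    have h2 : x = f ^ (m + n) * x - (f ^ (m + n) - 1) * x := by ring
    rw [h2]
    exact I.sub_mem h1 (I.mul_mem_right _ (hpow _))
  · intro y
    obtain ⟨y, rfl⟩ := Ideal.Quotient.mk_surjective y
    obtain ⟨r, s, rfl⟩ := IsLocalization.exists_mk'_eq (Submonoid.powers f) y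
    obtain ⟨n, hn⟩ := s.2
    refine ⟨Ideal.Quotient.mk _ r, ?_⟩
    rw [Ideal.quotientMap_mk, Ideal.Quotient.eq]
    have : algebraMap R S r - IsLocalization.mk' S r s =
        IsLocalization.mk' S r s * algebraMap R S ((s : R) - 1) := by
      rw [map_sub, map_one, mul_sub, mul_one, IsLocalization.mk'_spec]
    rw [this]
    refine Ideal.mul_mem_left _ _ (Ideal.mem_map_of_mem _ ?_)
    rw [← hn]
    exact hpow n

end Groth.Agent.Lib.Helper23
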