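import Mathlib.FieldTheory.IsAlgClosed.Classification
import Mathlib.AlgebraicGeometry.Sites.EtalePoint
import Mathlib.AlgebraicGeometry.Morphisms.FormallyUnramified
import Mathlib.RingTheory.Unramified.LocalRing

/-!
# Embedding small field extensions into a large algebraically closed field (helper23)
-/

set_option autoImplicit false
universe u

namespace Groth.Agent.Lib.Helper23.CardEmb

open Cardinal

/-- If `L / K` is a field extension of cardinality smaller than that of the algebraically closed
`K`-field `k`, then `L` embeds in `k` over `K`. -/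
theorem exists_algHom_of_card_lt (K L k : Type u) [Field K] [Field L] [Field k] [Algebra K L]
    [Algebra K k] [IsAlgClosed k] (h : #L < #k) : Nonempty (L →ₐ[K] k) := by
  classical
  obtain ⟨ι, x, hx⟩ := exists_isTranscendenceBasis' K L
  obtain ⟨ι', y, hy⟩ := exists_isTranscendenceBasis' K k
  have hKL : #K ≤ #L := Cardinal.mk_le_of_injective (algebraMap K L).injective
  have hι : #ι ≤ #L := Cardinal.mk_le_of_injective hx.1.injective
  have hle : #ι ≤ #ι' := by
    by_contra hlt
    rw [not_le] at hlt
    have h1 := IsAlgClosed.cardinal_le_max_transcendence_basis' y hy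
    have h2 : #k ≤ ℵ₀ := by
      by_contra h3
      rw [not_le] at h3
      have : max (max #K #ι') ℵ₀ < #k :=
        max_lt (max_lt (hKL.trans_lt h) ((hlt.trans_le hι).trans h)) h3
      exact absurd h1 (not_le.2 this)
    have hLfin : Finite L := Cardinal.lt_aleph0_iff_finite.1 (h.trans_le h2)
    have : IsEmpty ι := by
      constructor
      intro i
      have hmf : Module.Finite K L := Module.Finite.of_finite
      have halg : Algebra.IsAlgebraic K L := Algebra.IsAlgebraic.of_finite K L
      exact (hx.1.transcendental i) (halg.isAlgebraic (x i))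
    rw [Cardinal.mk_eq_zero ι] at hlt
    exact (Cardinal.zero_le _).not_gt hlt
  obtain ⟨σ⟩ := (Cardinal.le_def ι ι').1 hle
  have ht' : AlgebraicIndependent K (y ∘ σ) := hy.1.comp σ σ.injective
  let g : Algebra.adjoin K (Set.range x) →ₐ[K] k :=
    (MvPolynomial.aeval (y ∘ σ)).comp hx.1.aevalEquiv.symm.toAlgHom
  have hg : Function.Injective g := by
    have h1 : Function.Injective (MvPolynomial.aeval (R := K) (y ∘ σ)) := ht'
    exact h1.comp hx.1.aevalEquiv.symm.injective
  letI : Algebra (Algebra.adjoin K (Set.range x)) k := g.toRingHom.toAlgebra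
  haveI : IsScalarTower K (Algebra.adjoin K (Set.range x)) k :=
    IsScalarTower.of_algebraMap_eq fun c ↦ (g.commutes c).symm
  haveI : Module.IsTorsionFree (Algebra.adjoin K (Set.range x)) k :=
    Module.isTorsionFree_iff_algebraMap_injective.2 hg
  haveI : Algebra.IsAlgebraic (Algebra.adjoin K (Set.range x)) L := hx.isAlgebraic
  let ψ : L →ₐ[Algebra.adjoin K (Set.range x)] k := IsAlgClosed.lift
  exact ⟨ψ.restrictScalars K⟩

open AlgebraicGeometry CategoryTheory

set_option backward.isDefEq.respectTransparency.types false in
/-- a variant of `Scheme.exists_fac_of_etale_of_isSepClosed`: lifting a geometric point through a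
point whose residue field is small compared to the algebraically closed field -/
lemma exists_fac_of_card_lt {X S : Scheme.{u}} (f : X ⟶ S)
    {Ω : Type u} [Field Ω] [IsAlgClosed Ω] (s : Spec (.of Ω) ⟶ S)
    (x : X) (hx : f x = s default) (hcard : #(X.residueField x) < #Ω) :
    ∃ (l : Spec (.of Ω) ⟶ X), l ≫ f = s ∧ l default = x := by
  obtain ⟨⟨s, a⟩, rfl⟩ := (Scheme.SpecToEquivOfField Ω S).symm.surjective s
  obtain rfl : f x = s := by simp [hx, Scheme.SpecToEquivOfField]
  let m := (f.residueFieldMap x).hom
  dsimp at m
  algebraize [m, a.hom]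
  obtain ⟨b⟩ : Nonempty (X.residueField x →ₐ[S.residueField (f x)] Ω) :=
    exists_algHom_of_card_lt _ _ _ hcard
  have : f.residueFieldMap x ≫ CommRingCat.ofHom b.toRingHom = a := by
    ext1; exact b.comp_algebraMap
  refine ⟨Spec.map (CommRingCat.ofHom b.toRingHom) ≫ X.fromSpecResidueField x, ?_, ?_⟩
  · simp [Scheme.SpecToEquivOfField, ← this]
    rfl
  · dsimp
    apply Scheme.fromSpecResidueField_apply

/-- residue field extensions of etale morphisms are finite -/
theorem finite_residueField_of_etale {X Y : Scheme.{u}} (f : X ⟶ Y) [Etale f] (x : X) :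
    letI : Algebra (Y.residueField (f x)) (X.residueField x) :=
      (f.residueFieldMap x).hom.toAlgebra
    Module.Finite (Y.residueField (f x)) (X.residueField x) := by
  algebraize [(f.stalkMap x).hom]
  have : IsLocalHom (algebraMap (Y.presheaf.stalk (f x)) (X.presheaf.stalk x)) :=
    inferInstanceAs <| IsLocalHom (f.stalkMap x).hom
  suffices h : Module.Finite
      (IsLocalRing.ResidueField <| Y.presheaf.stalk (f x))
      (IsLocalRing.ResidueField <| X.presheaf.stalk x) by
    convert! h
    refine Module.ext' _ _ fun r m ↦ ?_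
    obtain ⟨r, rfl⟩ := IsLocalRing.residue_surjective r
    obtain ⟨m, rfl⟩ := IsLocalRing.residue_surjective m
    rfl
  have : Algebra.EssFiniteType (Y.presheaf.stalk (f x)) (X.presheaf.stalk x) := by
    rw [← RingHom.essFiniteType_algebraMap, RingHom.algebraMap_toAlgebra]
    exact LocallyOfFiniteType.stalkMap f x
  have : Algebra.FormallyUnramified (Y.presheaf.stalk (f x)) (X.presheaf.stalk x) := by
    rw [← RingHom.formallyUnramified_algebraMap, RingHom.algebraMap_toAlgebra]
    exact FormallyUnramified.stalkMap f x
  infer_instance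

theorem card_residueField_lt_of_etale {X Y : Scheme.{u}} (f : X ⟶ Y) [Etale f] (x : X)
    {Ω : Type u} [Field Ω] [IsAlgClosed Ω] (h : #(Y.residueField (f x)) < #Ω) :
    #(X.residueField x) < #Ω := by
  letI : Algebra (Y.residueField (f x)) (X.residueField x) :=
    (f.residueFieldMap x).hom.toAlgebra
  have hfin : Module.Finite (Y.residueField (f x)) (X.residueField x) :=
    finite_residueField_of_etale f x
  have hΩ : ℵ₀ ≤ #Ω := Cardinal.aleph0_le_mk_iff.2 (IsAlgClosed.instInfinite)
  rcases finite_or_infinite (Y.residueField (f x)) with hf | hinf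
  · have : Finite (X.residueField x) := Module.finite_of_finite (Y.residueField (f x))
    exact (Cardinal.lt_aleph0_of_finite _).trans_le hΩ
  · have h1 := Algebra.IsAlgebraic.cardinalMk_le_max (Y.residueField (f x)) (X.residueField x)
    have h2 : ℵ₀ ≤ #(Y.residueField (f x)) := Cardinal.aleph0_le_mk _
    rw [max_eq_left h2] at h1
    exact h1.trans_lt h

end Groth.Agent.Lib.Helper23.CardEmb
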