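import Groth.Agent.Lib.Helper23.AlgSpMor6
import Groth.Agent.Lib.Helper37.AlgSpPoints

/-!
# An affine étale chart covering the image of a quasi-compact space (helper23)
-/

set_option autoImplicit false
universe u

open CategoryTheory CategoryTheory.Limits AlgebraicGeometry Opposite

namespace Groth.Agent.Lib.Helper23.ChartCovering

open AlgSp Groth.Agent.Lib.Helper37.AlgSpPoints Groth.Agent.Lib.Helper23.AlgSpMor

variable {S : Scheme.{u}}

theorem exists_affine_chart_covering {X' Y' : Sp S} (hX' : IsAlgSpace X')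
    (hY'qc : IsQuasiCompactSp Y') (f : Y' ⟶ X') :
    ∃ (U₁ : Over S) (a₁ : (yon S).obj U₁ ⟶ X'), IsAffine U₁.left ∧ RepWith @Etale a₁ ∧
      Set.range (Points.map f) ⊆ Set.range (Points.ofPt a₁) := by
  obtain ⟨A, a, hae, has⟩ := hX'.atlas
  haveI : CompactSpace (Points Y') := compactSpace_points_of_isQuasiCompactSp hY'qc
  have key : ∀ x : Points Y', ∃ (α : ↥A.left) (Ax : A.left.Opens), IsAffineOpen Ax ∧ α ∈ Ax ∧
      Points.ofPt a α = Points.map f x := by
    intro x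
    obtain ⟨α, hα⟩ := ofPt_surjective a has (Points.map f x)
    obtain ⟨_, ⟨Ax, hAx : IsAffineOpen Ax, rfl⟩, hαAx, -⟩ :=
      A.left.isBasis_affineOpens.exists_subset_of_mem_open (Set.mem_univ α) isOpen_univ
    exact ⟨α, Ax, hAx, hαAx, hα⟩
  choose α Ax hAx hαAx hα using key
  have hopen : ∀ x, IsOpen (Points.ofPt a '' (Ax x : Set ↥A.left)) := fun x =>
    isOpenMap_ofPt a hae _ (Ax x).isOpen
  obtain ⟨σ, hσ⟩ := CompactSpace.elim_nhds_subcover
    (fun x => Points.map f ⁻¹' (Points.ofPt a '' (Ax x : Set ↥A.left)))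
    (fun x => ((hopen x).preimage (Points.continuous_map f)).mem_nhds ⟨α x, hαAx x, hα x⟩)
  let W : A.left.Opens := ⨆ x ∈ σ, Ax x
  have hWc : IsCompact (W : Set ↥A.left) := by
    have : (W : Set ↥A.left) = ⋃ x ∈ σ, (Ax x : Set ↥A.left) := by simp [W]
    rw [this]
    exact σ.isCompact_biUnion fun x _ => (hAx x).isCompact
  haveI : CompactSpace ↥W.toScheme := isCompact_iff_compactSpace.mp hWc
  obtain ⟨T, q, hT, hqe, hqs⟩ := exists_affine_etale_surjective W.toScheme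
  let U₁ : Over S := Over.mk (q ≫ W.ι ≫ A.hom)
  let r : U₁ ⟶ A := Over.homMk (q ≫ W.ι) (by simp [U₁])
  refine ⟨U₁, (yon S).map r ≫ a, hT, ?_, ?_⟩
  · refine (RepWith @Etale).comp_mem _ _ ((repWith_yon_map_iff _ _).2 ?_) hae
    change Etale (q ≫ W.ι)
    infer_instance
  · rintro _ ⟨x, rfl⟩
    have hx : x ∈ ⋃ x' ∈ σ, Points.map f ⁻¹' (Points.ofPt a '' (Ax x' : Set ↥A.left)) :=
      hσ.ge (Set.mem_univ x)
    obtain ⟨x', hx', hxx'⟩ := Set.mem_iUnion₂.mp hx
    obtain ⟨β, hβ, hβx⟩ := hxx'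
    have hβW : β ∈ W :=
      TopologicalSpace.Opens.mem_iSup.mpr ⟨x', TopologicalSpace.Opens.mem_iSup.mpr ⟨hx', hβ⟩⟩
    haveI := hqs
    obtain ⟨t, ht⟩ := q.surjective (⟨β, hβW⟩ : W)
    refine ⟨t, ?_⟩
    rw [ofPt_map_comp, ← hβx]
    congr 1
    change (q ≫ W.ι) t = β
    rw [Scheme.Hom.comp_apply, ht]
    rfl

end Groth.Agent.Lib.Helper23.ChartCovering
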