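import Groth.Agent.Lib.Helper23.ClosedDescentSch
import Groth.Agent.Lib.Helper23.AlgSpDescent
import Groth.Agent.Lib.Helper23.AlgSpMono
import Groth.Agent.Lib.Helper5.LocalRep
import Groth.Agent.S18940

/-!
# Effective descent of closed subschemes along fppf covers, for subsheaves of `h_T` (helper23)
-/

set_option autoImplicit false
universe u
open CategoryTheory CategoryTheory.Limits AlgebraicGeometry Opposite

namespace Groth.Agent.Lib.Helper23.ClosedDescent

open AlgSp Groth.Agent.Lib.Helper23.AlgSpMor

variable {S : Scheme.{u}}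

/-- Epimorphisms of sheaves are stable under base change. -/
theorem epi_of_isPullback {P X Y Z : Sp S} {fst : P ⟶ X} {snd : P ⟶ Y} {f : X ⟶ Z} {g : Y ⟶ Z}
    (sq : IsPullback fst snd f g) [Epi f] : Epi snd := by
  have h1 : Sheaf.IsLocallySurjective f := (Sheaf.isLocallySurjective_iff_epi f).2 inferInstance
  have h2 : Sheaf.IsLocallySurjective (pullback.snd f g) := Groth.Agent.S18940.result _ f g
  have h3 : Epi (pullback.snd f g) := inferInstance
  rw [← sq.isoPullback_hom_snd]
  infer_instance

/-- **Effective descent of a closed subscheme** for a subsheaf `F ⊆ h_T`: if the restriction of `F`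
along an fppf cover `c : T' ⟶ T` is a closed subscheme `Z'` of `T'`, quasi-compact over `T`, then
`F` is a closed subscheme of `T`. -/
theorem exists_closed_of_fppf_cover {T T' Z' : Over S} (c : T' ⟶ T) (hc1 : Flat c.left)
    (hc2 : LocallyOfFinitePresentation c.left) (hc3 : Surjective c.left) {F : Sp S}
    (q : F ⟶ (yon S).obj T) [Mono q] (i' : Z' ⟶ T') (hi' : IsClosedImmersion i'.left)
    (a' : (yon S).obj Z' ⟶ F) (sq : IsPullback a' ((yon S).map i') q ((yon S).map c))
    (hqc : QuasiCompact (i' ≫ c).left) :
    ∃ (Z : Over S) (i : Z ⟶ T) (e : (yon S).obj Z ≅ F), IsClosedImmersion i.left ∧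
      e.hom ≫ q = (yon S).map i := by
  obtain ⟨g, hg⟩ : ∃ g : Z'.left ⟶ T.left, g = (i' ≫ c).left := ⟨_, rfl⟩
  have hg' : g = i'.left ≫ c.left := hg
  haveI : QuasiCompact g := hg ▸ hqc
  haveI : Flat c.left := hc1
  haveI : IsClosedImmersion i'.left := hi'
  have hcond : pullback.fst g c.left ≫ i'.left ≫ c.left = pullback.snd g c.left ≫ c.left := by
    rw [← hg']; exact pullback.condition
  -- Step 1: `Z' ×_T T' ⟶ T'` factors through `Z'`
  obtain ⟨l, hl⟩ : ∃ l : pullback g c.left ⟶ Z'.left, l ≫ i'.left = pullback.snd g c.left := by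
    let Z'' : Over S := Over.mk (pullback.snd g c.left ≫ T'.hom)
    let s : Z'' ⟶ T' := Over.homMk (pullback.snd g c.left) rfl
    let r : Z'' ⟶ Z' := Over.homMk (pullback.fst g c.left) (by
      change pullback.fst g c.left ≫ Z'.hom = pullback.snd g c.left ≫ T'.hom
      rw [← Over.w i', ← Over.w c, ← Category.assoc, ← Category.assoc, ← Category.assoc,
        Category.assoc _ i'.left, hcond])
    have hrs : r ≫ i' ≫ c = s ≫ c := by
      ext1
      exact hcond
    have hcomm : ((yon S).map r ≫ a') ≫ q = (yon S).map s ≫ (yon S).map c := by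
      rw [Category.assoc, sq.w, ← Functor.map_comp, ← Functor.map_comp, ← Functor.map_comp, hrs]
    obtain ⟨l', hl'⟩ := (yon S).map_surjective (sq.lift _ _ hcomm)
    have h2 : l' ≫ i' = s := by
      apply (yon S).map_injective
      rw [Functor.map_comp, hl', sq.lift_snd]
    exact ⟨l'.left, congrArg CommaMorphism.left h2⟩
  -- Step 2: `Z ×_T T' ⟶ T'` factors through `Z'`
  obtain ⟨m, hm⟩ := ClosedDescentSch.exists_lift_image c.left i'.left g l hl
  -- the closed subscheme `Z`
  let Z : Over S := Over.mk (g.imageι ≫ T.hom)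
  let i : Z ⟶ T := Over.homMk g.imageι rfl
  have hicl : IsClosedImmersion i.left := inferInstanceAs (IsClosedImmersion g.imageι)
  haveI : Mono i := by
    haveI : Mono i.left := inferInstanceAs (Mono g.imageι)
    exact Over.mono_of_mono_left _
  -- Step 3: the cover `P = Z ×_T T' ⟶ Z` and the descent
  have hPcond : pullback.fst g.imageι c.left ≫ g.imageι = pullback.snd g.imageι c.left ≫ c.left :=
    pullback.condition
  let Po : Over S := Over.mk (pullback.snd g.imageι c.left ≫ T'.hom)
  let v : Po ⟶ Z := Over.homMk (pullback.fst g.imageι c.left) (by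
    change pullback.fst g.imageι c.left ≫ g.imageι ≫ T.hom = pullback.snd g.imageι c.left ≫ T'.hom
    rw [← Over.w c, ← Category.assoc, hPcond, Category.assoc])
  let mo : Po ⟶ Z' := Over.homMk m (by
    change m ≫ Z'.hom = pullback.snd g.imageι c.left ≫ T'.hom
    rw [← Over.w i', ← Category.assoc, hm])
  have hmo : mo ≫ i' ≫ c = v ≫ i := by
    ext1
    change m ≫ i'.left ≫ c.left = pullback.fst g.imageι c.left ≫ g.imageι
    rw [← Category.assoc, hm, hPcond]
  have hv1 : Flat v.left :=
    MorphismProperty.pullback_fst (P := @Flat) _ _ hc1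
  have hv2 : LocallyOfFinitePresentation v.left :=
    MorphismProperty.pullback_fst (P := @LocallyOfFinitePresentation) _ _ hc2
  have hv3 : Surjective v.left :=
    MorphismProperty.pullback_fst (P := @Surjective) _ _ hc3
  have hepiv : Epi ((yon S).map v) := epi_yon_map_of_fppf v hv1 hv2 hv3
  obtain ⟨φ, hφ⟩ := exists_desc_of_fppf v hv1 hv2 hv3 ((yon S).map mo ≫ a')
    (pullback.fst v v) (pullback.snd v v) (IsPullback.of_hasPullback v v) (by
      rw [← cancel_mono q]
      simp only [Category.assoc, sq.w]
      simp only [← Functor.map_comp]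
      rw [hmo, ← Category.assoc, pullback.condition, Category.assoc])
  have hφq : φ ≫ q = (yon S).map i := by
    rw [← cancel_epi ((yon S).map v), ← Category.assoc, hφ, Category.assoc, sq.w,
      ← Functor.map_comp, ← Functor.map_comp, ← Functor.map_comp, hmo]
  -- Step 4: `φ` is an isomorphism
  haveI : Mono φ := by
    haveI : Mono (φ ≫ q) := by rw [hφq]; infer_instance
    exact mono_of_mono φ q
  haveI : Epi φ := by
    haveI : Epi ((yon S).map c) := epi_yon_map_of_fppf c hc1 hc2 hc3
    haveI : Epi a' := epi_of_isPullback sq.flip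
    let tI : Z' ⟶ Z := Over.homMk g.toImage (by
      change g.toImage ≫ g.imageι ≫ T.hom = Z'.hom
      rw [← Category.assoc, g.toImage_imageι, hg', Category.assoc, Over.w c, Over.w i'])
    have htI : tI ≫ i = i' ≫ c := by
      ext1
      change g.toImage ≫ g.imageι = i'.left ≫ c.left
      rw [g.toImage_imageι, hg']
    have hfac : (yon S).map tI ≫ φ = a' := by
      rw [← cancel_mono q, Category.assoc, hφq, sq.w, ← Functor.map_comp, ← Functor.map_comp, htI]
    exact epi_of_epi_fac hfac
  haveI : IsIso φ := isIso_of_mono_of_epi φ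
  exact ⟨Z, i, asIso φ, hicl, hφq⟩

end Groth.Agent.Lib.Helper23.ClosedDescent
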