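import Groth.Agent.Lib.Helper23.ClosedDescent
import Groth.Agent.Lib.Helper23.AlgSpMor7
import Groth.Agent.Lib.Helper62.AlgSpMono

/-!
# Effective descent of closed subschemes: affine base, and descent of `RepWith @IsClosedImmersion`
along representable etale surjective base change (helper23)
-/

set_option autoImplicit false
universe u
open CategoryTheory CategoryTheory.Limits AlgebraicGeometry Opposite

namespace Groth.Agent.Lib.Helper23.ClosedDescent

open AlgSp Groth.Agent.Lib.Helper23.AlgSpMor

variable {S : Scheme.{u}}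

/-- An open surjective morphism to a quasi-compact scheme is already surjective on a quasi-compact
open of the source. -/
theorem exists_compact_open_surjective {T' T : Scheme.{u}} (c : T' ⟶ T) [CompactSpace ↥T]
    (hopen : IsOpenMap c) (hsurj : Function.Surjective c) :
    ∃ W : T'.Opens, IsCompact (W : Set ↥T') ∧ ∀ t : ↥T, ∃ w ∈ W, c w = t := by
  have hcov : (Set.univ : Set ↥T) ⊆ ⋃ U : T'.affineOpens, c '' (U.1 : Set ↥T') := by
    intro t _
    obtain ⟨t', rfl⟩ := hsurj t
    have h1 : t' ∈ (⨆ i : T'.affineOpens, (i : T'.Opens)) := by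
      rw [iSup_affineOpens_eq_top]; trivial
    obtain ⟨U, hU⟩ := TopologicalSpace.Opens.mem_iSup.1 h1
    exact Set.mem_iUnion.2 ⟨U, t', hU, rfl⟩
  obtain ⟨J, hJ⟩ := isCompact_univ.elim_finite_subcover
    (fun U : T'.affineOpens => c '' (U.1 : Set ↥T')) (fun U => hopen _ U.1.2) hcov
  refine ⟨⨆ U ∈ J, U.1, ?_, ?_⟩
  · have : ((⨆ U ∈ J, U.1 : T'.Opens) : Set ↥T') = ⋃ U ∈ J, (U.1 : Set ↥T') := by
      simp
    rw [this]
    exact J.isCompact_biUnion (fun U _ => U.2.isCompact)
  · intro t
    obtain ⟨U, hUJ, t', ht', rfl⟩ : ∃ U ∈ J, t ∈ c '' (U.1 : Set ↥T') := by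
      simpa using hJ (Set.mem_univ t)
    refine ⟨t', ?_, rfl⟩
    exact TopologicalSpace.Opens.mem_iSup.2 ⟨U, TopologicalSpace.Opens.mem_iSup.2 ⟨hUJ, ht'⟩⟩

/-- **Effective descent of a closed subscheme**, affine base, no quasi-compactness needed. -/
theorem exists_closed_of_fppf_cover_affine {T T' Z' : Over S} [IsAffine T.left] (c : T' ⟶ T)
    (hc1 : Flat c.left) (hc2 : LocallyOfFinitePresentation c.left) (hc3 : Surjective c.left)
    {F : Sp S} (q : F ⟶ (yon S).obj T) [Mono q] (i' : Z' ⟶ T') (hi' : IsClosedImmersion i'.left)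
    (a' : (yon S).obj Z' ⟶ F) (sq : IsPullback a' ((yon S).map i') q ((yon S).map c)) :
    ∃ (Z : Over S) (i : Z ⟶ T) (e : (yon S).obj Z ≅ F), IsClosedImmersion i.left ∧
      e.hom ≫ q = (yon S).map i := by
  haveI := hc1
  haveI := hc2
  haveI := hi'
  obtain ⟨W, hWc, hWs⟩ := exists_compact_open_surjective c.left c.left.isOpenMap hc3.surj
  let cW : bcBase (U := T') W.ι ⟶ T := bcBaseι (U := T') W.ι ≫ c
  have hcWl : cW.left = W.ι ≫ c.left := rfl
  have h1 : Flat cW.left := by rw [hcWl]; infer_instance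
  have h2 : LocallyOfFinitePresentation cW.left := by rw [hcWl]; infer_instance
  have h3 : Surjective cW.left := by
    rw [hcWl]
    refine ⟨fun t => ?_⟩
    obtain ⟨w, hw, rfl⟩ := hWs t
    exact ⟨⟨w, hw⟩, rfl⟩
  have sqW : IsPullback ((yon S).map (bcSnd i' W.ι) ≫ a') ((yon S).map (bcFst i' W.ι)) q
      ((yon S).map cW) := by
    have := isPullback_bc_paste i' W.ι sq
    rwa [← Functor.map_comp] at this
  have hcl : IsClosedImmersion (bcFst i' W.ι).left :=
    inferInstanceAs (IsClosedImmersion (pullback.fst W.ι i'.left))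
  have hqc : QuasiCompact (bcFst i' W.ι ≫ cW).left := by
    rw [HasAffineProperty.iff_of_isAffine (P := @QuasiCompact)]
    haveI : CompactSpace ↥W.toScheme := isCompact_iff_compactSpace.1 hWc
    exact (pullback.fst W.ι i'.left).isClosedEmbedding.compactSpace
  exact exists_closed_of_fppf_cover cW h1 h2 h3 q (bcFst i' W.ι) hcl _ sqW hqc

/-- A representable fppf morphism of sheaves is an epimorphism. -/
theorem epi_of_fppf {F G : Sp S} (a : F ⟶ G) (h1 : RepWith @Flat a)
    (h2 : RepWith @LocallyOfFinitePresentation a) (h3 : RepWith @Surjective a) : Epi a := by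
  have := Groth.Agent.S9885.result S F G a h1 h2 h3
  infer_instance

/-- Being a monomorphism descends along a representable fppf base change. -/
theorem mono_of_fppf_cover {X Y V P : Sp S} (f : X ⟶ Y) (p : V ⟶ Y) (hp1 : RepWith @Flat p)
    (hp2 : RepWith @LocallyOfFinitePresentation p) (hps : RepWith @Surjective p) {fst : P ⟶ X}
    {snd : P ⟶ V} (sq : IsPullback fst snd f p) [Mono snd] : Mono f := by
  refine ⟨fun {Z} a b h => ?_⟩
  have sqZ : IsPullback (pullback.fst (a ≫ f) p) (pullback.snd (a ≫ f) p) (a ≫ f) p :=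
    IsPullback.of_hasPullback (a ≫ f) p
  obtain ⟨w, hw⟩ : ∃ w, w = pullback.fst (a ≫ f) p := ⟨_, rfl⟩
  obtain ⟨v, hv⟩ : ∃ v, v = pullback.snd (a ≫ f) p := ⟨_, rfl⟩
  rw [← hw, ← hv] at sqZ
  have hwe : Epi w :=
    epi_of_fppf w ((RepWith @Flat).of_isPullback sqZ.flip hp1)
      ((RepWith @LocallyOfFinitePresentation).of_isPullback sqZ.flip hp2)
      ((RepWith @Surjective).of_isPullback sqZ.flip hps)
  rw [← cancel_epi w]
  have h1 : (w ≫ a) ≫ f = v ≫ p := by rw [Category.assoc]; exact sqZ.w
  have h2 : (w ≫ b) ≫ f = v ≫ p := by rw [Category.assoc, ← h]; exact sqZ.w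
  have key : sq.lift (w ≫ a) v h1 = sq.lift (w ≫ b) v h2 := by
    rw [← cancel_mono snd, sq.lift_snd, sq.lift_snd]
  have := congrArg (· ≫ fst) key
  simpa using this

/-- The pullback of a cover square `X ×_Y V` along a test scheme `g : h_T ⟶ Y`. -/
theorem exists_cover_square (Q : MorphismProperty Scheme.{u}) {X Y V P₀ : Sp S} (f : X ⟶ Y)
    (p : V ⟶ Y) (hp : Representable p) {fst : P₀ ⟶ X} {snd : P₀ ⟶ V}
    (sq : IsPullback fst snd f p) (h : RepWith Q snd) {T : Over S} (g : (yon S).obj T ⟶ Y) :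
    ∃ (T' Z' : Over S) (c : T' ⟶ T) (b : (yon S).obj T' ⟶ V) (i' : Z' ⟶ T')
      (fstZ : (yon S).obj Z' ⟶ P₀) (a' : (yon S).obj Z' ⟶ pullback f g),
      IsPullback b ((yon S).map c) p g ∧ IsPullback fstZ ((yon S).map i') snd b ∧ Q i'.left ∧
      IsPullback a' ((yon S).map i') (pullback.snd f g) ((yon S).map c) ∧
      a' ≫ pullback.fst f g = fstZ ≫ fst := by
  have sqc := hp.isPullback g
  have sqZ := h.rep.isPullback (hp.fst g)
  have hicl : Q (h.rep.snd (hp.fst g)).left := h.property_snd _
  let a' : (yon S).obj (h.rep.pullback (hp.fst g)) ⟶ pullback f g :=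
    pullback.lift (h.rep.fst (hp.fst g) ≫ fst)
      ((yon S).map (h.rep.snd (hp.fst g)) ≫ (yon S).map (hp.snd g)) (by
        rw [Category.assoc, sq.w, ← Category.assoc, sqZ.w, Category.assoc, sqc.w, Category.assoc])
  have hbig : IsPullback (a' ≫ pullback.fst f g) ((yon S).map (h.rep.snd (hp.fst g))) f
      ((yon S).map (hp.snd g) ≫ g) := by
    have := sqZ.paste_horiz sq
    rw [sqc.w] at this
    rwa [pullback.lift_fst]
  have sqF : IsPullback a' ((yon S).map (h.rep.snd (hp.fst g))) (pullback.snd f g)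
      ((yon S).map (hp.snd g)) :=
    IsPullback.of_right hbig (pullback.lift_snd _ _ _) (IsPullback.of_hasPullback f g)
  exact ⟨_, _, hp.snd g, hp.fst g, h.rep.snd (hp.fst g), h.rep.fst (hp.fst g), a', sqc, sqZ, hicl,
    sqF, pullback.lift_fst _ _ _⟩

/-- Being representable by closed immersions descends along a representable fppf base change (no
hypothesis on the sheaves involved). -/
theorem repWith_isClosedImmersion_of_fppf_cover {X Y V P₀ : Sp S} (f : X ⟶ Y) (p : V ⟶ Y)
    (hp1 : RepWith @Flat p) (hp2 : RepWith @LocallyOfFinitePresentation p)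
    (hps : RepWith @Surjective p) {fst : P₀ ⟶ X} {snd : P₀ ⟶ V}
    (sq : IsPullback fst snd f p) (h : RepWith @IsClosedImmersion snd) :
    RepWith @IsClosedImmersion f := by
  have : Mono snd :=
    Groth.Agent.Lib.Helper62.mono_of_repWith @IsClosedImmersion (fun f hf => by
      haveI := hf; infer_instance) snd h
  have : Mono f := mono_of_fppf_cover f p hp1 hp2 hps sq
  apply Groth.Agent.Lib.Helper5.LocalRep.repWith_of_affine_test
  intro T hT g
  have : IsAffine T.left := hT
  obtain ⟨T', Z', c, b, i', fstZ, a', sqc, -, hicl, sqF, -⟩ :=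
    exists_cover_square @IsClosedImmersion f p hp1.rep sq h g
  obtain ⟨Z, i, e, hi, he⟩ := exists_closed_of_fppf_cover_affine c (hp1.property _ _ _ sqc)
    (hp2.property _ _ _ sqc) (hps.property _ _ _ sqc) (pullback.snd f g) i' hicl a' sqF
  refine ⟨Z, i, e.hom ≫ pullback.fst f g, ?_, hi⟩
  exact IsPullback.of_iso_pullback ⟨by
    rw [Category.assoc, pullback.condition, ← Category.assoc, he]⟩ e rfl he

theorem repWith_flat_of_etale {F G : Sp S} {a : F ⟶ G} (h : RepWith @Etale a) : RepWith @Flat a :=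
  MorphismProperty.relative_monotone (fun _ _ g hg => by
    have : Etale g.left := hg
    exact (inferInstance : Flat g.left)) _ h

theorem repWith_lfp_of_etale {F G : Sp S} {a : F ⟶ G} (h : RepWith @Etale a) :
    RepWith @LocallyOfFinitePresentation a :=
  MorphismProperty.relative_monotone (fun _ _ g hg => by
    have : Etale g.left := hg
    exact (inferInstance : LocallyOfFinitePresentation g.left)) _ h

/-- Being representable by closed immersions descends along a representable etale surjective base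
change. -/
theorem repWith_isClosedImmersion_of_etale_cover {X Y V P₀ : Sp S} (f : X ⟶ Y) (p : V ⟶ Y)
    (hp : RepWith @Etale p) (hps : RepWith @Surjective p) {fst : P₀ ⟶ X} {snd : P₀ ⟶ V}
    (sq : IsPullback fst snd f p) (h : RepWith @IsClosedImmersion snd) :
    RepWith @IsClosedImmersion f :=
  repWith_isClosedImmersion_of_fppf_cover f p (repWith_flat_of_etale hp) (repWith_lfp_of_etale hp)
    hps sq h

end Groth.Agent.Lib.Helper23.ClosedDescent
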