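import Mathlib

/-!
# Descent of closed subschemes along flat morphisms: the scheme-level step (helper23)

Let `c : T' ⟶ T` be flat, `i' : Z' ⟶ T'` a closed immersion with `g = i' ≫ c` quasi-compact, and let
`Z` be the scheme theoretic image of `g`.  If `Z' ×_T T' ⟶ T'` factors through `Z'` (one half of a
descent datum), then so does `Z ×_T T' ⟶ T'`.
-/

set_option autoImplicit false
universe u
open CategoryTheory CategoryTheory.Limits AlgebraicGeometry

namespace Groth.Agent.Lib.Helper23.ClosedDescentSch

/-- The morphism to the scheme theoretic image of a quasi-compact morphism is scheme theoretically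
dominant. -/
theorem isSchemeTheoreticallyDominant_toImage {X Y : Scheme.{u}} (f : X ⟶ Y) [QuasiCompact f] :
    IsSchemeTheoreticallyDominant f.toImage := by
  rw [isSchemeTheoreticallyDominant_iff]
  refine Scheme.IdealSheafData.ext_of_iSup_eq_top
    (fun U : Y.affineOpens => (⟨f.imageι ⁻¹ᵁ U.1, U.2.preimage f.imageι⟩ : f.image.affineOpens)) ?_ ?_
  · have h1 : ⨆ U : Y.affineOpens, (U.1 : Y.Opens) = ⊤ := iSup_affineOpens_eq_top Y
    have h2 : f.imageι ⁻¹ᵁ (⨆ U : Y.affineOpens, (U.1 : Y.Opens)) = ⊤ := by rw [h1]; rfl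
    rw [← h2, Scheme.Hom.preimage_iSup]
  · intro U
    rw [Scheme.Hom.ker_apply]
    simp only [Scheme.IdealSheafData.ideal_bot, Pi.bot_apply]
    exact (RingHom.injective_iff_ker_eq_bot _).1 (f.toImage_app_injective U)

theorem exists_lift_image {T' T Z' : Scheme.{u}} (c : T' ⟶ T) [Flat c] (i' : Z' ⟶ T')
    [IsClosedImmersion i'] (g : Z' ⟶ T) [QuasiCompact g]
    (l : pullback g c ⟶ Z') (hl : l ≫ i' = pullback.snd g c) :
    ∃ m : pullback g.imageι c ⟶ Z', m ≫ i' = pullback.snd g.imageι c := by
  let d : pullback g c ⟶ pullback g.imageι c :=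
    pullback.map g c g.imageι c g.toImage (𝟙 T') (𝟙 T) (by simp) (by simp)
  have hd1 : d ≫ pullback.fst g.imageι c = pullback.fst g c ≫ g.toImage :=
    pullback.lift_fst _ _ _
  have hd2 : d ≫ pullback.snd g.imageι c = pullback.snd g c :=
    (pullback.lift_snd _ _ _).trans (Category.comp_id _)
  have hbig : IsPullback (d ≫ pullback.snd g.imageι c) (pullback.fst g c) c
      (g.toImage ≫ g.imageι) := by
    rw [hd2, g.toImage_imageι]
    exact (IsPullback.of_hasPullback g c).flip
  have hleft : IsPullback d (pullback.fst g c) (pullback.fst g.imageι c) g.toImage :=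
    IsPullback.of_right hbig hd1 (IsPullback.of_hasPullback g.imageι c).flip
  have := isSchemeTheoreticallyDominant_toImage g
  have : IsSchemeTheoreticallyDominant d := IsSchemeTheoreticallyDominant.of_isPullback hleft.flip
  have hker : (d ≫ pullback.snd g.imageι c).ker = (pullback.snd g.imageι c).ker := by
    rw [Scheme.Hom.ker_comp, d.ker_eq_bot, Scheme.IdealSheafData.map_bot]
  have H : i'.ker ≤ (pullback.snd g.imageι c).ker := by
    rw [← hker, hd2, ← hl]
    exact Scheme.Hom.le_ker_comp l i'
  exact ⟨IsClosedImmersion.lift i' (pullback.snd g.imageι c) H, IsClosedImmersion.lift_fac _ _ H⟩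

end Groth.Agent.Lib.Helper23.ClosedDescentSch
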