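import Mathlib
import Groth.Agent.Lib.Helper4.StrictHens

set_option autoImplicit false
open CategoryTheory CategoryTheory.Limits
universe u v w

namespace Groth.Agent.Lib.Helper23.ColimRed

variable {J : Type v} [Category.{w} J] [IsFiltered J] (D : J ⥤ CommRingCat.{u}) (c : Cocone D)
  (hc : IsColimit c) [PreservesColimit D (forget CommRingCat.{u})]

include hc in
theorem ι_eq_zero_iff {j : J} (s : D.obj j) :
    (c.ι.app j).hom s = 0 ↔ ∃ (j' : J) (f : j ⟶ j'), (D.map f).hom s = 0 := by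
  constructor
  · intro h
    have h' : (c.ι.app j).hom s = (c.ι.app j).hom 0 := by rw [h, map_zero]
    obtain ⟨k, f, g, hfg⟩ := (Concrete.isColimit_rep_eq_iff_exists D hc s 0).1 h'
    refine ⟨k, f, ?_⟩
    have : (D.map f).hom s = (D.map g).hom 0 := hfg
    rw [this, map_zero]
  · rintro ⟨j', f, hf⟩
    rw [← Groth.Agent.Lib.Helper4.StrictHens.ι_comp_apply D c f s, hf, map_zero]

include hc in
theorem isReduced_iff :
    IsReduced (c.pt : Type u) ↔
      ∀ (j : J) (s : D.obj j), IsNilpotent s → ∃ (j' : J) (f : j ⟶ j'), (D.map f).hom s = 0 := by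
  constructor
  · intro h j s hs
    have h1 : IsNilpotent ((c.ι.app j).hom s) := hs.map _
    exact (ι_eq_zero_iff D c hc s).1 (h.eq_zero _ h1)
  · intro h
    refine ⟨fun x hx => ?_⟩
    obtain ⟨j, s, rfl⟩ := Concrete.isColimit_exists_rep D hc x
    obtain ⟨n, hn⟩ := hx
    have h1 : (c.ι.app j).hom (s ^ n) = 0 := by
      rw [map_pow]
      exact hn
    obtain ⟨j', f, hf⟩ := (ι_eq_zero_iff D c hc (s ^ n)).1 h1
    have h2 : IsNilpotent ((D.map f).hom s) := ⟨n, by rw [← map_pow]; exact hf⟩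
    obtain ⟨j'', g, hg⟩ := h j' _ h2
    refine (ι_eq_zero_iff D c hc s).2 ⟨j'', f ≫ g, ?_⟩
    rw [D.map_comp]
    exact hg

end Groth.Agent.Lib.Helper23.ColimRed
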