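import Mathlib
import Groth.Prelude.Def_AlgSpInf
import Groth.Agent.S10191
import Groth.Agent.S9934
import Groth.Agent.S9952
import Groth.Agent.S9953
import Groth.Agent.Lib.Helper36.OpenSubspace
import Groth.Agent.Lib.Helper36.OpenSubLift
import Groth.Agent.Lib.Helper36.OpenImmIso
import Groth.Agent.Lib.Helper36.Thickening
import Groth.Agent.Lib.Helper5.LargestOpenSp

/-!
# Deforming immersions along a cartesian morphism of thickenings (helper23)
-/

set_option autoImplicit false
universe u
open CategoryTheory CategoryTheory.Limits AlgebraicGeometry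
open AlgSp

namespace Groth.Agent.Lib.Helper23.DeformImm

open Groth.Agent.Lib.Helper36.OpenSubspace Groth.Agent.Lib.Helper36.Thickening
open Groth.Agent.Lib.Helper5.LargestOpenSp

variable {S : Scheme.{u}}

/-- Immersions deform along a cartesian morphism of thickenings, once closed immersions do. -/
theorem immersion_deform {X X' Y Y' : Space S} (i : X ⟶ X') (j : Y ⟶ Y') (f : X ⟶ Y)
    (f' : X' ⟶ Y') (hi : IsThickMor i.hom) (hj : IsThickMor j.hom) (w : i ≫ f' = f ≫ j)
    (hcart : IsPullback i.hom f.hom f'.hom j.hom)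
    (hft' : LocP @LocallyOfFiniteType f'.hom)
    (hCI : ∀ {U U' : Space S} (jU : U ⟶ U') (l : X ⟶ U) (l' : X' ⟶ U'), IsThickMor jU.hom →
      i ≫ l' = l ≫ jU → IsPullback i.hom l.hom l'.hom jU.hom →
      LocP @LocallyOfFiniteType l.hom → LocP @LocallyOfFiniteType l'.hom →
      RepWith @IsClosedImmersion l.hom → RepWith @IsClosedImmersion l'.hom)
    (hf : RepWith @IsImmersion f.hom) : RepWith @IsImmersion f'.hom := by
  have hw : i.hom ≫ f'.hom = f.hom ≫ j.hom := congrArg (fun φ => φ.hom) w
  obtain ⟨-, hlc⟩ := Groth.Agent.S10191.result f hf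
  set R : Set (Points Y.obj) := Set.range (Points.map f.hom) with hR
  have hhj : IsHomeomorph (Points.map j.hom) :=
    isHomeomorph_points_of_isThickMor Y'.property j.hom hj
  have hhi : IsHomeomorph (Points.map i.hom) :=
    isHomeomorph_points_of_isThickMor X'.property i.hom hi
  set W : Set (Points Y.obj) := coborder R with hW
  have hWo : IsOpen W := hlc.isOpen_coborder
  set W' : Set (Points Y'.obj) := Points.map j.hom '' W with hW'
  have hW'o : IsOpen W' := hhj.isOpenMap _ hWo
  -- the open subspaces
  let U : Space S := ⟨openSub Y.obj W, isAlgSpace_openSub Y.obj Y.property W hWo⟩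
  let U' : Space S := ⟨openSub Y'.obj W', isAlgSpace_openSub Y'.obj Y'.property W' hW'o⟩
  let u : U ⟶ Y := ObjectProperty.homMk (openSubι Y.obj W)
  let u' : U' ⟶ Y' := ObjectProperty.homMk (openSubι Y'.obj W')
  have hu : RepWith @IsOpenImmersion u.hom := repWith_isOpenImmersion_openSubι Y.obj W hWo
  have hu' : RepWith @IsOpenImmersion u'.hom := repWith_isOpenImmersion_openSubι Y'.obj W' hW'o
  have hru : Set.range (Points.map u.hom) = W := range_map_openSubι Y.obj W
  have hru' : Set.range (Points.map u'.hom) = W' := range_map_openSubι Y'.obj W'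
  haveI mu : Mono u.hom := mono_of_openImm u.hom hu
  haveI mu' : Mono u'.hom := mono_of_openImm u'.hom hu'
  -- jU
  obtain ⟨jU₀, hjU₀⟩ := exists_lift_openSub_of_range (u.hom ≫ j.hom) W' (by
    rintro _ ⟨z, rfl⟩
    rw [Points.map_comp]
    exact ⟨_, hru ▸ ⟨z, rfl⟩, rfl⟩)
  let jU : U ⟶ U' := ObjectProperty.homMk jU₀
  have hjU : jU.hom ≫ u'.hom = u.hom ≫ j.hom := hjU₀
  have sqU : IsPullback u.hom jU.hom j.hom u'.hom := by
    refine isPullback_of_openImm hu hjU.symm (fun y hy => ?_)
    rw [hru'] at hy
    obtain ⟨y₀, hy₀, hy₁⟩ := hy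
    rw [hru]
    rwa [← hhj.injective hy₁]
  have hjUth : IsThickMor jU.hom := isThickMor_of_isPullback sqU hj
  -- l and l'
  obtain ⟨l₀, hl₀⟩ := exists_lift_openSub_of_range f.hom W (subset_coborder)
  let l : X ⟶ U := ObjectProperty.homMk l₀
  have hl : l.hom ≫ u.hom = f.hom := hl₀
  obtain ⟨l₀', hl₀'⟩ := exists_lift_openSub_of_range f'.hom W' (by
    rintro _ ⟨x', rfl⟩
    obtain ⟨x, rfl⟩ := hhi.surjective x'
    rw [← Points.map_comp, hw, Points.map_comp]
    exact ⟨_, subset_coborder ⟨x, rfl⟩, rfl⟩)
  let l' : X' ⟶ U' := ObjectProperty.homMk l₀'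
  have hl' : l'.hom ≫ u'.hom = f'.hom := hl₀'
  have hwl : i.hom ≫ l'.hom = l.hom ≫ jU.hom := by
    rw [← cancel_mono u'.hom, Category.assoc, hl', hw, Category.assoc, hjU, ← Category.assoc, hl]
  have sqX : IsPullback i.hom l.hom l'.hom jU.hom := by
    have big : IsPullback i.hom (l.hom ≫ u.hom) (l'.hom ≫ u'.hom) j.hom := by
      rw [hl, hl']; exact hcart
    exact IsPullback.of_bot big hwl sqU.flip
  -- l is an immersion with closed image
  have hlimm : RepWith @IsImmersion l.hom :=
    (RepWith @IsImmersion).of_isPullback (isPullback_of_factor u.hom f.hom l.hom hl) hf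
  have hlrange : Set.range (Points.map l.hom) = Points.map u.hom ⁻¹' closure R := by
    apply Set.Subset.antisymm
    · rintro _ ⟨x, rfl⟩
      show Points.map u.hom (Points.map l.hom x) ∈ closure R
      rw [← Points.map_comp, hl]
      exact subset_closure ⟨x, rfl⟩
    · intro z hz
      have hzW : Points.map u.hom z ∈ W := hru ▸ ⟨z, rfl⟩
      have hzR : Points.map u.hom z ∈ R := by
        have := coborder_inter_closure (s := R)
        rw [← this]
        exact ⟨hzW, hz⟩
      obtain ⟨x, hx⟩ := hzR
      refine ⟨x, injective_map_of_mono u.hom ?_⟩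
      rw [← Points.map_comp, hl, hx]
  have hlclosed : IsClosed (Set.range (Points.map l.hom)) := by
    rw [hlrange]
    exact isClosed_closure.preimage (Points.continuous_map u.hom)
  have hlCI : RepWith @IsClosedImmersion l.hom := (Groth.Agent.S9934.result l hlimm).2 hlclosed
  have hlft : LocP @LocallyOfFiniteType l.hom := Groth.Agent.S9953.result l hlimm
  have hfac' : l' ≫ u' = f' := ObjectProperty.hom_ext _ hl'
  have hlft' : LocP @LocallyOfFiniteType l'.hom :=
    Groth.Agent.S9952.result l' u' (by rw [hfac']; exact hft')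
  have hl'CI : RepWith @IsClosedImmersion l'.hom :=
    hCI jU l l' hjUth (ObjectProperty.hom_ext _ hwl) sqX hlft hlft' hlCI
  have h1 : RepWith @IsImmersion l'.hom :=
    MorphismProperty.relative_monotone
      (P := MorphismProperty.inverseImage (@IsClosedImmersion : MorphismProperty Scheme.{u})
        (Over.forget S))
      (P' := MorphismProperty.inverseImage (@IsImmersion : MorphismProperty Scheme.{u})
        (Over.forget S))
      (fun A B (g : A ⟶ B) (hh : IsClosedImmersion g.left) =>
        (inferInstance : IsImmersion g.left)) _ hl'CI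
  have h2 : RepWith @IsImmersion u'.hom :=
    MorphismProperty.relative_monotone
      (P := MorphismProperty.inverseImage (@IsOpenImmersion : MorphismProperty Scheme.{u})
        (Over.forget S))
      (P' := MorphismProperty.inverseImage (@IsImmersion : MorphismProperty Scheme.{u})
        (Over.forget S))
      (fun A B (g : A ⟶ B) (hh : IsOpenImmersion g.left) =>
        (inferInstance : IsImmersion g.left)) _ hu'
  have := (RepWith (S := S) @IsImmersion).comp_mem _ _ h1 h2
  rwa [hl'] at this

end Groth.Agent.Lib.Helper23.DeformImm
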