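import Groth.Agent.Lib.Helper23.SLQLoc
import Groth.Agent.Lib.Helper23.SLQGlue
import Groth.Agent.Lib.Helper5.LocalRep

/-!
# Separated locally quasi-finite algebraic spaces over schemes are schemes (helper23)

`isRepresentable_of_sep_lqf`: if `f : X ⟶ h_T` is separated and locally quasi-finite from an
algebraic space to a scheme, then `X` is a scheme (Stacks 0418).
-/

set_option autoImplicit false
universe u
open CategoryTheory CategoryTheory.Limits AlgebraicGeometry Opposite

namespace Groth.Agent.Lib.Helper23.SLQ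

open AlgSp Groth.Agent.Lib.Helper36.OpenSubspace Groth.Agent.Lib.Helper37.AlgSpPoints
  Groth.Agent.Lib.Helper23.AlgSpMor Groth.Agent.Lib.Helper36.AlgSpCharts

variable {S : Scheme.{u}}

theorem repWith_etale_of_isOpenImmersion {X Y : Sp S} {g : X ⟶ Y}
    (hg : RepWith @IsOpenImmersion g) : RepWith @Etale g :=
  MorphismProperty.relative_monotone (fun _ _ m hm => by
    have : IsOpenImmersion ((Over.forget S).map m) := hm
    exact (inferInstance : Etale ((Over.forget S).map m))) _ hg

/-- Every point of a separated locally quasi-finite space over an affine scheme has an open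
neighbourhood which is a scheme. -/
theorem exists_open_nbhd_rep {T : Over S} [IsAffine T.left] {X : Sp S} (hX : IsAlgSpace X)
    (f : X ⟶ (yon S).obj T) (hsep : IsSeparatedMor f)
    (hqf : LocP (@LocallyQuasiFinite ⊓ @LocallyOfFiniteType) f) {U : Over S}
    (a : (yon S).obj U ⟶ X) (ha : RepWith @Etale a) (u : ↥U.left) :
    ∃ W : Set (Points X), IsOpen W ∧ Points.ofPt a u ∈ W ∧
      (openSub X W).obj.IsRepresentable := by
  -- an affine open neighbourhood of `u`
  obtain ⟨_, ⟨O, hO, rfl⟩, huO, -⟩ := U.left.isBasis_affineOpens.exists_subset_of_mem_open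
    (Set.mem_univ u) isOpen_univ
  haveI : IsAffine (overOpens U O).left := hO
  have ha' : RepWith @Etale ((yon S).map (overOpensι U O) ≫ a) := by
    refine repWith_etale_comp ((repWith_yon_map_iff _ _).2 ?_) ha
    change Etale (Scheme.Opens.ι (X := U.left) O)
    infer_instance
  obtain ⟨T', π, hT', hπ, A, hA, hA', hrepA, y, hyA, hy⟩ :=
    exists_local_data f hsep hqf ((yon S).map (overOpensι U O) ≫ a) ha' (⟨u, huO⟩ : ↥O)
  haveI := hT'
  haveI := hπ
  have hyu : Points.map (pullback.fst f ((yon S).map π)) y = Points.ofPt a u := by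
    rw [hy]
    exact ofPt_map_comp (overOpensι U O) a (⟨u, huO⟩ : ↥O)
  have sq' : IsPullback (pullback.fst f ((yon S).map π)) (pullback.snd f ((yon S).map π)) f
      ((yon S).map π) := IsPullback.of_hasPullback _ _
  have hp : RepWith @Etale (pullback.fst f ((yon S).map π)) :=
    repWith_etale_of_isPullback sq'.flip ((repWith_yon_map_iff _ _).2 hπ)
  have hW : IsOpen (Points.map (pullback.fst f ((yon S).map π)) '' A) :=
    isOpenMap_points_of_repWith_etale _ hp A hA
  refine ⟨Points.map (pullback.fst f ((yon S).map π)) '' A, hW, ⟨y, hyA, hyu⟩, ?_⟩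
  -- the open subspace and its base change
  obtain ⟨ι₀, hι₀def⟩ : ∃ m, m = openSubι X (Points.map (pullback.fst f ((yon S).map π)) '' A) :=
    ⟨_, rfl⟩
  haveI : Mono ι₀ := by rw [hι₀def]; infer_instance
  have hι₀o : RepWith @IsOpenImmersion ι₀ := by
    rw [hι₀def]; exact repWith_isOpenImmersion_openSubι X _ hW
  have hι₀r : Set.range (Points.map ι₀) = Points.map (pullback.fst f ((yon S).map π)) '' A := by
    rw [hι₀def]; exact range_map_openSubι X _
  have hX₀ : IsAlgSpace (openSub X (Points.map (pullback.fst f ((yon S).map π)) '' A)) :=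
    isAlgSpace_openSub X hX _ hW
  have hsep₀ : IsSeparatedMor (ι₀ ≫ f) :=
    isSeparatedMor_comp _ _ (Groth.Agent.Lib.Helper17.DM.isSeparatedMor_of_mono ι₀) hsep
  have hqf₀ : LocP (@LocallyQuasiFinite ⊓ @LocallyOfFiniteType) (ι₀ ≫ f) := by
    intro U' V' a' b' k' ha' hb' comm
    exact hqf (a' ≫ ι₀) b' k' (repWith_etale_comp ha' (repWith_etale_of_isOpenImmersion hι₀o)) hb'
      (by rw [Category.assoc]; exact comm)
  have sq₀ : IsPullback (pullback.fst (ι₀ ≫ f) ((yon S).map π))
      (pullback.snd (ι₀ ≫ f) ((yon S).map π)) (ι₀ ≫ f) ((yon S).map π) :=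
    IsPullback.of_hasPullback _ _
  obtain ⟨k, hk1, hk2⟩ : ∃ k : pullback (ι₀ ≫ f) ((yon S).map π) ⟶ pullback f ((yon S).map π),
      k ≫ pullback.fst f ((yon S).map π) = pullback.fst (ι₀ ≫ f) ((yon S).map π) ≫ ι₀ ∧
      k ≫ pullback.snd f ((yon S).map π) = pullback.snd (ι₀ ≫ f) ((yon S).map π) :=
    ⟨pullback.lift (pullback.fst (ι₀ ≫ f) ((yon S).map π) ≫ ι₀)
      (pullback.snd (ι₀ ≫ f) ((yon S).map π)) (by rw [Category.assoc]; exact pullback.condition),
      pullback.lift_fst _ _ _, pullback.lift_snd _ _ _⟩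
  have sqk : IsPullback (pullback.fst (ι₀ ≫ f) ((yon S).map π)) k ι₀
      (pullback.fst f ((yon S).map π)) :=
    IsPullback.of_bot (by rw [hk2]; exact sq₀) hk1.symm sq'
  have hko : RepWith @IsOpenImmersion k := (RepWith @IsOpenImmersion).of_isPullback sqk hι₀o
  have hA₀ : IsOpen (Points.map k ⁻¹' A) := hA.preimage (Points.continuous_map k)
  have hA₀' : IsOpen (Points.map k ⁻¹' A)ᶜ := by
    rw [← Set.preimage_compl]; exact hA'.preimage (Points.continuous_map k)
  have hrep₀ := isRepresentable_preimage k hko.rep A hA hrepA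
  have hsurj₀ : ∀ x₀ : Points (openSub X (Points.map (pullback.fst f ((yon S).map π)) '' A)),
      ∃ a₀ ∈ Points.map k ⁻¹' A, Points.map (pullback.fst (ι₀ ≫ f) ((yon S).map π)) a₀ = x₀ := by
    intro x₀
    have hx₀ : Points.map ι₀ x₀ ∈ Points.map (pullback.fst f ((yon S).map π)) '' A :=
      hι₀r.le ⟨_, rfl⟩
    obtain ⟨a₁, ha₁, ha₁x⟩ := hx₀
    obtain ⟨q, hq1, hq2⟩ := points_exists_of_isPullback sqk x₀ a₁ ha₁x.symm
    exact ⟨q, by change Points.map k q ∈ A; rw [hq2]; exact ha₁, hq1⟩
  haveI : CompactSpace ↥T'.left := inferInstance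
  obtain ⟨N, hN⟩ := exists_bddFib_of_etale π.left
  haveI : IsSeparated π.left := inferInstance
  exact isRepresentable_of_bddFib N π hN hX₀ (ι₀ ≫ f) hsep₀ hqf₀ sq₀ (Points.map k ⁻¹' A) hA₀ hA₀'
    hrep₀ hsurj₀

/-- **Separated locally quasi-finite over an affine scheme implies scheme.** -/
theorem isRepresentable_of_sep_lqf_affine {T : Over S} [IsAffine T.left] {X : Sp S}
    (hX : IsAlgSpace X) (f : X ⟶ (yon S).obj T) (hsep : IsSeparatedMor f)
    (hqf : LocP (@LocallyQuasiFinite ⊓ @LocallyOfFiniteType) f) : X.obj.IsRepresentable := by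
  obtain ⟨U, a, hae, has⟩ := hX.atlas
  choose W hW hmem hrep using fun u : ↥U.left => exists_open_nbhd_rep hX f hsep hqf a hae u
  refine Groth.Agent.Lib.Helper23.SLQGlue.isRepresentable_of_local W hW hrep fun x => ?_
  obtain ⟨u, rfl⟩ := ofPt_surjective a has x
  exact ⟨u, hmem u⟩


open Groth.Agent.Lib.Helper46.LocPChart Groth.Agent.Lib.Helper30.EtLocalInst
  Groth.Agent.Lib.Helper5.LocalRep in
/-- **Separated locally quasi-finite over a scheme implies scheme** (Stacks 0418). -/
theorem isRepresentable_of_sep_lqf {T : Over S} {X : Sp S}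
    (hX : IsAlgSpace X) (f : X ⟶ (yon S).obj T) (hsep : IsSeparatedMor f)
    (hqf : LocP (@LocallyQuasiFinite ⊓ @LocallyOfFiniteType) f) : X.obj.IsRepresentable := by
  have key : ∀ W : T.left.affineOpens, Nonempty (RepData f W.1) := by
    intro W
    haveI : IsAffine (overOpens T W.1).left := W.2
    have sq : IsPullback (pullback.fst f ((yon S).map (overOpensι T W.1)))
        (pullback.snd f ((yon S).map (overOpensι T W.1))) f ((yon S).map (overOpensι T W.1)) :=
      IsPullback.of_hasPullback _ _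
    have hXW : IsAlgSpace (pullback f ((yon S).map (overOpensι T W.1))) :=
      isAlgSpace_of_isPullback hX (IsAlgSpace.yon_obj _) (IsAlgSpace.yon_obj T).diag sq
    have hsepW := isSeparatedMor_of_isPullback sq hsep
    have hqfW := locP_of_isPullback etLocal_lqf hX (IsAlgSpace.yon_obj T) hXW
      (IsAlgSpace.yon_obj _) sq hqf
    obtain ⟨V, ⟨e⟩⟩ := exists_iso_of_isRepresentable
      (isRepresentable_of_sep_lqf_affine hXW _ hsepW hqfW)
    obtain ⟨q, hq⟩ := (yon S).map_surjective
      (e.hom ≫ pullback.snd f ((yon S).map (overOpensι T W.1)))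
    refine ⟨⟨V, q, e.hom ≫ pullback.fst f ((yon S).map (overOpensι T W.1)), ?_⟩⟩
    rw [hq]
    exact IsPullback.of_iso sq e.symm (Iso.refl _) (Iso.refl _) (Iso.refl _) (by simp) (by simp)
      (by simp) (by simp)
  obtain ⟨V, q, e, -, -⟩ := exists_rep_of_local (fun W => (key W).some)
  exact isRepresentable_of_iso e

end Groth.Agent.Lib.Helper23.SLQ
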