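import Mathlib
import Groth.Prelude.Def_AlgSpInf
import Groth.Prelude.Def_AlgSpMor5
import Groth.Agent.S10261
import Groth.Agent.S10265
import Groth.Agent.S10613
import Groth.Agent.S10587
import Groth.Agent.Lib.Helper46.OpenImmFpqc
import Groth.Agent.Lib.Helper46.RepIso
import Groth.Agent.Lib.Helper46.LargestOpen
import Groth.Agent.Lib.Helper5.LargestOpenSp
import Groth.Agent.Lib.Helper23.AlgSpQc2
import Groth.Agent.Lib.Helper23.AlgSpMor4
import Groth.Agent.Lib.Helper36.AlgSpCharts
import Groth.Agent.Lib.Helper36.Thickening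

/-!
# Deforming isomorphisms, open immersions, monomorphisms, degree (helper23)

Generic parts of "f is an iso / open immersion / mono / finite locally free of degree d iff f' is"
for a morphism of thickenings.
-/

set_option autoImplicit false
universe u
open CategoryTheory CategoryTheory.Limits AlgebraicGeometry
open AlgSp

namespace Groth.Agent.Lib.Helper23.DeformIso

variable {S : Scheme.{u}}

/-- an open immersion of algebraic spaces is universally injective -/
theorem isUnivInjectiveMor_of_openImm {X Y : Space S} (f : X ⟶ Y)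
    (hf : RepWith @IsOpenImmersion f.hom) : IsUnivInjectiveMor f.hom := by
  have hm : Mono f.hom := Groth.Agent.Lib.Helper5.LargestOpenSp.mono_of_openImm f.hom hf
  have het : IsEtaleMor f.hom :=
    Groth.Agent.Lib.Helper46.LargestOpen.isEtaleMor_of_isOpenImmersion f.hom hf
  have hunr := (Groth.Agent.S10265.result f het).2.2.2.2.2
  exact (((Groth.Agent.S10613.result f).1).1 ⟨hunr, hm⟩).2

/-- Deforming isomorphisms along a morphism of thickenings, given that étaleness deforms. -/
theorem isIso_deform {X X' Y Y' : Space S} (iX : X ⟶ X') (iY : Y ⟶ Y') (f : X ⟶ Y) (f' : X' ⟶ Y')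
    (hiX : IsThickMor iX.hom) (hiY : IsThickMor iY.hom) (w : iX ≫ f' = f ≫ iY)
    (hEt : IsEtaleMor f.hom → IsEtaleMor f'.hom) (h : IsIso f.hom) : IsIso f'.hom := by
  obtain ⟨hsurj, -, -, hUI, -⟩ := Groth.Agent.S10587.result iX iY f f' hiX hiY w
  have hOI : RepWith @IsOpenImmersion f.hom :=
    Groth.Agent.Lib.Helper46.RepIso.repWith_of_isIso _ f.hom
  have het := hEt (Groth.Agent.Lib.Helper46.LargestOpen.isEtaleMor_of_isOpenImmersion f.hom hOI)
  have hui : IsUnivInjectiveMor f.hom := isUnivInjectiveMor_of_openImm f hOI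
  have hOI' := Groth.Agent.S10261.result f' het (hUI.1 hui)
  exact Groth.Agent.Lib.Helper46.OpenImmFpqc.isIso_of_isOpenImmersion_of_surjective _ hOI'
    (hsurj.1 (Groth.Agent.Lib.Helper23.AlgSpMor.isSurjectiveMor_of_isIso _))

/-- Deforming open immersions along a morphism of thickenings, given that étaleness deforms. -/
theorem openImm_deform {X X' Y Y' : Space S} (iX : X ⟶ X') (iY : Y ⟶ Y') (f : X ⟶ Y) (f' : X' ⟶ Y')
    (hiX : IsThickMor iX.hom) (hiY : IsThickMor iY.hom) (w : iX ≫ f' = f ≫ iY)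
    (hEt : IsEtaleMor f.hom → IsEtaleMor f'.hom) (h : RepWith @IsOpenImmersion f.hom) :
    RepWith @IsOpenImmersion f'.hom := by
  obtain ⟨-, -, -, hUI, -⟩ := Groth.Agent.S10587.result iX iY f f' hiX hiY w
  exact Groth.Agent.S10261.result f'
    (hEt (Groth.Agent.Lib.Helper46.LargestOpen.isEtaleMor_of_isOpenImmersion f.hom h))
    (hUI.1 (isUnivInjectiveMor_of_openImm f h))



variable {S : Scheme.{u}}

/-- Sheaf-level diagonal configuration of a cartesian morphism of base changes. -/
theorem diag_config_sp {X X' Y Y' B B' : Sp S} (iX : X ⟶ X') (iY : Y ⟶ Y') (iB : B ⟶ B')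
    (f : X ⟶ Y) (f' : X' ⟶ Y') (h : X ⟶ B) (h' : X' ⟶ B')
    (hcX : IsPullback iX h h' iB) (hXY : IsPullback iX f f' iY) :
    ∃ (iP : pullback f f ⟶ pullback f' f'),
      IsPullback iP (pullback.fst f f ≫ h) (pullback.fst f' f' ≫ h') iB ∧
      iX ≫ pullback.diagonal f' = pullback.diagonal f ≫ iP := by
  have hw := hXY.w
  have hc : (pullback.fst f f ≫ iX) ≫ f' = (pullback.snd f f ≫ iX) ≫ f' := by
    rw [Category.assoc, Category.assoc, hw, ← Category.assoc, ← Category.assoc, pullback.condition]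
  refine ⟨pullback.lift (pullback.fst f f ≫ iX) (pullback.snd f f ≫ iX) hc, ?_, ?_⟩
  · set iP := pullback.lift (pullback.fst f f ≫ iX) (pullback.snd f f ≫ iX) hc with hiP
    have sqA : IsPullback (pullback.snd f f) (pullback.fst f f) f f :=
      (IsPullback.of_hasPullback f f).flip
    have big : IsPullback (pullback.snd f f ≫ iX) (pullback.fst f f) f' (f ≫ iY) :=
      sqA.paste_horiz hXY
    have sqA' : IsPullback (pullback.snd f' f') (pullback.fst f' f') f' f' :=
      (IsPullback.of_hasPullback f' f').flip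
    have big' : IsPullback (iP ≫ pullback.snd f' f') (pullback.fst f f) f' (iX ≫ f') := by
      rw [hiP, pullback.lift_snd, hw]; exact big
    have left : IsPullback iP (pullback.fst f f) (pullback.fst f' f') iX :=
      IsPullback.of_right big' (by rw [hiP, pullback.lift_fst]) sqA'
    exact left.paste_vert hcX
  · apply pullback.hom_ext
    · rw [Category.assoc, pullback.diagonal_fst, Category.comp_id, Category.assoc, pullback.lift_fst,
        ← Category.assoc, pullback.diagonal_fst, Category.id_comp]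
    · rw [Category.assoc, pullback.diagonal_snd, Category.comp_id, Category.assoc, pullback.lift_snd,
        ← Category.assoc, pullback.diagonal_snd, Category.id_comp]

/-- Space-level diagonal configuration. -/
theorem exists_diag_config {X X' Y Y' B B' : Space S} (iX : X ⟶ X') (iY : Y ⟶ Y') (iB : B ⟶ B')
    (f : X ⟶ Y) (f' : X' ⟶ Y') (g : Y ⟶ B) (g' : Y' ⟶ B')
    (hcX : IsPullback iX.hom (f ≫ g).hom (f' ≫ g').hom iB.hom)
    (hcY : IsPullback iY.hom g.hom g'.hom iB.hom) (w : iX ≫ f' = f ≫ iY) :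
    ∃ (P P' : Space S) (iP : P ⟶ P') (Δ : X ⟶ P) (Δ' : X' ⟶ P') (p : P ⟶ X) (p' q' : P' ⟶ X'),
      IsPullback iP.hom (p ≫ f ≫ g).hom (p' ≫ f' ≫ g').hom iB.hom ∧
      iX ≫ Δ' = Δ ≫ iP ∧ Δ ≫ p = 𝟙 X ∧ Δ' ≫ p' = 𝟙 X' ∧
      (IsIso Δ.hom ↔ Mono f.hom) ∧ (IsIso Δ'.hom ↔ Mono f'.hom) ∧
      IsPullback p'.hom q'.hom f'.hom f'.hom := by
  have hw : iX.hom ≫ f'.hom = f.hom ≫ iY.hom := congrArg (fun φ => φ.hom) w
  have hXY : IsPullback iX.hom f.hom f'.hom iY.hom := IsPullback.of_bot hcX hw hcY
  obtain ⟨iP, hiP, hΔ⟩ :=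
    diag_config_sp iX.hom iY.hom iB.hom f.hom f'.hom (f ≫ g).hom (f' ≫ g').hom hcX hXY
  have hP : IsAlgSpace (pullback f.hom f.hom) :=
    Groth.Agent.Lib.Helper23.AlgSpMor.isAlgSpace_of_isPullback X.property X.property
      Y.property.diag (IsPullback.of_hasPullback _ _)
  have hP' : IsAlgSpace (pullback f'.hom f'.hom) :=
    Groth.Agent.Lib.Helper23.AlgSpMor.isAlgSpace_of_isPullback X'.property X'.property
      Y'.property.diag (IsPullback.of_hasPullback _ _)
  refine ⟨⟨_, hP⟩, ⟨_, hP'⟩, ObjectProperty.homMk iP,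
    ObjectProperty.homMk (pullback.diagonal f.hom), ObjectProperty.homMk (pullback.diagonal f'.hom),
    ObjectProperty.homMk (pullback.fst f.hom f.hom), ObjectProperty.homMk (pullback.fst f'.hom f'.hom),
    ObjectProperty.homMk (pullback.snd f'.hom f'.hom), ?_, ?_, ?_, ?_, ?_, ?_, ?_⟩
  · exact hiP
  · exact ObjectProperty.hom_ext _ hΔ
  · exact ObjectProperty.hom_ext _ (pullback.diagonal_fst f.hom)
  · exact ObjectProperty.hom_ext _ (pullback.diagonal_fst f'.hom)
  · exact pullback.isIso_diagonal_iff f.hom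
  · exact pullback.isIso_diagonal_iff f'.hom
  · exact IsPullback.of_hasPullback f'.hom f'.hom

/-- Pull back a represented square along a cartesian morphism of thickenings. -/
theorem exists_pullback_square {X X' Y Y' : Sp S} (i : X ⟶ X') (j : Y ⟶ Y') (f : X ⟶ Y)
    (f' : X' ⟶ Y') (hi : IsThickMor i) (hj : IsThickMor j) (hcart : IsPullback i f f' j)
    {U' V' : Over S} (a' : (yon S).obj U' ⟶ X') (b' : (yon S).obj V' ⟶ Y') (h' : U' ⟶ V')
    (w' : a' ≫ f' = (yon S).map h' ≫ b') :
    ∃ (U V : Over S) (a : (yon S).obj U ⟶ X) (b : (yon S).obj V ⟶ Y) (h : U ⟶ V) (iU : U ⟶ U')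
      (jV : V ⟶ V'),
      a ≫ f = (yon S).map h ≫ b ∧
      IsPullback a ((yon S).map iU) i a' ∧ IsPullback b ((yon S).map jV) j b' ∧
      IsPullback ((yon S).map h) ((yon S).map iU) ((yon S).map jV) ((yon S).map h') ∧
      IsPullback h.left iU.left jV.left h'.left ∧ thick iU.left ∧ thick jV.left := by
  have sqU := hi.rep.isPullback a'
  have sqV := hj.rep.isPullback b'
  set a := hi.rep.fst a'
  set iU := hi.rep.snd a'
  set b := hj.rep.fst b'
  set jV := hj.rep.snd b'
  have hw : (a ≫ f) ≫ j = ((yon S).map iU ≫ (yon S).map h') ≫ b' := by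
    rw [Category.assoc, ← hcart.w, ← Category.assoc, sqU.w, Category.assoc, w', Category.assoc]
  obtain ⟨h, hh⟩ := (yon S).map_surjective (sqV.lift (a ≫ f) ((yon S).map iU ≫ (yon S).map h') hw)
  have h1 : (yon S).map h ≫ b = a ≫ f := by rw [hh, sqV.lift_fst]
  have h2 : (yon S).map h ≫ (yon S).map jV = (yon S).map iU ≫ (yon S).map h' := by
    rw [hh, sqV.lift_snd]
  have big : IsPullback (a ≫ f) ((yon S).map iU) j (a' ≫ f') := sqU.paste_horiz hcart.flip
  rw [← h1, w'] at big
  have left : IsPullback ((yon S).map h) ((yon S).map iU) ((yon S).map jV) ((yon S).map h') :=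
    IsPullback.of_right big h2 sqV
  exact ⟨_, _, a, b, h, iU, jV, h1.symm, sqU, sqV, left,
    Groth.Agent.Lib.Helper36.AlgSpCharts.isPullback_left_of_yon left,
    hi.property_snd a', hj.property_snd b'⟩

/-- The degree of a finite locally free morphism deforms along a cartesian morphism of
thickenings. -/
theorem finLocFreeOfDeg_deform {X X' Y Y' : Sp S} (i : X ⟶ X') (j : Y ⟶ Y') (f : X ⟶ Y)
    (f' : X' ⟶ Y') (hi : IsThickMor i) (hj : IsThickMor j) (hcart : IsPullback i f f' j) (d : ℕ)
    (hFLF : IsFinLocFreeMor f') (hdeg : IsFinLocFreeOfDegMor d f) :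
    IsFinLocFreeOfDegMor d f' := by
  refine ⟨hFLF.rep, fun V' U' g' fst' snd' sq' => ?_⟩
  have hflf : finLocFree snd'.left := hFLF.property g' fst' snd' sq'
  refine ⟨hflf, fun y => ?_⟩
  obtain ⟨U, V, a, b, h, iU, jV, hcomm, sqa, sqb, sqk, sqk', -, hthV⟩ :=
    exists_pullback_square i j f f' hi hj hcart fst' g' snd' sq'.w
  -- the pulled back square is a represented pullback of `f`
  have big : IsPullback a ((yon S).map iU ≫ (yon S).map snd') (i ≫ f') g' := sqa.paste_vert sq'
  rw [← sqk.w, hcart.w] at big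
  have top : IsPullback a ((yon S).map h) f b := IsPullback.of_bot big hcomm sqb
  have hd : finLocFreeOfDeg d h.left := hdeg.property b a h top
  obtain ⟨t, rfl⟩ := hthV.2.surj y
  obtain ⟨hfin, hfl, -⟩ := hflf
  have := hfin; have := hfl
  have e := Scheme.Hom.finrank_of_isPullback iU.left h.left snd'.left jV.left sqk'.flip t
  exact e.symm.trans (hd.2 t)

end Groth.Agent.Lib.Helper23.DeformIso
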