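import Groth.Agent.S9884
import Groth.Agent.Lib.Helper5.AtlasDiag
import Groth.Agent.Lib.Helper30.AlgSpAtlas
import Groth.Agent.Lib.Helper79.DiagPullback

/-!
# Properties of the diagonal of a sheaf from a chart with representable kernel pair (helper23)

For an epimorphism `q : h_U ⟶ F` with kernel pair `h_R` (`s, t : R ⇉ U`), the diagonal of `F` has a
property `P` (fppf local on the target) in the representable sense iff `(t, s) : R ⟶ U × U` has it.
-/

set_option autoImplicit false
universe u
open CategoryTheory CategoryTheory.Limits AlgebraicGeometry Opposite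

namespace Groth.Agent.Lib.Helper23.DiagKernelPair

open AlgSp Groth.Agent.Lib.Helper5.AtlasDiag

variable {S : Scheme.{u}}

theorem epi_prod_map {F G : Sp S} (q : F ⟶ G) [Epi q] : Epi (prod.map q q) := by
  haveI e1 : Epi (prod.map q (𝟙 F)) :=
    Groth.Agent.Lib.Helper30.AlgSpAtlas.epi_prod_map_id _ _
  haveI e2 : Epi (prod.map (𝟙 G) q) := by
    have : prod.map (𝟙 G) q =
        (prod.braiding _ _).hom ≫ prod.map q (𝟙 _) ≫ (prod.braiding _ _).hom := by
      apply Limits.prod.hom_ext
      · simp only [prod.braiding_hom, Category.assoc, prod.lift_fst, prod.lift_snd, prod.map_fst,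
          prod.map_snd, prod.lift_fst_assoc, prod.lift_snd_assoc, Category.comp_id,
          prod.map_fst_assoc, prod.map_snd_assoc]
      · simp only [prod.braiding_hom, Category.assoc, prod.lift_fst, prod.lift_snd, prod.map_fst,
          prod.map_snd, prod.lift_fst_assoc, prod.lift_snd_assoc, Category.comp_id,
          prod.map_fst_assoc, prod.map_snd_assoc]
    rw [this]
    haveI := Groth.Agent.Lib.Helper30.AlgSpAtlas.epi_prod_map_id q G
    infer_instance
  have : prod.map q q = prod.map q (𝟙 _) ≫ prod.map (𝟙 _) q := by
    rw [prod.map_map, Category.id_comp, Category.comp_id]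
  rw [this]
  infer_instance

variable {F : Sp S} {U R : Over S} (q : (yon S).obj U ⟶ F) (s t : R ⟶ U)
  (hk : IsPullback ((yon S).map t) ((yon S).map s) q q)

include hk in
/-- `h_R ⟶ h_U × h_U` is the base change of the diagonal of `F` along `q × q`. -/
theorem isPullback_diag :
    IsPullback ((yon S).map t ≫ q) (prod.lift ((yon S).map t) ((yon S).map s))
      (Limits.diag F) (prod.map q q) := by
  have sq0 := Groth.Agent.Lib.Helper79.isPullback_pullbackToProd q
  refine IsPullback.of_iso sq0 hk.isoPullback.symm (Iso.refl _) (Iso.refl _) (Iso.refl _)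
    ?_ ?_ ?_ ?_
  · simp
  · apply Limits.prod.hom_ext <;> simp
  · simp
  · simp

theorem prod_lift_eq : prod.lift ((yon S).map t) ((yon S).map s) =
    (yon S).map (jj s t) ≫ prodComparison (yon S) U U := by
  apply Limits.prod.hom_ext
  · rw [prod.lift_fst, Category.assoc, prodComparison_fst, ← Functor.map_comp, prod.lift_fst]
  · rw [prod.lift_snd, Category.assoc, prodComparison_snd, ← Functor.map_comp, prod.lift_snd]

include hk in
/-- `h_R ⟶ h_{U × U}` is the base change of the diagonal of `F`. -/
theorem isPullback_diag' :
    IsPullback ((yon S).map t ≫ q) ((yon S).map (jj s t))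
      (Limits.diag F) (prodComparison (yon S) U U ≫ prod.map q q) := by
  have sq := isPullback_diag q s t hk
  rw [prod_lift_eq] at sq
  refine IsPullback.of_iso sq (Iso.refl _) (Iso.refl _) (asIso (prodComparison (yon S) U U)).symm
    (Iso.refl _) ?_ ?_ ?_ ?_
  · simp
  · simp
  · simp
  · simp

include hk in
/-- The diagonal of `F` has `P` as soon as `(t, s) : R ⟶ U × U` has it. -/
theorem repWith_diag_of_kernelPair [Epi q] (hrep : Representable (Limits.diag F))
    (P : MorphismProperty Scheme.{u}) [P.IsStableUnderBaseChange]
    [P.IsLocalAtTarget Scheme.fppfPrecoverage] (hP : P (jj s t).left) :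
    RepWith P (Limits.diag F) := by
  have hPiso : P.RespectsIso := MorphismProperty.IsStableUnderBaseChange.respectsIso
  haveI := epi_prod_map q
  haveI : Sheaf.IsLocallySurjective (prod.map q q) :=
    (Sheaf.isLocallySurjective_iff_epi _).mpr inferInstance
  refine Groth.Agent.S9884.result S _ _ _ _ hrep _ _ _ _ (isPullback_diag q s t hk) P ?_
  rw [prod_lift_eq]
  exact MorphismProperty.RespectsIso.postcomp _ _ _ ((repWith_yon_map_iff P _).2 hP)

include hk in
/-- Conversely `(t, s) : R ⟶ U × U` has `P` when the diagonal of `F` has it. -/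
theorem prop_jj_of_repWith_diag (P : MorphismProperty Scheme.{u})
    (h : RepWith P (Limits.diag F)) : P (jj s t).left :=
  h.property _ _ _ (isPullback_diag' q s t hk)

end Groth.Agent.Lib.Helper23.DiagKernelPair
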