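import Groth.Prelude.Def_DiffOp
import Mathlib.RingTheory.TensorProduct.Basic
import Mathlib.Algebra.Algebra.Subalgebra.Basic
import Mathlib.RingTheory.Adjoin.Basic

set_option autoImplicit false

namespace Groth.Agent.Lib.Helper23

open Diff16

universe u v

section

variable {A B : Type u} [CommRing A] [CommRing B] [Algebra A B]
variable {M N P : Type v} [AddCommGroup M] [Module A M] [Module B M] [IsScalarTower A B M]
  [AddCommGroup N] [Module A N] [Module B N] [IsScalarTower A B N]
  [AddCommGroup P] [Module A P] [Module B P] [IsScalarTower A B P]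

lemma commutator_apply (D : M →ₗ[A] N) (b : B) (m : M) :
    commutator A B M N D b m = D (b • m) - b • D m := rfl

lemma isDiffOpLE_zero_iff (D : M →ₗ[A] N) :
    IsDiffOpLE A B M N 0 D ↔ ∀ (b : B) (m : M), D (b • m) = b • D m := Iff.rfl

lemma isDiffOpLE_succ_iff (n : ℕ) (D : M →ₗ[A] N) :
    IsDiffOpLE A B M N (n + 1) D ↔ ∀ b : B, IsDiffOpLE A B M N n (commutator A B M N D b) :=
  Iff.rfl

lemma commutator_zero (b : B) : commutator A B M N (0 : M →ₗ[A] N) b = 0 := by
  ext m; simp [commutator_apply]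

lemma commutator_add (D D' : M →ₗ[A] N) (b : B) :
    commutator A B M N (D + D') b = commutator A B M N D b + commutator A B M N D' b := by
  ext m; simp only [commutator_apply, LinearMap.add_apply, smul_add]; abel

lemma commutator_neg (D : M →ₗ[A] N) (b : B) :
    commutator A B M N (-D) b = - commutator A B M N D b := by
  ext m; simp only [commutator_apply, LinearMap.neg_apply, smul_neg]; abel

lemma commutator_eq_zero_of_isDiffOpLE_zero (D : M →ₗ[A] N) (h : IsDiffOpLE A B M N 0 D) (b : B) :
    commutator A B M N D b = 0 := by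
  ext m; simp [commutator_apply, (isDiffOpLE_zero_iff D).mp h b m]

lemma isDiffOpLE_zero (n : ℕ) : IsDiffOpLE A B M N n (0 : M →ₗ[A] N) := by
  induction n with
  | zero => intro b m; simp
  | succ n ih => intro b; rw [commutator_zero]; exact ih

lemma isDiffOpLE_add (n : ℕ) : ∀ (D D' : M →ₗ[A] N), IsDiffOpLE A B M N n D →
    IsDiffOpLE A B M N n D' → IsDiffOpLE A B M N n (D + D') := by
  induction n with
  | zero =>
    intro D D' h h' b m
    simp only [LinearMap.add_apply, smul_add]
    rw [(isDiffOpLE_zero_iff D).mp h b m, (isDiffOpLE_zero_iff D').mp h' b m]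
  | succ n ih =>
    intro D D' h h' b
    rw [commutator_add]
    exact ih _ _ (h b) (h' b)

lemma isDiffOpLE_neg (n : ℕ) : ∀ (D : M →ₗ[A] N), IsDiffOpLE A B M N n D →
    IsDiffOpLE A B M N n (-D) := by
  induction n with
  | zero =>
    intro D h b m
    simp only [LinearMap.neg_apply, smul_neg]
    rw [(isDiffOpLE_zero_iff D).mp h b m]
  | succ n ih =>
    intro D h b
    rw [commutator_neg]
    exact ih _ (h b)

lemma isDiffOpLE_succ_of (n : ℕ) : ∀ (D : M →ₗ[A] N), IsDiffOpLE A B M N n D →
    IsDiffOpLE A B M N (n + 1) D := by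
  induction n with
  | zero =>
    intro D h b
    rw [commutator_eq_zero_of_isDiffOpLE_zero D h b]
    exact isDiffOpLE_zero 0
  | succ n ih =>
    intro D h b
    exact ih _ (h b)

lemma isDiffOpLE_mono {n m : ℕ} (hnm : n ≤ m) (D : M →ₗ[A] N) (h : IsDiffOpLE A B M N n D) :
    IsDiffOpLE A B M N m D := by
  induction hnm with
  | refl => exact h
  | step _ ih => exact isDiffOpLE_succ_of _ D ih

lemma commutator_comp (D : M →ₗ[A] N) (D' : N →ₗ[A] P) (b : B) :
    commutator A B M P (D' ∘ₗ D) b =
      D' ∘ₗ commutator A B M N D b + commutator A B N P D' b ∘ₗ D := by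
  ext m
  simp only [commutator_apply, LinearMap.comp_apply, LinearMap.add_apply, map_sub]
  abel

theorem isDiffOpLE_comp_aux (k : ℕ) : ∀ (n n' : ℕ), n + n' = k →
    ∀ (D : M →ₗ[A] N) (D' : N →ₗ[A] P), IsDiffOpLE A B M N n D → IsDiffOpLE A B N P n' D' →
    IsDiffOpLE A B M P k (D' ∘ₗ D) := by
  induction k with
  | zero =>
    intro n n' hnn' D D' hD hD'
    obtain ⟨rfl, rfl⟩ : n = 0 ∧ n' = 0 := by omega
    intro b m
    simp only [LinearMap.comp_apply]
    rw [(isDiffOpLE_zero_iff D).mp hD b m, (isDiffOpLE_zero_iff D').mp hD' b (D m)]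
  | succ k ih =>
    intro n n' hnn' D D' hD hD' b
    rw [commutator_comp]
    apply isDiffOpLE_add
    · rcases n with _ | n
      · rw [commutator_eq_zero_of_isDiffOpLE_zero D hD b, LinearMap.comp_zero]
        exact isDiffOpLE_zero k
      · exact ih n n' (by omega) _ _ (hD b) hD'
    · rcases n' with _ | n'
      · rw [commutator_eq_zero_of_isDiffOpLE_zero D' hD' b, LinearMap.zero_comp]
        exact isDiffOpLE_zero k
      · exact ih n n' (by omega) _ _ hD (hD' b)

theorem isDiffOpLE_comp (n n' : ℕ) (D : M →ₗ[A] N) (D' : N →ₗ[A] P)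
    (hD : IsDiffOpLE A B M N n D) (hD' : IsDiffOpLE A B N P n' D') :
    IsDiffOpLE A B M P (n + n') (D' ∘ₗ D) :=
  isDiffOpLE_comp_aux (n + n') n n' rfl D D' hD hD'

end

end Groth.Agent.Lib.Helper23
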