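import Groth.Agent.Lib.Helper23.DiffOp

set_option autoImplicit false

namespace Groth.Agent.Lib.Helper23

open Diff16

universe u v

section

variable {A B : Type u} [CommRing A] [CommRing B] [Algebra A B]
variable {M N : Type v} [AddCommGroup M] [Module A M] [Module B M] [IsScalarTower A B M]
  [AddCommGroup N] [Module A N] [Module B N] [IsScalarTower A B N]

/-- Multiplication by `b`, as an `A`-linear map. -/
noncomputable def mulA (A : Type u) {B : Type u} [CommRing A] [CommRing B] [Algebra A B]
    (M : Type v) [AddCommGroup M] [Module A M] [Module B M] [IsScalarTower A B M] (b : B) :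
    M →ₗ[A] M :=
  (LinearMap.lsmul B M b).restrictScalars A

@[simp] lemma mulA_apply (b : B) (m : M) : mulA A M b m = b • m := rfl

lemma isDiffOpLE_mulA (b : B) : IsDiffOpLE A B M M 0 (mulA A M b) := by
  intro c m
  simp only [mulA_apply]
  rw [smul_comm]

lemma commutator_algebraMap (D : M →ₗ[A] N) (r : A) :
    commutator A B M N D (algebraMap A B r) = 0 := by
  ext m
  simp only [commutator_apply, algebraMap_smul, map_smul, sub_self, LinearMap.zero_apply]

lemma commutator_add_right (D : M →ₗ[A] N) (x y : B) :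
    commutator A B M N D (x + y) = commutator A B M N D x + commutator A B M N D y := by
  ext m
  simp only [commutator_apply, add_smul, map_add, LinearMap.add_apply]
  abel

lemma commutator_mul_right (D : M →ₗ[A] N) (x y : B) :
    commutator A B M N D (x * y) =
      commutator A B M N D x ∘ₗ mulA A M y + mulA A N x ∘ₗ commutator A B M N D y := by
  ext m
  simp only [commutator_apply, mul_smul, LinearMap.add_apply, LinearMap.comp_apply, mulA_apply,
    smul_sub]
  abel

lemma isDiffOpLE_comp_mulA (n : ℕ) (E : M →ₗ[A] N) (hE : IsDiffOpLE A B M N n E) (y : B) :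
    IsDiffOpLE A B M N n (E ∘ₗ mulA A M y) :=
  isDiffOpLE_comp_aux n 0 n (by omega) _ _ (isDiffOpLE_mulA y) hE

lemma isDiffOpLE_mulA_comp (n : ℕ) (E : M →ₗ[A] N) (hE : IsDiffOpLE A B M N n E) (x : B) :
    IsDiffOpLE A B M N n (mulA A N x ∘ₗ E) :=
  isDiffOpLE_comp_aux n n 0 (by omega) _ _ hE (isDiffOpLE_mulA x)

theorem isDiffOpLE_succ_of_adjoin (s : Set B) (hs : Algebra.adjoin A s = ⊤) (n : ℕ)
    (D : M →ₗ[A] N) (hD : ∀ g ∈ s, IsDiffOpLE A B M N n (commutator A B M N D g)) :
    IsDiffOpLE A B M N (n + 1) D := by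
  intro b
  have hb : b ∈ Algebra.adjoin A s := hs ▸ Algebra.mem_top
  induction hb using Algebra.adjoin_induction with
  | mem x hx => exact hD x hx
  | algebraMap r => rw [commutator_algebraMap]; exact isDiffOpLE_zero n
  | add x y _ _ hx hy => rw [commutator_add_right]; exact isDiffOpLE_add n _ _ hx hy
  | mul x y _ _ hx hy =>
    rw [commutator_mul_right]
    exact isDiffOpLE_add n _ _ (isDiffOpLE_comp_mulA n _ hx y) (isDiffOpLE_mulA_comp n _ hy x)

end

end Groth.Agent.Lib.Helper23
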