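import Groth.Agent.Lib.Helper23.DiffOp2
import Mathlib.RingTheory.Kaehler.Basic

set_option autoImplicit false

namespace Groth.Agent.Lib.Helper23

open Diff16
open scoped TensorProduct

universe u

section

variable {A B : Type u} [CommRing A] [CommRing B] [Algebra A B]
variable {N : Type u} [AddCommGroup N] [Module A N] [Module B N] [IsScalarTower A B N]

lemma linearize_tmul (D : B →ₗ[A] N) (b m : B) :
    linearize A B B N D (b ⊗ₜ[A] m) = b • D m := by
  simp [linearize]

/-- The generator `1 ⊗ c - c ⊗ 1` of the diagonal ideal. -/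
noncomputable def gen (A : Type u) {B : Type u} [CommRing A] [CommRing B] [Algebra A B] (c : B) :
    B ⊗[A] B := (1 : B) ⊗ₜ[A] c - c ⊗ₜ[A] (1 : B)

lemma gen_mem (c : B) : gen A c ∈ KaehlerDifferential.ideal A B :=
  KaehlerDifferential.one_smul_sub_smul_one_mem_ideal A c

lemma linearize_mul_gen (D : B →ₗ[A] N) (c : B) (y : B ⊗[A] B) :
    linearize A B B N D (y * gen A c) = linearize A B B N (commutator A B B N D c) y := by
  induction y using TensorProduct.induction_on with
  | zero => simp
  | tmul b m =>
    simp only [gen, mul_sub, Algebra.TensorProduct.tmul_mul_tmul, mul_one, map_sub,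
      linearize_tmul, commutator_apply, smul_eq_mul, smul_sub]
    rw [mul_comm m c, mul_comm b c, mul_smul, smul_comm b c]
  | add x y hx hy => rw [add_mul, map_add, map_add, hx, hy]

lemma linearize_vanish_of_isDiffOpLE (n : ℕ) : ∀ (D : B →ₗ[A] N), IsDiffOpLE A B B N n D →
    ∀ x ∈ (KaehlerDifferential.ideal A B) ^ (n + 1), linearize A B B N D x = 0 := by
  induction n with
  | zero =>
    intro D hD x hx
    rw [zero_add, pow_one] at hx
    have h1 : linearize A B B N D = D ∘ₗ (Algebra.TensorProduct.lmul' A (S := B)).toLinearMap := by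
      apply TensorProduct.ext'
      intro b m
      rw [linearize_tmul, LinearMap.comp_apply]
      simp only [AlgHom.toLinearMap_apply, Algebra.TensorProduct.lmul'_apply_tmul]
      rw [← smul_eq_mul, (isDiffOpLE_zero_iff D).mp hD b m]
    rw [h1, LinearMap.comp_apply]
    have : (Algebra.TensorProduct.lmul' A (S := B)) x = 0 := hx
    simp only [AlgHom.toLinearMap_apply, this, map_zero]
  | succ n ih =>
    intro D hD x hx
    rw [pow_succ] at hx
    have key : ∀ z ∈ KaehlerDifferential.ideal A B,
        ∀ y ∈ (KaehlerDifferential.ideal A B) ^ (n + 1), linearize A B B N D (y * z) = 0 := by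
      intro z hz
      rw [← KaehlerDifferential.span_range_eq_ideal] at hz
      induction hz using Submodule.span_induction with
      | mem z hz =>
        obtain ⟨c, rfl⟩ := hz
        intro y hy
        have := linearize_mul_gen D c y
        rw [gen] at this
        rw [this]
        exact ih _ (hD c) y hy
      | zero => intro y _; simp
      | add z1 z2 _ _ h1 h2 =>
        intro y hy
        rw [mul_add, map_add, h1 y hy, h2 y hy, add_zero]
      | smul w z1 _ h1 =>
        intro y hy
        rw [smul_eq_mul, ← mul_assoc]
        exact h1 (y * w) (Ideal.mul_mem_right _ _ hy)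
    refine Submodule.mul_induction_on hx ?_ ?_
    · intro y hy z hz
      exact key z hz y hy
    · intro x y hx hy
      rw [map_add, hx, hy, add_zero]

lemma isDiffOpLE_of_linearize_vanish (n : ℕ) : ∀ (D : B →ₗ[A] N),
    (∀ x ∈ (KaehlerDifferential.ideal A B) ^ (n + 1), linearize A B B N D x = 0) →
    IsDiffOpLE A B B N n D := by
  induction n with
  | zero =>
    intro D h b m
    have hmem : ((1 : B) ⊗ₜ[A] m) * gen A b ∈ (KaehlerDifferential.ideal A B) ^ (0 + 1) := by
      rw [zero_add, pow_one]
      exact Ideal.mul_mem_left _ _ (gen_mem b)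
    have := h _ hmem
    rw [linearize_mul_gen, linearize_tmul, one_smul, commutator_apply, sub_eq_zero] at this
    exact this
  | succ n ih =>
    intro D h c
    apply ih
    intro y hy
    rw [← linearize_mul_gen]
    apply h
    rw [pow_succ]
    exact Ideal.mul_mem_mul hy (gen_mem c)

theorem isDiffOpLE_iff_linearize (n : ℕ) (D : B →ₗ[A] N) :
    IsDiffOpLE A B B N n D ↔
      ∀ x ∈ (KaehlerDifferential.ideal A B) ^ (n + 1), linearize A B B N D x = 0 :=
  ⟨linearize_vanish_of_isDiffOpLE n D, isDiffOpLE_of_linearize_vanish n D⟩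

end

end Groth.Agent.Lib.Helper23
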