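import Groth.Agent.Lib.Helper72.DvrFibre
import Mathlib.RingTheory.LocalProperties.Reduced

/-!
# Reducedness over a DVR: scheme-level lemmas without properness (helper23)
-/

set_option autoImplicit false
universe u

namespace Groth.Agent.Lib.Helper23.DvrRedSch

open AlgebraicGeometry CategoryTheory Limits Groth.Agent.Lib.Helper72 DvrFibre TensorProduct

section general

variable {R : Type u} [CommRing R]

/-- Base change of a reduced affine scheme along the spectrum of a localization is reduced. -/
theorem isReduced_pullback_localization {A : CommRingCat.{u}} [_root_.IsReduced A]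
    (ψ : Spec A ⟶ Spec (CommRingCat.of R)) (K : Type u) [CommRing K] [Algebra R K]
    (M : Submonoid R) [IsLocalization M K] :
    IsReduced (pullback ψ (Spec.map (CommRingCat.ofHom (algebraMap R K)))) := by
  obtain ⟨φ, rfl⟩ : ∃ φ : CommRingCat.of R ⟶ A, Spec.map φ = ψ := ⟨_, Spec.map_preimage ψ⟩
  let _ := φ.hom.toAlgebra
  have h0 : Spec.map (CommRingCat.ofHom (algebraMap R A)) = Spec.map φ := rfl
  have h5 : _root_.IsReduced (A ⊗[R] K) := by
    have : IsLocalization (Algebra.algebraMapSubmonoid A M) (A ⊗[R] K) := IsLocalization.tensor _ _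
    exact isReduced_localizationPreserves (R := A)
      (Algebra.algebraMapSubmonoid A M) (A ⊗[R] K) ‹_root_.IsReduced A›
  have h6 : IsReduced (Spec (.of (A ⊗[R] K))) := inferInstance
  rw [← h0]
  exact isReduced_of_isOpenImmersion (pullbackSpecIso R A K).hom

/-- Base change of a reduced scheme along the spectrum of a localization is reduced. -/
theorem isReduced_pullback_localization_scheme {X : Scheme.{u}} [IsReduced X]
    (f : X ⟶ Spec (CommRingCat.of R)) (K : Type u) [CommRing K] [Algebra R K]
    (M : Submonoid R) [IsLocalization M K] :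
    IsReduced (pullback f (Spec.map (CommRingCat.ofHom (algebraMap R K)))) := by
  have h : ∀ i, IsReduced ((Scheme.Pullback.openCoverOfLeft X.affineOpenCover.openCover f
      (Spec.map (CommRingCat.ofHom (algebraMap R K)))).X i) := by
    intro i
    have h1 : IsReduced (Spec (X.affineOpenCover.X i)) :=
      isReduced_of_isOpenImmersion (X.affineOpenCover.f i)
    have h2 : _root_.IsReduced (X.affineOpenCover.X i) := (affine_isReduced_iff _).1 h1
    exact isReduced_pullback_localization (X.affineOpenCover.f i ≫ f) K M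
  exact IsReduced.of_openCover _ (Scheme.Pullback.openCoverOfLeft X.affineOpenCover.openCover f
      (Spec.map (CommRingCat.ofHom (algebraMap R K))))

/-- Any pullback of a reduced scheme along the spectrum of a localization is reduced. -/
theorem isReduced_of_isPullback_localization {X P : Scheme.{u}} [IsReduced X]
    (f : X ⟶ Spec (CommRingCat.of R)) (K : Type u) [CommRing K] [Algebra R K]
    (M : Submonoid R) [IsLocalization M K]
    (p1 : P ⟶ Spec (CommRingCat.of K)) (p2 : P ⟶ X)
    (hP : IsPullback p1 p2 (Spec.map (CommRingCat.ofHom (algebraMap R K))) f) : IsReduced P := by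
  have := isReduced_pullback_localization_scheme f K M
  exact isReduced_of_isOpenImmersion hP.flip.isoPullback.hom

end general

variable {R : Type u} [CommRing R] [IsDomain R] [IsDiscreteValuationRing R]

/-- the special fibre, computed with any pullback along `Spec (R/m) ⟶ Spec R` -/
theorem isReduced_fiber_closedPoint {X P : Scheme.{u}} (f : X ⟶ Spec (CommRingCat.of R))
    (p1 : P ⟶ Spec (CommRingCat.of (IsLocalRing.ResidueField R))) (p2 : P ⟶ X)
    (hP : IsPullback p1 p2 (Spec.map (CommRingCat.ofHom (IsLocalRing.residue R))) f)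
    [IsReduced P] : IsReduced (f.fiber (IsLocalRing.closedPoint R)) := by
  set y := IsLocalRing.closedPoint R with hy
  have hmax : y.asIdeal.IsMaximal := IsLocalRing.maximalIdeal.isMaximal R
  -- the ring iso κ ≃ κ(y)
  let ε : IsLocalRing.ResidueField R →+* y.asIdeal.ResidueField :=
    algebraMap (R ⧸ y.asIdeal) y.asIdeal.ResidueField
  have hε : Function.Bijective ε := Ideal.bijective_algebraMap_quotient_residueField y.asIdeal
  have hεiso : IsIso (CommRingCat.ofHom ε) :=
    (ConcreteCategory.isIso_iff_bijective (CommRingCat.ofHom ε)).2 hε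
  have hcomp : (CommRingCat.ofHom (IsLocalRing.residue R)) ≫ CommRingCat.ofHom ε =
      CommRingCat.ofHom (algebraMap R y.asIdeal.ResidueField) := by
    ext r
    rfl
  have h2 : Spec.map (CommRingCat.ofHom (algebraMap R y.asIdeal.ResidueField)) =
      Spec.map (Scheme.Spec.residueFieldIso (.of R) y).hom ≫
        (Spec (.of R)).fromSpecResidueField y := by
    rw [← Scheme.Spec.map_residueFieldIso_inv_eq_fromSpecResidueField,
      ← Spec.map_comp_assoc, Iso.inv_hom_id, Spec.map_id, Category.id_comp]
  -- e : Spec κ ⟶ Spec κ(y)-scheme, an iso over Spec R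
  let e : Spec (CommRingCat.of (IsLocalRing.ResidueField R)) ⟶ Spec ((Spec (.of R)).residueField y) :=
    inv (Spec.map (CommRingCat.ofHom ε)) ≫ Spec.map (Scheme.Spec.residueFieldIso (.of R) y).hom
  have he : e ≫ (Spec (.of R)).fromSpecResidueField y =
      Spec.map (CommRingCat.ofHom (IsLocalRing.residue R)) := by
    simp only [e, Category.assoc]
    rw [← h2, ← hcomp, Spec.map_comp, IsIso.inv_hom_id_assoc]
  have heiso : IsIso e := by
    simp only [e]
    infer_instance
  have hw1 : f ≫ 𝟙 _ = 𝟙 _ ≫ f := by simp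
  have hw2 : Spec.map (CommRingCat.ofHom (IsLocalRing.residue R)) ≫ 𝟙 _ =
      e ≫ (Spec (.of R)).fromSpecResidueField y := by rw [he, Category.comp_id]
  let m := pullback.map f (Spec.map (CommRingCat.ofHom (IsLocalRing.residue R)))
      f ((Spec (.of R)).fromSpecResidueField y) (𝟙 _) e (𝟙 _) hw1 hw2
  have hiso : IsIso m := pullback.map_isIso _ _ _ _ _ _ _ _ _
  have h7 : IsReduced (pullback f (Spec.map (CommRingCat.ofHom (IsLocalRing.residue R)))) :=
    isReduced_of_isOpenImmersion hP.flip.isoPullback.inv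
  exact isReduced_of_isOpenImmersion (@inv _ _ _ _ m hiso)

/-- a point of the special fibre of a flat, locally finite type scheme over a DVR with reduced special
fibre has a reduced open neighbourhood -/
theorem exists_reduced_nbhd {X : Scheme.{u}} (f : X ⟶ Spec (CommRingCat.of R))
    [LocallyOfFiniteType f]
    [Flat f] [IsReduced (f.fiber (IsLocalRing.closedPoint R))] {ϖ : R} (hϖ : Irreducible ϖ)
    (x₀ : X) (hfx₀ : f x₀ = IsLocalRing.closedPoint R) :
    ∃ V : X.Opens, x₀ ∈ V ∧ IsReduced ↑V := by
  obtain ⟨_, ⟨W, hW, rfl⟩, hxW, -⟩ :=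
    X.isBasis_affineOpens.exists_subset_of_mem_open (Set.mem_univ x₀) isOpen_univ
  obtain ⟨p, hp⟩ : ∃ p, p = (secMap f W).hom ϖ := ⟨_, rfl⟩
  have hVeq : X.basicOpen p = W ⊓ f ⁻¹ᵁ (PrimeSpectrum.basicOpen ϖ) := by
    rw [hp]; exact basicOpen_secMap f W ϖ
  have : _root_.IsReduced (Γ(X, W) ⧸ Ideal.span {p}) := by
    rw [hp]; exact isReduced_quotient f hϖ hW
  have hpnzd : p ∈ nonZeroDivisors Γ(X, W) := by
    rw [hp]; exact secMap_mem_nonZeroDivisors f hϖ hW
  have : IsNoetherianRing Γ(X, W) := by
    have h1 := f.finiteType_appLE (isAffineOpen_top _) hW (le_top : W ≤ f ⁻¹ᵁ ⊤)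
    have h2 : IsNoetherianRing Γ(Spec (CommRingCat.of R), ⊤) :=
      isNoetherianRing_of_ringEquiv R (Scheme.ΓSpecIso (.of R)).symm.commRingCatIsoToRingEquiv
    let _ := (f.appLE ⊤ W le_top).hom.toAlgebra
    have h3 : Algebra.FiniteType Γ(Spec (CommRingCat.of R), ⊤) Γ(X, W) := h1
    exact Algebra.FiniteType.isNoetherianRing Γ(Spec (CommRingCat.of R), ⊤) Γ(X, W)
  obtain ⟨r, hr1, hr2⟩ := DvrAlg.exists_kill_nilradical p hpnzd
  have hx₀r : x₀ ∈ X.basicOpen r := by
    have hx₀p : x₀ ∉ X.basicOpen p := by
      rw [hVeq]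
      rintro ⟨-, h⟩
      exact (notMem_preimage_basicOpen_iff f hϖ x₀).2 hfx₀ h
    rw [Scheme.mem_basicOpen _ _ x₀ hxW] at hx₀p ⊢
    obtain ⟨d, hd⟩ := Ideal.mem_span_singleton'.1 hr1
    have hsum : X.presheaf.germ W x₀ hxW r + X.presheaf.germ W x₀ hxW (-d) *
        X.presheaf.germ W x₀ hxW p = 1 := by
      rw [← map_mul, ← map_add]
      have : r + -d * p = 1 := by rw [neg_mul, hd]; ring
      rw [this, map_one]
    rcases IsLocalRing.isUnit_or_isUnit_of_add_one hsum with h | h
    · exact h
    · exact (hx₀p (isUnit_of_mul_isUnit_right h)).elim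
  refine ⟨X.basicOpen r, hx₀r, ?_⟩
  have hV : IsAffineOpen (X.basicOpen r) := hW.basicOpen r
  have := hW.isLocalization_basicOpen r
  have : _root_.IsReduced Γ(X, X.basicOpen r) := DvrAlg.isReduced_away r hr2
  exact isReduced_of_isOpenImmersion hV.isoSpec.hom

/-- the reduced locus (union of all reduced open subschemes) -/
def redLocus (X : Scheme.{u}) : X.Opens :=
  ⟨{x | ∃ V : X.Opens, x ∈ V ∧ IsReduced ↑V}, by
    rw [isOpen_iff_forall_mem_open]
    rintro x ⟨V, hxV, hV⟩
    exact ⟨V, fun y hy => ⟨V, hy, hV⟩, V.isOpen, hxV⟩⟩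

theorem isReduced_stalk_of_mem_redLocus {X : Scheme.{u}} {x : X} (hx : x ∈ redLocus X) :
    _root_.IsReduced (X.presheaf.stalk x) := by
  obtain ⟨V, hxV, hV⟩ := hx
  have h1 : _root_.IsReduced (V.toScheme.presheaf.stalk ⟨x, hxV⟩) := inferInstance
  have h2 : IsIso (V.ι.stalkMap ⟨x, hxV⟩) := inferInstance
  exact isReduced_of_injective (V.ι.stalkMap ⟨x, hxV⟩).hom
    (ConcreteCategory.bijective_of_isIso (V.ι.stalkMap ⟨x, hxV⟩)).injective

instance isReduced_redLocus (X : Scheme.{u}) : IsReduced ↑(redLocus X) := by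
  have : ∀ w : ↑(redLocus X), _root_.IsReduced ((redLocus X).toScheme.presheaf.stalk w) := by
    intro w
    have h1 : _root_.IsReduced (X.presheaf.stalk ((redLocus X).ι w)) :=
      isReduced_stalk_of_mem_redLocus w.2
    have h2 : IsIso ((redLocus X).ι.stalkMap w) := inferInstance
    have e := (asIso ((redLocus X).ι.stalkMap w)).commRingCatIsoToRingEquiv
    exact isReduced_of_injective e.symm.toRingHom e.symm.injective
  exact isReduced_of_isReduced_stalk _

end Groth.Agent.Lib.Helper23.DvrRedSch
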