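import Groth.Prelude.Def_AlgSpOX3
import Groth.Agent.Lib.Helper4.StrictHensAlgSp
import Groth.Agent.Lib.Helper4.EtPt
import Groth.Agent.Lib.Helper22.GeomBC
import Groth.Agent.Lib.Helper37.AlgSpPoints

set_option autoImplicit false
set_option backward.isDefEq.respectTransparency false
open CategoryTheory CategoryTheory.Limits AlgebraicGeometry Opposite
universe u

namespace Groth.Agent.Lib.Helper23.EtStalkGerm
open AlgSp

variable {S : Scheme.{u}} {X : AlgSp.Sp S} (p : AlgSp.FieldPt X)

/-- the image point of an étale neighbourhood -/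
noncomputable def pnt (N : EtNbhd p) : ↥N.1.obj.left.left :=
  N.2.1.left (IsLocalRing.closedPoint p.K : PrimeSpectrum p.K)

theorem pnt_map {N N' : EtNbhd p} (f : N ⟶ N') : f.1.hom.left.left (pnt p N) = pnt p N' := by
  have h : N.2.1 ≫ f.1.hom.left = N'.2.1 := congrArg Subtype.val f.2
  have h' : N.2.1.left ≫ f.1.hom.left.left = N'.2.1.left := congrArg CommaMorphism.left h
  unfold pnt
  rw [← h']
  rfl

theorem ofPt_pnt (N : EtNbhd p) : Points.ofPt N.1.obj.hom (pnt p N) = Points.mk p := by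
  rw [← Points.ofPt_toHom p (IsLocalRing.closedPoint p.K : PrimeSpectrum p.K), ← N.2.2,
    Groth.Agent.Lib.Helper37.AlgSpPoints.ofPt_map_comp]
  rfl

theorem germ_eq_zero_of_map_eq_zero {N N' : EtNbhd p} (f : N' ⟶ N) (s : Γ(N.1.obj.left.left, ⊤))
    (h : f.1.hom.left.left.appTop.hom s = 0) :
    N.1.obj.left.left.presheaf.germ ⊤ (pnt p N) trivial s = 0 := by
  have : Etale f.1.hom.left.left := EtOver.etale_left f.1
  have hg : f.1.hom.left.left (pnt p N') = pnt p N := pnt_map p f
  have key : ∀ (e : ↥N.1.obj.left.left) (_ : e = f.1.hom.left.left (pnt p N')),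
      N.1.obj.left.left.presheaf.germ ⊤ e trivial s = 0 := by
    rintro _ rfl
    apply Groth.Agent.Lib.Helper22.GeomBC.stalkMap_injective_of_flat f.1.hom.left.left (pnt p N')
    rw [map_zero]
    refine (Scheme.Hom.germ_stalkMap_apply f.1.hom.left.left ⊤ (pnt p N') trivial s).trans ?_
    have h0 : (f.1.hom.left.left.app ⊤).hom s = 0 := h
    rw [h0, map_zero]
  exact key _ hg.symm

section openNbhd
variable (N : EtNbhd p) (W : N.1.obj.left.left.Opens) (he : pnt p N ∈ W)

include he in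
theorem range_subset : Set.range N.2.1.left ⊆ Set.range W.ι := by
  rintro _ ⟨z, rfl⟩
  have hz : z = (IsLocalRing.closedPoint p.K : PrimeSpectrum p.K) :=
    @Subsingleton.elim (PrimeSpectrum p.K) inferInstance _ _
  rw [Scheme.Opens.range_ι, hz]
  exact he

/-- the lift of the point to the open subscheme -/
noncomputable def openLift : Spec (CommRingCat.of p.K) ⟶ W.toScheme :=
  IsOpenImmersion.lift W.ι N.2.1.left (range_subset p N W he)

theorem openLift_fac : openLift p N W he ≫ W.ι = N.2.1.left :=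
  IsOpenImmersion.lift_fac _ _ _

/-- the étale object given by an open subscheme of a chart -/
noncomputable def openObj : EtOver X :=
  (EtOver.ofChart N.1.obj.hom N.1.property).obj (Scheme.Etale.mk W.ι)

/-- the morphism from the open subscheme to the chart -/
noncomputable def openHom : openObj p N W ⟶ N.1 :=
  EtOver.homMk (EtOver.homOfEtale (Scheme.Etale.mk W.ι)) rfl

theorem openLift_w : openLift p N W he ≫ W.ι ≫ N.1.obj.left.hom = p.pt.hom := by
  rw [← Category.assoc, openLift_fac]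
  exact Over.w N.2.1

/-- the lifted point as a morphism over `S` -/
noncomputable def openPt : p.pt ⟶ (openObj p N W).obj.left :=
  Over.homMk (openLift p N W he) (openLift_w p N W he)

theorem openPt_comp : openPt p N W he ≫ EtOver.homOfEtale (Scheme.Etale.mk W.ι) = N.2.1 := by
  apply Over.OverMorphism.ext
  exact openLift_fac p N W he

theorem openPt_prop : (yon S).map (openPt p N W he) ≫ (openObj p N W).obj.hom = p.toHom := by
  change (yon S).map (openPt p N W he) ≫ (yon S).map (EtOver.homOfEtale (Scheme.Etale.mk W.ι)) ≫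
    N.1.obj.hom = p.toHom
  rw [← Category.assoc, ← Functor.map_comp, openPt_comp]
  exact N.2.2

/-- the open étale neighbourhood -/
noncomputable def openNbhd : EtNbhd p := ⟨openObj p N W, ⟨openPt p N W he, openPt_prop p N W he⟩⟩

/-- the map of neighbourhoods -/
noncomputable def openNbhdHom : openNbhd p N W he ⟶ N :=
  ⟨openHom p N W, Subtype.ext (openPt_comp p N W he)⟩

theorem openNbhd_scheme : (openNbhd p N W he).1.obj.left.left = W.toScheme := rfl

theorem openNbhdHom_left : (openNbhdHom p N W he).1.hom.left.left = W.ι := rfl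

theorem pnt_openNbhd : pnt p (openNbhd p N W he) = (⟨pnt p N, he⟩ : W) := by
  apply Subtype.ext
  have := pnt_map p (openNbhdHom p N W he)
  exact this

end openNbhd

theorem exists_map_eq_zero_of_res_eq_zero (N : EtNbhd p) (s : Γ(N.1.obj.left.left, ⊤))
    (W : N.1.obj.left.left.Opens) (hW : pnt p N ∈ W) (iU : W ⟶ ⊤)
    (e : (N.1.obj.left.left.presheaf.map iU.op).hom s = 0) :
    ∃ (N' : EtNbhd p) (f : N' ⟶ N), f.1.hom.left.left.appTop.hom s = 0 := by
  refine ⟨openNbhd p N W hW, openNbhdHom p N W hW, ?_⟩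
  change W.ι.appTop.hom s = 0
  rw [Scheme.Opens.ι_appTop]
  have h1 : (homOfLE (x := W.ι ''ᵁ ⊤) le_top) = homOfLE W.ι_image_top.le ≫ iU := rfl
  rw [h1, op_comp, Functor.map_comp]
  change (N.1.obj.left.left.presheaf.map (homOfLE W.ι_image_top.le).op).hom
    ((N.1.obj.left.left.presheaf.map iU.op).hom s) = 0
  rw [e, map_zero]

theorem exists_map_eq_zero_of_germ_eq_zero (N : EtNbhd p) (s : Γ(N.1.obj.left.left, ⊤))
    (h : N.1.obj.left.left.presheaf.germ ⊤ (pnt p N) trivial s = 0) :
    ∃ (N' : EtNbhd p) (f : N' ⟶ N), f.1.hom.left.left.appTop.hom s = 0 := by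
  have h' : N.1.obj.left.left.presheaf.germ ⊤ (pnt p N) trivial s =
      N.1.obj.left.left.presheaf.germ ⊤ (pnt p N) trivial 0 := by rw [h, map_zero]
  obtain ⟨W, hW, iU, iV, e⟩ := TopCat.Presheaf.germ_eq N.1.obj.left.left.presheaf (pnt p N)
    (U := ⊤) (V := ⊤) trivial trivial s 0 h'
  refine exists_map_eq_zero_of_res_eq_zero p N s W hW iU ?_
  refine e.trans ?_
  exact map_zero _

theorem germ_eq_zero_of_forall (N : EtNbhd p)
    (H : ∀ (N : EtNbhd p) (s : Γ(N.1.obj.left.left, ⊤)), IsNilpotent s →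
      ∃ (N' : EtNbhd p) (f : N' ⟶ N), f.1.hom.left.left.appTop.hom s = 0)
    (W' : N.1.obj.left.left.Opens) (hW' : pnt p N ∈ W')
    (s' : Γ(N.1.obj.left.left, W')) (n : ℕ) (hs' : s' ^ n = 0) :
    N.1.obj.left.left.presheaf.germ W' (pnt p N) hW' s' = 0 := by
  let s'' : Γ(W'.toScheme, ⊤) :=
    (N.1.obj.left.left.presheaf.map (homOfLE W'.ι_image_top.le).op).hom s'
  have hs'' : IsNilpotent s'' := ⟨n, by
    change ((N.1.obj.left.left.presheaf.map (homOfLE W'.ι_image_top.le).op).hom s') ^ n = 0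
    rw [← map_pow, hs', map_zero]⟩
  obtain ⟨N'', f, hf⟩ := H (openNbhd p N W' hW') s'' hs''
  have h2 := germ_eq_zero_of_map_eq_zero p f s'' hf
  have h3 : W'.toScheme.presheaf.germ ⊤ (⟨pnt p N, hW'⟩ : W') trivial s'' = 0 := by
    have key : ∀ (z : W'.toScheme) (_ : z = pnt p (openNbhd p N W' hW')),
        W'.toScheme.presheaf.germ ⊤ z trivial s'' = 0 := by
      rintro _ rfl
      exact h2
    exact key _ (pnt_openNbhd p N W' hW').symm
  have h4 := congrArg (W'.stalkIso (⟨pnt p N, hW'⟩ : W')).hom.hom h3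
  rw [map_zero] at h4
  have h5 : (W'.stalkIso (⟨pnt p N, hW'⟩ : W')).hom.hom
      (W'.toScheme.presheaf.germ ⊤ (⟨pnt p N, hW'⟩ : W') trivial s'') =
      N.1.obj.left.left.presheaf.germ (W'.ι ''ᵁ ⊤) (pnt p N) ⟨⟨pnt p N, hW'⟩, trivial, rfl⟩ s'' :=
    congrArg (fun φ => φ.hom s'')
      (Scheme.Opens.germ_stalkIso_hom W' (V := ⊤) (⟨pnt p N, hW'⟩ : W') trivial)
  rw [h5] at h4
  refine Eq.trans ?_ h4
  exact (TopCat.Presheaf.germ_res_apply N.1.obj.left.left.presheaf (homOfLE W'.ι_image_top.le)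
    (pnt p N) ⟨⟨pnt p N, hW'⟩, trivial, rfl⟩ s').symm

theorem isReduced_stalk_of_forall (N : EtNbhd p)
    (H : ∀ (N : EtNbhd p) (s : Γ(N.1.obj.left.left, ⊤)), IsNilpotent s →
      ∃ (N' : EtNbhd p) (f : N' ⟶ N), f.1.hom.left.left.appTop.hom s = 0) :
    _root_.IsReduced ↥(N.1.obj.left.left.presheaf.stalk (pnt p N)) := by
  refine ⟨fun x hx => ?_⟩
  obtain ⟨n, hn⟩ := hx
  obtain ⟨W, hW, s, rfl⟩ := TopCat.Presheaf.exists_germ_eq N.1.obj.left.left.presheaf x
  have h1 : N.1.obj.left.left.presheaf.germ W (pnt p N) hW (s ^ n) =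
      N.1.obj.left.left.presheaf.germ W (pnt p N) hW 0 := by
    rw [map_pow, map_zero]
    exact hn
  obtain ⟨W', hW', iU, iV, e⟩ := TopCat.Presheaf.germ_eq N.1.obj.left.left.presheaf (pnt p N)
    hW hW (s ^ n) 0 h1
  have hx : N.1.obj.left.left.presheaf.germ W (pnt p N) hW s =
      N.1.obj.left.left.presheaf.germ W' (pnt p N) hW'
        ((N.1.obj.left.left.presheaf.map iU.op).hom s) :=
    (TopCat.Presheaf.germ_res_apply N.1.obj.left.left.presheaf iU (pnt p N) hW' s).symm
  refine hx.trans ?_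
  have hs' : ((N.1.obj.left.left.presheaf.map iU.op).hom s) ^ n = 0 := by
    rw [← map_pow]
    refine e.trans ?_
    exact map_zero _
  exact germ_eq_zero_of_forall p N H W' hW' _ n hs'

end Groth.Agent.Lib.Helper23.EtStalkGerm
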