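import Groth.Agent.Lib.Helper23.FpqcClosed
import Groth.Agent.Lib.Helper23.AlgSpImm2
import Groth.Agent.Lib.Helper36.OpenSubLift
import Groth.Agent.Lib.Helper5.FppfSource
import Groth.Agent.Lib.Helper5.LargestOpenSp

/-!
# Immersions are fppf local on the base (helper23)

The range `A` of `f` on points is locally closed, since this can be checked after pulling back along
the open continuous jointly surjective maps `|Y_i| ⟶ |Y|`.  Then `f` factors through the open
subspace `O` of `Y` with points the coborder of `A`, and `X ⟶ O` is a closed immersion fpqc locally.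
-/

set_option autoImplicit false
universe u
open CategoryTheory CategoryTheory.Limits AlgebraicGeometry Opposite

namespace Groth.Agent.Lib.Helper23.FppfImm

open AlgSp Groth.Agent.Lib.Helper23.AlgSpMor Groth.Agent.Lib.Helper37.AlgSpPoints
  Groth.Agent.Lib.Helper12.AlgSpPoints Groth.Agent.Lib.Helper36.OpenSubspace

variable {S : Scheme.{u}}

/-- The range of an immersion of sheaves into an algebraic space is locally closed. -/
theorem isLocallyClosed_range_of_repWith_isImmersion {X Y : Sp S} (hY : IsAlgSpace Y) (f : X ⟶ Y)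
    (hf : RepWith @IsImmersion f) : IsLocallyClosed (Set.range (Points.map f)) := by
  obtain ⟨U, a, hae, has⟩ := hY.atlas
  rw [isLocallyClosed_iff_isOpen_coborder,
    ← (isQuotientMap_ofPt a hae has).isOpen_preimage,
    ← coborder_preimage (isOpenMap_ofPt a hae) (Points.continuous_ofPt a)]
  have himm : IsImmersion (hf.rep.snd a).left := hf.property_snd a
  have h1 := Points.preimage_image_of_isPullback (hf.rep.isPullback a) Set.univ
  rw [Set.image_univ, Set.preimage_univ, Set.image_univ] at h1
  rw [h1]
  exact (hf.rep.snd a).left.isLocallyClosed_range.isOpen_coborder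

/-- The range of a morphism that is an immersion fppf locally on the base is locally closed. -/
theorem isLocallyClosed_range_of_fppf {ι : Type u} {Y : Sp S} (Yi : ι → Sp S)
    (g : ∀ i, Yi i ⟶ Y) (hY : IsAlgSpace Y) (hYi : ∀ i, IsAlgSpace (Yi i))
    (hcov : IsFppfCover Yi g) {X : Sp S} (f : X ⟶ Y) (Xi : ι → Sp S) (p : ∀ i, Xi i ⟶ Yi i)
    (q : ∀ i, Xi i ⟶ X) (hsq : ∀ i, IsPullback (q i) (p i) f (g i))
    (hp : ∀ i, RepWith @IsImmersion (p i)) :
    IsLocallyClosed (Set.range (Points.map f)) := by
  rw [isLocallyClosed_iff_isOpen_coborder, isOpen_iff_forall_mem_open]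
  intro y hy
  obtain ⟨i, yi, rfl⟩ := hcov.2 y
  have hopen := Groth.Agent.Lib.Helper5.FppfSource.isOpenMap_points_of_flat_lfp (hYi i) hY (g i)
    (hcov.1 i).1 (hcov.1 i).2
  have hcont : Continuous (Points.map (g i)) := Points.continuous_map (g i)
  have h1 : Points.map (g i) ⁻¹' coborder (Set.range (Points.map f)) =
      coborder (Set.range (Points.map (p i))) := by
    rw [← coborder_preimage hopen hcont, range_map_of_isPullback (hsq i)]
  have h2 : IsOpen (Points.map (g i) ⁻¹' coborder (Set.range (Points.map f))) := by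
    rw [h1]
    exact (isLocallyClosed_range_of_repWith_isImmersion (hYi i) (p i) (hp i)).isOpen_coborder
  exact ⟨Points.map (g i) '' (Points.map (g i) ⁻¹' coborder (Set.range (Points.map f))),
    Set.image_preimage_subset _ _, hopen _ h2, ⟨yi, hy, rfl⟩⟩

/-- **Immersions are fppf local on the base.** -/
theorem isLocalOnBase_fppf_repWith_isImmersion :
    IsLocalOnBase (IsFppfCover (S := S)) (RepWith @IsImmersion) := by
  intro ι Y Yi g hY hYi hcov X f hX Xi p q hXi hsq
  constructor
  · intro hf i
    exact (RepWith @IsImmersion).of_isPullback (hsq i) hf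
  · intro hp
    have hlc := isLocallyClosed_range_of_fppf Yi g hY hYi hcov f Xi p q hsq hp
    obtain ⟨A, hA⟩ : ∃ A, A = Set.range (Points.map f) := ⟨_, rfl⟩
    rw [← hA] at hlc
    have hW : IsOpen (coborder A) := hlc.isOpen_coborder
    have hO : IsAlgSpace (openSub Y (coborder A)) := isAlgSpace_openSub Y hY _ hW
    have hj : RepWith @IsOpenImmersion (openSubι Y (coborder A)) :=
      repWith_isOpenImmersion_openSubι Y _ hW
    obtain ⟨f', hf'⟩ := exists_lift_openSub_of_range f (coborder A) (by
      rw [← hA]; exact subset_coborder)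
    obtain ⟨O, j, hO, hj, hjr, f', hf'⟩ : ∃ (O : Sp S) (j : O ⟶ Y), IsAlgSpace O ∧
        RepWith @IsOpenImmersion j ∧ Set.range (Points.map j) = coborder A ∧
        ∃ f' : X ⟶ O, f' ≫ j = f :=
      ⟨_, _, hO, hj, range_map_openSubι Y _, f', hf'⟩
    have hjm : Mono j := Groth.Agent.Lib.Helper5.LargestOpenSp.mono_of_openImm j hj
    -- the induced covering of `O`
    let Oi : ι → Sp S := fun k => pullback j (g k)
    let o₁ : ∀ k, Oi k ⟶ O := fun k => pullback.fst j (g k)
    let o₂ : ∀ k, Oi k ⟶ Yi k := fun k => pullback.snd j (g k)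
    have sqO : ∀ k, IsPullback (o₁ k) (o₂ k) j (g k) := fun k => IsPullback.of_hasPullback _ _
    have hOi : ∀ k, IsAlgSpace (Oi k) := fun k =>
      isAlgSpace_of_isPullback hO (hYi k) hY.diag (sqO k)
    have hfpqc : IsFpqcCover Yi g :=
      Groth.Agent.Lib.Helper5.FppfCover.isFpqcCover_of_isFppfCover hY Yi hYi g hcov
    have hcovO : IsFpqcCover Oi o₁ :=
      Groth.Agent.Lib.Helper5.FppfCover.isFpqcCover_of_isPullback hY hO j Yi hYi g Oi hOi o₁ o₂
        sqO hfpqc
    have hmono₂ : ∀ k, Mono (o₂ k) := fun k => by
      show Mono (pullback.snd j (g k))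
      infer_instance
    have hw : ∀ k, (q k ≫ f') ≫ j = p k ≫ g k := fun k => by
      rw [Category.assoc, hf']; exact (hsq k).w
    let κ : ∀ k, Xi k ⟶ Oi k := fun k => (sqO k).lift (q k ≫ f') (p k) (hw k)
    have hκ₁ : ∀ k, κ k ≫ o₁ k = q k ≫ f' := fun k => (sqO k).lift_fst _ _ _
    have hκ₂ : ∀ k, κ k ≫ o₂ k = p k := fun k => (sqO k).lift_snd _ _ _
    have sqk : ∀ k, IsPullback (q k) (κ k) f' (o₁ k) := by
      intro k
      have t : IsPullback (q k) (κ k ≫ o₂ k) (f' ≫ j) (g k) := by
        rw [hκ₂, hf']; exact hsq k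
      exact IsPullback.of_bot t (hκ₁ k).symm (sqO k)
    have sqκ : ∀ k, IsPullback (𝟙 (Xi k)) (κ k) (p k) (o₂ k) := fun k =>
      Groth.Agent.Lib.Helper5.LargestOpenSp.isPullback_of_factor (o₂ k) (p k) (κ k) (hκ₂ k)
    have hκimm : ∀ k, RepWith @IsImmersion (κ k) := fun k =>
      (RepWith @IsImmersion).of_isPullback (sqκ k) (hp k)
    -- `A` is closed in `O`
    have hAcl : IsClosed (Points.map j ⁻¹' A) := by
      have e : Points.map j ⁻¹' A = Points.map j ⁻¹' closure A := by
        ext x
        constructor
        · intro hx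
          exact subset_closure hx
        · intro hx
          have h1 : Points.map j x ∈ coborder A := by
            rw [← hjr]; exact ⟨x, rfl⟩
          have h2 : Points.map j x ∈ closure A ∩ coborder A := ⟨hx, h1⟩
          rw [closure_inter_coborder] at h2
          exact h2
      rw [e]
      exact isClosed_closure.preimage (Points.continuous_map j)
    have hκcl : ∀ k, RepWith @IsClosedImmersion (κ k) := by
      intro k
      rw [repWith_isClosedImmersion_iff_isClosed_range (κ k) (hκimm k),
        range_map_of_isPullback (sqκ k), range_map_of_isPullback (hsq k), ← hA]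
      have e : Points.map (o₂ k) ⁻¹' (Points.map (g k) ⁻¹' A) =
          Points.map (o₁ k) ⁻¹' (Points.map j ⁻¹' A) := by
        rw [← Set.preimage_comp, ← Set.preimage_comp]
        have : Points.map (g k) ∘ Points.map (o₂ k) = Points.map j ∘ Points.map (o₁ k) := by
          funext x
          show Points.map (g k) (Points.map (o₂ k) x) = Points.map j (Points.map (o₁ k) x)
          rw [← Points.map_comp, ← Points.map_comp, (sqO k).w]
        rw [this]
      rw [e]
      exact hAcl.preimage (Points.continuous_map (o₁ k))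
    have hf'cl : RepWith @IsClosedImmersion f' :=
      (Groth.Agent.Lib.Helper23.SchImageQc.isLocalOnBase_fpqc_repWith_isClosedImmersion Oi o₁ hO hOi
        hcovO f' hX Xi κ q hXi sqk).2 hκcl
    have h1 : RepWith @IsImmersion f' :=
      MorphismProperty.relative_monotone (fun _ _ g hg => by
        have : IsClosedImmersion g.left := hg
        exact (inferInstance : IsImmersion g.left)) _ hf'cl
    have h2 : RepWith @IsImmersion j :=
      MorphismProperty.relative_monotone (fun _ _ g hg => by
        have : IsOpenImmersion g.left := hg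
        exact (inferInstance : IsImmersion g.left)) _ hj
    rw [← hf']
    exact (RepWith @IsImmersion).comp_mem _ _ h1 h2

end Groth.Agent.Lib.Helper23.FppfImm
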