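import Groth.Agent.Lib.Helper23.SchImageImm3
import Groth.Agent.Lib.Helper46.IsoFpqc
import Groth.Agent.Lib.Helper46.RepIso
import Groth.Agent.Lib.Helper5.FppfCover
import Groth.Agent.S10519
import Groth.Agent.Lib.Helper46.OpenImmFpqc

/-!
# Closed immersions (and quasi-compact immersions) are fpqc local on the base (helper23)

For an fpqc covering `Y_i ⟶ Y` and `f : X ⟶ Y` whose base changes `X_i ⟶ Y_i` are closed immersions:
`f` is quasi-compact (helper46, S10519), so it has a scheme theoretic image `Z` whose formation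
commutes with the flat base changes `Y_i ⟶ Y`; hence `X ⟶ Z` is an isomorphism fpqc locally on `Z`,
hence an isomorphism (helper46, isomorphisms are fpqc local).
-/

set_option autoImplicit false
universe u
open CategoryTheory CategoryTheory.Limits AlgebraicGeometry Opposite

namespace Groth.Agent.Lib.Helper23.SchImageQc

open AlgSp Groth.Agent.Lib.Helper23.AlgSpMor Groth.Agent.Lib.Helper23.ClosedDescent

variable {S : Scheme.{u}}

/-- The factorization of a quasi-compact `f` through its scheme theoretic image, base changed along an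
fpqc covering. -/
theorem exists_schImage_fpqc {ι : Type u} {Y : Sp S} (Yi : ι → Sp S) (g : ∀ i, Yi i ⟶ Y)
    (hY : IsAlgSpace Y) (hYi : ∀ i, IsAlgSpace (Yi i)) (hcov : IsFpqcCover Yi g) {X : Sp S}
    (f : X ⟶ Y) (hX : IsAlgSpace X) (hqc : IsQuasiCompactMor f) (Xi : ι → Sp S)
    (p : ∀ i, Xi i ⟶ Yi i) (q : ∀ i, Xi i ⟶ X) (hsq : ∀ i, IsPullback (q i) (p i) f (g i)) :
    ∃ (Z : Sp S) (i : Z ⟶ Y) (f' : X ⟶ Z) (Zi : ι → Sp S) (z₁ : ∀ k, Zi k ⟶ Z)
      (z₂ : ∀ k, Zi k ⟶ Yi k) (κ : ∀ k, Xi k ⟶ Zi k), IsAlgSpace Z ∧ (∀ k, IsAlgSpace (Zi k)) ∧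
      RepWith @IsClosedImmersion i ∧ f' ≫ i = f ∧ IsFpqcCover Zi z₁ ∧
      (∀ k, IsPullback (z₁ k) (z₂ k) i (g k)) ∧ (∀ k, IsSchImage (p k) (z₂ k)) ∧
      (∀ k, κ k ≫ z₂ k = p k) ∧ ∀ k, IsPullback (q k) (κ k) f' (z₁ k) := by
  obtain ⟨Z, i, hZ, hi⟩ := exists_isSchImage hY f
  obtain ⟨f', hf'⟩ := hi.2.1
  have : Mono i := mono_of_repWith_isClosedImmersion i hi.1
  let Zi : ι → Sp S := fun k => pullback i (g k)
  let z₁ : ∀ k, Zi k ⟶ Z := fun k => pullback.fst i (g k)
  let z₂ : ∀ k, Zi k ⟶ Yi k := fun k => pullback.snd i (g k)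
  have sqZ : ∀ k, IsPullback (z₁ k) (z₂ k) i (g k) := fun k => IsPullback.of_hasPullback i (g k)
  have hZi : ∀ k, IsAlgSpace (Zi k) := fun k =>
    isAlgSpace_of_isPullback hZ (hYi k) hY.diag (sqZ k)
  have himg : ∀ k, IsSchImage (p k) (z₂ k) := fun k =>
    isSchImage_of_flat_baseChange (hYi k) hY hX hZ (g k) (hcov.1 k) f hqc i hi (q k) (p k) (hsq k)
      (z₁ k) (z₂ k) (sqZ k)
  choose κ hκ using fun k => (himg k).2.1
  have sqk : ∀ k, IsPullback (q k) (κ k) f' (z₁ k) := by
    intro k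
    have t : IsPullback (q k) (κ k ≫ z₂ k) (f' ≫ i) (g k) := by
      rw [hκ, hf']; exact hsq k
    refine IsPullback.of_bot t ?_ (sqZ k)
    rw [← cancel_mono i, Category.assoc, Category.assoc, hf', (hsq k).w, (sqZ k).w,
      ← Category.assoc, hκ]
  have hcovZ : IsFpqcCover Zi z₁ :=
    Groth.Agent.Lib.Helper5.FppfCover.isFpqcCover_of_isPullback hY hZ i Yi hYi g Zi hZi z₁ z₂ sqZ hcov
  exact ⟨Z, i, f', Zi, z₁, z₂, κ, hZ, hZi, hi.1, hf', hcovZ, sqZ, himg, hκ, sqk⟩

/-- **Closed immersions are fpqc local on the base.** -/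
theorem isLocalOnBase_fpqc_repWith_isClosedImmersion :
    IsLocalOnBase (IsFpqcCover (S := S)) (RepWith @IsClosedImmersion) := by
  intro ι Y Yi g hY hYi hcov X f hX Xi p q hXi hsq
  constructor
  · intro hf i
    exact (RepWith @IsClosedImmersion).of_isPullback (hsq i) hf
  · intro hp
    have hqc : IsQuasiCompactMor f :=
      (Groth.Agent.S10519.result S Yi g hY hYi hcov f hX Xi p q hXi hsq).2 (fun i =>
        isQuasiCompactMor_of_repWith _ (repWith_quasiCompact_of_isClosedImmersion _ (hp i)))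
    obtain ⟨Z, i, f', Zi, z₁, z₂, κ, hZ, hZi, hicl, hf', hcovZ, sqZ, himg, hκ, sqk⟩ :=
      exists_schImage_fpqc Yi g hY hYi hcov f hX hqc Xi p q hsq
    have hκiso : ∀ k, IsIso (κ k) := by
      intro k
      obtain ⟨κ', hκ'⟩ := (himg k).2.2 (p k) (hXi k) (hp k) ⟨𝟙 _, Category.id_comp _⟩
      have : Mono (p k) := mono_of_repWith_isClosedImmersion _ (hp k)
      have : Mono (z₂ k) := mono_of_repWith_isClosedImmersion _ (himg k).1
      exact isIso_of_mutual_factor (p k) (z₂ k) (κ k) (hκ k) κ' hκ'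
    have hiso : IsIso f' :=
      (Groth.Agent.Lib.Helper46.IsoFpqc.isLocalOnBase_isomorphisms Zi z₁ hZ hZi hcovZ f' hX Xi κ q
        hXi sqk).2 hκiso
    rw [← hf']
    exact (RepWith @IsClosedImmersion).comp_mem _ _
      (Groth.Agent.Lib.Helper46.RepIso.repWith_of_isIso @IsClosedImmersion f') hicl

/-- **Quasi-compact immersions are fpqc local on the base.** -/
theorem isLocalOnBase_fpqc_repWith_quasiCompact_immersion :
    IsLocalOnBase (IsFpqcCover (S := S)) (RepWith (@IsImmersion ⊓ @QuasiCompact)) := by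
  intro ι Y Yi g hY hYi hcov X f hX Xi p q hXi hsq
  constructor
  · intro hf i
    exact (RepWith (@IsImmersion ⊓ @QuasiCompact)).of_isPullback (hsq i) hf
  · intro hp
    have hpimm : ∀ k, RepWith @IsImmersion (p k) := fun k =>
      MorphismProperty.relative_monotone (fun _ _ g hg => hg.1) _ (hp k)
    have hpqc : ∀ k, IsQuasiCompactMor (p k) := fun k =>
      isQuasiCompactMor_of_repWith _
        (MorphismProperty.relative_monotone (fun _ _ g hg => hg.2) _ (hp k))
    have hqc : IsQuasiCompactMor f :=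
      (Groth.Agent.S10519.result S Yi g hY hYi hcov f hX Xi p q hXi hsq).2 hpqc
    obtain ⟨Z, i, f', Zi, z₁, z₂, κ, hZ, hZi, hicl, hf', hcovZ, sqZ, himg, hκ, sqk⟩ :=
      exists_schImage_fpqc Yi g hY hYi hcov f hX hqc Xi p q hsq
    have hκo : ∀ k, RepWith @IsOpenImmersion (κ k) := fun k =>
      (immersion_into_isSchImage (hXi k) (hYi k) (hZi k) (p k) (hpimm k) (Or.inl (hpqc k)) (z₂ k)
        (himg k) (κ k) (hκ k)).1
    have hf'o : RepWith @IsOpenImmersion f' :=
      (Groth.Agent.Lib.Helper46.OpenImmFpqc.isLocalOnBase_isOpenImmersion Zi z₁ hZ hZi hcovZ f' hX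
        Xi κ q hXi sqk).2 hκo
    have h1 : RepWith @IsImmersion f' :=
      MorphismProperty.relative_monotone (fun _ _ g hg => by
        have : IsOpenImmersion g.left := hg
        exact (inferInstance : IsImmersion g.left)) _ hf'o
    have h2 : RepWith @IsImmersion i :=
      MorphismProperty.relative_monotone (fun _ _ g hg => by
        have : IsClosedImmersion g.left := hg
        exact (inferInstance : IsImmersion g.left)) _ hicl
    have himm : RepWith @IsImmersion f := by
      rw [← hf']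
      exact (RepWith @IsImmersion).comp_mem _ _ h1 h2
    have hq : RepWith @QuasiCompact f := repWith_quasiCompact_of_isQuasiCompactMor f himm.rep hqc
    exact (repWith_iff _ f).2 ⟨himm.rep, fun U V gU fst snd sq =>
      ⟨((repWith_iff _ f).1 himm).2 gU fst snd sq, ((repWith_iff _ f).1 hq).2 gU fst snd sq⟩⟩

end Groth.Agent.Lib.Helper23.SchImageQc
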