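import Groth.Agent.Lib.Helper23.FpqcClosed
import Groth.Agent.Lib.Helper46.FpqcTop
import Groth.Prelude.Def_AlgSpInf

/-!
# Surjectivity and thickenings are fpqc local on the base (helper23)
-/

set_option autoImplicit false
universe u
open CategoryTheory CategoryTheory.Limits AlgebraicGeometry Opposite

namespace Groth.Agent.Lib.Helper23.FpqcThick

open AlgSp Groth.Agent.Lib.Helper23.AlgSpMor Groth.Agent.Lib.Helper37.AlgSpPoints

variable {S : Scheme.{u}}

/-- Surjectivity on points is fpqc local on the base. -/
theorem isLocalOnBase_fpqc_isSurjectiveMor :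
    IsLocalOnBase (IsFpqcCover (S := S)) IsSurjectiveMor := by
  intro ι Y Yi g hY hYi hcov X f hX Xi p q hXi hsq
  constructor
  · intro hf i
    exact isSurjectiveMor_of_isPullback (hsq i) hf
  · intro hp y
    obtain ⟨K, T, t, -, hsub, hlift⟩ :=
      Groth.Agent.Lib.Helper46.FpqcTop.exists_family Yi g hcov hY (𝟙 Y)
    obtain ⟨k, w, rfl⟩ := hsub.1 y
    obtain ⟨i, l, hl⟩ := hlift k
    obtain ⟨x, hx⟩ := hp i (Points.ofPt l w)
    refine ⟨Points.map (q i) x, ?_⟩
    rw [← Points.map_comp, (hsq i).w, Points.map_comp, hx, Points.map_ofPt, hl, Category.comp_id]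

/-- Thickenings (representable surjective closed immersions) are fpqc local on the base. -/
theorem isLocalOnBase_fpqc_isThickMor :
    IsLocalOnBase (IsFpqcCover (S := S)) IsThickMor := by
  intro ι Y Yi g hY hYi hcov X f hX Xi p q hXi hsq
  constructor
  · intro hf i
    exact (RepWith thick).of_isPullback (hsq i) hf
  · intro hp
    have hcl : RepWith @IsClosedImmersion f :=
      (Groth.Agent.Lib.Helper23.SchImageQc.isLocalOnBase_fpqc_repWith_isClosedImmersion Yi g hY hYi
        hcov f hX Xi p q hXi hsq).2 (fun i =>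
          MorphismProperty.relative_monotone (fun _ _ g hg => hg.1) _ (hp i))
    have hs : IsSurjectiveMor f :=
      (isLocalOnBase_fpqc_isSurjectiveMor Yi g hY hYi hcov f hX Xi p q hXi hsq).2 (fun i =>
        isSurjectiveMor_of_repWith_surjective _
          (MorphismProperty.relative_monotone (fun _ _ g hg => hg.2) _ (hp i)))
    have hs' : RepWith @Surjective f := repWith_surjective_of_isSurjectiveMor f hcl.rep hs
    exact ⟨hcl.rep, fun U V gU fst snd sq =>
      ⟨hcl.property gU fst snd sq, hs'.property gU fst snd sq⟩⟩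

end Groth.Agent.Lib.Helper23.FpqcThick
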