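import Mathlib

set_option autoImplicit false
universe u
namespace Groth.Agent.Lib.Helper23.GenFin
open AlgebraicGeometry CategoryTheory CategoryTheory.Limits PrimeSpectrum

/-- A minimal prime not in the range of `comap φ` is not in the closure of that range. -/
theorem notMem_closure_range_comap_of_minimal {A B : Type*} [CommRing A] [CommRing B]
    (φ : A →+* B) (p : PrimeSpectrum A) (hp : p.asIdeal ∈ minimalPrimes A)
    (hpr : p ∉ Set.range (comap φ)) : p ∉ closure (Set.range (comap φ)) := by
  intro hcl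
  rw [closure_range_comap, mem_zeroLocus] at hcl
  apply hpr
  have hmin : p.asIdeal ∈ (Ideal.comap φ ⊥).minimalPrimes := by
    refine ⟨⟨p.2, hcl⟩, fun q hq hle => hp.2 ⟨hq.1, bot_le⟩ hle⟩
  obtain ⟨q, hq, _, hqp⟩ := Ideal.exists_comap_eq_of_mem_minimalPrimes φ (I := ⊥) p.asIdeal hmin
  exact ⟨⟨q, hq⟩, PrimeSpectrum.ext hqp⟩

/-- A point of `Spec A` without proper generizations is a minimal prime. -/
theorem minimal_of_no_generization {A : Type*} [CommRing A] (p : PrimeSpectrum A)
    (hp : ∀ q : PrimeSpectrum A, q ⤳ p → q = p) : p.asIdeal ∈ minimalPrimes A := by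
  refine ⟨⟨p.2, bot_le⟩, fun q hq hle => ?_⟩
  have h1 : (⟨q, hq.1⟩ : PrimeSpectrum A) ⤳ p := (le_iff_specializes _ _).mp hle
  have h2 := hp _ h1
  rw [← h2]

/-- Spec version: a point without proper generizations outside the image of a quasi-compact
scheme is outside the closure of the image. -/
theorem notMem_closure_range_of_compactSpace (A : CommRingCat.{u}) {W : Scheme.{u}}
    (h : W ⟶ Spec A) [CompactSpace W] (p : PrimeSpectrum A)
    (hp : ∀ q : PrimeSpectrum A, q ⤳ p → q = p) (hpr : p ∉ Set.range h) :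
    p ∉ closure (Set.range h) := by
  obtain ⟨R, k, hk⟩ := compactSpace_iff_exists.mp (inferInstance : CompactSpace W)
  obtain ⟨φ, hφ⟩ := Spec.homEquiv.symm.surjective (k ≫ h)
  have hr : Set.range h = Set.range (comap φ.hom) := by
    have h1 : Set.range (k ≫ h) = Set.range h := by
      rw [Scheme.Hom.comp_base, TopCat.coe_comp, hk.range_comp]
    rw [← h1, ← hφ]
    rfl
  rw [hr] at hpr ⊢
  exact notMem_closure_range_comap_of_minimal φ.hom p (minimal_of_no_generization p hp) hpr

/-- A point without proper generizations outside the image of a quasi-compact morphism has an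
open neighbourhood with empty preimage. -/
theorem exists_opens_preimage_eq_bot {W X : Scheme.{u}} (h : W ⟶ X) [QuasiCompact h] (x : X)
    (hx : ∀ x' : X, x' ⤳ x → x' = x) (hxr : x ∉ Set.range h) :
    ∃ N : X.Opens, x ∈ N ∧ h ⁻¹ᵁ N = ⊥ := by
  obtain ⟨i, p, hp⟩ : ∃ (i : X.affineCover.I₀) (p : X.affineCover.X i), X.affineCover.f i p = x :=
    ⟨X.affineCover.idx x, X.affineCover.covers x⟩
  let j := X.affineCover.f i
  haveI : IsOpenImmersion j := X.affineCover.map_prop i
  let h' := pullback.snd h j
  haveI : QuasiCompact h' := MorphismProperty.pullback_snd (P := @QuasiCompact) _ _ inferInstance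
  haveI : CompactSpace ↥(pullback h j) := QuasiCompact.compactSpace_of_compactSpace h'
  have hp' : ∀ q : X.affineCover.X i, q ⤳ p → q = p := by
    intro q hq
    have h1 : j q ⤳ j p := hq.map j.continuous
    rw [hp] at h1
    have h2 := hx _ h1
    rw [← hp] at h2
    exact j.isOpenEmbedding.injective h2
  have hpr : p ∉ Set.range h' := by
    rintro ⟨z, hz⟩
    apply hxr
    refine ⟨pullback.fst h j z, ?_⟩
    rw [← hp, ← hz]
    have := congrArg (fun g => g.base z) (pullback.condition (f := h) (g := j))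
    exact this
  have hcl := notMem_closure_range_of_compactSpace _ h' p hp' hpr
  let O : (X.affineCover.X i).Opens := ⟨(closure (Set.range h'))ᶜ, isClosed_closure.isOpen_compl⟩
  refine ⟨j ''ᵁ O, ⟨p, hcl, hp⟩, ?_⟩
  rw [eq_bot_iff]
  rintro w ⟨q, hqO, hq⟩
  exfalso
  obtain ⟨z, hz1, hz2⟩ := Scheme.Pullback.exists_preimage_pullback w q hq.symm
  exact hqO (subset_closure ⟨z, hz2⟩)

end Groth.Agent.Lib.Helper23.GenFin
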