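import Groth.Agent.Lib.Helper23.GenFin9
import Groth.Agent.Lib.Helper37.QsCodim
import Groth.Agent.Lib.Helper36.AlgSpHasAt
import Groth.Agent.Lib.Helper5.QuotFlat
import Groth.Agent.S10399
import Groth.Agent.S10389

/-!
# Generic finiteness at a codimension-0 point: local statement on a chart (helper23)
-/

set_option autoImplicit false
universe u
open CategoryTheory CategoryTheory.Limits AlgebraicGeometry Opposite

namespace Groth.Agent.Lib.Helper23.GenFin

open AlgSp Groth.Agent.Lib.Helper37.AlgSpFibres Groth.Agent.Lib.Helper23.AlgSpMor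
  Groth.Agent.Lib.Helper23.SLQSplit Groth.Agent.Lib.Helper37.AlgSpPoints
  Groth.Agent.Lib.Helper36.OpenSubspace Groth.Agent.Lib.Helper36.QFLocus
  Groth.Agent.Lib.Helper37.QsSober Groth.Agent.Lib.Helper36.AlgSpHasAt

variable {S : Scheme.{u}}

/-- A jointly surjective family of etale charts is an fpqc covering. -/
theorem isFpqcCover_of_etale_family {F : Sp S} (hF : IsAlgSpace F) {ι : Type u} (Vi : ι → Over S)
    (b : ∀ i, (yon S).obj (Vi i) ⟶ F) (hbe : ∀ i, RepWith @Etale (b i))
    (hs : ∀ x : Points F, ∃ i, x ∈ Set.range (Points.map (b i))) :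
    IsFpqcCover (fun i => (yon S).obj (Vi i)) b := by
  refine Groth.Agent.Lib.Helper5.FppfCover.isFpqcCover_of_isFppfCover hF _
    (fun _ => IsAlgSpace.yon_obj _) _
    ⟨fun i => ⟨Groth.Agent.S9961.locP_of_repWith Groth.Agent.Lib.Helper46.etLocal_flat
        (P := @Etale) (fun _ _ f hf => by haveI : Etale f := hf; infer_instance) hF (b i) (hbe i),
      Groth.Agent.S9961.locP_of_repWith Groth.Agent.Lib.Helper30.EtLocalInst.etLocal_lfp
        (P := @Etale) (fun _ _ f hf => by haveI : Etale f := hf; infer_instance) hF (b i)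
        (hbe i)⟩, hs⟩

/-- Every nonempty open of the space of points contains a codimension-0 point. -/
theorem exists_codimZero_mem_of_isOpen (Y : Space S) (O : Set (Points Y.obj)) (hO : IsOpen O)
    (hne : O.Nonempty) :
    ∃ y ∈ O, HasAt (fun U u => ringKrullDim ↥(U.presheaf.stalk u) = 0) Y.obj y := by
  obtain ⟨x, hx⟩ := hne
  obtain ⟨U, a, u, -, ha, rfl⟩ := exists_affine_chart Y x
  have hO' : IsOpen (Points.ofPt a ⁻¹' O) := hO.preimage (Points.continuous_ofPt a)
  obtain ⟨w, hws, hwmin⟩ := exists_minimal_generization u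
  have hwO : w ∈ Points.ofPt a ⁻¹' O := hws.mem_open hO' hx
  exact ⟨Points.ofPt a w, hwO, U, a, w, ha, rfl, (ringKrullDim_stalk_eq_zero_iff w).2 hwmin⟩

/-- **Local generic finiteness at a codimension-0 point** (the chart-level form). -/
theorem exists_chart_finite_of_codimZero {X Y : Space S} (f : X ⟶ Y)
    (hf : LocP @LocallyOfFiniteType f.hom) (hY : IsDecent Y.obj)
    (hX0 : {x : Points X.obj |
      HasAt (fun U u => ringKrullDim ↥(U.presheaf.stalk u) = 0) X.obj x}.Finite)
    (hY0 : {y : Points Y.obj |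
      HasAt (fun U u => ringKrullDim ↥(U.presheaf.stalk u) = 0) Y.obj y}.Finite)
    (hpre : ∀ x : Points X.obj, HasAt (fun U u => ringKrullDim ↥(U.presheaf.stalk u) = 0) X.obj x ↔
      HasAt (fun U u => ringKrullDim ↥(U.presheaf.stalk u) = 0) Y.obj (Points.map f.hom x))
    (hqs : IsQuasiCompactMor f.hom ∨ IsSeparatedMor f.hom) (y : Points Y.obj)
    (hy : HasAt (fun U u => ringKrullDim ↥(U.presheaf.stalk u) = 0) Y.obj y) :
    ∃ (VN : Over S) (bN : (yon S).obj VN ⟶ Y.obj), RepWith @Etale bN ∧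
      y ∈ Set.range (Points.ofPt bN) ∧
      ∀ (P : Sp S) (fst : P ⟶ X.obj) (snd : P ⟶ (yon S).obj VN),
        IsPullback fst snd f.hom bN → IsFiniteMor snd := by
  classical
  have hy' := hy
  obtain ⟨V₀, b₀, v₀, hb₀, hv₀y, hdim⟩ := hy
  obtain ⟨_, ⟨W, hW, rfl⟩, hvW, -⟩ :=
    V₀.left.isBasis_affineOpens.exists_subset_of_mem_open (Set.mem_univ v₀) isOpen_univ
  let V : Over S := openOver V₀ W
  haveI hVaff : IsAffine V.left := hW
  let b : (yon S).obj V ⟶ Y.obj := (yon S).map (openι V₀ W) ≫ b₀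
  have hb : RepWith @Etale b := repWith_etale_restrict b₀ hb₀ W
  let v : ↥V.left := ⟨v₀, hvW⟩
  have hbv : Points.ofPt b v = y := by rw [ofPt_restrict b₀ W ⟨v₀, hvW⟩]; exact hv₀y
  have hv : ∀ v' : ↥V.left, v' ⤳ v → v' = v := by
    intro v' hs
    have h1 : (Scheme.Opens.ι W) v' ⤳ (Scheme.Opens.ι W) v :=
      hs.map (Scheme.Opens.ι W).continuous
    have h2 : (Scheme.Opens.ι W) v' = v₀ :=
      eq_of_specializes_of_ringKrullDim_stalk_eq_zero v₀ hdim _ h1
    exact (Scheme.Opens.ι W).isOpenEmbedding.injective h2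
  have sq₁ : IsPullback (pullback.fst f.hom b) (pullback.snd f.hom b) f.hom b :=
    IsPullback.of_hasPullback _ _
  have hX₁ : IsAlgSpace (pullback f.hom b) :=
    isAlgSpace_of_isPullback X.property (IsAlgSpace.yon_obj V) Y.property.diag sq₁
  have hpr : RepWith @Etale (pullback.fst f.hom b) := (RepWith @Etale).of_isPullback sq₁.flip hb
  have hchart : ∀ ⦃A : Over S⦄ (c : (yon S).obj A ⟶ pullback f.hom b) (g : A ⟶ V),
      RepWith @Etale c → c ≫ pullback.snd f.hom b = (yon S).map g →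
      RepWith @Etale (c ≫ pullback.fst f.hom b) ∧
        (c ≫ pullback.fst f.hom b) ≫ f.hom = (yon S).map g ≫ b := by
    intro A c g hc hcg
    refine ⟨(RepWith @Etale).comp_mem _ _ hc hpr, ?_⟩
    rw [Category.assoc, sq₁.w, ← Category.assoc, hcg]
  -- all points over `y` have codimension 0, hence `f` is quasi-finite there
  have hcod : ∀ x : Points X.obj, Points.map f.hom x = y →
      HasAt (fun U u => ringKrullDim ↥(U.presheaf.stalk u) = 0) X.obj x := by
    intro x hx
    rw [hpre x, hx]; exact hy'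
  have hqfy := ((Groth.Agent.S10399.result f hf y hy').1).1 hcod
  have hqf' : ∀ ⦃A : Over S⦄ (c : (yon S).obj A ⟶ pullback f.hom b) (g : A ⟶ V),
      RepWith @Etale c → c ≫ pullback.snd f.hom b = (yon S).map g → ∀ a : ↥A.left,
      g.left a = v → g.left.QuasiFiniteAt a := by
    intro A c g hc hcg a hga
    obtain ⟨h1, h2⟩ := hchart c g hc hcg
    have hx : Points.map f.hom (Points.ofPt (c ≫ pullback.fst f.hom b) a) = y := by
      rw [Points.map_ofPt, h2, ofPt_map_comp, hga]; exact hbv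
    have hmem := mem_qfLocus_of_hasAtMor f hf _ (hqfy _ hx)
    exact (mem_qfLocus_iff_of_chart f hf _ b g h1 hb h2 a).1 hmem
  -- the finitely many codimension-0 points of `V`
  let V0 : Set ↥V.left := {v' | ∀ v'' : ↥V.left, v'' ⤳ v' → v'' = v'}
  have hV0fin : V0.Finite := by
    have hfib : ∀ y' : Points Y.obj, (Points.ofPt b ⁻¹' {y'}).Finite := by
      intro y'
      obtain ⟨p, rfl, -, hpq⟩ := hY y'
      exact finite_fibre_of_qc_point p hpq b hb
    refine (hY0.biUnion fun y' _ => hfib y').subset ?_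
    intro v' hv'
    refine Set.mem_biUnion (x := Points.ofPt b v') ?_ rfl
    exact ⟨V, b, v', hb, rfl, (ringKrullDim_stalk_eq_zero_iff v').2 hv'⟩
  have hclosed : IsClosed (⋃ v' ∈ V0 \ {v}, closure ({v'} : Set ↥V.left)) :=
    (hV0fin.subset Set.sdiff_subset).isClosed_biUnion fun _ _ => isClosed_closure
  let N₀ : V.left.Opens := ⟨(⋃ v' ∈ V0 \ {v}, closure ({v'} : Set ↥V.left))ᶜ, hclosed.isOpen_compl⟩
  have hvN₀ : v ∈ N₀ := by
    intro hmem
    obtain ⟨v', ⟨-, hne⟩, hcl⟩ := Set.mem_iUnion₂.1 hmem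
    exact hne (hv v' (specializes_iff_mem_closure.2 hcl))
  have hmin' : ∀ ⦃A : Over S⦄ (c : (yon S).obj A ⟶ pullback f.hom b) (g : A ⟶ V),
      RepWith @Etale c → c ≫ pullback.snd f.hom b = (yon S).map g → ∀ a : ↥A.left,
      g.left a ∈ N₀ → (∀ a' : ↥A.left, a' ⤳ a → a' = a) → g.left a = v := by
    intro A c g hc hcg a haN hamin
    obtain ⟨h1, h2⟩ := hchart c g hc hcg
    have hxX : HasAt (fun U u => ringKrullDim ↥(U.presheaf.stalk u) = 0) X.obj
        (Points.ofPt (c ≫ pullback.fst f.hom b) a) :=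
      ⟨A, _, a, h1, rfl, (ringKrullDim_stalk_eq_zero_iff a).2 hamin⟩
    have hxY := (hpre _).1 hxX
    have hfx : Points.map f.hom (Points.ofPt (c ≫ pullback.fst f.hom b) a) =
        Points.ofPt b (g.left a) := by
      rw [Points.map_ofPt, h2, ofPt_map_comp]
    rw [hfx] at hxY
    have hdim0 := (hasAt_iff_forall_chart (isEtaleLocalGerm_ringKrullDim 0) Y.property.atlas
      _).1 hxY V b (g.left a) hb rfl
    have hgV0 : g.left a ∈ V0 := (ringKrullDim_stalk_eq_zero_iff (g.left a)).1 hdim0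
    by_contra hne
    exact haN (Set.mem_iUnion₂.2 ⟨g.left a, ⟨hgV0, hne⟩, subset_closure rfl⟩)
  have hlft' : ∀ ⦃A : Over S⦄ (c : (yon S).obj A ⟶ pullback f.hom b) (g : A ⟶ V),
      RepWith @Etale c → c ≫ pullback.snd f.hom b = (yon S).map g →
      LocallyOfFiniteType g.left :=
    fun A c g hc hcg => hf _ b g (hchart c g hc hcg).1 hb (hchart c g hc hcg).2
  -- the two cases
  obtain ⟨N, hvN, -, hN⟩ : ∃ N : V.left.Opens, v ∈ N ∧ N ≤ N₀ ∧ ∀ (P : Sp S)
      (fst : P ⟶ pullback f.hom b) (snd : P ⟶ (yon S).obj (openOver V N)),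
      IsPullback fst snd (pullback.snd f.hom b) ((yon S).map (openι V N)) → IsFiniteMor snd := by
    rcases hqs with hqc | hsep
    · have hqc₁ : IsQuasiCompactSp (pullback f.hom b) :=
        hqc (IsAlgSpace.yon_obj V) (isQuasiCompactSp_yon V) b _ _ sq₁
      exact exists_opens_isFiniteMor_qc hX₁ _ hqc₁ hlft' v hv hqf' N₀ hvN₀ hmin'
    · have hsep₁ : IsSeparatedMor (pullback.snd f.hom b) := isSeparatedMor_of_isPullback sq₁ hsep
      refine exists_opens_isFiniteMor_sep hX₁ _ hsep₁ hlft' v hv hqf' N₀ hvN₀ hmin' ?_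
      -- finiteness of the fibre over `v`
      have hFy : (Points.map f.hom ⁻¹' {y}).Finite :=
        hX0.subset fun x hx => hcod x hx
      have hz : Points.map b (Points.ofScheme V v) = y := by
        rw [← Points.ofPt_eq_map_ofScheme]; exact hbv
      obtain ⟨r, hr, hrm, -⟩ := hY y
      have hgb : HasAtMor (fun U _ h u => ∃ W : U.Opens, u ∈ W ∧ LocallyQuasiFinite (W.ι ≫ h) ∧
          LocallyOfFiniteType (W.ι ≫ h)) b (Points.ofScheme V v) := by
        refine ⟨V, V, 𝟙 _, b, 𝟙 V, v, repWith_id _ V, hb, by simp, rfl, ⊤, trivial, ?_, ?_⟩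
        · exact Groth.Agent.Lib.Helper37.EtaleFibres.locallyQuasiFinite_of_etale _
        · infer_instance
      have hpiece : ∀ x : Points X.obj, Points.map f.hom x = y →
          {w : Points (pullback f.hom b) | Points.map (pullback.fst f.hom b) w = x ∧
            Points.map (pullback.snd f.hom b) w = Points.ofScheme V v}.Finite := by
        intro x hx
        exact Groth.Agent.S10389.result (X := X) (Y := Y)
          (Z := ⟨(yon S).obj V, IsAlgSpace.yon_obj V⟩) (W := ⟨pullback f.hom b, hX₁⟩) f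
          (ObjectProperty.homMk b) (ObjectProperty.homMk (pullback.fst f.hom b))
          (ObjectProperty.homMk (pullback.snd f.hom b)) sq₁ x (Points.ofScheme V v)
          (hx.trans hz.symm) ⟨r, hr.trans hz.symm, hrm⟩ hgb
      refine (hFy.biUnion fun x hx => hpiece x hx).subset ?_
      intro w hw
      have hfw : Points.map f.hom (Points.map (pullback.fst f.hom b) w) = y := by
        rw [← Points.map_comp, sq₁.w, Points.map_comp, hw]; exact hz
      exact Set.mem_biUnion (x := Points.map (pullback.fst f.hom b) w) hfw ⟨rfl, hw⟩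
  -- conclusion
  refine ⟨openOver V N, (yon S).map (openι V N) ≫ b, repWith_etale_restrict b hb N,
    ⟨⟨v, hvN⟩, by rw [ofPt_restrict b N ⟨v, hvN⟩]; exact hbv⟩, ?_⟩
  intro P fst snd sq
  have hcomm : fst ≫ f.hom = (snd ≫ (yon S).map (openι V N)) ≫ b := by
    rw [Category.assoc]; exact sq.w
  refine hN P (sq₁.lift _ _ hcomm) snd ?_
  refine IsPullback.of_right ?_ (sq₁.lift_snd _ _ hcomm) sq₁
  rw [sq₁.lift_fst]
  exact sq

end Groth.Agent.Lib.Helper23.GenFin
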