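import Mathlib
import Groth.Agent.Lib.Helper23.GenFin1

set_option autoImplicit false
universe u
namespace Groth.Agent.Lib.Helper23.GenFin
open AlgebraicGeometry CategoryTheory CategoryTheory.Limits

theorem isIso_morphismRestrict_congr {X Y : Scheme.{u}} (f : X ⟶ Y) {W W' : Y.Opens} (e : W = W')
    (h : IsIso (f ∣_ W)) : IsIso (f ∣_ W') := by
  subst e; exact h

theorem isIntegralHom_morphismRestrict_of_eq {X Y : Scheme.{u}} {f g : Y ⟶ X} (h : g = f)
    (U : X.Opens) (hg : IsIntegralHom (g ∣_ U)) : IsIntegralHom (f ∣_ U) := by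
  subst h; exact hg

/-- Incomparability for integral morphisms of affine schemes: a generization in the same fibre
is equal. -/
theorem eq_of_specializes_of_isIntegralHom {Z V : Scheme.{u}} (ν : Z ⟶ V) [IsIntegralHom ν]
    [IsAffine V] {d d' : Z} (hs : d' ⤳ d) (he : ν d' = ν d) : d' = d := by
  haveI : IsAffine Z := isAffine_of_isAffineHom ν
  have hint : (ν.appTop).hom.IsIntegral :=
    IsIntegralHom.isIntegral_app ν ⊤ (isAffineOpen_top V)
  set q : PrimeSpectrum Γ(Z, ⊤) := Z.isoSpec.hom d with hq
  set q' : PrimeSpectrum Γ(Z, ⊤) := Z.isoSpec.hom d' with hq'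
  have hsq : q' ⤳ q := hs.map Z.isoSpec.hom.continuous
  have hle : q'.asIdeal ≤ q.asIdeal := (PrimeSpectrum.le_iff_specializes _ _).mpr hsq
  have hnat : ∀ z : Z, (Spec.map ν.appTop) (Z.isoSpec.hom z) = V.isoSpec.hom (ν z) := fun z =>
    congrArg (fun g => g.base z) (Scheme.isoSpec_hom_naturality ν)
  have hcomap : PrimeSpectrum.comap ν.appTop.hom q' = PrimeSpectrum.comap ν.appTop.hom q := by
    have h1 : (Spec.map ν.appTop) q' = (Spec.map ν.appTop) q := by
      rw [hq, hq', hnat, hnat, he]
    exact h1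
  have hqq : q' = q := by
    algebraize [ν.appTop.hom]
    haveI : Algebra.IsIntegral Γ(V, ⊤) Γ(Z, ⊤) := algebraMap_isIntegral_iff.mp hint
    by_contra hne
    have hlt : q'.asIdeal < q.asIdeal :=
      lt_of_le_of_ne hle (fun h => hne (PrimeSpectrum.ext h))
    haveI := q'.2
    haveI := q.2
    have := Ideal.IsIntegral.comap_lt_comap (R := Γ(V, ⊤)) hlt
    have h2 : q'.asIdeal.comap (algebraMap Γ(V, ⊤) Γ(Z, ⊤)) =
        q.asIdeal.comap (algebraMap Γ(V, ⊤) Γ(Z, ⊤)) := congrArg PrimeSpectrum.asIdeal hcomap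
    rw [h2] at this
    exact lt_irrefl _ this
  exact Z.isoSpec.hom.isOpenEmbedding.injective hqq

/-- Generic finiteness at a point without proper generizations: a separated morphism of finite
type to an affine scheme which is quasi-finite at all points over such a point `v` is finite over
an open neighbourhood of `v`. -/
theorem exists_isFinite_morphismRestrict_of_quasiFiniteAt {A V : Scheme.{u}} (g : A ⟶ V)
    [IsAffine V] [IsSeparated g] [LocallyOfFiniteType g] [QuasiCompact g] (v : V)
    (hv : ∀ v' : V, v' ⤳ v → v' = v) (hqf : ∀ a : A, g a = v → g.QuasiFiniteAt a) :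
    ∃ N : V.Opens, v ∈ N ∧ IsFinite (g ∣_ N) := by
  obtain ⟨U, hU, e⟩ := g.exists_isIso_morphismRestrict_toNormalization
  have hcl : IsClosed (g.fromNormalization '' (U : Set g.normalization)ᶜ) :=
    g.fromNormalization.isClosedMap _ U.2.isClosed_compl
  let N : V.Opens := ⟨(g.fromNormalization '' (U : Set g.normalization)ᶜ)ᶜ, hcl.isOpen_compl⟩
  have hNU : g.fromNormalization ⁻¹ᵁ N ≤ U := by
    intro n hn
    by_contra hcon
    exact hn ⟨n, hcon, rfl⟩
  refine ⟨N, ?_, ?_⟩
  · rintro ⟨d, hd, hdv⟩
    apply hd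
    have hdgen : ∀ d' : g.normalization, d' ⤳ d → d' = d := by
      intro d' hs
      have h1 : g.fromNormalization d' ⤳ g.fromNormalization d :=
        hs.map g.fromNormalization.continuous
      rw [hdv] at h1
      have h2 := hv _ h1
      exact eq_of_specializes_of_isIntegralHom g.fromNormalization hs (h2.trans hdv.symm)
    have hdr : d ∈ Set.range g.toNormalization := by
      by_contra hcon
      obtain ⟨O, hdO, hO⟩ := exists_opens_preimage_eq_bot g.toNormalization d hdgen hcon
      obtain ⟨_, hzO, ⟨a, rfl⟩⟩ := g.toNormalization.denseRange.inter_open_nonempty _ O.2 ⟨d, hdO⟩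
      have : a ∈ g.toNormalization ⁻¹ᵁ O := hzO
      rw [hO] at this
      exact this
    obtain ⟨a, rfl⟩ := hdr
    have hga : g a = v := by
      rw [← hdv, ← Scheme.Hom.comp_apply, g.toNormalization_fromNormalization]
    have : a ∈ (g.toNormalization ⁻¹ᵁ U).1 := by
      rw [e]; exact hqf a hga
    exact this
  · have h1 : IsIntegralHom (g ∣_ N) := by
      apply isIntegralHom_morphismRestrict_of_eq g.toNormalization_fromNormalization
      rw [morphismRestrict_comp]
      haveI : IsIso (g.toNormalization ∣_ g.fromNormalization ⁻¹ᵁ N) := by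
        have h1 : U.ι ''ᵁ (U.ι ⁻¹ᵁ (g.fromNormalization ⁻¹ᵁ N)) = g.fromNormalization ⁻¹ᵁ N := by
          rw [Scheme.Hom.image_preimage_eq_opensRange_inf, Scheme.Opens.opensRange_ι]
          exact inf_eq_right.mpr hNU
        haveI : IsIso (g.toNormalization ∣_ U) := hU
        have h2 : IsIso (g.toNormalization ∣_ U ∣_ (U.ι ⁻¹ᵁ (g.fromNormalization ⁻¹ᵁ N))) :=
          inferInstance
        have h3 : IsIso (g.toNormalization ∣_ U.ι ''ᵁ (U.ι ⁻¹ᵁ (g.fromNormalization ⁻¹ᵁ N))) :=
          (MorphismProperty.arrow_mk_iso_iff (MorphismProperty.isomorphisms _)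
            (morphismRestrictRestrict g.toNormalization U _)).mp h2
        exact isIso_morphismRestrict_congr _ h1 h3
      haveI h3 : IsIntegralHom (g.toNormalization ∣_ g.fromNormalization ⁻¹ᵁ N) := inferInstance
      haveI h4 : IsIntegralHom (g.fromNormalization ∣_ N) :=
        MorphismProperty.of_isPullback (P := @IsIntegralHom)
          (isPullback_morphismRestrict g.fromNormalization N).flip inferInstance
      exact MorphismProperty.comp_mem _ _ _ h3 h4
    rw [IsFinite.iff_isIntegralHom_and_locallyOfFiniteType]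
    exact ⟨h1, inferInstance⟩

end Groth.Agent.Lib.Helper23.GenFin
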