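import Mathlib
import Groth.Agent.Lib.Helper23.GenFin2
import Groth.Agent.Lib.Helper37.EtaleFibres

set_option autoImplicit false
universe u
namespace Groth.Agent.Lib.Helper23.GenFin
open AlgebraicGeometry CategoryTheory CategoryTheory.Limits

/-- A point whose local ring has dimension zero has no proper generizations. -/
theorem eq_of_specializes_of_ringKrullDim_stalk_eq_zero {X : Scheme.{u}} (x : X)
    (hx : ringKrullDim ↥(X.presheaf.stalk x) = 0) (x' : X) (hs : x' ⤳ x) : x' = x := by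
  have hmem : x' ∈ Set.range (X.fromSpecStalk x) := by
    rw [Scheme.range_fromSpecStalk]; exact hs
  obtain ⟨q, rfl⟩ := hmem
  haveI : Ring.KrullDimLE 0 ↥(X.presheaf.stalk x) := Ring.krullDimLE_iff.mpr (le_of_eq hx)
  haveI := q.2
  have hmax : q.asIdeal.IsMaximal := Ideal.isMaximal_of_isPrime q.asIdeal
  have hq : q = IsLocalRing.closedPoint ↥(X.presheaf.stalk x) := by
    apply PrimeSpectrum.ext
    exact IsLocalRing.eq_maximalIdeal hmax
  rw [hq, Scheme.fromSpecStalk_closedPoint]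

theorem isFinite_morphismRestrict_congr {X Y : Scheme.{u}} (f : X ⟶ Y) {W W' : Y.Opens}
    (e : W = W') (h : IsFinite (f ∣_ W)) : IsFinite (f ∣_ W') := by
  subst e; exact h

/-- Restricting a finite restriction to a smaller open. -/
theorem isFinite_morphismRestrict_of_le {X Y : Scheme.{u}} (f : X ⟶ Y) {N N' : Y.Opens}
    (hle : N' ≤ N) (h : IsFinite (f ∣_ N)) : IsFinite (f ∣_ N') := by
  have h1 : N.ι ''ᵁ (N.ι ⁻¹ᵁ N') = N' := by
    rw [Scheme.Hom.image_preimage_eq_opensRange_inf, Scheme.Opens.opensRange_ι]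
    exact inf_eq_right.mpr hle
  have h2 : IsFinite (f ∣_ N ∣_ (N.ι ⁻¹ᵁ N')) :=
    MorphismProperty.of_isPullback (P := @IsFinite)
      (isPullback_morphismRestrict (f ∣_ N) (N.ι ⁻¹ᵁ N')).flip h
  have h3 : IsFinite (f ∣_ N.ι ''ᵁ (N.ι ⁻¹ᵁ N')) :=
    (MorphismProperty.arrow_mk_iso_iff @IsFinite (morphismRestrictRestrict f N _)).mp h2
  exact isFinite_morphismRestrict_congr f h1 h3

/-- Precomposing with an etale morphism preserves quasi-finiteness at a point. -/
theorem quasiFiniteAt_comp_of_etale {R A V : Scheme.{u}} (r : R ⟶ A) (g : A ⟶ V) [Etale r]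
    (z : R) (h : g.QuasiFiniteAt (r z)) : (r ≫ g).QuasiFiniteAt z := by
  haveI : LocallyQuasiFinite r := Groth.Agent.Lib.Helper37.EtaleFibres.locallyQuasiFinite_of_etale r
  have h1 : r.QuasiFiniteAt z := r.quasiFiniteAt z
  simp only [Scheme.Hom.QuasiFiniteAt, Scheme.Hom.stalkMap_comp, CommRingCat.hom_comp] at h h1 ⊢
  exact RingHom.QuasiFinite.comp h1 h

end Groth.Agent.Lib.Helper23.GenFin
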