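import Groth.Agent.Lib.Helper23.SLQSplit5
import Groth.Agent.Lib.Helper23.GenFin3
import Groth.Agent.Lib.Helper23.AlgSpMor6
import Groth.Agent.Lib.Helper30.SepCover
import Groth.Agent.Lib.Helper17.AtlasCover

/-!
# Generic finiteness for algebraic spaces: chart restriction lemmas (helper23)
-/

set_option autoImplicit false
universe u
open CategoryTheory CategoryTheory.Limits AlgebraicGeometry Opposite

namespace Groth.Agent.Lib.Helper23.GenFin

open AlgSp Groth.Agent.Lib.Helper37.AlgSpFibres

variable {S : Scheme.{u}}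

/-- Restriction of a morphism over `S` to an open of the target. -/
noncomputable def resOver {A V : Over S} (g : A ⟶ V) (N : V.left.Opens) :
    openOver A (g.left ⁻¹ᵁ N) ⟶ openOver V N :=
  Over.homMk (g.left ∣_ N) (by
    change (g.left ∣_ N) ≫ N.ι ≫ V.hom = (g.left ⁻¹ᵁ N).ι ≫ A.hom
    rw [← Category.assoc, morphismRestrict_ι, Category.assoc, Over.w g])

@[simp] theorem resOver_left {A V : Over S} (g : A ⟶ V) (N : V.left.Opens) :
    (resOver g N).left = g.left ∣_ N := rfl

theorem isPullback_resOver {A V : Over S} (g : A ⟶ V) (N : V.left.Opens) :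
    IsPullback (resOver g N) (openι A (g.left ⁻¹ᵁ N)) (openι V N) g := by
  have h := isPullback_morphismRestrict g.left N
  have h' : IsPullback (resOver g N).left (openι A (g.left ⁻¹ᵁ N)).left (openι V N).left g.left := h
  exact IsPullback.of_map (Over.forget S) (Over.OverMorphism.ext h'.w) h'

/-- Restriction of a chart diagram over `V` to an open `N ⊆ V`. -/
theorem exists_restrict_chart {X₁ P : Sp S} {A V : Over S} (φ : X₁ ⟶ (yon S).obj V)
    (c : (yon S).obj A ⟶ X₁) (g : A ⟶ V) (hg : c ≫ φ = (yon S).map g) (N : V.left.Opens)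
    (fst : P ⟶ X₁) (snd : P ⟶ (yon S).obj (openOver V N))
    (sq : IsPullback fst snd φ ((yon S).map (openι V N))) :
    ∃ cN : (yon S).obj (openOver A (g.left ⁻¹ᵁ N)) ⟶ P,
      cN ≫ snd = (yon S).map (resOver g N) ∧
      IsPullback cN ((yon S).map (openι A (g.left ⁻¹ᵁ N))) fst c := by
  have hpb := (isPullback_resOver g N).map (yon S)
  have comm : ((yon S).map (openι A (g.left ⁻¹ᵁ N)) ≫ c) ≫ φ =
      (yon S).map (resOver g N) ≫ (yon S).map (openι V N) := by
    rw [Category.assoc, hg]; exact hpb.w.symm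
  refine ⟨sq.lift _ _ comm, sq.lift_snd _ _ comm, ?_⟩
  refine IsPullback.of_right ?_ (sq.lift_fst _ _ comm) sq.flip
  rw [sq.lift_snd, hg]
  exact hpb

/-- The self-fibre-product of a restricted chart is the restriction of the self-fibre-product. -/
theorem exists_isPullback_restrict_chart_self {X₁ P : Sp S} {A R : Over S}
    (c : (yon S).obj A ⟶ X₁) (r₁ r₂ : R ⟶ A)
    (hR : IsPullback ((yon S).map r₁) ((yon S).map r₂) c c)
    (O : A.left.Opens) (fst : P ⟶ X₁) (cN : (yon S).obj (openOver A O) ⟶ P)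
    (sqA : IsPullback cN ((yon S).map (openι A O)) fst c) :
    ∃ ρ₂ : (yon S).obj (openOver R (r₁.left ⁻¹ᵁ O)) ⟶ (yon S).obj (openOver A O),
      IsPullback ((yon S).map (resOver r₁ O)) ρ₂ cN cN := by
  have h1 := (isPullback_resOver r₁ O).map (yon S)
  have h2 := h1.paste_vert hR
  have comm : ((yon S).map (resOver r₁ O) ≫ cN) ≫ fst =
      ((yon S).map (openι R (r₁.left ⁻¹ᵁ O)) ≫ (yon S).map r₂) ≫ c := by
    rw [Category.assoc, sqA.w, ← Category.assoc, h1.w, Category.assoc, hR.w, Category.assoc]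
  refine ⟨sqA.lift _ _ comm, ?_⟩
  refine IsPullback.of_bot ?_ (sqA.lift_fst _ _ comm).symm sqA
  rw [sqA.lift_snd, sqA.w]
  exact h2

end Groth.Agent.Lib.Helper23.GenFin
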