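import Groth.Agent.Lib.Helper23.SLQSplit4

/-!
# Discrete fibres, quasi-finiteness and finiteness (helper23)
-/

set_option autoImplicit false
universe u
open CategoryTheory CategoryTheory.Limits AlgebraicGeometry Opposite

namespace Groth.Agent.Lib.Helper23.SLQSplit

open AlgSp Groth.Agent.Lib.Helper36.OpenSubspace Groth.Agent.Lib.Helper37.AlgSpPoints
  Groth.Agent.Lib.Helper46.LocPChart Groth.Agent.Lib.Helper30.EtLocalInst
  Groth.Agent.Lib.Helper23.AlgSpMor Groth.Agent.Lib.Helper36.AlgSpCharts
  Groth.Agent.Lib.Helper36.QFLocus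

variable {S : Scheme.{u}}

/-- **Separated + locally of finite type + universally closed + locally quasi-finite ⟹ finite** for
morphisms of algebraic spaces. -/
theorem isFiniteMor_of_sep_uc_lqf {X Y : Space S} (f : X ⟶ Y) (hsep : IsSeparatedMor f.hom)
    (huc : IsUnivClosedMor f.hom)
    (hq : LocP (@LocallyQuasiFinite ⊓ @LocallyOfFiniteType) f.hom) : IsFiniteMor f.hom := by
  intro Z hZ g
  haveI : IsAffine Z.left := hZ
  have sq : IsPullback (pullback.fst f.hom g) (pullback.snd f.hom g) f.hom g :=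
    IsPullback.of_hasPullback _ _
  have hP : IsAlgSpace (pullback f.hom g) :=
    isAlgSpace_of_isPullback X.property (IsAlgSpace.yon_obj Z) Y.property.diag sq
  have hsepP := isSeparatedMor_of_isPullback sq hsep
  have hqfP := locP_of_isPullback etLocal_lqf X.property Y.property hP (IsAlgSpace.yon_obj Z) sq hq
  obtain ⟨W, ⟨e⟩⟩ := Groth.Agent.Lib.Helper23.SLQ.exists_iso_of_isRepresentable
    (Groth.Agent.Lib.Helper23.SLQ.isRepresentable_of_sep_lqf hP _ hsepP hqfP)
  obtain ⟨i, hi⟩ := (yon S).map_surjective (e.hom ≫ pullback.snd f.hom g)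
  have sq' : IsPullback (e.hom ≫ pullback.fst f.hom g) ((yon S).map i) f.hom g := by
    rw [hi]
    exact IsPullback.of_iso sq e.symm (Iso.refl _) (Iso.refl _) (Iso.refl _) (by simp) (by simp)
      (by simp) (by simp)
  have hQ : (@LocallyQuasiFinite ⊓ @LocallyOfFiniteType : MorphismProperty Scheme.{u}) i.left :=
    locP_fibre etLocal_lqf X.property Y.property f.hom hq g _ _ sq' (𝟙 _) (repWith_id _ W) i
      (by rw [Category.id_comp])
  haveI hsepi : IsSeparated i.left :=
    (isSeparatedMor_yon_map_iff i).1 (isSeparatedMor_of_isPullback sq' hsep)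
  haveI huci : UniversallyClosed i.left := by
    have h1 : IsUnivClosedMor ((yon S).map i) := by
      intro Z₁ Z₁' hZ₁ g₁ fst₁ snd₁ sq₁
      exact huc hZ₁ (g₁ ≫ g) (fst₁ ≫ e.hom ≫ pullback.fst f.hom g) snd₁ (sq₁.paste_horiz sq')
    exact (repWith_yon_map_iff _ _).1
      (repWith_universallyClosed_of_isUnivClosedMor _ (representable_yon_map i) h1)
  haveI : LocallyOfFiniteType i.left := hQ.2
  haveI : LocallyQuasiFinite i.left := hQ.1
  haveI : IsProper i.left := {}
  have hfin : IsFinite i.left :=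
    (IsFinite.iff_isProper_and_locallyQuasiFinite _).2 ⟨inferInstance, inferInstance⟩
  exact ⟨W, i, _, sq', isAffine_of_isAffineHom i.left, hfin⟩

/-- The space of points of a fibre of a separated locally quasi-finite morphism is discrete. -/
theorem discreteTopology_points_fibre_of_lqf {X Y : Space S} (f : X ⟶ Y)
    (hsep : IsSeparatedMor f.hom) (hq : LocP (@LocallyQuasiFinite ⊓ @LocallyOfFiniteType) f.hom)
    (k : FieldPt Y.obj) (Xk : Sp S) (fst : Xk ⟶ X.obj) (snd : Xk ⟶ (yon S).obj k.pt)
    (sq : IsPullback fst snd f.hom k.toHom) : DiscreteTopology (Points Xk) := by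
  have hP : IsAlgSpace Xk :=
    isAlgSpace_of_isPullback X.property (IsAlgSpace.yon_obj k.pt) Y.property.diag sq
  have hsepP := isSeparatedMor_of_isPullback sq hsep
  have hqfP := locP_of_isPullback etLocal_lqf X.property Y.property hP (IsAlgSpace.yon_obj k.pt) sq hq
  obtain ⟨W, ⟨e⟩⟩ := Groth.Agent.Lib.Helper23.SLQ.exists_iso_of_isRepresentable
    (Groth.Agent.Lib.Helper23.SLQ.isRepresentable_of_sep_lqf hP _ hsepP hqfP)
  obtain ⟨i, hi⟩ := (yon S).map_surjective (e.hom ≫ snd)
  have sq' : IsPullback (e.hom ≫ fst) ((yon S).map i) f.hom k.toHom := by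
    rw [hi]
    exact IsPullback.of_iso sq e.symm (Iso.refl _) (Iso.refl _) (Iso.refl _) (by simp) (by simp)
      (by simp) (by simp)
  have hQ : (@LocallyQuasiFinite ⊓ @LocallyOfFiniteType : MorphismProperty Scheme.{u}) i.left :=
    locP_fibre etLocal_lqf X.property Y.property f.hom hq k.toHom _ _ sq' (𝟙 _) (repWith_id _ W) i
      (by rw [Category.id_comp])
  haveI : LocallyQuasiFinite i.left := hQ.1
  have hd := i.left.isDiscrete_preimage_singleton (IsLocalRing.closedPoint k.K)
  have hd2 : _root_.IsDiscrete (Set.univ : Set ↥W.left) :=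
    hd.mono (fun w _ => Subsingleton.elim (α := PrimeSpectrum k.K) _ _)
  haveI : DiscreteTopology ↥W.left := isDiscrete_univ_iff.1 hd2
  -- transport along the homeomorphisms
  let φ : ↥W.left → Points Xk := fun w => Points.map e.hom (Points.ofScheme W w)
  have hφs : Function.Surjective φ := by
    intro ξ
    obtain ⟨w, hw⟩ := (Points.schemeEquiv W).surjective (Points.map e.inv ξ)
    refine ⟨w, ?_⟩
    show Points.map e.hom (Points.ofScheme W w) = ξ
    have hw' : Points.ofScheme W w = Points.map e.inv ξ := hw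
    rw [hw', ← Points.map_comp, e.inv_hom_id, Points.map_id]
  have hφo : IsOpenMap φ := by
    intro A hA
    have h1 : IsOpen (Points.map e.inv ⁻¹' ((Points.schemeHomeo W) '' A)) :=
      ((Points.schemeHomeo W).isOpenMap A hA).preimage (Points.continuous_map e.inv)
    convert h1 using 1
    ext ξ
    constructor
    · rintro ⟨w, hw, rfl⟩
      refine ⟨w, hw, ?_⟩
      show Points.ofScheme W w = Points.map e.inv (Points.map e.hom (Points.ofScheme W w))
      rw [← Points.map_comp, e.hom_inv_id, Points.map_id]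
    · rintro ⟨w, hw, hw2⟩
      refine ⟨w, hw, ?_⟩
      show Points.map e.hom (Points.ofScheme W w) = ξ
      have hw2' : Points.ofScheme W w = Points.map e.inv ξ := hw2
      rw [hw2', ← Points.map_comp, e.inv_hom_id, Points.map_id]
  rw [discreteTopology_iff_isOpen_singleton]
  intro ξ
  obtain ⟨w, rfl⟩ := hφs ξ
  have := hφo {w} (isOpen_discrete _)
  rwa [Set.image_singleton] at this

/-- If every point of the fibre of a quasi-separated morphism locally of finite type over a
field-valued point has a finite open neighbourhood (e.g. the fibre is finite, or discrete), the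
morphism is quasi-finite at every point over it. -/
theorem mem_qfLocus_of_locally_finite_fibre {X Y : Space S} (f : X ⟶ Y)
    (hf1 : LocP @LocallyOfFiniteType f.hom) (hqs : IsQuasiSeparatedMor f.hom) (yb : FieldPt Y.obj)
    (Xy : Sp S) (fst : Xy ⟶ X.obj) (snd : Xy ⟶ (yon S).obj yb.pt)
    (hsq : IsPullback fst snd f.hom yb.toHom)
    (hloc : ∀ ξ : Points Xy, ∃ N : Set (Points Xy), IsOpen N ∧ ξ ∈ N ∧ N.Finite)
    (x : Points X.obj) (hx : Points.map f.hom x = Points.mk yb) : x ∈ qfLocus f := by
  obtain ⟨U, V₁, a, b, h, hae, has, hbe, hbs, weq⟩ :=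
    Groth.Agent.Lib.Helper36.AlgSpChartDiag.exists_chart_diagram f
  obtain ⟨T, τ₁, τ₂, sqT⟩ := exists_isPullback_yon yb.toHom b hbe.rep
  have hτ₁e : Etale τ₁.left := prop_fst_of_isPullback sqT hbe
  obtain ⟨UT, π₁, π₂, sqU0⟩ : ∃ (UT : Over S) (π₁ : UT ⟶ U) (π₂ : UT ⟶ T), IsPullback π₁ π₂ h τ₂ :=
    ⟨_, _, _, IsPullback.of_hasPullback h τ₂⟩
  have sqU : IsPullback ((yon S).map π₁) ((yon S).map π₂) ((yon S).map h) ((yon S).map τ₂) :=
    sqU0.map (yon S)
  have sqUl : IsPullback π₁.left π₂.left h.left τ₂.left := sqU0.map (Over.forget S)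
  have outer : IsPullback ((yon S).map π₂ ≫ (yon S).map τ₁) ((yon S).map π₁) yb.toHom
      ((yon S).map h ≫ b) := sqU.flip.paste_horiz sqT
  rw [← weq] at outer
  obtain ⟨c, hc1, hc2⟩ := hsq.exists_lift ((yon S).map π₁ ≫ a)
    ((yon S).map π₂ ≫ (yon S).map τ₁) (by rw [Category.assoc, outer.w])
  have sqc : IsPullback c ((yon S).map π₁) fst a := by
    refine IsPullback.of_right ?_ hc1 hsq.flip
    rw [hc2]; exact outer
  have hce : RepWith @Etale c := (RepWith @Etale).of_isPullback sqc.flip hae
  have hcs : RepWith @Surjective c := (RepWith @Surjective).of_isPullback sqc.flip has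
  have hdec : IsDecent Xy :=
    Groth.Agent.Lib.Helper37.DecentMor2.isDecentMor_of_isQuasiSeparatedMor f hqs yb.toHom fst snd hsq
  haveI hlfth : LocallyOfFiniteType h.left := hf1 a b h hae hbe weq
  haveI hlftπ : LocallyOfFiniteType π₂.left :=
    MorphismProperty.of_isPullback (P := @LocallyOfFiniteType) sqUl hlfth
  haveI hlftT : LocallyOfFiniteType (π₂ ≫ τ₁).left := by
    rw [Over.comp_left]; infer_instance
  have key : ∀ u' : ↥UT.left, (π₂ ≫ τ₁).left.QuasiFiniteAt u' := by
    intro u'
    obtain ⟨N, hNo, hξN, hNfin⟩ := hloc (Points.ofPt c u')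
    have hpre : IsOpen (Points.ofPt c ⁻¹' N) := hNo.preimage (Points.continuous_ofPt c)
    obtain ⟨_, ⟨O, hO, rfl⟩, hu'O, hON⟩ :=
      UT.left.isBasis_affineOpens.exists_subset_of_mem_open (show u' ∈ Points.ofPt c ⁻¹' N from hξN)
        hpre
    refine quasiFiniteAt_of_finite_nhd (K := yb.K) (π₂ ≫ τ₁).left u' O hu'O ?_
    haveI : IsAffine (overOpens UT O).left := hO
    have hcO : RepWith @Etale ((yon S).map (overOpensι UT O) ≫ c) :=
      (RepWith @Etale).comp_mem _ _ (repWith_etale_overOpensι UT O) hce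
    have hfib : ∀ ξ : Points Xy,
        (Points.ofPt ((yon S).map (overOpensι UT O) ≫ c) ⁻¹' {ξ}).Finite := by
      intro ξ
      obtain ⟨p, rfl, -, hpq⟩ := hdec ξ
      exact Groth.Agent.Lib.Helper37.AlgSpFibres.finite_fibre_of_qc_point p hpq _ hcO
    have huniv : (Set.univ : Set ↥(overOpens UT O).left) ⊆
        ⋃ ξ ∈ N, Points.ofPt ((yon S).map (overOpensι UT O) ≫ c) ⁻¹' {ξ} := by
      intro w _
      refine Set.mem_biUnion (x := Points.ofPt ((yon S).map (overOpensι UT O) ≫ c) w) ?_ rfl
      rw [ofPt_overOpensι_comp]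
      exact hON w.2
    have hfinO : (Set.univ : Set ↥(overOpens UT O).left).Finite :=
      (Set.Finite.biUnion hNfin (fun ξ _ => hfib ξ)).subset huniv
    have himg := hfinO.image (Scheme.Opens.ι (X := UT.left) O)
    rw [Set.image_univ] at himg
    have hr : Set.range (Scheme.Opens.ι (X := UT.left) O) = (O : Set ↥UT.left) :=
      Scheme.Opens.range_ι O
    rw [← hr]
    exact himg
  have e0 : Points.map f.hom x =
      Points.map yb.toHom (Points.ofScheme yb.pt (IsLocalRing.closedPoint yb.K)) := by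
    rw [hx, ← Points.ofPt_eq_map_ofScheme, Points.ofPt_toHom]
  obtain ⟨ξ, hξ1, -⟩ := points_exists_of_isPullback hsq x _ e0
  obtain ⟨u', rfl⟩ := ofPt_surjective c hcs ξ
  haveI : LocallyQuasiFinite τ₁.left :=
    Groth.Agent.Lib.Helper37.EtaleFibres.locallyQuasiFinite_of_etale τ₁.left
  have hq2 : π₂.left.QuasiFiniteAt u' := by
    have := key u'
    rw [Over.comp_left] at this
    exact (Scheme.Hom.quasiFiniteAt_comp_iff (f := π₂.left) (g := τ₁.left)).1 this
  have hq3 : h.left.QuasiFiniteAt (π₁.left u') :=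
    (Groth.Agent.Lib.Helper36.QuasiFiniteAt.quasiFiniteAt_iff_of_isPullback h.left π₂.left π₁.left
      τ₂.left sqUl u').1 hq2
  rw [← hξ1, Points.map_ofPt, hc1, ofPt_map_comp]
  exact (mem_qfLocus_iff_of_chart f hf1 a b h hae hbe weq (π₁.left u')).2 hq3

/-- A morphism locally of finite type all of whose points lie in the quasi-finite locus is locally
quasi-finite. -/
theorem locP_lqf_of_qfLocus_eq_univ {X Y : Space S} (f : X ⟶ Y)
    (hf1 : LocP @LocallyOfFiniteType f.hom) (hall : ∀ x : Points X.obj, x ∈ qfLocus f) :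
    LocP (@LocallyQuasiFinite ⊓ @LocallyOfFiniteType) f.hom := by
  intro U V a b h ha hb w
  have hlft : LocallyOfFiniteType h.left := hf1 a b h ha hb w
  refine ⟨?_, hlft⟩
  rw [← Scheme.Hom.quasiFiniteLocus_eq_top_iff]
  apply top_le_iff.mp
  intro u _
  exact (mem_qfLocus_iff_of_chart f hf1 a b h ha hb w u).1 (hall _)

/-- A quasi-separated morphism locally of finite type whose fibres over field-valued points have
discrete spaces of points is locally quasi-finite. -/
theorem locP_lqf_of_discrete_fibres {X Y : Space S} (f : X ⟶ Y)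
    (hf1 : LocP @LocallyOfFiniteType f.hom) (hqs : IsQuasiSeparatedMor f.hom)
    (hd : ∀ (k : FieldPt Y.obj) (Xk : Sp S) (fst : Xk ⟶ X.obj) (snd : Xk ⟶ (yon S).obj k.pt),
      IsPullback fst snd f.hom k.toHom → DiscreteTopology (Points Xk)) :
    LocP (@LocallyQuasiFinite ⊓ @LocallyOfFiniteType) f.hom := by
  refine locP_lqf_of_qfLocus_eq_univ f hf1 fun x => ?_
  obtain ⟨k, hk⟩ := Points.mk_surjective (Points.map f.hom x)
  have sq : IsPullback (pullback.fst f.hom k.toHom) (pullback.snd f.hom k.toHom) f.hom k.toHom :=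
    IsPullback.of_hasPullback _ _
  haveI := hd k _ _ _ sq
  refine mem_qfLocus_of_locally_finite_fibre f hf1 hqs k _ _ _ sq (fun ξ => ?_) x hk.symm
  exact ⟨{ξ}, isOpen_discrete _, rfl, Set.finite_singleton ξ⟩

end Groth.Agent.Lib.Helper23.SLQSplit
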