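import Groth.Agent.Lib.Helper23.GenFin4
import Groth.Agent.S16833

/-!
# Generic finiteness for algebraic spaces over an affine base (helper23)
-/

set_option autoImplicit false
universe u
open CategoryTheory CategoryTheory.Limits AlgebraicGeometry Opposite

namespace Groth.Agent.Lib.Helper23.GenFin

open AlgSp Groth.Agent.Lib.Helper37.AlgSpFibres Groth.Agent.Lib.Helper23.AlgSpMor
  Groth.Agent.Lib.Helper23.SLQSplit

variable {S : Scheme.{u}}

/-- The canonical map `A ×_X A ⟶ A ×_V A` at the level of schemes. -/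
theorem exists_kappa {X₁ : Sp S} {A R V : Over S} (φ : X₁ ⟶ (yon S).obj V)
    (c : (yon S).obj A ⟶ X₁) (g : A ⟶ V) (hg : c ≫ φ = (yon S).map g) (r₁ r₂ : R ⟶ A)
    (hR : IsPullback ((yon S).map r₁) ((yon S).map r₂) c c) :
    ∃ κ : R ⟶ pullback g g, κ ≫ pullback.fst g g = r₁ ∧ κ ≫ pullback.snd g g = r₂ ∧
      Mono κ.left ∧ (IsQuasiSeparatedMor φ → QuasiCompact κ.left) := by
  have hQ := (IsPullback.of_hasPullback g g).map (yon S)
  have comm : (yon S).map r₁ ≫ (yon S).map g = (yon S).map r₂ ≫ (yon S).map g := by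
    rw [← hg, ← Category.assoc, hR.w, Category.assoc]
  obtain ⟨κ, hκ⟩ := (yon S).map_surjective (hQ.lift _ _ comm)
  have hc₁ : (yon S).map κ ≫ (yon S).map (pullback.fst g g) = (yon S).map r₁ := by
    rw [hκ, hQ.lift_fst]
  have hc₂ : (yon S).map κ ≫ (yon S).map (pullback.snd g g) = (yon S).map r₂ := by
    rw [hκ, hQ.lift_snd]
  have hmc : ((yon S).map (pullback.fst g g) ≫ c) ≫ φ = ((yon S).map (pullback.snd g g) ≫ c) ≫ φ := by
    rw [Category.assoc, Category.assoc, hg, hQ.w]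
  let m : (yon S).obj (pullback g g) ⟶ pullback φ φ := pullback.lift _ _ hmc
  have sqD := Groth.Agent.Lib.Helper30.SepCover.isPullback_diagonal_of_fibre_products φ c c hR hg hg
    hQ ((yon S).map κ) hc₁ hc₂ m (pullback.lift_fst _ _ hmc) (pullback.lift_snd _ _ hmc)
  have hmono : Mono ((yon S).map κ) := sqD.mono_snd_of_mono
  haveI : Mono κ := (yon S).mono_of_mono_map hmono
  refine ⟨κ, (yon S).map_injective (by rw [Functor.map_comp, hc₁]),
    (yon S).map_injective (by rw [Functor.map_comp, hc₂]), inferInstance, fun hqs => ?_⟩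
  have h1 : RepWith @QuasiCompact ((yon S).map κ) := (RepWith @QuasiCompact).of_isPullback sqD hqs
  exact (repWith_yon_map_iff @QuasiCompact κ).1 h1

/-- **Generic finiteness over an affine base.** -/
theorem exists_opens_isFiniteMor {X₁ : Sp S} (hX₁ : IsAlgSpace X₁) {V : Over S} [IsAffine V.left]
    (φ : X₁ ⟶ (yon S).obj V) (hqc : IsQuasiCompactSp X₁) (hqs : IsQuasiSeparatedMor φ)
    (hlft : ∀ ⦃A : Over S⦄ (c : (yon S).obj A ⟶ X₁) (g : A ⟶ V), RepWith @Etale c →
      c ≫ φ = (yon S).map g → LocallyOfFiniteType g.left)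
    (v : ↥V.left) (hv : ∀ v' : ↥V.left, v' ⤳ v → v' = v)
    (hqf : ∀ ⦃A : Over S⦄ (c : (yon S).obj A ⟶ X₁) (g : A ⟶ V), RepWith @Etale c →
      c ≫ φ = (yon S).map g → ∀ a : ↥A.left, g.left a = v → g.left.QuasiFiniteAt a) :
    ∃ N : V.left.Opens, v ∈ N ∧ ∀ (P : Sp S) (fst : P ⟶ X₁)
      (snd : P ⟶ (yon S).obj (openOver V N)),
      IsPullback fst snd φ ((yon S).map (openι V N)) → IsFiniteMor snd := by
  obtain ⟨A, c, hA, hce, hcs⟩ := exists_affine_chart_of_isQuasiCompactSp hqc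
  haveI : IsAffine A.left := hA
  obtain ⟨g, hg⟩ := (yon S).map_surjective (c ≫ φ)
  haveI : LocallyOfFiniteType g.left := hlft c g hce hg.symm
  haveI : IsAffineHom g.left := isAffineHom_of_isAffine _
  obtain ⟨N₁, hvN₁, hN₁⟩ :=
    exists_isFinite_morphismRestrict_of_quasiFiniteAt g.left v hv (hqf c g hce hg.symm)
  -- the scheme `R = A ×_X A`
  have hrep := hce.rep
  let R := hrep.pullback c
  let r₁ : R ⟶ A := hrep.fst' c
  let r₂ : R ⟶ A := hrep.snd c
  have hR : IsPullback ((yon S).map r₁) ((yon S).map r₂) c c := hrep.isPullback' c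
  haveI hr₁ : Etale r₁.left := hce.property c _ _ hR.flip
  obtain ⟨κ, hκ₁, hκ₂, hκm, hκq⟩ := exists_kappa φ c g hg.symm r₁ r₂ hR
  haveI := hκm
  haveI : QuasiCompact κ.left := hκq hqs
  have hρ : r₁.left ≫ g.left = κ.left ≫ (pullback.fst g g).left ≫ g.left := by
    rw [← hκ₁]; rfl
  have sqO := (IsPullback.of_hasPullback g g).map (Over.forget S)
  haveI : QuasiCompact (pullback.fst g g).left :=
    MorphismProperty.of_isPullback (P := @QuasiCompact) sqO.flip (inferInstance : QuasiCompact g.left)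
  haveI : IsSeparated (pullback.fst g g).left :=
    MorphismProperty.of_isPullback (P := @IsSeparated) sqO.flip (inferInstance : IsSeparated g.left)
  haveI : QuasiCompact (r₁.left ≫ g.left) := by rw [hρ]; infer_instance
  haveI : IsSeparated (r₁.left ≫ g.left) := by rw [hρ]; infer_instance
  haveI : LocallyOfFiniteType (r₁.left ≫ g.left) := inferInstance
  obtain ⟨N₂, hvN₂, hN₂⟩ :=
    exists_isFinite_morphismRestrict_of_quasiFiniteAt (r₁.left ≫ g.left) v hv
      (fun z hz => quasiFiniteAt_comp_of_etale r₁.left g.left z (hqf c g hce hg.symm _ hz))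
  refine ⟨N₁ ⊓ N₂, ⟨hvN₁, hvN₂⟩, ?_⟩
  intro P fst snd sq
  obtain ⟨cN, hcN, sqA⟩ := exists_restrict_chart φ c g hg.symm (N₁ ⊓ N₂) fst snd sq
  have hP : IsAlgSpace P :=
    isAlgSpace_of_isPullback hX₁ (IsAlgSpace.yon_obj _) (IsAlgSpace.yon_obj V).diag sq
  have hcNe : RepWith @Etale cN := (RepWith @Etale).of_isPullback sqA.flip hce
  have hcNs : RepWith @Surjective cN := (RepWith @Surjective).of_isPullback sqA.flip hcs
  haveI hfin1 : IsFinite (resOver g (N₁ ⊓ N₂)).left :=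
    isFinite_morphismRestrict_of_le g.left inf_le_left hN₁
  have hfin2 : IsFinite ((r₁.left ≫ g.left) ∣_ (N₁ ⊓ N₂)) :=
    isFinite_morphismRestrict_of_le _ inf_le_right hN₂
  -- separatedness
  obtain ⟨ρ₂, hPB⟩ :=
    exists_isPullback_restrict_chart_self c r₁ r₂ hR (g.left ⁻¹ᵁ (N₁ ⊓ N₂)) fst cN sqA
  let gN := resOver g (N₁ ⊓ N₂)
  have hQN := (IsPullback.of_hasPullback gN gN).map (yon S)
  have commN : (yon S).map (resOver r₁ (g.left ⁻¹ᵁ (N₁ ⊓ N₂))) ≫ (yon S).map gN =
      ρ₂ ≫ (yon S).map gN := by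
    rw [← hcN, ← Category.assoc, hPB.w, Category.assoc]
  obtain ⟨κN, hκN⟩ := (yon S).map_surjective (hQN.lift _ _ commN)
  have hκN₁ : (yon S).map κN ≫ (yon S).map (pullback.fst gN gN) =
      (yon S).map (resOver r₁ (g.left ⁻¹ᵁ (N₁ ⊓ N₂))) := by rw [hκN, hQN.lift_fst]
  have hκN₂ : (yon S).map κN ≫ (yon S).map (pullback.snd gN gN) = ρ₂ := by
    rw [hκN, hQN.lift_snd]
  have hmono : Mono ((yon S).map κN) := ⟨fun x y h => hPB.hom_ext
    (by rw [← hκN₁, ← Category.assoc, h, Category.assoc])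
    (by rw [← hκN₂, ← Category.assoc, h, Category.assoc])⟩
  haveI : Mono κN := (yon S).mono_of_mono_map hmono
  have hcl : IsClosedImmersion κN.left := by
    rw [IsClosedImmersion.iff_isFinite_and_mono]
    refine ⟨?_, inferInstance⟩
    have sqON := (IsPullback.of_hasPullback gN gN).map (Over.forget S)
    haveI : IsFinite gN.left := hfin1
    haveI : IsFinite (pullback.fst gN gN).left :=
      MorphismProperty.of_isPullback (P := @IsFinite) sqON.flip (inferInstance : IsFinite gN.left)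
    have e0 : κN ≫ pullback.fst gN gN = resOver r₁ (g.left ⁻¹ᵁ (N₁ ⊓ N₂)) :=
      (yon S).map_injective (by rw [Functor.map_comp, hκN₁])
    have e : κN.left ≫ (pullback.fst gN gN).left ≫ gN.left =
        (r₁.left ≫ g.left) ∣_ (N₁ ⊓ N₂) := by
      rw [← Category.assoc, ← Over.comp_left, e0, morphismRestrict_comp]
      rfl
    haveI : IsFinite (κN.left ≫ (pullback.fst gN gN).left ≫ gN.left) := by
      rw [e]; exact hfin2
    exact IsFinite.of_comp κN.left ((pullback.fst gN gN).left ≫ gN.left)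
  have hsep : IsSeparatedMor snd := by
    refine Groth.Agent.Lib.Helper30.SepCover.isSeparatedMor_of_etale_cover hP (IsAlgSpace.yon_obj _)
      snd (fun _ : PUnit.{u + 1} => (yon S).obj (openOver A (g.left ⁻¹ᵁ (N₁ ⊓ N₂))))
      (fun _ => IsAlgSpace.yon_obj _) (fun _ => cN)
      (fun _ => Groth.Agent.Lib.Helper17.ACov.isEtaleMor_of_repWith cN hcNe)
      (fun x => ⟨PUnit.unit, Groth.Agent.Lib.Helper17.ACov.points_map_surjective cN hcNs x⟩)
      (fun _ _ => (yon S).obj (openOver R (r₁.left ⁻¹ᵁ (g.left ⁻¹ᵁ (N₁ ⊓ N₂)))))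
      (fun _ _ => (yon S).obj (pullback gN gN))
      (fun _ _ => (yon S).map (resOver r₁ (g.left ⁻¹ᵁ (N₁ ⊓ N₂)))) (fun _ _ => ρ₂)
      (fun _ _ => hPB)
      (fun _ _ => (yon S).map (pullback.fst gN gN)) (fun _ _ => (yon S).map (pullback.snd gN gN))
      (fun _ _ => by rw [hcN]; exact hQN) (fun _ _ => (yon S).map κN) (fun _ _ => hκN₁)
      (fun _ _ => hκN₂) (fun _ _ => (repWith_yon_map_iff @IsClosedImmersion κN).2 hcl)
  have hfinM : IsFiniteMor (cN ≫ snd) := by rw [hcN]; exact isFiniteMor_yon_map gN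
  exact Groth.Agent.S16833.result
    (U := ⟨(yon S).obj (openOver A (g.left ⁻¹ᵁ (N₁ ⊓ N₂))), IsAlgSpace.yon_obj _⟩) (X := ⟨P, hP⟩)
    (Y := ⟨(yon S).obj (openOver V (N₁ ⊓ N₂)), IsAlgSpace.yon_obj _⟩)
    (ObjectProperty.homMk cN) (ObjectProperty.homMk snd)
    (Groth.Agent.Lib.Helper17.ACov.isEtaleMor_of_repWith cN hcNe)
    (Groth.Agent.Lib.Helper17.ACov.points_map_surjective cN hcNs) hsep hfinM

end Groth.Agent.Lib.Helper23.GenFin
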