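import Groth.Agent.Lib.Helper23.GenFin5
import Groth.Agent.Lib.Helper23.AlgSpTopo
import Groth.Agent.Lib.Helper23.AlgSpQc2
import Groth.Agent.Lib.Helper30.LocPNbhd
import Groth.Agent.Lib.Helper37.QsSober

/-!
# Auxiliary lemmas for finiteness over a neighbourhood of a codimension-0 point (helper23)
-/

set_option autoImplicit false
universe u
open CategoryTheory CategoryTheory.Limits AlgebraicGeometry Opposite

namespace Groth.Agent.Lib.Helper23.GenFin

open AlgSp Groth.Agent.Lib.Helper37.AlgSpFibres Groth.Agent.Lib.Helper23.AlgSpMor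
  Groth.Agent.Lib.Helper23.SLQSplit Groth.Agent.Lib.Helper37.AlgSpPoints
  Groth.Agent.Lib.Helper36.OpenSubspace Groth.Agent.Lib.Helper36.QFLocus

variable {S : Scheme.{u}}

/-- A finite morphism of algebraic spaces has finite fibres on points. -/
theorem finite_fibre_of_isFiniteMor {X' : Sp S} (Y' : Space S) (f' : X' ⟶ Y'.obj)
    (hf : IsFiniteMor f') (y' : Points Y'.obj) : (Points.map f' ⁻¹' {y'}).Finite := by
  obtain ⟨V, b, v, hV, hb, rfl⟩ := Groth.Agent.Lib.Helper37.QsSober.exists_affine_chart Y' y'
  obtain ⟨W, i₀, fst, sq, -, hfin⟩ := hf hV b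
  haveI : IsFinite i₀.left := hfin
  have hfib : (i₀.left ⁻¹' {v}).Finite := i₀.left.finite_preimage_singleton v
  refine (hfib.image (Points.ofPt fst)).subset ?_
  intro x' hx'
  have e : Points.map f' x' = Points.map b (Points.ofScheme V v) := by
    rw [← Points.ofPt_eq_map_ofScheme]; exact hx'
  obtain ⟨p, hp1, hp2⟩ := points_exists_of_isPullback sq x' (Points.ofScheme V v) e
  obtain ⟨w, rfl⟩ := (Points.schemeEquiv W).surjective p
  have hw : i₀.left w = v := by
    have h1 : Points.map ((yon S).map i₀) (Points.ofScheme W w) = Points.ofScheme V (i₀.left w) :=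
      Points.map_yon_map_apply i₀ w
    exact (Points.schemeEquiv V).injective (h1.symm.trans hp2)
  exact ⟨w, hw, (Points.ofPt_eq_map_ofScheme fst w).trans hp1⟩

/-- A finite set of points of an algebraic space lies in a quasi-compact open. -/
theorem exists_isOpen_isCompact_of_finite (X : Space S) (F : Set (Points X.obj)) (hF : F.Finite) :
    ∃ W : Set (Points X.obj), IsOpen W ∧ IsCompact W ∧ F ⊆ W := by
  classical
  choose V a v hV ha hav using fun x : Points X.obj =>
    Groth.Agent.Lib.Helper37.QsSober.exists_affine_chart X x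
  refine ⟨⋃ x ∈ F, Set.range (Points.ofPt (a x)), ?_, ?_, ?_⟩
  · exact isOpen_biUnion fun x _ => (isOpenMap_ofPt (a x) (ha x)).isOpen_range
  · refine hF.isCompact_biUnion fun x _ => ?_
    haveI : IsAffine (V x).left := hV x
    exact isCompact_range (Points.continuous_ofPt (a x))
  · intro x hx
    exact Set.mem_biUnion hx ⟨v x, hav x⟩

/-- The open subspace on a compact open set of points is quasi-compact. -/
theorem isQuasiCompactSp_openSub (X : Space S) (W : Set (Points X.obj)) (hW : IsOpen W)
    (hWc : IsCompact W) : IsQuasiCompactSp (openSub X.obj W) := by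
  have hX' : IsAlgSpace (openSub X.obj W) := isAlgSpace_openSub X.obj X.property W hW
  have hind : Topology.IsInducing (Points.map (openSubι X.obj W)) :=
    isInducing_points_of_repWith (Q := @IsOpenImmersion)
      (fun f hf => by haveI := hf; exact f.isOpenEmbedding.isInducing) X.property _
      (repWith_isOpenImmersion_openSubι X.obj W hW)
  haveI : CompactSpace (Points (openSub X.obj W)) := by
    rw [← isCompact_univ_iff, hind.isCompact_iff, Set.image_univ, range_map_openSubι]
    exact hWc
  exact isQuasiCompactSp_of_compactSpace hX'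

/-- Precomposing a quasi-separated morphism with a monomorphism gives a quasi-separated
morphism. -/
theorem isQuasiSeparatedMor_mono_comp {X' X Y : Sp S} (i : X' ⟶ X) [Mono i] (f : X ⟶ Y)
    (hf : IsQuasiSeparatedMor f) : IsQuasiSeparatedMor (i ≫ f) := by
  have hP : IsPullback (𝟙 X') (𝟙 X') i i := IsPullback.of_horiz_isIso_mono ⟨rfl⟩
  have hQ : IsPullback (pullback.fst (i ≫ f) (i ≫ f)) (pullback.snd (i ≫ f) (i ≫ f)) (i ≫ f)
      (i ≫ f) := IsPullback.of_hasPullback _ _
  have hmc : (pullback.fst (i ≫ f) (i ≫ f) ≫ i) ≫ f = (pullback.snd (i ≫ f) (i ≫ f) ≫ i) ≫ f := by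
    rw [Category.assoc, Category.assoc]; exact hQ.w
  have sqD := Groth.Agent.Lib.Helper30.SepCover.isPullback_diagonal_of_fibre_products f i i hP rfl
    rfl hQ (pullback.diagonal (i ≫ f)) (pullback.diagonal_fst _) (pullback.diagonal_snd _)
    (pullback.lift _ _ hmc) (pullback.lift_fst _ _ hmc) (pullback.lift_snd _ _ hmc)
  exact (RepWith @QuasiCompact).of_isPullback sqD hf

/-- From membership in the quasi-finite locus to the template form of quasi-finiteness at a
point. -/
theorem hasAtMor_lqf_of_mem_qfLocus {X Y : Space S} (f : X ⟶ Y)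
    (hft : LocP @LocallyOfFiniteType f.hom) (x : Points X.obj) (hx : x ∈ qfLocus f) :
    HasAtMor (fun U _ h u => ∃ W : U.Opens, u ∈ W ∧ LocallyQuasiFinite (W.ι ≫ h) ∧
      LocallyOfFiniteType (W.ι ≫ h)) f.hom x := by
  obtain ⟨W, V, a, b, h, w, hae, -, hbe, -, weq, hw, -⟩ :=
    Groth.Agent.Lib.Helper36.AlgSpChartDiag.exists_chart_diagram_at f x
  haveI : LocallyOfFiniteType h.left := hft a b h hae hbe weq
  have hq : h.left.QuasiFiniteAt w :=
    (mem_qfLocus_iff_of_chart f hft a b h hae hbe weq w).1 (hw ▸ hx)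
  exact ⟨W, V, a, b, h, w, hae, hbe, weq, hw,
    (Groth.Agent.Lib.Helper36.QuasiFiniteAt.exists_opens_lqf_iff_quasiFiniteAt h.left w).2 hq⟩

end Groth.Agent.Lib.Helper23.GenFin
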