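import Mathlib
import Groth.Agent.Lib.Helper23.GenFin3
import Groth.Agent.Lib.Helper37.QsSober

set_option autoImplicit false
universe u
namespace Groth.Agent.Lib.Helper23.GenFin
open AlgebraicGeometry CategoryTheory CategoryTheory.Limits

/-- Every point of a scheme has a generization without proper generizations. -/
theorem exists_minimal_generization {U : Scheme.{u}} (u₀ : U) :
    ∃ w : U, w ⤳ u₀ ∧ ∀ w' : U, w' ⤳ w → w' = w := by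
  obtain ⟨w, -, hw, hmin⟩ := Groth.Agent.Lib.Helper37.QsSober.exists_minimal_generalization
    (V := ↥U) (W := Set.univ) isClosed_univ (Set.mem_univ u₀)
  exact ⟨w, hw, fun w' hw' => hmin w' (Set.mem_univ _) hw'⟩

/-- Generic finiteness at a point without proper generizations, for a separated morphism locally
of finite type which need not be quasi-compact: finite fibre of quasi-finite points, and no other
minimal points of the source nearby. -/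
theorem exists_isFinite_morphismRestrict_of_separated {R V : Scheme.{u}} (g : R ⟶ V)
    [IsAffine V] [IsSeparated g] [LocallyOfFiniteType g] (v : V)
    (hv : ∀ v' : V, v' ⤳ v → v' = v) (hT : (g ⁻¹' {v}).Finite)
    (hqf : ∀ z : R, g z = v → g.QuasiFiniteAt z)
    (N₀ : V.Opens) (hvN₀ : v ∈ N₀)
    (hmin : ∀ z : R, g z ∈ N₀ → (∀ z' : R, z' ⤳ z → z' = z) → g z = v) :
    ∃ N : V.Opens, v ∈ N ∧ IsFinite (g ∣_ N) := by
  classical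
  haveI : Finite ↥(g ⁻¹' {v}) := hT.to_subtype
  have hex : ∀ z : R, ∃ U : R.Opens, IsAffineOpen U ∧ z ∈ U := by
    intro z
    obtain ⟨_, ⟨U, hU, rfl⟩, hz, -⟩ :=
      R.isBasis_affineOpens.exists_subset_of_mem_open (Set.mem_univ z) isOpen_univ
    exact ⟨U, hU, hz⟩
  choose U hU hzU using hex
  let R' : R.Opens := ⨆ z : ↥(g ⁻¹' {v}), U z.1
  have hR'c : IsCompact (R' : Set R) := by
    have : (R' : Set R) = ⋃ z : ↥(g ⁻¹' {v}), (U z.1 : Set R) := by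
      simp only [R', TopologicalSpace.Opens.coe_iSup]
    rw [this]
    exact isCompact_iUnion fun z => (hU z.1).isCompact
  have hTR' : ∀ z, g z = v → z ∈ R' := fun z hz =>
    TopologicalSpace.Opens.mem_iSup.mpr ⟨⟨z, hz⟩, hzU z⟩
  haveI : CompactSpace ↥R'.toScheme := isCompact_iff_compactSpace.mp hR'c
  haveI : QuasiCompact (R'.ι ≫ g) :=
    (HasAffineProperty.iff_of_isAffine (P := @QuasiCompact)).mpr (by infer_instance)
  obtain ⟨N₁, hvN₁, hN₁⟩ := exists_isFinite_morphismRestrict_of_quasiFiniteAt (R'.ι ≫ g) v hv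
    (fun a ha => (Scheme.Hom.quasiFiniteAt_comp_iff_of_isOpenImmersion (f := R'.ι) (g := g)
      (x := a)).2 (hqf _ ha))
  refine ⟨N₀ ⊓ N₁, ⟨hvN₀, hvN₁⟩, ?_⟩
  have hfinN : IsFinite ((R'.ι ≫ g) ∣_ (N₀ ⊓ N₁)) :=
    isFinite_morphismRestrict_of_le (R'.ι ≫ g) inf_le_right hN₁
  have hcomp : (R'.ι ≫ g) ∣_ (N₀ ⊓ N₁) = (R'.ι ∣_ (g ⁻¹ᵁ (N₀ ⊓ N₁))) ≫ (g ∣_ (N₀ ⊓ N₁)) :=
    morphismRestrict_comp _ _ _
  haveI : IsSeparated (g ∣_ (N₀ ⊓ N₁)) :=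
    MorphismProperty.of_isPullback (P := @IsSeparated)
      (isPullback_morphismRestrict g (N₀ ⊓ N₁)).flip inferInstance
  haveI : IsFinite ((R'.ι ∣_ (g ⁻¹ᵁ (N₀ ⊓ N₁))) ≫ (g ∣_ (N₀ ⊓ N₁))) := hcomp ▸ hfinN
  haveI : IsProper (R'.ι ∣_ (g ⁻¹ᵁ (N₀ ⊓ N₁))) :=
    IsProper.of_comp (R'.ι ∣_ (g ⁻¹ᵁ (N₀ ⊓ N₁))) (g ∣_ (N₀ ⊓ N₁))
  have hcl : IsClosed (Set.range (R'.ι ∣_ (g ⁻¹ᵁ (N₀ ⊓ N₁)))) :=
    (R'.ι ∣_ (g ⁻¹ᵁ (N₀ ⊓ N₁))).isClosedMap.isClosed_range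
  have hsurj : Function.Surjective (R'.ι ∣_ (g ⁻¹ᵁ (N₀ ⊓ N₁))) := by
    intro z₀
    by_contra hz₀
    obtain ⟨w, hws, hwmin⟩ := exists_minimal_generization (U := (g ⁻¹ᵁ (N₀ ⊓ N₁)).toScheme) z₀
    have hwr : w ∉ Set.range (R'.ι ∣_ (g ⁻¹ᵁ (N₀ ⊓ N₁))) := fun h => hz₀ (hws.mem_closed hcl h)
    have hmin' : ∀ z' : R, z' ⤳ w.1 → z' = w.1 := by
      intro z' hs
      have hz'N : z' ∈ g ⁻¹ᵁ (N₀ ⊓ N₁) := hs.mem_open (g ⁻¹ᵁ (N₀ ⊓ N₁)).2 w.2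
      have h1 : (⟨z', hz'N⟩ : ↥(g ⁻¹ᵁ (N₀ ⊓ N₁))) ⤳ w :=
        Topology.IsInducing.subtypeVal.specializes_iff.1 hs
      exact congrArg Subtype.val (hwmin _ h1)
    have hgv : g w.1 = v := hmin _ w.2.1 hmin'
    have hR' : w.1 ∈ R' := hTR' _ hgv
    apply hwr
    refine ⟨⟨⟨w.1, hR'⟩, w.2⟩, ?_⟩
    apply Subtype.ext
    rw [morphismRestrict_base_coe]
    rfl
  haveI : IsIso (R'.ι ∣_ (g ⁻¹ᵁ (N₀ ⊓ N₁))) := by
    rw [isIso_iff_isOpenImmersion_and_surjective]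
    exact ⟨inferInstance, ⟨hsurj⟩⟩
  exact (MorphismProperty.cancel_left_of_respectsIso @IsFinite
    (R'.ι ∣_ (g ⁻¹ᵁ (N₀ ⊓ N₁))) (g ∣_ (N₀ ⊓ N₁))).1 inferInstance

end Groth.Agent.Lib.Helper23.GenFin
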