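import Groth.Agent.Lib.Helper23.GenFin6
import Groth.Agent.Lib.Helper23.GenFin7

/-!
# Generic finiteness for algebraic spaces: the quasi-compact (not quasi-separated) case (helper23)
-/

set_option autoImplicit false
universe u
open CategoryTheory CategoryTheory.Limits AlgebraicGeometry Opposite

namespace Groth.Agent.Lib.Helper23.GenFin

open AlgSp Groth.Agent.Lib.Helper37.AlgSpFibres Groth.Agent.Lib.Helper23.AlgSpMor
  Groth.Agent.Lib.Helper23.SLQSplit

variable {S : Scheme.{u}}

/-- If an etale surjective chart `A` and its self-fibre-product `R` are finite over an open `N` of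
the affine base, then the algebraic space is finite over `N`. -/
theorem isFiniteMor_of_chart_finite {X₁ : Sp S} (hX₁ : IsAlgSpace X₁) {V : Over S}
    (φ : X₁ ⟶ (yon S).obj V) {A R : Over S} (c : (yon S).obj A ⟶ X₁) (hce : RepWith @Etale c)
    (hcs : RepWith @Surjective c) (g : A ⟶ V) (hg : c ≫ φ = (yon S).map g) (r₁ r₂ : R ⟶ A)
    (hR : IsPullback ((yon S).map r₁) ((yon S).map r₂) c c) (N : V.left.Opens)
    (hfin1 : IsFinite (g.left ∣_ N)) (hfin2 : IsFinite ((r₁.left ≫ g.left) ∣_ N))
    {P : Sp S} (fst : P ⟶ X₁) (snd : P ⟶ (yon S).obj (openOver V N))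
    (sq : IsPullback fst snd φ ((yon S).map (openι V N))) : IsFiniteMor snd := by
  obtain ⟨cN, hcN, sqA⟩ := exists_restrict_chart φ c g hg N fst snd sq
  have hP : IsAlgSpace P :=
    isAlgSpace_of_isPullback hX₁ (IsAlgSpace.yon_obj _) (IsAlgSpace.yon_obj V).diag sq
  have hcNe : RepWith @Etale cN := (RepWith @Etale).of_isPullback sqA.flip hce
  have hcNs : RepWith @Surjective cN := (RepWith @Surjective).of_isPullback sqA.flip hcs
  haveI hfin1' : IsFinite (resOver g N).left := hfin1
  obtain ⟨ρ₂, hPB⟩ :=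
    exists_isPullback_restrict_chart_self c r₁ r₂ hR (g.left ⁻¹ᵁ N) fst cN sqA
  let gN := resOver g N
  have hQN := (IsPullback.of_hasPullback gN gN).map (yon S)
  have commN : (yon S).map (resOver r₁ (g.left ⁻¹ᵁ N)) ≫ (yon S).map gN =
      ρ₂ ≫ (yon S).map gN := by
    rw [← hcN, ← Category.assoc, hPB.w, Category.assoc]
  obtain ⟨κN, hκN⟩ := (yon S).map_surjective (hQN.lift _ _ commN)
  have hκN₁ : (yon S).map κN ≫ (yon S).map (pullback.fst gN gN) =
      (yon S).map (resOver r₁ (g.left ⁻¹ᵁ N)) := by rw [hκN, hQN.lift_fst]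
  have hκN₂ : (yon S).map κN ≫ (yon S).map (pullback.snd gN gN) = ρ₂ := by
    rw [hκN, hQN.lift_snd]
  have hmono : Mono ((yon S).map κN) := ⟨fun x y h => hPB.hom_ext
    (by rw [← hκN₁, ← Category.assoc, h, Category.assoc])
    (by rw [← hκN₂, ← Category.assoc, h, Category.assoc])⟩
  haveI : Mono κN := (yon S).mono_of_mono_map hmono
  have hcl : IsClosedImmersion κN.left := by
    rw [IsClosedImmersion.iff_isFinite_and_mono]
    refine ⟨?_, inferInstance⟩
    have sqON := (IsPullback.of_hasPullback gN gN).map (Over.forget S)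
    haveI : IsFinite gN.left := hfin1
    haveI : IsFinite (pullback.fst gN gN).left :=
      MorphismProperty.of_isPullback (P := @IsFinite) sqON.flip (inferInstance : IsFinite gN.left)
    have e0 : κN ≫ pullback.fst gN gN = resOver r₁ (g.left ⁻¹ᵁ N) :=
      (yon S).map_injective (by rw [Functor.map_comp, hκN₁])
    have e : κN.left ≫ (pullback.fst gN gN).left ≫ gN.left =
        (r₁.left ≫ g.left) ∣_ N := by
      rw [← Category.assoc, ← Over.comp_left, e0, morphismRestrict_comp]
      rfl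
    haveI : IsFinite (κN.left ≫ (pullback.fst gN gN).left ≫ gN.left) := by
      rw [e]; exact hfin2
    exact IsFinite.of_comp κN.left ((pullback.fst gN gN).left ≫ gN.left)
  have hsep : IsSeparatedMor snd := by
    refine Groth.Agent.Lib.Helper30.SepCover.isSeparatedMor_of_etale_cover hP (IsAlgSpace.yon_obj _)
      snd (fun _ : PUnit.{u + 1} => (yon S).obj (openOver A (g.left ⁻¹ᵁ N)))
      (fun _ => IsAlgSpace.yon_obj _) (fun _ => cN)
      (fun _ => Groth.Agent.Lib.Helper17.ACov.isEtaleMor_of_repWith cN hcNe)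
      (fun x => ⟨PUnit.unit, Groth.Agent.Lib.Helper17.ACov.points_map_surjective cN hcNs x⟩)
      (fun _ _ => (yon S).obj (openOver R (r₁.left ⁻¹ᵁ (g.left ⁻¹ᵁ N))))
      (fun _ _ => (yon S).obj (pullback gN gN))
      (fun _ _ => (yon S).map (resOver r₁ (g.left ⁻¹ᵁ N))) (fun _ _ => ρ₂)
      (fun _ _ => hPB)
      (fun _ _ => (yon S).map (pullback.fst gN gN)) (fun _ _ => (yon S).map (pullback.snd gN gN))
      (fun _ _ => by rw [hcN]; exact hQN) (fun _ _ => (yon S).map κN) (fun _ _ => hκN₁)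
      (fun _ _ => hκN₂) (fun _ _ => (repWith_yon_map_iff @IsClosedImmersion κN).2 hcl)
  have hfinM : IsFiniteMor (cN ≫ snd) := by rw [hcN]; exact isFiniteMor_yon_map gN
  exact Groth.Agent.S16833.result
    (U := ⟨(yon S).obj (openOver A (g.left ⁻¹ᵁ N)), IsAlgSpace.yon_obj _⟩) (X := ⟨P, hP⟩)
    (Y := ⟨(yon S).obj (openOver V N), IsAlgSpace.yon_obj _⟩)
    (ObjectProperty.homMk cN) (ObjectProperty.homMk snd)
    (Groth.Agent.Lib.Helper17.ACov.isEtaleMor_of_repWith cN hcNe)
    (Groth.Agent.Lib.Helper17.ACov.points_map_surjective cN hcNs) hsep hfinM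

/-- **Generic finiteness over an affine base, quasi-compact case without quasi-separatedness**:
the missing quasi-compactness of `R = A ×_X A` is replaced by the hypothesis that, over an open
`N₀ ∋ v`, all points without proper generizations of every etale chart lie over `v`. -/
theorem exists_opens_isFiniteMor_qc {X₁ : Sp S} (hX₁ : IsAlgSpace X₁) {V : Over S}
    [IsAffine V.left] (φ : X₁ ⟶ (yon S).obj V) (hqc : IsQuasiCompactSp X₁)
    (hlft : ∀ ⦃A : Over S⦄ (c : (yon S).obj A ⟶ X₁) (g : A ⟶ V), RepWith @Etale c →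
      c ≫ φ = (yon S).map g → LocallyOfFiniteType g.left)
    (v : ↥V.left) (hv : ∀ v' : ↥V.left, v' ⤳ v → v' = v)
    (hqf : ∀ ⦃A : Over S⦄ (c : (yon S).obj A ⟶ X₁) (g : A ⟶ V), RepWith @Etale c →
      c ≫ φ = (yon S).map g → ∀ a : ↥A.left, g.left a = v → g.left.QuasiFiniteAt a)
    (N₀ : V.left.Opens) (hvN₀ : v ∈ N₀)
    (hmin : ∀ ⦃A : Over S⦄ (c : (yon S).obj A ⟶ X₁) (g : A ⟶ V), RepWith @Etale c →
      c ≫ φ = (yon S).map g → ∀ a : ↥A.left, g.left a ∈ N₀ →
        (∀ a' : ↥A.left, a' ⤳ a → a' = a) → g.left a = v) :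
    ∃ N : V.left.Opens, v ∈ N ∧ N ≤ N₀ ∧ ∀ (P : Sp S) (fst : P ⟶ X₁)
      (snd : P ⟶ (yon S).obj (openOver V N)),
      IsPullback fst snd φ ((yon S).map (openι V N)) → IsFiniteMor snd := by
  obtain ⟨A, c, hA, hce, hcs⟩ := exists_affine_chart_of_isQuasiCompactSp hqc
  haveI : IsAffine A.left := hA
  obtain ⟨g, hg⟩ := (yon S).map_surjective (c ≫ φ)
  haveI : LocallyOfFiniteType g.left := hlft c g hce hg.symm
  haveI : IsAffineHom g.left := isAffineHom_of_isAffine _
  obtain ⟨N₁, hvN₁, hN₁⟩ :=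
    exists_isFinite_morphismRestrict_of_quasiFiniteAt g.left v hv (hqf c g hce hg.symm)
  have hrep := hce.rep
  let R := hrep.pullback c
  let r₁ : R ⟶ A := hrep.fst' c
  let r₂ : R ⟶ A := hrep.snd c
  have hR : IsPullback ((yon S).map r₁) ((yon S).map r₂) c c := hrep.isPullback' c
  haveI hr₁ : Etale r₁.left := hce.property c _ _ hR.flip
  obtain ⟨κ, hκ₁, hκ₂, hκm, -⟩ := exists_kappa φ c g hg.symm r₁ r₂ hR
  haveI := hκm
  have hρ : r₁.left ≫ g.left = κ.left ≫ (pullback.fst g g).left ≫ g.left := by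
    rw [← hκ₁]; rfl
  have sqO := (IsPullback.of_hasPullback g g).map (Over.forget S)
  haveI : QuasiCompact (pullback.fst g g).left :=
    MorphismProperty.of_isPullback (P := @QuasiCompact) sqO.flip
      (inferInstance : QuasiCompact g.left)
  haveI : IsSeparated (pullback.fst g g).left :=
    MorphismProperty.of_isPullback (P := @IsSeparated) sqO.flip
      (inferInstance : IsSeparated g.left)
  haveI : LocallyOfFiniteType (pullback.fst g g).left :=
    MorphismProperty.of_isPullback (P := @LocallyOfFiniteType) sqO.flip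
      (inferInstance : LocallyOfFiniteType g.left)
  haveI : IsSeparated (r₁.left ≫ g.left) := by rw [hρ]; infer_instance
  haveI : LocallyOfFiniteType (r₁.left ≫ g.left) := inferInstance
  -- the fibre of `A ×_V A` over `v` is finite
  have hπfin : (((pullback.fst g g).left ≫ g.left) ⁻¹' {v}).Finite := by
    refine (Groth.Agent.Lib.Helper36.QuasiFiniteAt.finite_quasiFiniteAt_fiber
      ((pullback.fst g g).left ≫ g.left) v).subset ?_
    intro p hp
    refine ⟨hp, ?_⟩
    have hw : (pullback.snd g g).left ≫ g.left = (pullback.fst g g).left ≫ g.left := sqO.w.symm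
    have hsnd : g.left ((pullback.snd g g).left p) = v := by
      rw [← Scheme.Hom.comp_apply, hw]; exact hp
    have h1 : (pullback.fst g g).left.QuasiFiniteAt p :=
      Groth.Agent.Lib.Helper36.QuasiFiniteAt.quasiFiniteAt_of_isPullback' g.left
        (pullback.fst g g).left (pullback.snd g g).left g.left sqO.flip p
        (hqf c g hce hg.symm _ hsnd)
    have h2 : g.left.QuasiFiniteAt ((pullback.fst g g).left p) := hqf c g hce hg.symm _ hp
    simp only [Scheme.Hom.QuasiFiniteAt, Scheme.Hom.stalkMap_comp, CommRingCat.hom_comp]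
      at h1 h2 ⊢
    exact RingHom.QuasiFinite.comp h1 h2
  have hρfin : ((r₁.left ≫ g.left) ⁻¹' {v}).Finite := by
    refine Set.Finite.of_finite_image (f := κ.left) (hπfin.subset ?_) κ.left.injective.injOn
    rintro _ ⟨z, hz, rfl⟩
    change ((pullback.fst g g).left ≫ g.left) (κ.left z) = v
    rw [← Scheme.Hom.comp_apply, ← hρ]; exact hz
  have hyr : (yon S).map r₁ ≫ c ≫ φ = (yon S).map (r₁ ≫ g) := by
    rw [Functor.map_comp, hg]
  have hre : RepWith @Etale ((yon S).map r₁ ≫ c) :=
    (RepWith @Etale).comp_mem _ _ ((repWith_yon_map_iff @Etale r₁).2 hr₁) hce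
  obtain ⟨N₂, hvN₂, hN₂⟩ :=
    exists_isFinite_morphismRestrict_of_separated (r₁.left ≫ g.left) v hv hρfin
      (fun z hz => quasiFiniteAt_comp_of_etale r₁.left g.left z (hqf c g hce hg.symm _ hz))
      N₀ hvN₀
      (fun z hz hzmin => hmin ((yon S).map r₁ ≫ c) (r₁ ≫ g) hre
        (by rw [Category.assoc]; exact hyr) z hz hzmin)
  refine ⟨N₀ ⊓ (N₁ ⊓ N₂), ⟨hvN₀, hvN₁, hvN₂⟩, inf_le_left, ?_⟩
  intro P fst snd sq
  exact isFiniteMor_of_chart_finite hX₁ φ c hce hcs g hg.symm r₁ r₂ hR _
    (isFinite_morphismRestrict_of_le g.left (inf_le_right.trans inf_le_left) hN₁)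
    (isFinite_morphismRestrict_of_le _ (inf_le_right.trans inf_le_right) hN₂) fst snd sq

end Groth.Agent.Lib.Helper23.GenFin
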