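import Groth.Agent.Lib.Helper23.GenFin8
import Groth.Agent.Lib.Helper23.AlgSpProper2
import Groth.Agent.Lib.Helper36.OpenImmIso
import Groth.Agent.Lib.Helper17.SchLocalProps
import Groth.Agent.S10271

/-!
# Generic finiteness for algebraic spaces: the separated (not quasi-compact) case (helper23)
-/

set_option autoImplicit false
universe u
open CategoryTheory CategoryTheory.Limits AlgebraicGeometry Opposite

namespace Groth.Agent.Lib.Helper23.GenFin

open AlgSp Groth.Agent.Lib.Helper37.AlgSpFibres Groth.Agent.Lib.Helper23.AlgSpMor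
  Groth.Agent.Lib.Helper23.SLQSplit Groth.Agent.Lib.Helper37.AlgSpPoints
  Groth.Agent.Lib.Helper36.OpenSubspace

variable {S : Scheme.{u}}

/-- Precomposing a finite morphism with an isomorphism. -/
theorem isFiniteMor_iso_comp {P P' Z : Sp S} (l : P ⟶ P') [IsIso l] (ψ : P' ⟶ Z)
    (h : IsFiniteMor ψ) : IsFiniteMor (l ≫ ψ) := by
  have sq : IsPullback l (l ≫ ψ) ψ (𝟙 Z) := IsPullback.of_horiz_isIso ⟨by simp⟩
  exact Groth.Agent.Lib.Helper17.SLP.affMor_of_isPullback
    (fun W _ i => IsAffine W.left ∧ IsFinite i.left) sq h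

/-- **Generic finiteness over an affine base, separated case without quasi-compactness.** -/
theorem exists_opens_isFiniteMor_sep {X₁ : Sp S} (hX₁ : IsAlgSpace X₁) {V : Over S}
    [IsAffine V.left] (φ : X₁ ⟶ (yon S).obj V) (hsep : IsSeparatedMor φ)
    (hlft : ∀ ⦃A : Over S⦄ (c : (yon S).obj A ⟶ X₁) (g : A ⟶ V), RepWith @Etale c →
      c ≫ φ = (yon S).map g → LocallyOfFiniteType g.left)
    (v : ↥V.left) (hv : ∀ v' : ↥V.left, v' ⤳ v → v' = v)
    (hqf : ∀ ⦃A : Over S⦄ (c : (yon S).obj A ⟶ X₁) (g : A ⟶ V), RepWith @Etale c →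
      c ≫ φ = (yon S).map g → ∀ a : ↥A.left, g.left a = v → g.left.QuasiFiniteAt a)
    (N₀ : V.left.Opens) (hvN₀ : v ∈ N₀)
    (hmin : ∀ ⦃A : Over S⦄ (c : (yon S).obj A ⟶ X₁) (g : A ⟶ V), RepWith @Etale c →
      c ≫ φ = (yon S).map g → ∀ a : ↥A.left, g.left a ∈ N₀ →
        (∀ a' : ↥A.left, a' ⤳ a → a' = a) → g.left a = v)
    (hT : (Points.map φ ⁻¹' {Points.ofScheme V v}).Finite) :
    ∃ N : V.left.Opens, v ∈ N ∧ N ≤ N₀ ∧ ∀ (P : Sp S) (fst : P ⟶ X₁)
      (snd : P ⟶ (yon S).obj (openOver V N)),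
      IsPullback fst snd φ ((yon S).map (openι V N)) → IsFiniteMor snd := by
  let Xs₁ : Space S := ⟨X₁, hX₁⟩
  obtain ⟨W, hWo, hWc, hTW⟩ := exists_isOpen_isCompact_of_finite Xs₁ _ hT
  have hX' : IsAlgSpace (openSub X₁ W) := isAlgSpace_openSub X₁ hX₁ W hWo
  have hX'qc : IsQuasiCompactSp (openSub X₁ W) := isQuasiCompactSp_openSub Xs₁ W hWo hWc
  have hi : RepWith @IsOpenImmersion (openSubι X₁ W) := repWith_isOpenImmersion_openSubι X₁ W hWo
  have hie : RepWith @Etale (openSubι X₁ W) :=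
    MorphismProperty.relative_monotone (fun _ _ g hg => by
      have : IsOpenImmersion g.left := hg
      exact (inferInstance : Etale g.left)) _ hi
  obtain ⟨N, hvN, hNN₀, hfinN⟩ := exists_opens_isFiniteMor_qc hX' (openSubι X₁ W ≫ φ) hX'qc
    (fun A c g hc hcg => hlft (c ≫ openSubι X₁ W) g ((RepWith @Etale).comp_mem _ _ hc hie)
      (by rw [Category.assoc]; exact hcg)) v hv
    (fun A c g hc hcg => hqf (c ≫ openSubι X₁ W) g ((RepWith @Etale).comp_mem _ _ hc hie)
      (by rw [Category.assoc]; exact hcg)) N₀ hvN₀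
    (fun A c g hc hcg => hmin (c ≫ openSubι X₁ W) g ((RepWith @Etale).comp_mem _ _ hc hie)
      (by rw [Category.assoc]; exact hcg))
  refine ⟨N, hvN, hNN₀, ?_⟩
  intro P fst snd sq
  have hP : IsAlgSpace P :=
    isAlgSpace_of_isPullback hX₁ (IsAlgSpace.yon_obj _) (IsAlgSpace.yon_obj V).diag sq
  have sqk : IsPullback (pullback.fst fst (openSubι X₁ W)) (pullback.snd fst (openSubι X₁ W)) fst
      (openSubι X₁ W) := IsPullback.of_hasPullback _ _
  set k := pullback.fst fst (openSubι X₁ W) with hkdef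
  set p' := pullback.snd fst (openSubι X₁ W) with hp'def
  have big : IsPullback (k ≫ snd) p' ((yon S).map (openι V N)) (openSubι X₁ W ≫ φ) :=
    sqk.paste_horiz sq.flip
  have hfin' : IsFiniteMor (k ≫ snd) := hfinN _ p' (k ≫ snd) big.flip
  have hk : RepWith @IsOpenImmersion k := (RepWith @IsOpenImmersion).of_isPullback sqk.flip hi
  have hP' : IsAlgSpace (pullback fst (openSubι X₁ W)) :=
    isAlgSpace_of_isPullback hP hX' hX₁.diag sqk
  have hsepN : IsSeparatedMor snd := isSeparatedMor_of_isPullback sq hsep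
  have huc : IsUnivClosedMor (k ≫ snd) :=
    ((Groth.Agent.S10271.result (X := ⟨_, hP'⟩) (Y := ⟨_, IsAlgSpace.yon_obj (openOver V N)⟩)
      (ObjectProperty.homMk (k ≫ snd))).1 hfin').2.2.2
  have hkuc : IsUnivClosedMor k :=
    isUnivClosedMor_of_comp_of_isSeparatedMor hP' hP (IsAlgSpace.yon_obj _).diag k snd huc hsepN
  have hclosed : IsClosed (Set.range (Points.map k)) :=
    (isClosedMap_points_of_isUnivClosedMor hP k hkuc).isClosed_range
  have hfe : RepWith @Etale fst := by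
    have h0 : RepWith @Etale ((yon S).map (openι V N)) :=
      (repWith_yon_map_iff @Etale (openι V N)).2 (by change Etale N.ι; infer_instance)
    exact (RepWith @Etale).of_isPullback sq.flip h0
  have hsurj : ∀ p : Points P, p ∈ Set.range (Points.map k) := by
    intro p
    by_contra hp
    obtain ⟨A, c, a, -, hc, rfl⟩ :=
      Groth.Agent.Lib.Helper37.QsSober.exists_affine_chart (⟨P, hP⟩ : Space S) p
    have hO : IsOpen (Points.ofPt c ⁻¹' (Set.range (Points.map k))ᶜ) :=
      hclosed.isOpen_compl.preimage (Points.continuous_ofPt c)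
    obtain ⟨a', ha's, ha'min⟩ := exists_minimal_generization a
    have ha'O : a' ∈ Points.ofPt c ⁻¹' (Set.range (Points.map k))ᶜ := ha's.mem_open hO hp
    obtain ⟨gN, hgN⟩ := (yon S).map_surjective (c ≫ snd)
    have hcomm : (c ≫ fst) ≫ φ = (yon S).map (gN ≫ openι V N) := by
      rw [Category.assoc, sq.w, ← Category.assoc, ← hgN, Functor.map_comp]
    have hgv : (gN ≫ openι V N).left a' = v :=
      hmin (c ≫ fst) (gN ≫ openι V N) ((RepWith @Etale).comp_mem _ _ hc hfe) hcomm a'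
        (hNN₀ (gN.left a').2) ha'min
    have hx₁ : Points.ofPt (c ≫ fst) a' ∈ W := by
      apply hTW
      change Points.map φ (Points.ofPt (c ≫ fst) a') = Points.ofScheme V v
      rw [Points.map_ofPt, hcomm, ofPt_yon_map, hgv]
    rw [← range_map_openSubι X₁ W] at hx₁
    obtain ⟨x', hx'⟩ := hx₁
    obtain ⟨q, hq, -⟩ := points_exists_of_isPullback sqk (Points.ofPt c a') x'
      (by rw [Points.map_ofPt, hx'])
    exact ha'O ⟨q, hq⟩
  obtain ⟨l, hl⟩ := exists_lift_of_openImm k hk (𝟙 P) (fun p _ => hsurj p)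
  haveI : Mono k := Groth.Agent.Lib.Helper30.LocPNbhd.mono_of_isOpenImmersion hk
  have hkl : k ≫ l = 𝟙 _ := by
    rw [← cancel_mono k, Category.assoc, hl, Category.comp_id, Category.id_comp]
  haveI : IsIso l := ⟨k, hl, hkl⟩
  have := isFiniteMor_iso_comp l (k ≫ snd) hfin'
  rwa [← Category.assoc, hl, Category.id_comp] at this

end Groth.Agent.Lib.Helper23.GenFin
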