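import Groth.Prelude.Def_Grpd

/-!
# Groupoid schemes: the composition is a base change of the source map

For a groupoid scheme `(U, R, s, t, c, e, i)` the map `(α, β) ↦ (α ∘ β, β)` is an isomorphism
`R ×_{s,U,t} R ≅ R ×_{s,U,s} R`, whose composite with the first projection is `c`.
-/

universe u

open CategoryTheory CategoryTheory.Limits AlgebraicGeometry

namespace Groth.Agent.Lib.Helper23

variable {S : Scheme.{u}} (G : Grpd.GroupoidScheme S)

/-- `c` as composition of the two projections. -/
theorem c_eq : G.c = pullback.lift (pullback.fst G.s G.t) (pullback.snd G.s G.t)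
    pullback.condition ≫ G.c := by
  have : pullback.lift (pullback.fst G.s G.t) (pullback.snd G.s G.t) pullback.condition =
      𝟙 _ := by
    apply pullback.hom_ext <;> simp
  rw [this, Category.id_comp]

theorem c_s : G.c ≫ G.s = pullback.snd G.s G.t ≫ G.s := by
  have := G.comp_s (pullback.fst G.s G.t) (pullback.snd G.s G.t) pullback.condition
  rwa [← c_eq] at this

theorem c_t : G.c ≫ G.t = pullback.fst G.s G.t ≫ G.t := by
  have := G.comp_t (pullback.fst G.s G.t) (pullback.snd G.s G.t) pullback.condition
  rwa [← c_eq] at this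

/-- precomposition with `pullback.lift`. -/
theorem lift_c {T T' : Scheme.{u}} (φ : T' ⟶ T) (α β : T ⟶ G.R) (h : α ≫ G.s = β ≫ G.t) :
    φ ≫ pullback.lift α β h ≫ G.c =
      pullback.lift (φ ≫ α) (φ ≫ β) (by rw [Category.assoc, Category.assoc, h]) ≫ G.c := by
  rw [← Category.assoc]
  congr 1
  apply pullback.hom_ext
  · rw [Category.assoc, pullback.lift_fst, pullback.lift_fst]
  · rw [Category.assoc, pullback.lift_snd, pullback.lift_snd]

theorem lift_c_congr {T : Scheme.{u}} {α α' β β' : T ⟶ G.R} (h : α ≫ G.s = β ≫ G.t)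
    (hα : α = α') (hβ : β = β') :
    pullback.lift α β h ≫ G.c = pullback.lift α' β' (by rw [← hα, ← hβ, h]) ≫ G.c := by
  subst hα hβ
  rfl

/-- `(α, β) ↦ (α ∘ β, β)`. -/
noncomputable def compHom : pullback G.s G.t ⟶ pullback G.s G.s :=
  pullback.lift G.c (pullback.snd G.s G.t) (c_s G)

/-- `(γ, β) ↦ (γ ∘ β⁻¹, β)`. -/
noncomputable def compInv : pullback G.s G.s ⟶ pullback G.s G.t :=
  pullback.lift
    (pullback.lift (pullback.fst G.s G.s) (pullback.snd G.s G.s ≫ G.i)
      (by rw [Category.assoc, G.i_t, pullback.condition]) ≫ G.c)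
    (pullback.snd G.s G.s)
    (by rw [G.comp_s, Category.assoc, G.i_s])

@[reassoc (attr := simp)]
theorem compHom_fst : compHom G ≫ pullback.fst G.s G.s = G.c := by
  rw [compHom, pullback.lift_fst]

@[reassoc (attr := simp)]
theorem compHom_snd : compHom G ≫ pullback.snd G.s G.s = pullback.snd G.s G.t := by
  rw [compHom, pullback.lift_snd]

theorem compHom_compInv : compHom G ≫ compInv G = 𝟙 _ := by
  apply pullback.hom_ext
  · rw [Category.id_comp, compInv, Category.assoc, pullback.lift_fst, lift_c]
    -- lift (c, snd ≫ i) ≫ c = fst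
    have h1 : pullback.lift (compHom G ≫ pullback.fst G.s G.s)
        (compHom G ≫ pullback.snd G.s G.s ≫ G.i)
        (by rw [Category.assoc, Category.assoc, Category.assoc, G.i_t, pullback.condition]) ≫ G.c =
        pullback.lift (pullback.lift (pullback.fst G.s G.t) (pullback.snd G.s G.t)
          pullback.condition ≫ G.c) (pullback.snd G.s G.t ≫ G.i)
          (by rw [G.comp_s, Category.assoc, G.i_t]) ≫ G.c :=
      lift_c_congr G _ (by rw [compHom_fst, ← c_eq]) (by rw [compHom_snd_assoc])
    rw [h1, G.assoc _ _ _ pullback.condition (by rw [Category.assoc, G.i_t])]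
    have h2 := G.comp_i (pullback.snd G.s G.t)
    rw [lift_c_congr G _ rfl h2]
    have h3 := G.comp_e (pullback.fst G.s G.t)
    have h4 : pullback.fst G.s G.t ≫ G.s ≫ G.e = pullback.snd G.s G.t ≫ G.t ≫ G.e :=
      pullback.condition_assoc _
    exact (lift_c_congr G _ rfl h4.symm).trans h3
  · rw [Category.id_comp, compInv, Category.assoc, pullback.lift_snd, compHom_snd]

theorem compInv_compHom : compInv G ≫ compHom G = 𝟙 _ := by
  apply pullback.hom_ext
  · rw [Category.id_comp, Category.assoc, compHom_fst]
    -- compInv ≫ c = lift (lift (γ, β ≫ i) ≫ c, β) ≫ c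
    have h0 : compInv G ≫ G.c = pullback.lift
        (pullback.lift (pullback.fst G.s G.s) (pullback.snd G.s G.s ≫ G.i)
          (by rw [Category.assoc, G.i_t, pullback.condition]) ≫ G.c)
        (pullback.snd G.s G.s)
        (by rw [G.comp_s, Category.assoc, G.i_s]) ≫ G.c := rfl
    rw [h0, G.assoc _ _ _ (by rw [Category.assoc, G.i_t, pullback.condition])
      (by rw [Category.assoc, G.i_s])]
    have h2 := G.i_comp (pullback.snd G.s G.s)
    rw [lift_c_congr G _ rfl h2]
    have h3 := G.comp_e (pullback.fst G.s G.s)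
    have h4 : pullback.fst G.s G.s ≫ G.s ≫ G.e = pullback.snd G.s G.s ≫ G.s ≫ G.e :=
      pullback.condition_assoc _
    exact (lift_c_congr G _ rfl h4.symm).trans h3
  · rw [Category.id_comp, Category.assoc, compHom_snd, compInv, pullback.lift_snd]

/-- The isomorphism `R ×_{s,U,t} R ≅ R ×_{s,U,s} R`, `(α, β) ↦ (α ∘ β, β)`. -/
noncomputable def compIso : pullback G.s G.t ≅ pullback G.s G.s where
  hom := compHom G
  inv := compInv G
  hom_inv_id := compHom_compInv G
  inv_hom_id := compInv_compHom G

theorem compIso_hom_fst : (compIso G).hom ≫ pullback.fst G.s G.s = G.c := compHom_fst G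

end Groth.Agent.Lib.Helper23
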