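import Mathlib

/-!
# Descent of ideals along a flat ring map (helper23)

If `A → A'` is flat and `I' ⊆ A'` is an ideal whose two extensions to `A' ⊗[A] A'` agree, then
`I' = (I' ∩ A) A'`.
-/

set_option autoImplicit false
open TensorProduct

namespace Groth.Agent.Lib.Helper23.IdealDescent

variable {A A' : Type*} [CommRing A] [CommRing A'] [Algebra A A']

/-- Descent of ideals: only the inclusion `I' ⊗ A' ⊆ A' ⊗ I'` and flatness are needed. -/
theorem map_comap_eq_of_le [Module.Flat A A'] (I' : Ideal A')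
    (h : I'.map (Algebra.TensorProduct.includeLeft : A' →ₐ[A] A' ⊗[A] A').toRingHom ≤
      I'.map (Algebra.TensorProduct.includeRight : A' →ₐ[A] A' ⊗[A] A').toRingHom) :
    (I'.comap (algebraMap A A')).map (algebraMap A A') = I' := by
  apply le_antisymm Ideal.map_comap_le
  intro x hx
  obtain ⟨I, hI⟩ : ∃ I, I = I'.comap (algebraMap A A') := ⟨_, rfl⟩
  rw [← hI]
  -- the injection `A/I → A'/I'`
  let ψ : A ⧸ I'.comap (algebraMap A A') →ₐ[A] A' ⧸ I' :=
    Ideal.quotientMapₐ I' (Algebra.ofId A A') le_rfl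
  have hψ : Function.Injective ψ.toLinearMap := Ideal.quotientMap_injective
  have hinj := Module.Flat.lTensor_preserves_injective_linearMap (M := A') ψ.toLinearMap hψ
  -- the ring map `A' ⊗ A' → A' ⊗ A'/I'`
  let ρ : A' ⊗[A] A' →ₐ[A] A' ⊗[A] (A' ⧸ I') :=
    Algebra.TensorProduct.map (AlgHom.id A A') (Ideal.Quotient.mkₐ A I')
  have hR : I'.map (Algebra.TensorProduct.includeRight : A' →ₐ[A] A' ⊗[A] A').toRingHom ≤
      RingHom.ker ρ.toRingHom := by
    rw [Ideal.map_le_iff_le_comap]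
    intro i hi
    change ρ ((1 : A') ⊗ₜ[A] i) = 0
    simp only [ρ, Algebra.TensorProduct.map_tmul, AlgHom.coe_id, id_eq, Ideal.Quotient.mkₐ_eq_mk]
    rw [Ideal.Quotient.eq_zero_iff_mem.2 hi, TensorProduct.tmul_zero]
  have h1 : x ⊗ₜ[A] (1 : A' ⧸ I') = 0 := by
    have hxm : (Algebra.TensorProduct.includeLeft : A' →ₐ[A] A' ⊗[A] A').toRingHom x ∈
        RingHom.ker ρ.toRingHom := hR (h (Ideal.mem_map_of_mem _ hx))
    have := hxm
    change ρ (x ⊗ₜ[A] (1 : A')) = 0 at this
    simpa [ρ] using this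
  have h2 : x ⊗ₜ[A] (1 : A ⧸ I'.comap (algebraMap A A')) = 0 := by
    apply hinj
    rw [LinearMap.lTensor_tmul, map_zero]
    change x ⊗ₜ[A] ψ 1 = 0
    rw [map_one]
    exact h1
  have h3 : Ideal.Quotient.mk ((I'.comap (algebraMap A A')).map (algebraMap A A')) x = 0 := by
    apply (Algebra.TensorProduct.quotIdealMapEquivTensorQuot A' (I'.comap (algebraMap A A'))).injective
    rw [map_zero]
    exact h2
  rw [hI]
  exact Ideal.Quotient.eq_zero_iff_mem.1 h3

end Groth.Agent.Lib.Helper23.IdealDescent
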