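import Groth.Agent.Lib.Helper23.ClosedDescent2

/-!
# Effective descent of open subschemes and of immersions along fppf covers, for subsheaves of `h_T`
(helper23)
-/

set_option autoImplicit false
universe u
open CategoryTheory CategoryTheory.Limits AlgebraicGeometry Opposite

namespace Groth.Agent.Lib.Helper23.ClosedDescent

open AlgSp Groth.Agent.Lib.Helper23.AlgSpMor Groth.Agent.Lib.Helper5.LocalRep

variable {S : Scheme.{u}}

section

variable {T T' Z' : Over S} (c : T' ⟶ T) {F : Sp S} (q : F ⟶ (yon S).obj T) (i' : Z' ⟶ T')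
  (a' : (yon S).obj Z' ⟶ F) (sq : IsPullback a' ((yon S).map i') q ((yon S).map c))

include sq in
/-- If `y` factors through `Z'` and `x` has the same image in `T`, then `x` factors through `Z'`. -/
theorem factors_of_factors {K : Over S} (x y : K ⟶ T') (hxy : x ≫ c = y ≫ c) (l : K ⟶ Z')
    (hl : l ≫ i' = y) : ∃ l' : K ⟶ Z', l' ≫ i' = x := by
  have hcomm : ((yon S).map l ≫ a') ≫ q = (yon S).map x ≫ (yon S).map c := by
    rw [Category.assoc, sq.w, ← Functor.map_comp, ← Functor.map_comp, ← Functor.map_comp,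
      ← Category.assoc, hl, hxy]
  obtain ⟨l', hl'⟩ := (yon S).map_surjective (sq.lift _ _ hcomm)
  refine ⟨l', ?_⟩
  apply (yon S).map_injective
  rw [Functor.map_comp, hl', sq.lift_snd]

include sq in
/-- **Restriction to the open image.**  If `U'` is an open of `T'` containing the image of `Z'`,
then `q` factors through the open image `U = c(U')` and the square restricts to `U' ⟶ U`. -/
theorem exists_restrict (hc1 : Flat c.left) (hc2 : LocallyOfFinitePresentation c.left)
    (hc3 : Surjective c.left) [Mono q] (U'o : T'.left.Opens)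
    (hU' : Set.range i'.left ⊆ U'o) :
    ∃ (Uo : T.left.Opens) (e : U'o ≤ c.left ⁻¹ᵁ Uo) (qU : F ⟶ (yon S).obj (overOpens T Uo))
      (l : Z' ⟶ overOpens T' U'o),
      qU ≫ (yon S).map (overOpensι T Uo) = q ∧ l ≫ overOpensι T' U'o = i' ∧
      Surjective (overResLE c Uo U'o e).left ∧
      IsPullback a' ((yon S).map l) qU ((yon S).map (overResLE c Uo U'o e)) := by
  let Uo : T.left.Opens := ⟨c.left '' U'o, c.left.isOpenMap _ U'o.2⟩
  have e : U'o ≤ c.left ⁻¹ᵁ Uo := fun x hx => ⟨x, hx, rfl⟩
  let cU := overResLE c Uo U'o e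
  have hcU : cU ≫ overOpensι T Uo = overOpensι T' U'o ≫ c := overResLE_ι _ _ _ _
  have hsurj : Surjective cU.left := by
    refine ⟨fun u => ?_⟩
    obtain ⟨x, hx, hxu⟩ := u.2
    refine ⟨⟨x, hx⟩, ?_⟩
    apply Subtype.ext
    have h1 : (cU.left ≫ Uo.ι) ⟨x, hx⟩ = (U'o.ι ≫ c.left) ⟨x, hx⟩ := by
      rw [show cU.left ≫ Uo.ι = U'o.ι ≫ c.left from Scheme.Hom.resLE_comp_ι _ _]
    rw [Scheme.Hom.comp_apply, Scheme.Hom.comp_apply] at h1
    exact h1.trans hxu
  let l : Z' ⟶ overOpens T' U'o :=
    Over.homMk (IsOpenImmersion.lift U'o.ι i'.left (by rw [Scheme.Opens.range_ι]; exact hU')) (by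
      change IsOpenImmersion.lift U'o.ι i'.left _ ≫ U'o.ι ≫ T'.hom = Z'.hom
      rw [IsOpenImmersion.lift_fac_assoc, Over.w i'])
  have hl : l ≫ overOpensι T' U'o = i' := by
    ext1
    exact IsOpenImmersion.lift_fac _ _ _
  have hmj : Mono (overOpensι T Uo) := by
    have : Mono (overOpensι T Uo).left := inferInstanceAs (Mono Uo.ι)
    exact Over.mono_of_mono_left _
  have hlc : l ≫ cU ≫ overOpensι T Uo = i' ≫ c := by
    rw [hcU, ← Category.assoc, hl]
  -- the factorisation of `q`
  have hepic : Epi ((yon S).map c) := epi_yon_map_of_fppf c hc1 hc2 hc3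
  have hepia : Epi a' := epi_of_isPullback sq.flip
  let a'U : (yon S).obj Z' ⟶ pullback q ((yon S).map (overOpensι T Uo)) :=
    pullback.lift a' ((yon S).map (l ≫ cU)) (by
      rw [sq.w, ← Functor.map_comp, ← Functor.map_comp, Category.assoc, hlc])
  have ha'U : a'U ≫ pullback.fst q ((yon S).map (overOpensι T Uo)) = a' := pullback.lift_fst _ _ _
  have : Epi (pullback.fst q ((yon S).map (overOpensι T Uo))) := epi_of_epi_fac ha'U
  have : IsIso (pullback.fst q ((yon S).map (overOpensι T Uo))) := isIso_of_mono_of_epi _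
  let qU : F ⟶ (yon S).obj (overOpens T Uo) :=
    inv (pullback.fst q ((yon S).map (overOpensι T Uo))) ≫
      pullback.snd q ((yon S).map (overOpensι T Uo))
  have hqU : qU ≫ (yon S).map (overOpensι T Uo) = q := by
    rw [Category.assoc, ← pullback.condition, IsIso.inv_hom_id_assoc]
  have hcomm : a' ≫ qU = (yon S).map l ≫ (yon S).map cU := by
    rw [← cancel_mono ((yon S).map (overOpensι T Uo)), Category.assoc, hqU, sq.w,
      ← Functor.map_comp, ← Functor.map_comp, ← Functor.map_comp, Category.assoc, hlc]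
  have sqL : IsPullback (𝟙 ((yon S).obj Z')) ((yon S).map l) ((yon S).map i')
      ((yon S).map (overOpensι T' U'o)) := by
    have : Mono ((yon S).map (overOpensι T' U'o)) := by
      have : Mono (overOpensι T' U'o).left := inferInstanceAs (Mono U'o.ι)
      have : Mono (overOpensι T' U'o) := Over.mono_of_mono_left _
      infer_instance
    exact IsPullback.of_horiz_isIso_mono ⟨by rw [Category.id_comp, ← Functor.map_comp, hl]⟩
  have sqR : IsPullback (𝟙 F) qU q ((yon S).map (overOpensι T Uo)) :=
    IsPullback.of_horiz_isIso_mono ⟨by rw [Category.id_comp, hqU]⟩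
  have big : IsPullback (a' ≫ 𝟙 F) ((yon S).map l) q
      ((yon S).map cU ≫ (yon S).map (overOpensι T Uo)) := by
    have := sqL.paste_horiz sq
    rwa [Category.id_comp, ← Functor.map_comp, ← hcU, Functor.map_comp,
      ← Category.comp_id a'] at this
  exact ⟨Uo, e, qU, l, hqU, hl, hsurj, IsPullback.of_right big hcomm sqR⟩

end

/-- **Effective descent of an open subscheme.** -/
theorem exists_open_of_fppf_cover {T T' Z' : Over S} (c : T' ⟶ T) (hc1 : Flat c.left)
    (hc2 : LocallyOfFinitePresentation c.left) (hc3 : Surjective c.left) {F : Sp S}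
    (q : F ⟶ (yon S).obj T) [Mono q] (i' : Z' ⟶ T') (hi' : IsOpenImmersion i'.left)
    (a' : (yon S).obj Z' ⟶ F) (sq : IsPullback a' ((yon S).map i') q ((yon S).map c)) :
    ∃ (Z : Over S) (i : Z ⟶ T) (e : (yon S).obj Z ≅ F), IsOpenImmersion i.left ∧
      e.hom ≫ q = (yon S).map i := by
  have := hi'
  obtain ⟨Uo, e, qU, l, hqU, hl, hsurj, sqU⟩ := exists_restrict c q i' a' sq hc1 hc2 hc3
    i'.left.opensRange (by rfl)
  have hliso : IsIso l.left := by
    have h1 : l.left ≫ i'.left.opensRange.ι = i'.left := congrArg CommaMorphism.left hl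
    have h2 : l.left = i'.left.isoOpensRange.hom := by
      rw [← cancel_mono i'.left.opensRange.ι, h1, Scheme.Hom.isoOpensRange_hom_ι]
    rw [h2]; infer_instance
  have : IsIso l := by
    have : IsIso ((Over.forget S).map l) := hliso
    exact isIso_of_reflects_iso l (Over.forget S)
  have hmono : Mono qU := by
    have : Mono (qU ≫ (yon S).map (overOpensι T Uo)) := by rw [hqU]; infer_instance
    exact mono_of_mono qU ((yon S).map (overOpensι T Uo))
  have hf1 : Flat (overResLE c Uo i'.left.opensRange e).left := by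
    have := hc1
    exact inferInstanceAs (Flat (c.left.resLE Uo i'.left.opensRange e))
  have hf2 : LocallyOfFinitePresentation (overResLE c Uo i'.left.opensRange e).left := by
    have := hc2
    exact inferInstanceAs (LocallyOfFinitePresentation (c.left.resLE Uo i'.left.opensRange e))
  have hepi : Epi qU := by
    have : Epi ((yon S).map (overResLE c Uo i'.left.opensRange e)) :=
      epi_yon_map_of_fppf _ hf1 hf2 hsurj
    have : Epi (a' ≫ qU) := by rw [sqU.w]; infer_instance
    exact epi_of_epi a' qU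
  have : IsIso qU := isIso_of_mono_of_epi qU
  refine ⟨overOpens T Uo, overOpensι T Uo, (asIso qU).symm, inferInstanceAs (IsOpenImmersion Uo.ι), ?_⟩
  change inv qU ≫ q = _
  rw [← hqU, IsIso.inv_hom_id_assoc]

/-- **Effective descent of a locally closed subscheme.** -/
theorem exists_immersion_of_fppf_cover {T T' Z' : Over S} (c : T' ⟶ T) (hc1 : Flat c.left)
    (hc2 : LocallyOfFinitePresentation c.left) (hc3 : Surjective c.left) {F : Sp S}
    (q : F ⟶ (yon S).obj T) [Mono q] (i' : Z' ⟶ T') (hi' : IsImmersion i'.left)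
    (a' : (yon S).obj Z' ⟶ F) (sq : IsPullback a' ((yon S).map i') q ((yon S).map c)) :
    ∃ (Z : Over S) (i : Z ⟶ T) (e : (yon S).obj Z ≅ F), IsImmersion i.left ∧
      e.hom ≫ q = (yon S).map i := by
  have := hi'
  obtain ⟨Uo, e, qU, l, hqU, hl, hsurj, sqU⟩ := exists_restrict c q i' a' sq hc1 hc2 hc3
    i'.left.coborderRange subset_coborder
  have hlcl : IsClosedImmersion l.left := by
    have h1 : l.left ≫ i'.left.coborderRange.ι = i'.left := congrArg CommaMorphism.left hl
    have h2 : l.left = i'.left.liftCoborder := by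
      rw [← cancel_mono i'.left.coborderRange.ι, h1, Scheme.Hom.liftCoborder_ι]
    rw [h2]; infer_instance
  have hf1 : Flat (overResLE c Uo i'.left.coborderRange e).left := by
    have := hc1
    exact inferInstanceAs (Flat (c.left.resLE Uo i'.left.coborderRange e))
  have hf2 : LocallyOfFinitePresentation (overResLE c Uo i'.left.coborderRange e).left := by
    have := hc2
    exact inferInstanceAs (LocallyOfFinitePresentation (c.left.resLE Uo i'.left.coborderRange e))
  have hcl : RepWith @IsClosedImmersion qU :=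
    repWith_isClosedImmersion_of_fppf_cover qU ((yon S).map (overResLE c Uo i'.left.coborderRange e))
      ((repWith_yon_map_iff _ _).2 hf1) ((repWith_yon_map_iff _ _).2 hf2)
      ((repWith_yon_map_iff _ _).2 hsurj) sqU ((repWith_yon_map_iff _ _).2 hlcl)
  have sqZ := hcl.rep.isPullback (𝟙 ((yon S).obj (overOpens T Uo)))
  have hZcl : IsClosedImmersion (hcl.rep.snd (𝟙 ((yon S).obj (overOpens T Uo)))).left :=
    hcl.property_snd _
  have : IsIso (hcl.rep.fst (𝟙 ((yon S).obj (overOpens T Uo)))) := sqZ.isIso_fst_of_isIso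
  refine ⟨_, hcl.rep.snd (𝟙 ((yon S).obj (overOpens T Uo))) ≫ overOpensι T Uo,
    asIso (hcl.rep.fst (𝟙 ((yon S).obj (overOpens T Uo)))), ?_, ?_⟩
  · change IsImmersion ((hcl.rep.snd (𝟙 ((yon S).obj (overOpens T Uo)))).left ≫ Uo.ι)
    infer_instance
  · change hcl.rep.fst (𝟙 ((yon S).obj (overOpens T Uo))) ≫ q = _
    rw [← hqU, ← Category.assoc, sqZ.w, Category.comp_id, Functor.map_comp]

end Groth.Agent.Lib.Helper23.ClosedDescent
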