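import Groth.Agent.Lib.Helper23.ImmDescent

/-!
# Descent of `RepWith` for open immersions and immersions along representable fppf covers (helper23)
-/

set_option autoImplicit false
universe u
open CategoryTheory CategoryTheory.Limits AlgebraicGeometry Opposite

namespace Groth.Agent.Lib.Helper23.ClosedDescent

open AlgSp Groth.Agent.Lib.Helper23.AlgSpMor Groth.Agent.Lib.Helper5.LocalRep

variable {S : Scheme.{u}}

/-- Generic form: if subsheaves of `h_T` that are fppf locally `Q`-subschemes are `Q`-subschemes,
then `RepWith Q` descends along representable fppf covers. -/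
theorem repWith_of_fppf_cover_of_core (Q : MorphismProperty Scheme.{u}) [Q.IsStableUnderBaseChange]
    (hmono : ∀ {A B : Scheme.{u}} (f : A ⟶ B), Q f → Mono f)
    (hcore : ∀ {T T' Z' : Over S} (c : T' ⟶ T), Flat c.left → LocallyOfFinitePresentation c.left →
      Surjective c.left → ∀ {F : Sp S} (q : F ⟶ (yon S).obj T) [Mono q] (i' : Z' ⟶ T'), Q i'.left →
      ∀ (a' : (yon S).obj Z' ⟶ F), IsPullback a' ((yon S).map i') q ((yon S).map c) →
      ∃ (Z : Over S) (i : Z ⟶ T) (e : (yon S).obj Z ≅ F), Q i.left ∧ e.hom ≫ q = (yon S).map i)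
    {X Y V P₀ : Sp S} (f : X ⟶ Y) (p : V ⟶ Y)
    (hp1 : RepWith @Flat p) (hp2 : RepWith @LocallyOfFinitePresentation p)
    (hps : RepWith @Surjective p) {fst : P₀ ⟶ X} {snd : P₀ ⟶ V}
    (sq : IsPullback fst snd f p) (h : RepWith Q snd) : RepWith Q f := by
  have : Mono snd := Groth.Agent.Lib.Helper62.mono_of_repWith Q (fun f hf => hmono f hf) snd h
  have : Mono f := mono_of_fppf_cover f p hp1 hp2 hps sq
  apply MorphismProperty.relative.of_exists
  intro T g
  obtain ⟨T', Z', c, b, i', fstZ, a', sqc, -, hicl, sqF, -⟩ :=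
    exists_cover_square Q f p hp1.rep sq h g
  obtain ⟨Z, i, e, hi, he⟩ := hcore c (hp1.property _ _ _ sqc)
    (hp2.property _ _ _ sqc) (hps.property _ _ _ sqc) (pullback.snd f g) i' hicl a' sqF
  refine ⟨Z, e.hom ≫ pullback.fst f g, i, ?_, hi⟩
  exact IsPullback.of_iso_pullback ⟨by
    rw [Category.assoc, pullback.condition, ← Category.assoc, he]⟩ e rfl he

/-- Being representable by open immersions descends along a representable fppf base change. -/
theorem repWith_isOpenImmersion_of_fppf_cover {X Y V P₀ : Sp S} (f : X ⟶ Y) (p : V ⟶ Y)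
    (hp1 : RepWith @Flat p) (hp2 : RepWith @LocallyOfFinitePresentation p)
    (hps : RepWith @Surjective p) {fst : P₀ ⟶ X} {snd : P₀ ⟶ V}
    (sq : IsPullback fst snd f p) (h : RepWith @IsOpenImmersion snd) :
    RepWith @IsOpenImmersion f :=
  repWith_of_fppf_cover_of_core @IsOpenImmersion (fun f hf => by have := hf; infer_instance)
    (fun c h1 h2 h3 _ q _ i' hi' a' sq' => exists_open_of_fppf_cover c h1 h2 h3 q i' hi' a' sq')
    f p hp1 hp2 hps sq h

/-- Being representable by immersions descends along a representable fppf base change. -/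
theorem repWith_isImmersion_of_fppf_cover {X Y V P₀ : Sp S} (f : X ⟶ Y) (p : V ⟶ Y)
    (hp1 : RepWith @Flat p) (hp2 : RepWith @LocallyOfFinitePresentation p)
    (hps : RepWith @Surjective p) {fst : P₀ ⟶ X} {snd : P₀ ⟶ V}
    (sq : IsPullback fst snd f p) (h : RepWith @IsImmersion snd) :
    RepWith @IsImmersion f :=
  repWith_of_fppf_cover_of_core @IsImmersion (fun f hf => by have := hf; infer_instance)
    (fun c h1 h2 h3 _ q _ i' hi' a' sq' => exists_immersion_of_fppf_cover c h1 h2 h3 q i' hi' a' sq')
    f p hp1 hp2 hps sq h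

/-- Descent of the three kinds of immersions along a representable etale surjective base change. -/
theorem repWith_immersions_of_etale_cover (Q : MorphismProperty Scheme.{u})
    (hQ : Q = @IsClosedImmersion ∨ Q = @IsOpenImmersion ∨ Q = @IsImmersion)
    {X Y V P₀ : Sp S} (f : X ⟶ Y) (p : V ⟶ Y)
    (hp : RepWith @Etale p) (hps : RepWith @Surjective p) {fst : P₀ ⟶ X} {snd : P₀ ⟶ V}
    (sq : IsPullback fst snd f p) (h : RepWith Q snd) : RepWith Q f := by
  rcases hQ with rfl | rfl | rfl
  · exact repWith_isClosedImmersion_of_fppf_cover f p (repWith_flat_of_etale hp)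
      (repWith_lfp_of_etale hp) hps sq h
  · exact repWith_isOpenImmersion_of_fppf_cover f p (repWith_flat_of_etale hp)
      (repWith_lfp_of_etale hp) hps sq h
  · exact repWith_isImmersion_of_fppf_cover f p (repWith_flat_of_etale hp)
      (repWith_lfp_of_etale hp) hps sq h

end Groth.Agent.Lib.Helper23.ClosedDescent
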