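import Groth.Agent.Lib.Helper23.ImmDescent2
import Groth.Agent.Lib.Helper36.OpenSubLift
import Groth.Agent.Lib.Helper36.OpenImmIso
import Groth.Agent.Lib.Helper5.LargestOpenSp
import Groth.Agent.Lib.Helper37.AlgSpPoints

/-!
# Immersions can be tested on an étale chart covering the image (helper23)
-/

set_option autoImplicit false
universe u

open CategoryTheory CategoryTheory.Limits AlgebraicGeometry Opposite

namespace Groth.Agent.Lib.Helper23.ImmOpenChart

open AlgSp Groth.Agent.Lib.Helper36.OpenSubspace Groth.Agent.Lib.Helper5.LargestOpenSp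
open Groth.Agent.Lib.Helper37.AlgSpPoints Groth.Agent.Lib.Helper23.ClosedDescent

variable {S : Scheme.{u}}

theorem range_map_yon_subset {X' : Sp S} {V : Over S} (p : (yon S).obj V ⟶ X') :
    Set.range (Points.map p) ⊆ Set.range (Points.ofPt p) := by
  rintro _ ⟨z, rfl⟩
  refine ⟨Points.toScheme V z, ?_⟩
  rw [Points.ofPt_eq_map_ofScheme, Points.ofScheme_toScheme]

/-- If the base change of `f` to an étale chart `p : h_V ⟶ X'` whose image contains the image of
`f` is an immersion, then `f` is an immersion. -/
theorem repWith_isImmersion_of_etale_chart {X' Y' P : Sp S} (f : Y' ⟶ X') {V : Over S}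
    (p : (yon S).obj V ⟶ X') (hp : RepWith @Etale p) {fst : P ⟶ Y'}
    {snd : P ⟶ (yon S).obj V} (sq : IsPullback fst snd f p) (hsnd : RepWith @IsImmersion snd)
    (hrange : Set.range (Points.map f) ⊆ Set.range (Points.ofPt p)) :
    RepWith @IsImmersion f := by
  have hW : IsOpen (Set.range (Points.ofPt p)) := (isOpenMap_ofPt p hp).isOpen_range
  have hι := repWith_isOpenImmersion_openSubι X' (Set.range (Points.ofPt p)) hW
  haveI : Mono (openSubι X' (Set.range (Points.ofPt p))) := mono_of_openImm _ hι
  obtain ⟨l, hl⟩ := exists_lift_openSub_of_range f _ hrange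
  obtain ⟨p', hp'⟩ := exists_lift_openSub_of_range p _ (range_map_yon_subset p)
  have sq1 : IsPullback (𝟙 _) p' p (openSubι X' (Set.range (Points.ofPt p))) :=
    isPullback_of_factor _ p p' hp'
  have hp'e : RepWith @Etale p' := (RepWith @Etale).of_isPullback sq1 hp
  have hp's : RepWith @Surjective p' := by
    refine repWith_surjective_of_ofPt_surjective p' hp'e.rep ?_
    intro o
    have h1 : Points.map (openSubι X' (Set.range (Points.ofPt p))) o ∈
        Set.range (Points.ofPt p) := by
      have h2 := range_map_openSubι X' (Set.range (Points.ofPt p))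
      exact h2.subset ⟨o, rfl⟩
    obtain ⟨v, hv⟩ := h1
    refine ⟨v, injective_map_of_mono (openSubι X' (Set.range (Points.ofPt p))) ?_⟩
    rw [Points.map_ofPt, hp', hv]
  have sq2 : IsPullback l (𝟙 _) (openSubι X' (Set.range (Points.ofPt p))) f :=
    (isPullback_of_factor _ f l hl).flip
  have sqbig : IsPullback snd (fst ≫ 𝟙 _) (p' ≫ openSubι X' (Set.range (Points.ofPt p))) f := by
    rw [Category.comp_id, hp']
    exact sq.flip
  have hcomm : snd ≫ p' = fst ≫ l := by
    rw [← cancel_mono (openSubι X' (Set.range (Points.ofPt p))), Category.assoc, Category.assoc,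
      hp', hl]
    exact sq.w.symm
  have sq' : IsPullback fst snd l p' := (IsPullback.of_bot sqbig hcomm sq2).flip
  have hl' : RepWith @IsImmersion l :=
    repWith_immersions_of_etale_cover @IsImmersion (Or.inr (Or.inr rfl)) l p' hp'e hp's sq' hsnd
  have hι' : RepWith @IsImmersion (openSubι X' (Set.range (Points.ofPt p))) :=
    MorphismProperty.relative_monotone (fun _ _ g hg => by
      have : IsOpenImmersion g.left := hg
      exact (inferInstance : IsImmersion g.left)) _ hι
  rw [← hl]
  exact (RepWith @IsImmersion).comp_mem _ _ hl' hι'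

end Groth.Agent.Lib.Helper23.ImmOpenChart
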