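import Groth.Agent.Lib.Helper23.ImmDescent2
import Groth.Agent.Lib.Helper28.RepBySp

/-!
# Descent of invariant subschemes of a chart to subspaces of an algebraic space (helper23)
-/

set_option autoImplicit false
universe u
open CategoryTheory CategoryTheory.Limits AlgebraicGeometry Opposite

namespace Groth.Agent.Lib.Helper23.ClosedDescent

open AlgSp Groth.Agent.Lib.Helper23.AlgSpMor

variable {S : Scheme.{u}}

/-- A sheaf with a representable morphism to an algebraic space is an algebraic space. -/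
theorem isAlgSpace_of_representable {Z X : Sp S} (m : Z ⟶ X) (hm : Representable m)
    (hX : IsAlgSpace X) : IsAlgSpace Z := by
  refine Groth.Agent.Lib.Helper28.RepBySp.isAlgSpace_of_repBySp m ?_ hX
  rw [repBySp_hom_iff]
  intro U ξ F' fst snd sq
  exact (IsAlgSpace.yon_obj _).of_iso ((hm.isPullback ξ).isoIsPullback _ _ sq)

/-- **Invariant subschemes descend (sheaf part).**  Let `p : h_U ⟶ X` be a morphism of sheaves with
`h_R = h_U ×_X h_U` through `t, s`, and `i' : Z' ⟶ U` a morphism of schemes over `S` whose two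
inverse images in `R` agree (one pullback square and one commutative square suffice).  Then the
image sheaf `Z` of `h_{Z'} ⟶ X` satisfies `h_{Z'} = Z ×_X h_U`. -/
theorem isPullback_image_of_invariant {X : Sp S} {R U Z' R' : Over S} (s t : R ⟶ U)
    (p : (yon S).obj U ⟶ X) (hpb : IsPullback ((yon S).map t) ((yon S).map s) p p)
    (i' : Z' ⟶ U) [Mono i'] (k : R' ⟶ R) (s' t' : R' ⟶ Z')
    (hs : IsPullback k s' s i') (ht : k ≫ t = t' ≫ i') :
    IsPullback (Sheaf.toImage ((yon S).map i' ≫ p)) ((yon S).map i')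
      (Sheaf.imageι ((yon S).map i' ≫ p)) p := by
  obtain ⟨φ, hφ⟩ : ∃ φ, φ = (yon S).map i' ≫ p := ⟨_, rfl⟩
  rw [← hφ]
  obtain ⟨e, he⟩ : ∃ e, e = Sheaf.toImage φ := ⟨_, rfl⟩
  obtain ⟨m, hm⟩ : ∃ m, m = Sheaf.imageι φ := ⟨_, rfl⟩
  have hem : e ≫ m = φ := by rw [he, hm]; exact Sheaf.toImage_ι φ
  have : Epi e := by rw [he]; infer_instance
  have : Mono m := by rw [hm]; infer_instance
  rw [← he, ← hm]
  have hcomm : e ≫ m = (yon S).map i' ≫ p := by rw [hem, hφ]
  let w : (yon S).obj Z' ⟶ pullback m p := pullback.lift e ((yon S).map i') hcomm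
  have hw1 : w ≫ pullback.fst m p = e := pullback.lift_fst _ _ _
  have hw2 : w ≫ pullback.snd m p = (yon S).map i' := pullback.lift_snd _ _ _
  have : Mono w := by
    have : Mono (w ≫ pullback.snd m p) := by rw [hw2]; infer_instance
    exact mono_of_mono w (pullback.snd m p)
  have : Epi w := by
    have hepi : Epi (pullback.snd e (pullback.fst m p)) :=
      epi_of_isPullback (IsPullback.of_hasPullback e (pullback.fst m p))
    obtain ⟨α, hα⟩ : ∃ α, α = pullback.fst e (pullback.fst m p) := ⟨_, rfl⟩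
    obtain ⟨σ, hσ⟩ : ∃ σ, σ = pullback.snd e (pullback.fst m p) := ⟨_, rfl⟩
    have hασ : α ≫ e = σ ≫ pullback.fst m p := by rw [hα, hσ]; exact pullback.condition
    rw [← hσ] at hepi
    have h1 : (σ ≫ pullback.snd m p) ≫ p = (α ≫ (yon S).map i') ≫ p := by
      rw [Category.assoc, ← pullback.condition, ← Category.assoc, ← hασ, Category.assoc, hcomm,
        Category.assoc]
    have hsy : IsPullback ((yon S).map k) ((yon S).map s') ((yon S).map s) ((yon S).map i') :=
      hs.map (yon S)
    let γ := hpb.lift (σ ≫ pullback.snd m p) (α ≫ (yon S).map i') h1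
    have hγ1 : γ ≫ (yon S).map t = σ ≫ pullback.snd m p := hpb.lift_fst _ _ _
    have hγ2 : γ ≫ (yon S).map s = α ≫ (yon S).map i' := hpb.lift_snd _ _ _
    let δ := hsy.lift γ α hγ2
    have hδ1 : δ ≫ (yon S).map k = γ := hsy.lift_fst _ _ _
    have hfac : (δ ≫ (yon S).map t') ≫ w = σ := by
      rw [← cancel_mono (pullback.snd m p), Category.assoc, hw2, Category.assoc,
        ← Functor.map_comp, ← ht, Functor.map_comp, ← Category.assoc, hδ1, hγ1]
    exact epi_of_epi_fac hfac
  have : IsIso w := isIso_of_mono_of_epi w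
  exact IsPullback.of_iso_pullback ⟨hcomm⟩ (asIso w) hw1 hw2

end Groth.Agent.Lib.Helper23.ClosedDescent
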