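import Groth.Prelude.Def_AlgSp3
import Mathlib.CategoryTheory.Limits.Constructions.Over.Connected
import Mathlib.AlgebraicGeometry.AffineScheme

/-!
# Connected limits of affine representable sheaves are affine representable (helper23)
-/

set_option autoImplicit false
universe u

open CategoryTheory CategoryTheory.Limits AlgebraicGeometry Opposite

namespace Groth.Agent.Lib.Helper23.LimAffRep

open AlgSp

variable {S : Scheme.{u}}

section

variable {J : Type u} [SmallCategory J] (G : J ⥤ Sp S) (W : J → Over S)
  (e : ∀ j, (yon S).obj (W j) ≅ G.obj j)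

/-- the diagram of representing objects -/
noncomputable def liftDiag : J ⥤ Over S where
  obj := W
  map {j j'} f := (yon S).preimage ((e j).hom ≫ G.map f ≫ (e j').inv)
  map_id j := by
    apply (yon S).map_injective
    simp
  map_comp f g := by
    apply (yon S).map_injective
    simp

noncomputable def liftDiagIso : liftDiag G W e ⋙ yon S ≅ G :=
  NatIso.ofComponents e (by
    intro j j' f
    simp [liftDiag])

end

/-- A connected small limit of sheaves representable by affine schemes is representable by an
affine scheme. -/
theorem exists_affine_rep_of_isLimit {J : Type u} [SmallCategory J] [IsConnected J] (G : J ⥤ Sp S)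
    (h : ∀ j, ∃ W : Over S, IsAffine W.left ∧ Nonempty ((yon S).obj W ≅ G.obj j))
    (c : Cone G) (hc : IsLimit c) :
    ∃ W : Over S, IsAffine W.left ∧ Nonempty ((yon S).obj W ≅ c.pt) := by
  choose W hW e using h
  let e' : ∀ j, (yon S).obj (W j) ≅ G.obj j := fun j => (e j).some
  let G' : J ⥤ Over S := liftDiag G W e'
  let iso : G' ⋙ yon S ≅ G := liftDiagIso G W e'
  -- the underlying diagram of affine schemes
  let G'' : J ⥤ AffineScheme.{u} :=
    ObjectProperty.lift _ (G' ⋙ Over.forget S) (fun j => by
      have : IsAffine (W j).left := hW j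
      exact AlgebraicGeometry.essImage_Spec.2 this)
  have hG'' : G'' ⋙ AffineScheme.forgetToScheme = G' ⋙ Over.forget S := rfl
  have hlim : HasLimit (G' ⋙ Over.forget S) := by
    rw [← hG'']
    infer_instance
  have hlim' : HasLimit G' := hasLimit_of_created G' (Over.forget S)
  -- the limit is affine
  have haff : IsAffine (limit G').left := by
    have i1 : (limit G').left ≅ limit (G' ⋙ Over.forget S) :=
      preservesLimitIso (Over.forget S) G'
    have i2 : limit (G' ⋙ Over.forget S) ≅ AffineScheme.forgetToScheme.obj (limit G'') :=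
      (preservesLimitIso AffineScheme.forgetToScheme G'').symm
    have : IsAffine (AffineScheme.forgetToScheme.obj (limit G'')) := (limit G'').property |>
      AlgebraicGeometry.essImage_Spec.1
    exact .of_isIso (i1 ≪≫ i2).hom
  refine ⟨limit G', haff, ⟨?_⟩⟩
  have i3 : (yon S).obj (limit G') ≅ limit (G' ⋙ yon S) := preservesLimitIso (yon S) G'
  have i4 : limit (G' ⋙ yon S) ≅ limit G := HasLimit.isoOfNatIso iso
  have : HasLimit G := ⟨⟨⟨c, hc⟩⟩⟩
  exact i3 ≪≫ i4 ≪≫ (limit.isLimit G).conePointUniqueUpToIso hc

end Groth.Agent.Lib.Helper23.LimAffRep
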