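import Groth.Agent.Lib.Helper23.LimAffRep
import Mathlib.CategoryTheory.Filtered.Final

/-!
# Connected limits of affine representable sheaves, with the scheme-level limit cone (helper23)
-/

set_option autoImplicit false
universe u

open CategoryTheory CategoryTheory.Limits AlgebraicGeometry Opposite

namespace Groth.Agent.Lib.Helper23.LimAffRep

open AlgSp

variable {S : Scheme.{u}}

/-- A connected small limit of sheaves representable by affine schemes (satisfying `Q`) is
representable by the limit of a diagram of such affine schemes; the scheme-level cone is a limit. -/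
theorem exists_affine_limit_of_isLimit {J : Type u} [SmallCategory J] [IsConnected J]
    (G : J ⥤ Sp S) (Q : Over S → Prop)
    (h : ∀ j, ∃ W : Over S, IsAffine W.left ∧ Q W ∧ Nonempty ((yon S).obj W ≅ G.obj j))
    (c : Cone G) (hc : IsLimit c) :
    ∃ (G' : J ⥤ Over S) (c' : Cone G'), (∀ j, IsAffine (G'.obj j).left ∧ Q (G'.obj j)) ∧
      Nonempty (IsLimit ((Over.forget S).mapCone c')) ∧ IsAffine c'.pt.left ∧
      Nonempty ((yon S).obj c'.pt ≅ c.pt) := by
  choose W hW hQ e using h
  let e' : ∀ j, (yon S).obj (W j) ≅ G.obj j := fun j => (e j).some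
  let G' : J ⥤ Over S := liftDiag G W e'
  let iso : G' ⋙ yon S ≅ G := liftDiagIso G W e'
  let G'' : J ⥤ AffineScheme.{u} :=
    ObjectProperty.lift _ (G' ⋙ Over.forget S) (fun j => by
      have : IsAffine (W j).left := hW j
      exact AlgebraicGeometry.essImage_Spec.2 this)
  have hG'' : G'' ⋙ AffineScheme.forgetToScheme = G' ⋙ Over.forget S := rfl
  have hlim : HasLimit (G' ⋙ Over.forget S) := by
    rw [← hG'']
    infer_instance
  have hlim' : HasLimit G' := hasLimit_of_created G' (Over.forget S)
  have haff : IsAffine (limit G').left := by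
    have i1 : (limit G').left ≅ limit (G' ⋙ Over.forget S) :=
      preservesLimitIso (Over.forget S) G'
    have i2 : limit (G' ⋙ Over.forget S) ≅ AffineScheme.forgetToScheme.obj (limit G'') :=
      (preservesLimitIso AffineScheme.forgetToScheme G'').symm
    have : IsAffine (AffineScheme.forgetToScheme.obj (limit G'')) := (limit G'').property |>
      AlgebraicGeometry.essImage_Spec.1
    exact .of_isIso (i1 ≪≫ i2).hom
  refine ⟨G', limit.cone G', fun j => ⟨hW j, hQ j⟩,
    ⟨isLimitOfPreserves (Over.forget S) (limit.isLimit G')⟩, haff, ⟨?_⟩⟩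
  have i3 : (yon S).obj (limit G') ≅ limit (G' ⋙ yon S) := preservesLimitIso (yon S) G'
  have i4 : limit (G' ⋙ yon S) ≅ limit G := HasLimit.isoOfNatIso iso
  have : HasLimit G := ⟨⟨⟨c, hc⟩⟩⟩
  exact i3 ≪≫ i4 ≪≫ (limit.isLimit G).conePointUniqueUpToIso hc

/-- Base change of a cofiltered limit (with affine transition maps) to an affine scheme over a
stage: it is the limit of the affine base changes of the stages. -/
theorem exists_affine_limit_baseChange {I : Type u} [SmallCategory I] [IsCofiltered I]
    (D : I ⥤ Sp S) (hDa : ∀ (i j : I) (φ : i ⟶ j), IsAffineMor (D.map φ)) (c : Cone D)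
    (hc : IsLimit c) (i : I) {Z : Over S} (hZ : IsAffine Z.left) (g : (yon S).obj Z ⟶ D.obj i)
    (Q : Over S → Prop)
    (hQ : ∀ (X : Over i) (W : Over S) (iW : W ⟶ Z) (fst : (yon S).obj W ⟶ D.obj X.left),
      IsPullback fst ((yon S).map iW) (D.map X.hom) g → IsAffine W.left → Q W) :
    ∃ (G' : Over i ⥤ Over S) (c' : Cone G'), (∀ X, IsAffine (G'.obj X).left ∧ Q (G'.obj X)) ∧
      Nonempty (IsLimit ((Over.forget S).mapCone c')) ∧ IsAffine c'.pt.left ∧
      ∃ (iW : c'.pt ⟶ Z) (fst : (yon S).obj c'.pt ⟶ c.pt),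
        IsPullback fst ((yon S).map iW) (c.π.app i) g := by
  have h1 : IsLimit ((Over.conePost D i).obj c) := Over.isLimitConePost i hc
  have hconn : IsConnected (Over i) := isConnected_of_hasTerminal _
  have h2 := isLimitOfPreserves (Over.pullback g) h1
  have h3 := isLimitOfPreserves (Over.forget ((yon S).obj Z)) h2
  obtain ⟨G', c', hG', hc', haff, ⟨e⟩⟩ := exists_affine_limit_of_isLimit
    ((Over.post D ⋙ Over.pullback g) ⋙ Over.forget ((yon S).obj Z)) Q (by
      intro X
      obtain ⟨W, iW, fst, sq, hW⟩ := hDa X.left i X.hom hZ g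
      exact ⟨W, hW, hQ X W iW fst sq hW, ⟨sq.isoPullback⟩⟩) _ h3
  have e' : (yon S).obj c'.pt ≅ pullback (c.π.app i) g := e
  refine ⟨G', c', hG', hc', haff, (yon S).preimage (e'.hom ≫ pullback.snd _ _),
    e'.hom ≫ pullback.fst _ _, ?_⟩
  refine IsPullback.of_iso_pullback ⟨?_⟩ e' rfl ?_
  · rw [Functor.map_preimage, Category.assoc, Category.assoc, pullback.condition]
  · rw [Functor.map_preimage]

end Groth.Agent.Lib.Helper23.LimAffRep
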