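import Groth.Agent.Lib.Helper23.LimAffRep

/-!
# Connected limits of affine representable sheaves, with compatibility of the projections (helper23)
-/

set_option autoImplicit false
universe u

open CategoryTheory CategoryTheory.Limits AlgebraicGeometry Opposite

namespace Groth.Agent.Lib.Helper23.LimAffRep

open AlgSp

variable {S : Scheme.{u}}

/-- Version with explicit representing data: the limit of the lifted diagram represents the limit,
compatibly with the projections. -/
theorem exists_limit_of_rep {J : Type u} [SmallCategory J] [IsConnected J]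
    (G : J ⥤ Sp S) (W : J → Over S) (e : ∀ j, (yon S).obj (W j) ≅ G.obj j)
    (hW : ∀ j, IsAffine (W j).left) (c : Cone G) (hc : IsLimit c) :
    ∃ (c' : Cone (liftDiag G W e)) (κ : (yon S).obj c'.pt ≅ c.pt),
      Nonempty (IsLimit ((Over.forget S).mapCone c')) ∧ IsAffine c'.pt.left ∧
      ∀ j, κ.hom ≫ c.π.app j = (yon S).map (c'.π.app j) ≫ (e j).hom := by
  let G' : J ⥤ Over S := liftDiag G W e
  let iso : G' ⋙ yon S ≅ G := liftDiagIso G W e
  let G'' : J ⥤ AffineScheme.{u} :=
    ObjectProperty.lift _ (G' ⋙ Over.forget S) (fun j => by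
      have : IsAffine (W j).left := hW j
      exact AlgebraicGeometry.essImage_Spec.2 this)
  have hG'' : G'' ⋙ AffineScheme.forgetToScheme = G' ⋙ Over.forget S := rfl
  have hlim : HasLimit (G' ⋙ Over.forget S) := by
    rw [← hG'']
    infer_instance
  have hlim' : HasLimit G' := hasLimit_of_created G' (Over.forget S)
  have haff : IsAffine (limit G').left := by
    have i1 : (limit G').left ≅ limit (G' ⋙ Over.forget S) :=
      preservesLimitIso (Over.forget S) G'
    have i2 : limit (G' ⋙ Over.forget S) ≅ AffineScheme.forgetToScheme.obj (limit G'') :=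
      (preservesLimitIso AffineScheme.forgetToScheme G'').symm
    have : IsAffine (AffineScheme.forgetToScheme.obj (limit G'')) := (limit G'').property |>
      AlgebraicGeometry.essImage_Spec.1
    exact .of_isIso (i1 ≪≫ i2).hom
  have : HasLimit G := ⟨⟨⟨c, hc⟩⟩⟩
  refine ⟨limit.cone G', preservesLimitIso (yon S) G' ≪≫ HasLimit.isoOfNatIso iso ≪≫
    (limit.isLimit G).conePointUniqueUpToIso hc,
    ⟨isLimitOfPreserves (Over.forget S) (limit.isLimit G')⟩, haff, ?_⟩
  intro j
  simp only [Iso.trans_hom, Category.assoc, IsLimit.conePointUniqueUpToIso_hom_comp,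
    limit.cone_π, HasLimit.isoOfNatIso_hom_π, preservesLimitIso_hom_π_assoc]
  rfl

end Groth.Agent.Lib.Helper23.LimAffRep
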