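import Groth.Agent.Lib.Helper23.LimAffRep
import Groth.Agent.Lib.Helper5.LocalRep
import Groth.Agent.Lib.Helper23.ImmQuot
import Mathlib.CategoryTheory.Filtered.Final

/-!
# Cofiltered limits of algebraic spaces with affine transition maps (helper23)
-/

set_option autoImplicit false
universe u

open CategoryTheory CategoryTheory.Limits AlgebraicGeometry Opposite

namespace Groth.Agent.Lib.Helper23.LimSpace

open AlgSp Groth.Agent.Lib.Helper23.LimAffRep

variable {S : Scheme.{u}}

/-- the projections of a cofiltered limit with affine transition maps are affine -/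
theorem isAffineMor_π {I : Type u} [SmallCategory I] [IsCofiltered I] (D : I ⥤ Sp S)
    (hDa : ∀ (i j : I) (φ : i ⟶ j), IsAffineMor (D.map φ)) (c : Cone D) (hc : IsLimit c) (i : I) :
    IsAffineMor (c.π.app i) := by
  intro Z hZ g
  have h1 : IsLimit ((Over.conePost D i).obj c) := Over.isLimitConePost i hc
  have hconn : IsConnected (Over i) := isConnected_of_hasTerminal _
  have h2 := isLimitOfPreserves (Over.pullback g) h1
  have h3 := isLimitOfPreserves (Over.forget ((yon S).obj Z)) h2
  obtain ⟨W, hW, ⟨e⟩⟩ := exists_affine_rep_of_isLimit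
    ((Over.post D ⋙ Over.pullback g) ⋙ Over.forget ((yon S).obj Z)) (by
      intro X
      obtain ⟨W, iW, fst, sq, hW⟩ := hDa X.left i X.hom hZ g
      exact ⟨W, hW, ⟨sq.isoPullback⟩⟩) _ h3
  have e' : (yon S).obj W ≅ pullback (c.π.app i) g := e
  refine ⟨W, (yon S).preimage (e'.hom ≫ pullback.snd _ _), e'.hom ≫ pullback.fst _ _, ?_, hW⟩
  refine IsPullback.of_iso_pullback ⟨?_⟩ e' rfl ?_
  · rw [Functor.map_preimage, Category.assoc, Category.assoc, pullback.condition]
  · rw [Functor.map_preimage]

/-- a cofiltered limit (in sheaves) of algebraic spaces with affine transition maps is an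
algebraic space -/
theorem isAlgSpace_limit {I : Type u} [SmallCategory I] [IsCofiltered I] (D : I ⥤ Sp S)
    (hD : ∀ i, IsAlgSpace (D.obj i))
    (hDa : ∀ (i j : I) (φ : i ⟶ j), IsAffineMor (D.map φ)) (c : Cone D) (hc : IsLimit c) :
    IsAlgSpace c.pt := by
  obtain ⟨i⟩ : Nonempty I := IsCofiltered.nonempty
  have h1 : RepWith @IsAffineHom (c.π.app i) := by
    refine Groth.Agent.Lib.Helper5.LocalRep.repWith_of_affine_test @IsAffineHom (c.π.app i) ?_
    intro Z hZ g
    obtain ⟨W, iW, fst, sq, hW⟩ := isAffineMor_π D hDa c hc i hZ g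
    refine ⟨W, iW, fst, sq, ?_⟩
    haveI := hZ
    haveI := hW
    infer_instance
  exact Groth.Agent.Lib.Helper23.ClosedDescent.isAlgSpace_of_representable (c.π.app i) h1.rep (hD i)

end Groth.Agent.Lib.Helper23.LimSpace
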