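import Groth.Agent.Lib.Helper23.LimAffRep2
import Groth.Agent.Lib.Helper23.LimSpace
import Groth.Agent.Lib.Helper36.AlgSpCharts
import Mathlib.AlgebraicGeometry.PullbackCarrier

/-!
# Charts of a cofiltered limit of algebraic spaces with affine transition maps (helper23)
-/

set_option autoImplicit false
universe u

open CategoryTheory CategoryTheory.Limits AlgebraicGeometry Opposite

namespace Groth.Agent.Lib.Helper23.LimChart

open AlgSp Groth.Agent.Lib.Helper23.LimAffRep Groth.Agent.Lib.Helper23.LimSpace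
open Groth.Agent.Lib.Helper36.AlgSpCharts

variable {S : Scheme.{u}}

theorem repWith_isAffineHom_π {I : Type u} [SmallCategory I] [IsCofiltered I] (D : I ⥤ Sp S)
    (hDa : ∀ (i j : I) (φ : i ⟶ j), IsAffineMor (D.map φ)) (c : Cone D) (hc : IsLimit c) (i : I) :
    RepWith @IsAffineHom (c.π.app i) := by
  refine Groth.Agent.Lib.Helper5.LocalRep.repWith_of_affine_test @IsAffineHom (c.π.app i) ?_
  intro Z hZ g
  obtain ⟨W, iW, fst, sq, hW⟩ := isAffineMor_π D hDa c hc i hZ g
  refine ⟨W, iW, fst, sq, ?_⟩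
  haveI := hZ
  haveI := hW
  infer_instance

/-- `L` is the limit of a diagram (indexed by `Over i`) of affine schemes over `S` satisfying `Q`. -/
def IsAffLimOf {I : Type u} [SmallCategory I] (i : I) (Q : Over S → Prop) (L : Over S) : Prop :=
  ∃ (G' : Over i ⥤ Over S) (c' : Cone G'), c'.pt = L ∧
    (∀ X, IsAffine (G'.obj X).left ∧ Q (G'.obj X)) ∧
    Nonempty (IsLimit ((Over.forget S).mapCone c')) ∧ IsAffine L.left

/-- The base change to the limit of a chart `a₀ : h_{U₀} ⟶ D i₀` is covered by open subschemes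
which are limits of the affine base changes of the stages. -/
theorem exists_chart_cover {I : Type u} [SmallCategory I] [IsCofiltered I] (D : I ⥤ Sp S)
    (hDa : ∀ (i j : I) (φ : i ⟶ j), IsAffineMor (D.map φ)) (c : Cone D) (hc : IsLimit c) (i₀ : I)
    {U₀ : Over S} (a₀ : (yon S).obj U₀ ⟶ D.obj i₀) (Q : Over S → Prop)
    (hQ : ∀ (Z : Over S) (ιZ : Z ⟶ U₀), IsOpenImmersion ιZ.left → IsAffine Z.left →
      ∀ (X : Over i₀) (W : Over S) (iW : W ⟶ Z) (fst : (yon S).obj W ⟶ D.obj X.left),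
      IsPullback fst ((yon S).map iW) (D.map X.hom) ((yon S).map ιZ ≫ a₀) → IsAffine W.left → Q W) :
    ∃ (U : Over S) (a : (yon S).obj U ⟶ c.pt) (q : U ⟶ U₀),
      IsPullback a ((yon S).map q) (c.π.app i₀) a₀ ∧
      ∀ u : ↥U.left, ∃ (L : Over S) (j : L ⟶ U), IsOpenImmersion j.left ∧ u ∈ Set.range j.left ∧
        IsAffLimOf i₀ Q L := by
  have hπ := repWith_isAffineHom_π D hDa c hc i₀
  have sqU := hπ.rep.isPullback a₀
  refine ⟨_, hπ.rep.fst a₀, hπ.rep.snd a₀, sqU, ?_⟩
  intro u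
  -- an affine open of U₀ around the image of u
  obtain ⟨_, ⟨V, hV, rfl⟩, huV, -⟩ := U₀.left.isBasis_affineOpens.exists_subset_of_mem_open
    (Set.mem_univ ((hπ.rep.snd a₀).left u)) isOpen_univ
  let V' : U₀.left.Opens := V
  let Z : Over S := Over.mk (V'.ι ≫ U₀.hom)
  let ιZ : Z ⟶ U₀ := Over.homMk V'.ι rfl
  have hZaff : IsAffine Z.left := hV
  have hιZ : IsOpenImmersion ιZ.left := inferInstanceAs (IsOpenImmersion V'.ι)
  obtain ⟨G', c', hG', hc', haff, iW, fst, sq⟩ := exists_affine_limit_baseChange D hDa c hc i₀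
    hZaff ((yon S).map ιZ ≫ a₀) Q (hQ Z ιZ hιZ hZaff)
  -- the map L → U
  have hw : fst ≫ c.π.app i₀ = ((yon S).map iW ≫ (yon S).map ιZ) ≫ a₀ := by
    rw [sq.w, Category.assoc]
  obtain ⟨j, hj⟩ := (yon S).map_surjective (sqU.lift fst ((yon S).map iW ≫ (yon S).map ιZ) hw)
  have hj1 : (yon S).map j ≫ hπ.rep.fst a₀ = fst := by rw [hj, sqU.lift_fst]
  have hj2 : (yon S).map j ≫ (yon S).map (hπ.rep.snd a₀) = (yon S).map iW ≫ (yon S).map ιZ := by
    rw [hj, sqU.lift_snd]
  have left : IsPullback ((yon S).map j) ((yon S).map iW) ((yon S).map (hπ.rep.snd a₀))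
      ((yon S).map ιZ) :=
    IsPullback.of_right (by rw [hj1]; exact sq) hj2 sqU
  have left' : IsPullback j.left iW.left (hπ.rep.snd a₀).left ιZ.left := isPullback_left_of_yon left
  have hjo : IsOpenImmersion j.left :=
    MorphismProperty.of_isPullback (P := @IsOpenImmersion) left'.flip hιZ
  refine ⟨c'.pt, j, hjo, ?_, G', c', rfl, hG', hc', haff⟩
  obtain ⟨l, hl, -⟩ := Scheme.exists_preimage_of_isPullback left' u
    (⟨(hπ.rep.snd a₀).left u, huV⟩ : ↥V') rfl
  exact ⟨l, hl⟩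

end Groth.Agent.Lib.Helper23.LimChart
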