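import Groth.Agent.Lib.Helper23.LimDescQ
import Groth.Agent.Lib.Helper23.AlgSpQc3
import Groth.Agent.Lib.Helper23.ClosedDescent2
import Groth.Agent.S9189

/-!
# Descending representable closed immersions of algebraic spaces to a stage (helper23)
-/

set_option autoImplicit false
set_option backward.isDefEq.respectTransparency false
universe u

open CategoryTheory CategoryTheory.Limits AlgebraicGeometry Opposite

namespace Groth.Agent.Lib.Helper23.LimDescRep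

open AlgSp Groth.Agent.Lib.Helper23.AlgSpMor Groth.Agent.Lib.Helper46
  Groth.Agent.Lib.Helper46.LocPChart Groth.Agent.Lib.Helper54.SchemeIsoLocus
  Groth.Agent.Lib.Helper23.LimStageChart2 Groth.Agent.Lib.Helper23.LimDescQ
  Groth.Agent.Lib.Helper23.ClosedDescent

variable {S : Scheme.{u}}

theorem isPullback_chart {X₀ Y₀ Xi Yi : Sp S} {f₀ : X₀ ⟶ Y₀} {pYi : Yi ⟶ Y₀} {pXi : Xi ⟶ X₀}
    {fi : Xi ⟶ Yi} (sq2 : IsPullback pXi fi f₀ pYi) {U₀ V₀ W Ui : Over S}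
    {ξ₀ : (yon S).obj U₀ ⟶ X₀} {v₀ : (yon S).obj V₀ ⟶ Y₀} {f₀' : U₀ ⟶ V₀}
    (sqP : IsPullback ξ₀ ((yon S).map f₀') f₀ v₀) {β : (yon S).obj W ⟶ Yi} {iW : W ⟶ V₀}
    (sqV : IsPullback β ((yon S).map iW) pYi v₀) {q₁ : Ui ⟶ U₀} {q₂ : Ui ⟶ W}
    (sqS : IsPullback q₁.left q₂.left f₀'.left iW.left) {α : (yon S).obj Ui ⟶ Xi}
    (hα1 : (yon S).map q₁ ≫ ξ₀ = α ≫ pXi) (hα2 : α ≫ fi = (yon S).map q₂ ≫ β) :
    IsPullback α ((yon S).map q₂) fi β := by
  have outer : IsPullback ((yon S).map q₁ ≫ ξ₀) ((yon S).map q₂) f₀ ((yon S).map iW ≫ v₀) :=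
    (isPullback_yon_map sqS).paste_horiz sqP
  refine IsPullback.of_right ?_ hα2 sq2
  rw [← hα1, sqV.w]
  exact outer

theorem descend_rep_closedImmersion
    [QuasiSeparatedSpace S] {I : Type u} [SmallCategory I] [IsCofiltered I]
    (D : I ⥤ Sp S) (hDa : ∀ (i j : I) (φ : i ⟶ j), IsAffineMor (D.map φ))
    (c : Cone D) (hc : IsLimit c) (i₀ : I)
    (X₀ Y₀ : Space S) (f₀ : X₀.obj ⟶ Y₀.obj) (b₀ : Y₀.obj ⟶ D.obj i₀)
    (hXqc : IsQuasiCompactSp X₀.obj) (hXqs : IsQuasiSeparatedSp X₀.obj)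
    (hYqc : IsQuasiCompactSp Y₀.obj) (hYqs : IsQuasiSeparatedSp Y₀.obj)
    (X Y : Sp S) (f : X ⟶ Y) (pY : Y ⟶ Y₀.obj) (qY : Y ⟶ c.pt)
    (hY : IsPullback pY qY b₀ (c.π.app i₀)) (pX : X ⟶ X₀.obj) (hX : IsPullback pX f f₀ pY)
    (hf : RepWith @IsClosedImmersion f) (hf₀ : RepWith @LocallyOfFiniteType f₀) :
    ∃ (i : I) (φ : i ⟶ i₀), ∀ (Xi Yi : Sp S) (fi : Xi ⟶ Yi) (pYi : Yi ⟶ Y₀.obj)
      (qYi : Yi ⟶ D.obj i) (_ : IsPullback pYi qYi b₀ (D.map φ)) (pXi : Xi ⟶ X₀.obj)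
      (_ : IsPullback pXi fi f₀ pYi), RepWith @IsClosedImmersion fi := by
  obtain ⟨V₀, v₀, hV₀, hv₀e, hv₀s⟩ := exists_affine_chart_of_isQuasiCompactSp hYqc
  haveI : IsAffine V₀.left := hV₀
  have hqcm : IsQuasiCompactMor f₀ :=
    isQuasiCompactMor_of_isQuasiCompactSp_of_isQuasiSeparatedSp X₀.property f₀ hXqc hYqs
  let U₀ : Over S := hf₀.rep.pullback v₀
  let f₀' : U₀ ⟶ V₀ := hf₀.rep.snd v₀
  obtain ⟨ξ₀, hξ₀⟩ : ∃ ξ₀ : (yon S).obj U₀ ⟶ X₀.obj, ξ₀ = hf₀.rep.fst v₀ := ⟨_, rfl⟩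
  have sqP : IsPullback ξ₀ ((yon S).map f₀') f₀ v₀ := hξ₀ ▸ hf₀.rep.isPullback v₀
  have hU₀qc : IsQuasiCompactSp ((yon S).obj U₀) :=
    hqcm (IsAlgSpace.yon_obj V₀) (isQuasiCompactSp_yon V₀) v₀ _ _ sqP
  haveI : CompactSpace ↥U₀.left := compactSpace_of_isQuasiCompactSp_yon U₀ hU₀qc
  have hV₀qs : IsQuasiSeparatedSp ((yon S).obj V₀) :=
    (repWith_diag_yon_iff @QuasiCompact V₀).2 inferInstance
  have hU₀qs : IsQuasiSeparatedSp ((yon S).obj U₀) :=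
    isQuasiSeparatedSp_of_isPullback sqP hXqs hV₀qs
  haveI : QuasiSeparated U₀.hom := ⟨(repWith_diag_yon_iff @QuasiCompact U₀).1 hU₀qs⟩
  haveI : QuasiSeparatedSpace ↥U₀.left := quasiSeparatedSpace_of_quasiSeparated U₀.hom
  have hξ₀e : RepWith @Etale ξ₀ := MorphismProperty.of_isPullback sqP.flip hv₀e
  have hξ₀s : RepWith @Surjective ξ₀ := MorphismProperty.of_isPullback sqP.flip hv₀s
  have hcomm₀ : ξ₀ ≫ f₀ = (yon S).map f₀' ≫ v₀ := sqP.w
  haveI hlfp : LocallyOfFiniteType f₀'.left := hf₀.property v₀ ξ₀ f₀' sqP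
  obtain ⟨G', c', fstW, iW, aU, iU, hWaff, haff, ⟨hc'⟩, sqW, sqU, hfst, hsnd, hnatW, hnatF⟩ :=
    exists_stage_charts_nat D hDa c hc i₀ hV₀ (v₀ ≫ b₀)
  -- limit level charts
  obtain ⟨βl, sqVl, hβl⟩ := exists_base_chart hY v₀ aU iU sqU
  let Ul : Over S := Over.mk (pullback.snd f₀'.left iU.left ≫ c'.pt.hom)
  let q₁l : Ul ⟶ U₀ := Over.homMk (pullback.fst f₀'.left iU.left) (by
    have h1 := Over.w f₀'
    have h2 := Over.w iU
    change pullback.fst f₀'.left iU.left ≫ U₀.hom = pullback.snd f₀'.left iU.left ≫ c'.pt.hom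
    rw [← h1, ← h2, ← Category.assoc, pullback.condition, Category.assoc])
  let q₂l : Ul ⟶ c'.pt := Over.homMk (pullback.snd f₀'.left iU.left) rfl
  have sqSl : IsPullback q₁l.left q₂l.left f₀'.left iU.left := IsPullback.of_hasPullback _ _
  obtain ⟨αl, sqαl, hαl⟩ := exists_stage_chart hX ξ₀ v₀ f₀' hcomm₀ βl iU sqVl q₁l q₂l sqSl
  have sqFl : IsPullback αl ((yon S).map q₂l) f βl :=
    isPullback_chart hX sqP sqVl sqSl sqαl.w hαl
  haveI hQl : IsClosedImmersion q₂l.left := hf.property βl αl q₂l sqFl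
  -- scheme-level stage
  let D' : Over i₀ ⥤ Scheme.{u} := G' ⋙ Over.forget S
  haveI : ∀ j, IsAffine (D'.obj j) := hWaff
  haveI : ∀ (i j : Over i₀) (f : i ⟶ j), IsAffineHom (D'.map f) := fun i j f => inferInstance
  let j₁ : Over i₀ := Over.mk (𝟙 i₀)
  haveI : CompactSpace ↥(D'.obj j₁) := inferInstance
  haveI : QuasiSeparatedSpace ↥(D'.obj j₁) := inferInstance
  haveI hisoY : IsIso ((yon S).map (iW j₁)) := by
    have h := sqW j₁
    haveI : IsIso (D.map j₁.hom) := by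
      change IsIso (D.map (𝟙 i₀))
      rw [D.map_id]; infer_instance
    exact h.isIso_snd_of_isIso
  haveI hisoW : IsIso (iW j₁) := isIso_of_fully_faithful (yon S) (iW j₁)
  haveI hisoL : IsIso (iW j₁).left := (Over.forget S).map_isIso (iW j₁)
  have hYs : IsPullback iU.left (𝟙 c'.pt.left) (inv (iW j₁).left)
      (((Over.forget S).mapCone c').π.app j₁) := by
    refine IsPullback.of_vert_isIso ⟨?_⟩
    change iU.left ≫ inv (iW j₁).left = 𝟙 _ ≫ (c'.π.app j₁).left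
    rw [Category.id_comp, IsIso.comp_inv_eq, ← Over.comp_left, hsnd j₁]
  obtain ⟨ji, φJ, Xi', Yi', fi', gi, pY', pX', sqa, sqb, hQi⟩ :=
    Groth.Agent.S9189.result D' ((Over.forget S).mapCone c') hc' j₁ f₀'.left (inv (iW j₁).left)
      q₂l.left (𝟙 c'.pt.left) iU.left q₁l.left hYs sqSl
  haveI hgi : IsIso gi := sqa.isIso_snd_of_isIso
  have hpY' : pY' = gi ≫ (iW ji).left := by
    have h1 : pY' ≫ inv (iW j₁).left = gi ≫ (G'.map φJ).left := sqa.w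
    rw [IsIso.comp_inv_eq] at h1
    rw [h1, Category.assoc, ← Over.comp_left, hnatW ji j₁ φJ]
  let Ui : Over S := Over.mk (fi' ≫ gi ≫ (G'.obj ji).hom)
  let q₁i : Ui ⟶ U₀ := Over.homMk pX' (by
    have h1 := Over.w f₀'
    have h2 := Over.w (iW ji)
    change pX' ≫ U₀.hom = fi' ≫ gi ≫ (G'.obj ji).hom
    rw [← h1, ← h2, ← Category.assoc, sqb.w, hpY']
    simp only [Category.assoc])
  let q₂i : Ui ⟶ G'.obj ji := Over.homMk (fi' ≫ gi) (Category.assoc _ _ _)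
  have sqSi : IsPullback q₁i.left q₂i.left f₀'.left (iW ji).left := by
    have h2 : IsPullback pY' gi (𝟙 V₀.left) (iW ji).left :=
      IsPullback.of_vert_isIso ⟨by rw [Category.comp_id, hpY']⟩
    have h3 := sqb.paste_vert h2
    rw [Category.comp_id] at h3
    exact h3
  have hQi' : IsClosedImmersion q₂i.left := by
    haveI := hQi
    change IsClosedImmersion (fi' ≫ gi)
    infer_instance
  refine ⟨ji.left, ji.hom, ?_⟩
  intro Xi Yi fi pYi qYi sq1 pXi sq2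
  obtain ⟨β, sqV, hβ⟩ := exists_base_chart sq1 v₀ (fstW ji) (iW ji) (sqW ji)
  obtain ⟨α, sqα, hα⟩ := exists_stage_chart sq2 ξ₀ v₀ f₀' hcomm₀ β (iW ji) sqV q₁i q₂i sqSi
  have hβe : RepWith @Etale β := MorphismProperty.of_isPullback sqV.flip hv₀e
  have hβs : RepWith @Surjective β := MorphismProperty.of_isPullback sqV.flip hv₀s
  have sqF : IsPullback α ((yon S).map q₂i) fi β := isPullback_chart sq2 sqP sqV sqSi sqα.w hα
  exact repWith_isClosedImmersion_of_etale_cover fi β hβe hβs sqF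
    ((repWith_yon_map_iff _ _).2 hQi')


end Groth.Agent.Lib.Helper23.LimDescRep
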