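import Groth.Agent.Lib.Helper23.LimDescQ
import Groth.Agent.Lib.Helper23.LimDescRep
import Groth.Agent.Lib.Helper23.AlgSpQc3
import Groth.Agent.Lib.Helper23.ClosedDescent2
import Groth.Agent.S9187
import Groth.Agent.S10267
import Groth.Agent.S10268

/-!
# Descending representable closed immersions of algebraic spaces to a stage (helper23)
-/

set_option autoImplicit false
set_option backward.isDefEq.respectTransparency false
universe u

open CategoryTheory CategoryTheory.Limits AlgebraicGeometry Opposite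

namespace Groth.Agent.Lib.Helper23.LimDescFin

open AlgSp Groth.Agent.Lib.Helper23.AlgSpMor Groth.Agent.Lib.Helper46
  Groth.Agent.Lib.Helper46.LocPChart Groth.Agent.Lib.Helper54.SchemeIsoLocus
  Groth.Agent.Lib.Helper23.LimStageChart2 Groth.Agent.Lib.Helper23.LimDescQ
  Groth.Agent.Lib.Helper23.ClosedDescent

variable {S : Scheme.{u}}

open Groth.Agent.Lib.Helper23.LimDescRep

theorem descend_finite_of_chart
    [QuasiSeparatedSpace S] {I : Type u} [SmallCategory I] [IsCofiltered I]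
    (D : I ⥤ Sp S) (hDa : ∀ (i j : I) (φ : i ⟶ j), IsAffineMor (D.map φ))
    (c : Cone D) (hc : IsLimit c) (i₀ : I)
    {X₀ Y₀ : Sp S} (hX₀ : IsAlgSpace X₀) (hY₀ : IsAlgSpace Y₀) (hD : ∀ i, IsAlgSpace (D.obj i))
    (f₀ : X₀ ⟶ Y₀) (b₀ : Y₀ ⟶ D.obj i₀)
    {U₀ V₀ : Over S} (hV₀ : IsAffine V₀.left) (v₀ : (yon S).obj V₀ ⟶ Y₀)
    (hv₀e : RepWith @Etale v₀) (hv₀s : RepWith @Surjective v₀)
    (ξ₀ : (yon S).obj U₀ ⟶ X₀) (f₀' : U₀ ⟶ V₀) (sqP : IsPullback ξ₀ ((yon S).map f₀') f₀ v₀)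
    [CompactSpace ↥U₀.left] [QuasiSeparatedSpace ↥U₀.left] [LocallyOfFiniteType f₀'.left]
    (X Y : Sp S) (f : X ⟶ Y) (pY : Y ⟶ Y₀) (qY : Y ⟶ c.pt)
    (hY : IsPullback pY qY b₀ (c.π.app i₀)) (pX : X ⟶ X₀) (hX : IsPullback pX f f₀ pY)
    (hf : RepWith @IsFinite f) :
    ∃ (i : I) (φ : i ⟶ i₀), ∀ (Xi Yi : Sp S) (fi : Xi ⟶ Yi) (pYi : Yi ⟶ Y₀)
      (qYi : Yi ⟶ D.obj i) (_ : IsPullback pYi qYi b₀ (D.map φ)) (pXi : Xi ⟶ X₀)
      (_ : IsPullback pXi fi f₀ pYi), IsFiniteMor fi := by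
  haveI : IsAffine V₀.left := hV₀
  have hξ₀e : RepWith @Etale ξ₀ := MorphismProperty.of_isPullback sqP.flip hv₀e
  have hξ₀s : RepWith @Surjective ξ₀ := MorphismProperty.of_isPullback sqP.flip hv₀s
  have hcomm₀ : ξ₀ ≫ f₀ = (yon S).map f₀' ≫ v₀ := sqP.w
  obtain ⟨G', c', fstW, iW, aU, iU, hWaff, haff, ⟨hc'⟩, sqW, sqU, hfst, hsnd, hnatW, hnatF⟩ :=
    exists_stage_charts_nat D hDa c hc i₀ hV₀ (v₀ ≫ b₀)
  -- limit level charts
  obtain ⟨βl, sqVl, hβl⟩ := exists_base_chart hY v₀ aU iU sqU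
  let Ul : Over S := Over.mk (pullback.snd f₀'.left iU.left ≫ c'.pt.hom)
  let q₁l : Ul ⟶ U₀ := Over.homMk (pullback.fst f₀'.left iU.left) (by
    have h1 := Over.w f₀'
    have h2 := Over.w iU
    change pullback.fst f₀'.left iU.left ≫ U₀.hom = pullback.snd f₀'.left iU.left ≫ c'.pt.hom
    rw [← h1, ← h2, ← Category.assoc, pullback.condition, Category.assoc])
  let q₂l : Ul ⟶ c'.pt := Over.homMk (pullback.snd f₀'.left iU.left) rfl
  have sqSl : IsPullback q₁l.left q₂l.left f₀'.left iU.left := IsPullback.of_hasPullback _ _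
  obtain ⟨αl, sqαl, hαl⟩ := exists_stage_chart hX ξ₀ v₀ f₀' hcomm₀ βl iU sqVl q₁l q₂l sqSl
  have sqFl : IsPullback αl ((yon S).map q₂l) f βl :=
    isPullback_chart hX sqP sqVl sqSl sqαl.w hαl
  haveI hQl : IsFinite q₂l.left := hf.property βl αl q₂l sqFl
  -- scheme-level stage
  let D' : Over i₀ ⥤ Scheme.{u} := G' ⋙ Over.forget S
  haveI : ∀ j, IsAffine (D'.obj j) := hWaff
  haveI : ∀ (i j : Over i₀) (f : i ⟶ j), IsAffineHom (D'.map f) := fun i j f => inferInstance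
  let j₁ : Over i₀ := Over.mk (𝟙 i₀)
  haveI : CompactSpace ↥(D'.obj j₁) := inferInstance
  haveI : QuasiSeparatedSpace ↥(D'.obj j₁) := inferInstance
  haveI hisoY : IsIso ((yon S).map (iW j₁)) := by
    have h := sqW j₁
    haveI : IsIso (D.map j₁.hom) := by
      change IsIso (D.map (𝟙 i₀))
      rw [D.map_id]; infer_instance
    exact h.isIso_snd_of_isIso
  haveI hisoW : IsIso (iW j₁) := isIso_of_fully_faithful (yon S) (iW j₁)
  haveI hisoL : IsIso (iW j₁).left := (Over.forget S).map_isIso (iW j₁)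
  have hYs : IsPullback iU.left (𝟙 c'.pt.left) (inv (iW j₁).left)
      (((Over.forget S).mapCone c').π.app j₁) := by
    refine IsPullback.of_vert_isIso ⟨?_⟩
    change iU.left ≫ inv (iW j₁).left = 𝟙 _ ≫ (c'.π.app j₁).left
    rw [Category.id_comp, IsIso.comp_inv_eq, ← Over.comp_left, hsnd j₁]
  obtain ⟨ji, φJ, Xi', Yi', fi', gi, pY', pX', sqa, sqb, hQi⟩ :=
    Groth.Agent.S9187.result D' ((Over.forget S).mapCone c') hc' j₁ f₀'.left (inv (iW j₁).left)
      q₂l.left (𝟙 c'.pt.left) iU.left q₁l.left hYs sqSl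
  haveI hgi : IsIso gi := sqa.isIso_snd_of_isIso
  have hpY' : pY' = gi ≫ (iW ji).left := by
    have h1 : pY' ≫ inv (iW j₁).left = gi ≫ (G'.map φJ).left := sqa.w
    rw [IsIso.comp_inv_eq] at h1
    rw [h1, Category.assoc, ← Over.comp_left, hnatW ji j₁ φJ]
  let Ui : Over S := Over.mk (fi' ≫ gi ≫ (G'.obj ji).hom)
  let q₁i : Ui ⟶ U₀ := Over.homMk pX' (by
    have h1 := Over.w f₀'
    have h2 := Over.w (iW ji)
    change pX' ≫ U₀.hom = fi' ≫ gi ≫ (G'.obj ji).hom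
    rw [← h1, ← h2, ← Category.assoc, sqb.w, hpY']
    simp only [Category.assoc])
  let q₂i : Ui ⟶ G'.obj ji := Over.homMk (fi' ≫ gi) (Category.assoc _ _ _)
  have sqSi : IsPullback q₁i.left q₂i.left f₀'.left (iW ji).left := by
    have h2 : IsPullback pY' gi (𝟙 V₀.left) (iW ji).left :=
      IsPullback.of_vert_isIso ⟨by rw [Category.comp_id, hpY']⟩
    have h3 := sqb.paste_vert h2
    rw [Category.comp_id] at h3
    exact h3
  have hQi' : IsFinite q₂i.left := by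
    haveI := hQi
    change IsFinite (fi' ≫ gi)
    infer_instance
  refine ⟨ji.left, ji.hom, ?_⟩
  intro Xi Yi fi pYi qYi sq1 pXi sq2
  obtain ⟨β, sqV, hβ⟩ := exists_base_chart sq1 v₀ (fstW ji) (iW ji) (sqW ji)
  obtain ⟨α, sqα, hα⟩ := exists_stage_chart sq2 ξ₀ v₀ f₀' hcomm₀ β (iW ji) sqV q₁i q₂i sqSi
  have hβe : RepWith @Etale β := MorphismProperty.of_isPullback sqV.flip hv₀e
  have hβs : RepWith @Surjective β := MorphismProperty.of_isPullback sqV.flip hv₀s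
  have sqF : IsPullback α ((yon S).map q₂i) fi β := isPullback_chart sq2 sqP sqV sqSi sqα.w hα
  have hYi : IsAlgSpace Yi := isAlgSpace_of_isPullback hY₀ (hD _) (hD i₀).diag sq1
  have hXi : IsAlgSpace Xi := isAlgSpace_of_isPullback hX₀ hYi hY₀.diag sq2
  have hfin : IsFiniteMor ((yon S).map q₂i) :=
    ((Groth.Agent.S10267.result (X := ⟨_, IsAlgSpace.yon_obj _⟩) (Y := ⟨_, IsAlgSpace.yon_obj _⟩)
      (ObjectProperty.homMk ((yon S).map q₂i))).2).2 ((repWith_yon_map_iff _ _).2 hQi')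
  exact (Groth.Agent.S10268.result (X := ⟨Xi, hXi⟩) (Y := ⟨Yi, hYi⟩) (ObjectProperty.homMk fi) _ β
    hβe hβs α ((yon S).map q₂i) sqF).2 hfin



end Groth.Agent.Lib.Helper23.LimDescFin
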