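import Groth.Agent.Lib.Helper23.LimDescSurj
import Groth.Agent.Lib.Helper23.AlgSpInj2
import Groth.Agent.Lib.Helper23.AlgSpQc3
import Groth.Agent.Lib.Helper50.LimDesc10
import Groth.Agent.Lib.Helper30.EtLocalInst

/-!
# Descending universal injectivity of a morphism of algebraic spaces to a stage (helper23)
-/

set_option autoImplicit false
set_option backward.isDefEq.respectTransparency false
universe u

open CategoryTheory CategoryTheory.Limits AlgebraicGeometry Opposite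

namespace Groth.Agent.Lib.Helper23.LimDescInj

section Cat

variable {C : Type*} [Category C] [HasPullbacks C]

theorem isPullback_map_snd {X₀ Y₀ Xi Yi : C} {f₀ : X₀ ⟶ Y₀} {pYi : Yi ⟶ Y₀} {pXi : Xi ⟶ X₀}
    {fi : Xi ⟶ Yi} (sq2 : IsPullback pXi fi f₀ pYi) :
    IsPullback (pullback.map fi fi f₀ f₀ pXi pXi pYi sq2.w.symm sq2.w.symm) (pullback.snd fi fi)
      (pullback.snd f₀ f₀) pXi := by
  have h1 : IsPullback (pullback.fst fi fi ≫ pXi) (pullback.snd fi fi) f₀ (fi ≫ pYi) :=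
    (IsPullback.of_hasPullback fi fi).paste_horiz sq2
  have e1 : pullback.map fi fi f₀ f₀ pXi pXi pYi sq2.w.symm sq2.w.symm ≫ pullback.fst f₀ f₀ =
      pullback.fst fi fi ≫ pXi := pullback.lift_fst _ _ _
  have e2 : pullback.map fi fi f₀ f₀ pXi pXi pYi sq2.w.symm sq2.w.symm ≫ pullback.snd f₀ f₀ =
      pullback.snd fi fi ≫ pXi := pullback.lift_snd _ _ _
  refine IsPullback.of_right ?_ e2 (IsPullback.of_hasPullback f₀ f₀)
  rw [e1, sq2.w]
  exact h1

theorem isPullback_diagonal {X₀ Y₀ Xi Yi : C} {f₀ : X₀ ⟶ Y₀} {pYi : Yi ⟶ Y₀} {pXi : Xi ⟶ X₀}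
    {fi : Xi ⟶ Yi} (sq2 : IsPullback pXi fi f₀ pYi) :
    IsPullback pXi (pullback.diagonal fi) (pullback.diagonal f₀)
      (pullback.map fi fi f₀ f₀ pXi pXi pYi sq2.w.symm sq2.w.symm) := by
  refine IsPullback.of_bot ?_ ?_ (isPullback_map_snd sq2)
  · rw [pullback.diagonal_snd, pullback.diagonal_snd]
    exact IsPullback.of_vert_isIso ⟨by simp⟩
  · apply pullback.hom_ext <;> simp

end Cat

open AlgSp Groth.Agent.Lib.Helper23.AlgSpMor Groth.Agent.Lib.Helper46
  Groth.Agent.Lib.Helper46.LocPChart Groth.Agent.Lib.Helper36.AlgSpCharts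
  Groth.Agent.Lib.Helper30.EtLocalInst

variable {S : Scheme.{u}}

theorem locP_lfp_diagonal_of_locP_lft {X Y : Sp S} (hX : IsAlgSpace X) (hY : IsAlgSpace Y)
    (f : X ⟶ Y) (hf : LocP @LocallyOfFiniteType f) :
    LocP @LocallyOfFinitePresentation (pullback.diagonal f) := by
  intro U' V' a' b' h' ha' hb' comm
  have hZ : IsAlgSpace (pullback f f) :=
    isAlgSpace_of_isPullback hX hX hY.diag (IsPullback.of_hasPullback f f)
  have hπ : LocP @LocallyOfFiniteType (pullback.snd f f) :=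
    locP_of_isPullback etLocal_lft hX hY hZ hX (IsPullback.of_hasPullback f f) hf
  obtain ⟨A, p, hpe, hps⟩ := hX.atlas
  obtain ⟨R, r₁, r₂, sqR⟩ := exists_isPullback_yon (b' ≫ pullback.snd f f) p hpe.rep
  have hr₁e : Etale r₁.left := prop_fst_of_isPullback sqR hpe
  have hr₁s : Surjective r₁.left := prop_fst_of_isPullback sqR hps
  have hr₁b : RepWith @Etale ((yon S).map r₁ ≫ b') :=
    (RepWith @Etale).comp_mem _ _ ((repWith_yon_map_iff _ _).2 hr₁e) hb'
  have hr₂ : LocallyOfFiniteType r₂.left :=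
    hπ ((yon S).map r₁ ≫ b') p r₂ hr₁b hpe (by rw [Category.assoc]; exact sqR.w)
  let T : Over S := Over.mk (pullback.fst h'.left r₁.left ≫ U'.hom)
  let t₁ : T ⟶ U' := Over.homMk (pullback.fst h'.left r₁.left) rfl
  let t₂ : T ⟶ R := Over.homMk (pullback.snd h'.left r₁.left) (by
    have e1 := Over.w r₁
    have e2 := Over.w h'
    change pullback.snd h'.left r₁.left ≫ R.hom = pullback.fst h'.left r₁.left ≫ U'.hom
    rw [← e1, ← e2, ← Category.assoc, ← Category.assoc, pullback.condition])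
  have hcond : t₁ ≫ h' = t₂ ≫ r₁ := Over.OverMorphism.ext pullback.condition
  haveI := hr₁e
  haveI := hr₁s
  have ht₁e : Etale t₁.left := (inferInstance : Etale (pullback.fst h'.left r₁.left))
  have ht₁s : Surjective t₁.left := (inferInstance : Surjective (pullback.fst h'.left r₁.left))
  have ht₁a : RepWith @Etale ((yon S).map t₁ ≫ a') :=
    (RepWith @Etale).comp_mem _ _ ((repWith_yon_map_iff _ _).2 ht₁e) ha'
  have hcomp : Etale (t₂ ≫ r₂).left := by
    refine etale_of_comp_eq ((yon S).map t₁ ≫ a') p (t₂ ≫ r₂) ht₁a hpe ?_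
    calc (yon S).map (t₂ ≫ r₂) ≫ p = (yon S).map t₂ ≫ (yon S).map r₂ ≫ p := by
          rw [Functor.map_comp, Category.assoc]
      _ = (yon S).map t₂ ≫ (yon S).map r₁ ≫ b' ≫ pullback.snd f f := by rw [← sqR.w]
      _ = (yon S).map (t₂ ≫ r₁) ≫ b' ≫ pullback.snd f f := by
          rw [Functor.map_comp, Category.assoc]
      _ = (yon S).map (t₁ ≫ h') ≫ b' ≫ pullback.snd f f := by rw [hcond]
      _ = (yon S).map t₁ ≫ ((yon S).map h' ≫ b') ≫ pullback.snd f f := by
          rw [Functor.map_comp]; simp only [Category.assoc]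
      _ = (yon S).map t₁ ≫ (a' ≫ pullback.diagonal f) ≫ pullback.snd f f := by rw [comm]
      _ = (yon S).map t₁ ≫ a' := by rw [Category.assoc, pullback.diagonal_snd, Category.comp_id]
  haveI : LocallyOfFinitePresentation (t₂.left ≫ r₂.left) := by
    haveI := hcomp
    change LocallyOfFinitePresentation (t₂ ≫ r₂).left
    infer_instance
  haveI := hr₂
  haveI ht₂ : LocallyOfFinitePresentation t₂.left :=
    Groth.Agent.Lib.Helper50.locallyOfFinitePresentation_of_comp t₂.left r₂.left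
  have h1 : LocallyOfFinitePresentation (t₁.left ≫ h'.left) := by
    have e : t₁.left ≫ h'.left = t₂.left ≫ r₁.left := pullback.condition
    rw [e]
    infer_instance
  exact etLocal_lfp.of_cover t₁.left h'.left ht₁e ht₁s h1

open Groth.Agent.Lib.Helper23.LimDescSurj in
theorem descend_univInjective
    [QuasiSeparatedSpace S] {I : Type u} [SmallCategory I] [IsCofiltered I]
    (D : I ⥤ Sp S) (hD : ∀ i, IsAlgSpace (D.obj i))
    (hDa : ∀ (i j : I) (φ : i ⟶ j), IsAffineMor (D.map φ))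
    (c : Cone D) (hc : IsLimit c) (i₀ : I)
    (X₀ Y₀ : Space S) (f₀ : X₀.obj ⟶ Y₀.obj) (b₀ : Y₀.obj ⟶ D.obj i₀)
    (hXqc : IsQuasiCompactSp X₀.obj) (hXqs : IsQuasiSeparatedSp X₀.obj)
    (hYqs : IsQuasiSeparatedSp Y₀.obj)
    (X Y : Sp S) (f : X ⟶ Y) (pY : Y ⟶ Y₀.obj) (qY : Y ⟶ c.pt)
    (hY : IsPullback pY qY b₀ (c.π.app i₀)) (pX : X ⟶ X₀.obj) (hX : IsPullback pX f f₀ pY)
    (hf : IsUnivInjectiveMor f) (hf₀ : LocP @LocallyOfFiniteType f₀) :
    ∃ (i : I) (φ : i ⟶ i₀), ∀ (Xi Yi : Sp S) (fi : Xi ⟶ Yi) (pYi : Yi ⟶ Y₀.obj)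
      (qYi : Yi ⟶ D.obj i) (_ : IsPullback pYi qYi b₀ (D.map φ)) (pXi : Xi ⟶ X₀.obj)
      (_ : IsPullback pXi fi f₀ pYi), IsUnivInjectiveMor fi := by
  let Z₀ : Space S := ⟨pullback f₀ f₀, isAlgSpace_of_isPullback X₀.property X₀.property
    Y₀.property.diag (IsPullback.of_hasPullback f₀ f₀)⟩
  have hqcm : IsQuasiCompactMor f₀ :=
    isQuasiCompactMor_of_isQuasiCompactSp_of_isQuasiSeparatedSp X₀.property f₀ hXqc hYqs
  have hZqc : IsQuasiCompactSp Z₀.obj :=
    hqcm X₀.property hXqc f₀ _ _ (IsPullback.of_hasPullback f₀ f₀)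
  have hZqs : IsQuasiSeparatedSp Z₀.obj :=
    isQuasiSeparatedSp_of_isPullback (IsPullback.of_hasPullback f₀ f₀) hXqs hXqs
  have hΔlfp : LocP @LocallyOfFinitePresentation (pullback.diagonal f₀) :=
    locP_lfp_diagonal_of_locP_lft X₀.property Y₀.property f₀ hf₀
  have hΔs : IsSurjectiveMor (pullback.diagonal f) :=
    isSurjectiveMor_diagonal_of_isUnivInjectiveMor f hf
  have sqA := ((isPullback_map_snd hX).paste_vert hX).paste_vert hY
  have sqB := isPullback_diagonal hX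
  obtain ⟨i, φ, h⟩ := descend_surjective D hDa c hc i₀ X₀ Z₀ (pullback.diagonal f₀)
    ((pullback.snd f₀ f₀ ≫ f₀) ≫ b₀) hXqc hZqc hZqs X (pullback f f) (pullback.diagonal f)
    _ _ sqA pX sqB hΔs hΔlfp
  refine ⟨i, φ, fun Xi Yi fi pYi qYi sq1 pXi sq2 => ?_⟩
  have hs := h Xi (pullback fi fi) (pullback.diagonal fi) _ _
    (((isPullback_map_snd sq2).paste_vert sq2).paste_vert sq1) pXi (isPullback_diagonal sq2)
  have hYi : IsAlgSpace Yi := isAlgSpace_of_isPullback Y₀.property (hD i) (hD i₀).diag sq1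
  have hXi : IsAlgSpace Xi := isAlgSpace_of_isPullback X₀.property hYi Y₀.property.diag sq2
  exact isUnivInjectiveMor_of_kInj fi (kInj_of_isSurjectiveMor_diagonal hXi fi hs)

end Groth.Agent.Lib.Helper23.LimDescInj
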