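import Groth.Agent.Lib.Helper23.LimDescInj
import Groth.Agent.Lib.Helper23.AlgSpFlatMono
import Groth.Agent.Lib.Helper30.AlgSpEtaleMor
import Groth.Agent.S10261

/-!
# Descending isomorphisms of algebraic spaces to a stage (helper23)
-/

set_option autoImplicit false
set_option backward.isDefEq.respectTransparency false
universe u

open CategoryTheory CategoryTheory.Limits AlgebraicGeometry Opposite

namespace Groth.Agent.Lib.Helper23.LimDescIso

open AlgSp Groth.Agent.Lib.Helper23.AlgSpMor Groth.Agent.Lib.Helper46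
  Groth.Agent.Lib.Helper46.LocPChart Groth.Agent.Lib.Helper36.AlgSpCharts
  Groth.Agent.Lib.Helper30.EtLocalInst Groth.Agent.Lib.Helper30.AlgSpEtaleMor
  Groth.Agent.Lib.Helper37.AlgSpPoints

variable {S : Scheme.{u}}

/-- A property of morphisms of sheaves that is stable under base change between algebraic spaces. -/
def BCStable (P : MorphismProperty (Sp S)) : Prop :=
  ∀ {A B A' B' : Sp S}, IsAlgSpace A → IsAlgSpace B → IsAlgSpace A' → IsAlgSpace B' →
    ∀ {f : A ⟶ B} {g : B' ⟶ B} {fst : A' ⟶ A} {f' : A' ⟶ B'}, IsPullback fst f' f g → P f → P f'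

theorem bcStable_etale : BCStable (S := S) IsEtaleMor := by
  intro A B A' B' hA hB hA' hB' f g fst f' sq hf
  exact isEtaleMor_of_locP_etale hB' f'
    (locP_of_isPullback etLocal_etale hA hB hA' hB' sq (locP_etale_of_isEtaleMor f hf))

theorem bcStable_surjective : BCStable (S := S) IsSurjectiveMor := by
  intro A B A' B' hA hB hA' hB' f g fst f' sq hf y'
  obtain ⟨x, hx⟩ := hf (Points.map g y')
  obtain ⟨p, hp1, -⟩ := points_exists_of_isPullback sq.flip y' x hx.symm
  exact ⟨p, hp1⟩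

theorem bcStable_univInjective : BCStable (S := S) IsUnivInjectiveMor := by
  intro A B A' B' hA hB hA' hB' f g fst f' sq hf Z Z' hZ g₂ fst₂ snd₂ sq₂
  exact hf hZ (g₂ ≫ g) (fst₂ ≫ fst) snd₂ (sq₂.paste_horiz sq)

theorem persist {P : MorphismProperty (Sp S)} (hP : BCStable P) {I : Type u} [SmallCategory I]
    (D : I ⥤ Sp S) (hD : ∀ i, IsAlgSpace (D.obj i)) {i₀ i j : I} (φ : i ⟶ i₀) (ψ : j ⟶ i)
    (X₀ Y₀ : Space S) (f₀ : X₀.obj ⟶ Y₀.obj) (b₀ : Y₀.obj ⟶ D.obj i₀)
    (h : ∀ (Xi Yi : Sp S) (fi : Xi ⟶ Yi) (pYi : Yi ⟶ Y₀.obj) (qYi : Yi ⟶ D.obj i)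
      (_ : IsPullback pYi qYi b₀ (D.map φ)) (pXi : Xi ⟶ X₀.obj) (_ : IsPullback pXi fi f₀ pYi),
      P fi) :
    ∀ (Xj Yj : Sp S) (fj : Xj ⟶ Yj) (pYj : Yj ⟶ Y₀.obj) (qYj : Yj ⟶ D.obj j)
      (_ : IsPullback pYj qYj b₀ (D.map (ψ ≫ φ))) (pXj : Xj ⟶ X₀.obj)
      (_ : IsPullback pXj fj f₀ pYj), P fj := by
  intro Xj Yj fj pYj qYj sq1 pXj sq2
  have sqYi := IsPullback.of_hasPullback b₀ (D.map φ)
  have sqXi := IsPullback.of_hasPullback f₀ (pullback.fst b₀ (D.map φ))
  have hPi : P (pullback.snd f₀ (pullback.fst b₀ (D.map φ))) := h _ _ _ _ _ sqYi _ sqXi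
  have hYi : IsAlgSpace (pullback b₀ (D.map φ)) :=
    isAlgSpace_of_isPullback Y₀.property (hD i) (hD i₀).diag sqYi
  have hXi : IsAlgSpace (pullback f₀ (pullback.fst b₀ (D.map φ))) :=
    isAlgSpace_of_isPullback X₀.property hYi Y₀.property.diag sqXi
  have hYj : IsAlgSpace Yj := isAlgSpace_of_isPullback Y₀.property (hD j) (hD i₀).diag sq1
  have hXj : IsAlgSpace Xj := isAlgSpace_of_isPullback X₀.property hYj Y₀.property.diag sq2
  let t : Yj ⟶ pullback b₀ (D.map φ) := pullback.lift pYj (qYj ≫ D.map ψ)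
    (by rw [sq1.w, D.map_comp, Category.assoc])
  have e2 : t ≫ pullback.fst _ _ = pYj := pullback.lift_fst _ _ _
  let s : Xj ⟶ pullback f₀ (pullback.fst b₀ (D.map φ)) := pullback.lift pXj (fj ≫ t)
    (by rw [sq2.w, Category.assoc, e2])
  have e1 : s ≫ pullback.fst _ _ = pXj := pullback.lift_fst _ _ _
  have sqj : IsPullback s fj (pullback.snd f₀ (pullback.fst b₀ (D.map φ))) t := by
    refine IsPullback.of_right ?_ (pullback.lift_snd _ _ _) sqXi
    rw [e1, e2]
    exact sq2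
  exact hP hXi hYi hXj hYj sqj hPi

theorem isEtaleMor_of_isIso {X Y : Sp S} (f : X ⟶ Y) [IsIso f] : IsEtaleMor f :=
  fun _ a ha => ((RepWith @Etale).cancel_right_of_respectsIso a f).2 ha

theorem isSurjectiveMor_of_isIso {X Y : Sp S} (f : X ⟶ Y) [IsIso f] : IsSurjectiveMor f := by
  intro y
  refine ⟨Points.map (inv f) y, ?_⟩
  rw [← Points.map_comp, IsIso.inv_hom_id, Points.map_id]

theorem injective_of_isIso {X Y : Sp S} (f : X ⟶ Y) [IsIso f] :
    Function.Injective (Points.map f) := by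
  intro a b hab
  have := congrArg (Points.map (inv f)) hab
  rwa [← Points.map_comp, ← Points.map_comp, IsIso.hom_inv_id, Points.map_id, Points.map_id]
    at this

theorem isUnivInjectiveMor_of_isIso {X Y : Sp S} (f : X ⟶ Y) [IsIso f] :
    IsUnivInjectiveMor f := by
  intro Z Z' hZ g fst snd sq
  haveI : IsIso snd := sq.isIso_snd_of_isIso
  exact injective_of_isIso snd

theorem isIso_of_etale_surjective_univInjective {X Y : Sp S} (hX : IsAlgSpace X)
    (hY : IsAlgSpace Y) (f : X ⟶ Y) (hqc : IsQuasiCompactMor f) (het : IsEtaleMor f)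
    (hs : IsSurjectiveMor f) (hi : IsUnivInjectiveMor f) : IsIso f := by
  let X' : Space S := ⟨X, hX⟩
  let Y' : Space S := ⟨Y, hY⟩
  let f' : X' ⟶ Y' := ObjectProperty.homMk f
  haveI : Mono f := Groth.Agent.S10261.mono_of_etale_univInjective f' het hi
  have hflat : LocP @Flat f := fun U V a b h ha hb w => by
    haveI : Etale h.left := locP_etale_of_isEtaleMor f het a b h ha hb w
    infer_instance
  exact isIso_of_qc_flat_surjective_mono hX hY f hqc hflat hs

end Groth.Agent.Lib.Helper23.LimDescIso
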