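import Groth.Agent.Lib.Helper23.LimStageChart2
import Groth.Agent.Lib.Helper46.LocPChart
import Groth.Agent.Lib.Helper54.SchemeIsoLocus
import Groth.Agent.Lib.Helper23.AlgSpQc2
import Groth.Agent.Lib.Helper23.AlgSpMor6
import Groth.Agent.Lib.Helper23.AlgSpMor7

/-!
# Descending an etale-local property of a morphism of algebraic spaces to a stage (helper23)
-/

set_option autoImplicit false
set_option backward.isDefEq.respectTransparency false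
universe u

open CategoryTheory CategoryTheory.Limits AlgebraicGeometry Opposite

namespace Groth.Agent.Lib.Helper23.LimDescQ

open AlgSp Groth.Agent.Lib.Helper23.AlgSpMor Groth.Agent.Lib.Helper46
  Groth.Agent.Lib.Helper46.LocPChart Groth.Agent.Lib.Helper54.SchemeIsoLocus
  Groth.Agent.Lib.Helper23.LimStageChart2

variable {S : Scheme.{u}}

theorem exists_base_chart {Y₀ B₀ Bi Yi : Sp S} {b₀ : Y₀ ⟶ B₀} {m : Bi ⟶ B₀} {pYi : Yi ⟶ Y₀}
    {qYi : Yi ⟶ Bi} (sq1 : IsPullback pYi qYi b₀ m) {V₀ W : Over S} (v₀ : (yon S).obj V₀ ⟶ Y₀)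
    (fstW : (yon S).obj W ⟶ Bi) (iW : W ⟶ V₀)
    (sqW : IsPullback fstW ((yon S).map iW) m (v₀ ≫ b₀)) :
    ∃ β : (yon S).obj W ⟶ Yi, IsPullback β ((yon S).map iW) pYi v₀ ∧ β ≫ qYi = fstW := by
  obtain ⟨β, hβ1, hβ2⟩ := sq1.exists_lift ((yon S).map iW ≫ v₀) fstW
    (by rw [Category.assoc, ← sqW.w])
  refine ⟨β, ?_, hβ2⟩
  have h : IsPullback (β ≫ qYi) ((yon S).map iW) m (v₀ ≫ b₀) := by rw [hβ2]; exact sqW
  exact IsPullback.of_right h hβ1 sq1.flip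

theorem exists_stage_chart {X₀ Y₀ Xi Yi : Sp S} {f₀ : X₀ ⟶ Y₀} {pYi : Yi ⟶ Y₀} {pXi : Xi ⟶ X₀}
    {fi : Xi ⟶ Yi} (sq2 : IsPullback pXi fi f₀ pYi) {U₀ V₀ W Ui : Over S}
    (ξ₀ : (yon S).obj U₀ ⟶ X₀) (v₀ : (yon S).obj V₀ ⟶ Y₀) (f₀' : U₀ ⟶ V₀)
    (hcomm₀ : ξ₀ ≫ f₀ = (yon S).map f₀' ≫ v₀) (β : (yon S).obj W ⟶ Yi) (iW : W ⟶ V₀)
    (sqV : IsPullback β ((yon S).map iW) pYi v₀) (q₁ : Ui ⟶ U₀) (q₂ : Ui ⟶ W)
    (sqS : IsPullback q₁.left q₂.left f₀'.left iW.left) :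
    ∃ α : (yon S).obj Ui ⟶ Xi, IsPullback ((yon S).map q₁) α ξ₀ pXi ∧
      α ≫ fi = (yon S).map q₂ ≫ β := by
  have hL : IsPullback ((yon S).map q₂) ((yon S).map q₁) ((yon S).map iW) ((yon S).map f₀') :=
    isPullback_yon_map sqS.flip
  have hP : IsPullback ((yon S).map q₂ ≫ β) ((yon S).map q₁) pYi ((yon S).map f₀' ≫ v₀) :=
    hL.paste_horiz sqV
  obtain ⟨α, hα1, hα2⟩ := sq2.exists_lift ((yon S).map q₁ ≫ ξ₀) ((yon S).map q₂ ≫ β)
    (by rw [Category.assoc, hcomm₀]; exact hP.w.symm)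
  refine ⟨α, ?_, hα2⟩
  have h : IsPullback ((yon S).map q₁) (α ≫ fi) (ξ₀ ≫ f₀) pYi := by
    rw [hα2, hcomm₀]; exact hP.flip
  exact IsPullback.of_bot h hα1.symm sq2

/-- The scheme-level descent-to-a-stage statement for the property `Q`. -/
def StageDescends (Q : MorphismProperty Scheme.{u}) : Prop :=
  ∀ {I : Type u} [SmallCategory I] [IsCofiltered I]
    (D : I ⥤ Scheme.{u}) (c : Limits.Cone D) (_ : Limits.IsLimit c)
    [∀ (i j : I) (f : i ⟶ j), IsAffineHom (D.map f)] (i₀ : I) [CompactSpace (D.obj i₀)]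
    [QuasiSeparatedSpace (D.obj i₀)] {X₀ Y₀ : Scheme.{u}} (f₀ : X₀ ⟶ Y₀) (g₀ : Y₀ ⟶ D.obj i₀)
    [CompactSpace X₀] [QuasiSeparatedSpace X₀] [CompactSpace Y₀] [QuasiSeparatedSpace Y₀]
    [LocallyOfFinitePresentation f₀]
    {X Y : Scheme.{u}} (f : X ⟶ Y) (g : Y ⟶ c.pt) (qY : Y ⟶ Y₀) (qX : X ⟶ X₀)
    (_ : IsPullback qY g g₀ (c.π.app i₀)) (_ : IsPullback qX f f₀ qY), Q f →
    ∃ (i : I) (φ : i ⟶ i₀) (Xi Yi : Scheme.{u}) (fi : Xi ⟶ Yi) (gi : Yi ⟶ D.obj i) (pY : Yi ⟶ Y₀)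
      (pX : Xi ⟶ X₀), IsPullback pY gi g₀ (D.map φ) ∧ IsPullback pX fi f₀ pY ∧ Q fi

theorem descend_locP {Q : MorphismProperty Scheme.{u}} (hQ : EtLocal Q) (hstage : StageDescends Q)
    [QuasiSeparatedSpace S] {I : Type u} [SmallCategory I] [IsCofiltered I]
    (D : I ⥤ Sp S) (hDa : ∀ (i j : I) (φ : i ⟶ j), IsAffineMor (D.map φ))
    (c : Cone D) (hc : IsLimit c) (i₀ : I)
    (X₀ Y₀ : Space S) (f₀ : X₀.obj ⟶ Y₀.obj) (b₀ : Y₀.obj ⟶ D.obj i₀)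
    (hXqc : IsQuasiCompactSp X₀.obj)
    (hYqc : IsQuasiCompactSp Y₀.obj) (hYqs : IsQuasiSeparatedSp Y₀.obj)
    (X Y : Sp S) (f : X ⟶ Y) (pY : Y ⟶ Y₀.obj) (qY : Y ⟶ c.pt)
    (hY : IsPullback pY qY b₀ (c.π.app i₀)) (pX : X ⟶ X₀.obj) (hX : IsPullback pX f f₀ pY)
    (hf : LocP Q f) (hf₀ : LocP @LocallyOfFinitePresentation f₀) :
    ∃ (i : I) (φ : i ⟶ i₀), ∀ (Xi Yi : Sp S) (fi : Xi ⟶ Yi) (pYi : Yi ⟶ Y₀.obj)
      (qYi : Yi ⟶ D.obj i) (_ : IsPullback pYi qYi b₀ (D.map φ)) (pXi : Xi ⟶ X₀.obj)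
      (_ : IsPullback pXi fi f₀ pYi), LocP Q fi := by
  obtain ⟨V₀, v₀, hV₀, hv₀e, hv₀s⟩ := exists_affine_chart_of_isQuasiCompactSp hYqc
  haveI : IsAffine V₀.left := hV₀
  have hqcm : IsQuasiCompactMor f₀ :=
    isQuasiCompactMor_of_isQuasiCompactSp_of_isQuasiSeparatedSp X₀.property f₀ hXqc hYqs
  have sqP : IsPullback (pullback.fst f₀ v₀) (pullback.snd f₀ v₀) f₀ v₀ :=
    IsPullback.of_hasPullback f₀ v₀
  have hP₀qc : IsQuasiCompactSp (pullback f₀ v₀) :=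
    hqcm (IsAlgSpace.yon_obj V₀) (isQuasiCompactSp_yon V₀) v₀ _ _ sqP
  obtain ⟨U₀, u₀, hU₀, hu₀e, hu₀s⟩ := exists_affine_chart_of_isQuasiCompactSp hP₀qc
  haveI : IsAffine U₀.left := hU₀
  obtain ⟨f₀', hf₀'⟩ := (yon S).map_surjective (u₀ ≫ pullback.snd f₀ v₀)
  have hfste : RepWith @Etale (pullback.fst f₀ v₀) := MorphismProperty.of_isPullback sqP.flip hv₀e
  have hfsts : RepWith @Surjective (pullback.fst f₀ v₀) :=
    MorphismProperty.of_isPullback sqP.flip hv₀s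
  obtain ⟨ξ₀, hξ₀⟩ : ∃ ξ₀ : (yon S).obj U₀ ⟶ X₀.obj, ξ₀ = u₀ ≫ pullback.fst f₀ v₀ := ⟨_, rfl⟩
  have hξ₀e : RepWith @Etale ξ₀ := hξ₀ ▸ (RepWith @Etale).comp_mem _ _ hu₀e hfste
  have hξ₀s : RepWith @Surjective ξ₀ := hξ₀ ▸ (RepWith @Surjective).comp_mem _ _ hu₀s hfsts
  have hcomm₀ : ξ₀ ≫ f₀ = (yon S).map f₀' ≫ v₀ := by
    rw [hξ₀, hf₀', Category.assoc, Category.assoc, pullback.condition]
  haveI hlfp : LocallyOfFinitePresentation f₀'.left := hf₀ ξ₀ v₀ f₀' hξ₀e hv₀e hcomm₀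
  obtain ⟨G', c', fstW, iW, aU, iU, hWaff, haff, ⟨hc'⟩, sqW, sqU, hfst, hsnd, hnatW, hnatF⟩ :=
    exists_stage_charts_nat D hDa c hc i₀ hV₀ (v₀ ≫ b₀)
  -- limit level charts
  obtain ⟨βl, sqVl, hβl⟩ := exists_base_chart hY v₀ aU iU sqU
  let Ul : Over S := Over.mk (pullback.snd f₀'.left iU.left ≫ c'.pt.hom)
  let q₁l : Ul ⟶ U₀ := Over.homMk (pullback.fst f₀'.left iU.left) (by
    have h1 := Over.w f₀'
    have h2 := Over.w iU
    change pullback.fst f₀'.left iU.left ≫ U₀.hom = pullback.snd f₀'.left iU.left ≫ c'.pt.hom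
    rw [← h1, ← h2, ← Category.assoc, pullback.condition, Category.assoc])
  let q₂l : Ul ⟶ c'.pt := Over.homMk (pullback.snd f₀'.left iU.left) rfl
  have sqSl : IsPullback q₁l.left q₂l.left f₀'.left iU.left := IsPullback.of_hasPullback _ _
  obtain ⟨αl, sqαl, hαl⟩ := exists_stage_chart hX ξ₀ v₀ f₀' hcomm₀ βl iU sqVl q₁l q₂l sqSl
  have hαle : RepWith @Etale αl := MorphismProperty.of_isPullback sqαl hξ₀e
  have hβle : RepWith @Etale βl := MorphismProperty.of_isPullback sqVl.flip hv₀e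
  have hQl : Q q₂l.left := hf αl βl q₂l hαle hβle hαl
  -- scheme-level stage
  let D' : Over i₀ ⥤ Scheme.{u} := G' ⋙ Over.forget S
  haveI : ∀ j, IsAffine (D'.obj j) := hWaff
  haveI : ∀ (i j : Over i₀) (f : i ⟶ j), IsAffineHom (D'.map f) := fun i j f => inferInstance
  let j₁ : Over i₀ := Over.mk (𝟙 i₀)
  haveI : CompactSpace ↥(D'.obj j₁) := inferInstance
  haveI : QuasiSeparatedSpace ↥(D'.obj j₁) := inferInstance
  haveI hisoY : IsIso ((yon S).map (iW j₁)) := by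
    have h := sqW j₁
    haveI : IsIso (D.map j₁.hom) := by
      change IsIso (D.map (𝟙 i₀))
      rw [D.map_id]; infer_instance
    exact h.isIso_snd_of_isIso
  haveI hisoW : IsIso (iW j₁) := isIso_of_fully_faithful (yon S) (iW j₁)
  haveI hisoL : IsIso (iW j₁).left := (Over.forget S).map_isIso (iW j₁)
  have hYs : IsPullback iU.left (𝟙 c'.pt.left) (inv (iW j₁).left)
      (((Over.forget S).mapCone c').π.app j₁) := by
    refine IsPullback.of_vert_isIso ⟨?_⟩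
    change iU.left ≫ inv (iW j₁).left = 𝟙 _ ≫ (c'.π.app j₁).left
    rw [Category.id_comp, IsIso.comp_inv_eq, ← Over.comp_left, hsnd j₁]
  obtain ⟨ji, φJ, Xi', Yi', fi', gi, pY', pX', sqa, sqb, hQi⟩ :=
    hstage D' ((Over.forget S).mapCone c') hc' j₁ f₀'.left (inv (iW j₁).left)
      q₂l.left (𝟙 c'.pt.left) iU.left q₁l.left hYs sqSl hQl
  haveI hgi : IsIso gi := sqa.isIso_snd_of_isIso
  have hpY' : pY' = gi ≫ (iW ji).left := by
    have h1 : pY' ≫ inv (iW j₁).left = gi ≫ (G'.map φJ).left := sqa.w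
    rw [IsIso.comp_inv_eq] at h1
    rw [h1, Category.assoc, ← Over.comp_left, hnatW ji j₁ φJ]
  let Ui : Over S := Over.mk (fi' ≫ gi ≫ (G'.obj ji).hom)
  let q₁i : Ui ⟶ U₀ := Over.homMk pX' (by
    have h1 := Over.w f₀'
    have h2 := Over.w (iW ji)
    change pX' ≫ U₀.hom = fi' ≫ gi ≫ (G'.obj ji).hom
    rw [← h1, ← h2, ← Category.assoc, sqb.w, hpY']
    simp only [Category.assoc])
  let q₂i : Ui ⟶ G'.obj ji := Over.homMk (fi' ≫ gi) (Category.assoc _ _ _)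
  have sqSi : IsPullback q₁i.left q₂i.left f₀'.left (iW ji).left := by
    have h2 : IsPullback pY' gi (𝟙 V₀.left) (iW ji).left :=
      IsPullback.of_vert_isIso ⟨by rw [Category.comp_id, hpY']⟩
    have h3 := sqb.paste_vert h2
    rw [Category.comp_id] at h3
    exact h3
  have hQi' : Q q₂i.left := hQ.postcomp fi' gi inferInstance hQi
  refine ⟨ji.left, ji.hom, ?_⟩
  intro Xi Yi fi pYi qYi sq1 pXi sq2
  obtain ⟨β, sqV, hβ⟩ := exists_base_chart sq1 v₀ (fstW ji) (iW ji) (sqW ji)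
  obtain ⟨α, sqα, hα⟩ := exists_stage_chart sq2 ξ₀ v₀ f₀' hcomm₀ β (iW ji) sqV q₁i q₂i sqSi
  have hαe : RepWith @Etale α := MorphismProperty.of_isPullback sqα hξ₀e
  have hαs : RepWith @Surjective α := MorphismProperty.of_isPullback sqα hξ₀s
  have hβe : RepWith @Etale β := MorphismProperty.of_isPullback sqV.flip hv₀e
  exact locP_of_chart hQ fi α β q₂i hαe hαs hβe hα hQi'

end Groth.Agent.Lib.Helper23.LimDescQ
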