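import Groth.Agent.Lib.Helper50.LimDesc8

/-!
# Descent of immersions into a cofiltered limit of schemes (helper23)
-/

set_option autoImplicit false
set_option backward.isDefEq.respectTransparency false
universe u
open CategoryTheory AlgebraicGeometry Limits

namespace Groth.Agent.Lib.Helper23.LimImm

open Groth.Agent.Lib.Helper50

variable {I : Type u} [SmallCategory I] [IsCofiltered I]
    (D : I ⥤ Scheme.{u}) (c : Limits.Cone D) (hc : Limits.IsLimit c)
    [∀ (i j : I) (f : i ⟶ j), IsAffineHom (D.map f)]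

include hc in
/-- If `h : Y ⟶ lim D` is an immersion from a quasi-compact scheme and `Y` is locally of finite type
over a scheme `S` under the (quasi-compact) stage `D i₀`, then `Y ⟶ D k` is an immersion for all
sufficiently small `k`. -/
theorem exists_forall_isImmersion_comp_π (i₀ : I) [CompactSpace (D.obj i₀)]
    {S : Scheme.{u}} (t : D.obj i₀ ⟶ S) {Y : Scheme.{u}} [CompactSpace Y] (h : Y ⟶ c.pt)
    [IsImmersion h] [LocallyOfFiniteType (h ≫ c.π.app i₀ ≫ t)] :
    ∃ (j : I) (_ : j ⟶ i₀), ∀ (k : I) (_ : k ⟶ j), IsImmersion (h ≫ c.π.app k) := by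
  obtain ⟨W, hW, hWc, hcl⟩ := exists_isCompact_opens_isClosedImmersion_lift h
  obtain ⟨h'', hfac, hcl''⟩ : ∃ h'' : Y ⟶ W.toScheme, h'' ≫ W.ι = h ∧ IsClosedImmersion h'' :=
    ⟨_, IsOpenImmersion.lift_fac _ _ _, hcl⟩
  obtain ⟨i, f, V, hVc, hV⟩ := exists_preimage_eq_over D c hc i₀ W hWc
  subst hV
  let j₁ : Over i := Over.mk (𝟙 i)
  have hcomp : CompactSpace ((opensDiagram D i V).obj j₁) :=
    isCompact_iff_compactSpace.mp (isCompact_map_preimage D (𝟙 i) hVc)
  obtain ⟨ιk, hιk⟩ : ∃ ιk : ∀ k : Over i, (opensDiagram D i V).obj k ⟶ D.obj k.left,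
      ∀ k, ιk k = (D.map k.hom ⁻¹ᵁ V).ι := ⟨fun k => (D.map k.hom ⁻¹ᵁ V).ι, fun _ => rfl⟩
  obtain ⟨ιp, hιp⟩ : ∃ ιp : (opensCone D c i V).pt ⟶ c.pt, ιp = (c.π.app i ⁻¹ᵁ V).ι := ⟨_, rfl⟩
  have hcompat : ∀ k, (opensCone D c i V).π.app k ≫ ιk k = ιp ≫ c.π.app k.left := by
    intro k
    rw [hιk, hιp]
    exact Scheme.Hom.resLE_comp_ι _ _
  have hopen : ∀ k, IsOpenImmersion (ιk k) := by
    intro k
    rw [hιk]
    infer_instance
  obtain ⟨h', hh', hcl'⟩ : ∃ h' : Y ⟶ (opensCone D c i V).pt, h' ≫ ιp = h ∧ IsClosedImmersion h' :=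
    ⟨h'', by rw [hιp]; exact hfac, hcl''⟩
  let t' : (opensDiagram D i V).obj j₁ ⟶ S := ιk j₁ ≫ D.map f ≫ t
  have hπ : ∀ k : Over i, h' ≫ (opensCone D c i V).π.app k ≫ ιk k = h ≫ c.π.app k.left := by
    intro k
    rw [hcompat k, ← Category.assoc, hh']
  have hlft : LocallyOfFiniteType (h' ≫ (opensCone D c i V).π.app j₁ ≫ t') := by
    have e : h' ≫ (opensCone D c i V).π.app j₁ ≫ t' = h ≫ c.π.app i₀ ≫ t := by
      calc h' ≫ (opensCone D c i V).π.app j₁ ≫ t'
          = (h' ≫ (opensCone D c i V).π.app j₁ ≫ ιk j₁) ≫ D.map f ≫ t := by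
            simp only [t', Category.assoc]
        _ = (h ≫ c.π.app i) ≫ D.map f ≫ t := by rw [hπ j₁]; rfl
        _ = h ≫ c.π.app i₀ ≫ t := by
            rw [Category.assoc, ← Category.assoc (c.π.app i), c.w]
    rw [e]
    infer_instance
  obtain ⟨j', f', hj'⟩ := exists_forall_isClosedImmersion_comp_π (opensDiagram D i V)
    (opensCone D c i V) (isLimitOpensCone D c hc i V) j₁ t' h'
  refine ⟨j'.left, j'.hom ≫ f, fun k g => ?_⟩
  let k' : Over i := Over.mk (g ≫ j'.hom)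
  have hk' : IsClosedImmersion (h' ≫ (opensCone D c i V).π.app k') := hj' k' (Over.homMk g rfl)
  have e : h ≫ c.π.app k = (h' ≫ (opensCone D c i V).π.app k') ≫ ιk k' := by
    rw [Category.assoc, hπ k']
    rfl
  rw [e]
  have := hopen k'
  infer_instance

end Groth.Agent.Lib.Helper23.LimImm
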