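import Groth.Agent.Lib.Helper50.LimDesc
import Mathlib.AlgebraicGeometry.Morphisms.FinitePresentation
import Mathlib.AlgebraicGeometry.Morphisms.IsIso

/-!
# A cofiltered limit of affine schemes along closed immersions which is of finite presentation over
a stage is eventually constant (helper23)
-/

set_option autoImplicit false
universe u
open CategoryTheory AlgebraicGeometry Limits

namespace Groth.Agent.Lib.Helper23.LimIsoClosed

open Groth.Agent.Lib.Helper50

theorem ker_fg_of_finitePresentation_of_surjective {A B : Type u} [CommRing A] [CommRing B]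
    (φ : A →+* B) (hφ : φ.FinitePresentation) (hs : Function.Surjective φ) :
    (RingHom.ker φ).FG := by
  algebraize [φ]
  have h := Algebra.FinitePresentation.ker_fG_of_surjective (Algebra.ofId A B) hs
  exact h

variable {J : Type u} [SmallCategory J] [IsCofiltered J]
    (D : J ⥤ Scheme.{u}) (c : Limits.Cone D) (hc : Limits.IsLimit c)
    [∀ j, IsAffine (D.obj j)] [∀ (i j : J) (f : i ⟶ j), IsClosedImmersion (D.map f)]

include hc in
theorem surjective_appTop_π (j₁ : J) : Function.Surjective (c.π.app j₁).appTop.hom := by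
  intro r
  obtain ⟨i, t, ht⟩ := exists_appTop_π_eq_of_isAffine_of_isLimit D c hc r
  let k := IsCofiltered.min i j₁
  obtain ⟨a, ha⟩ := (IsClosedImmersion.isAffine_surjective_of_isAffine
    (f := D.map (IsCofiltered.minToRight i j₁))).2 ((D.map (IsCofiltered.minToLeft i j₁)).appTop.hom t)
  refine ⟨a, ?_⟩
  have h1 : c.π.app j₁ = c.π.app k ≫ D.map (IsCofiltered.minToRight i j₁) := (c.w _).symm
  have h2 : c.π.app i = c.π.app k ≫ D.map (IsCofiltered.minToLeft i j₁) := (c.w _).symm
  rw [← ht, h1, h2, Scheme.Hom.comp_appTop, Scheme.Hom.comp_appTop]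
  change (c.π.app k).appTop.hom ((D.map (IsCofiltered.minToRight i j₁)).appTop.hom a) =
    (c.π.app k).appTop.hom ((D.map (IsCofiltered.minToLeft i j₁)).appTop.hom t)
  rw [ha]

include hc in
theorem exists_forall_isIso_π (j₁ : J) [LocallyOfFinitePresentation (c.π.app j₁)] :
    ∃ (j : J) (_ : j ⟶ j₁), ∀ (k : J) (_ : k ⟶ j), IsIso (c.π.app k) := by
  have haff : IsAffine c.pt := Scheme.isAffine_of_isLimit c hc
  have haff' : ∀ j : J, IsAffine (((Functor.const J).obj c.pt).obj j) := fun _ => haff
  have hfp : (c.π.app j₁).appTop.hom.FinitePresentation :=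
    (HasRingHomProperty.iff_of_isAffine (P := @LocallyOfFinitePresentation)).1 inferInstance
  have hsurj := surjective_appTop_π D c hc j₁
  obtain ⟨s, hs⟩ := ker_fg_of_finitePresentation_of_surjective _ hfp hsurj
  obtain ⟨j, f, hj⟩ := eventually_finset (i₀ := j₁) s
    (fun x k g' => (D.map g').appTop.hom x = 0)
    (fun x hx => by
      have hx' : (c.π.app j₁).appTop x = 0 := by
        have : x ∈ RingHom.ker (c.π.app j₁).appTop.hom := by
          rw [← hs]
          exact Ideal.subset_span hx
        exact this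
      obtain ⟨j, f, hjf⟩ := exists_appTop_map_eq_zero_of_isAffine_of_isLimit D c hc j₁ x hx'
      refine ⟨j, f, fun k g g' hg => ?_⟩
      subst hg
      rw [D.map_comp, Scheme.Hom.comp_appTop]
      change (D.map g).appTop.hom ((D.map f).appTop.hom x) = 0
      have : (D.map f).appTop.hom x = 0 := hjf
      rw [this, map_zero])
  refine ⟨j, f, fun k g => ?_⟩
  have hker : RingHom.ker (c.π.app j₁).appTop.hom ≤ RingHom.ker (D.map (g ≫ f)).appTop.hom := by
    rw [← hs, Ideal.span_le]
    intro x hx
    exact hj k g (g ≫ f) rfl x hx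
  have hψ : Function.Surjective (D.map (g ≫ f)).appTop.hom :=
    (IsClosedImmersion.isAffine_surjective_of_isAffine (f := D.map (g ≫ f))).2
  have hcomp : ∀ a, (c.π.app k).appTop.hom ((D.map (g ≫ f)).appTop.hom a) =
      (c.π.app j₁).appTop.hom a := by
    intro a
    have h1 : c.π.app j₁ = c.π.app k ≫ D.map (g ≫ f) := (c.w _).symm
    rw [h1, Scheme.Hom.comp_appTop]
    rfl
  have hbij : Function.Bijective (c.π.app k).appTop.hom := by
    constructor
    · rw [injective_iff_map_eq_zero]
      intro x hx
      obtain ⟨a, rfl⟩ := hψ x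
      rw [hcomp] at hx
      exact hker hx
    · intro r
      obtain ⟨a, ha⟩ := hsurj r
      exact ⟨(D.map (g ≫ f)).appTop.hom a, (hcomp a).trans ha⟩
  have hiso : IsIso (c.π.app k).appTop :=
    (ConcreteCategory.isIso_iff_bijective _).2 hbij
  exact (HasAffineProperty.iff_of_isAffine (P := MorphismProperty.isomorphisms Scheme)).2
    ⟨haff, hiso⟩

end Groth.Agent.Lib.Helper23.LimIsoClosed
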