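import Groth.Prelude.Def_AlgSp3
import Mathlib.CategoryTheory.Filtered.Basic

/-!
# Base change of a limit of morphisms is the limit of the base changes (helper23)
-/

set_option autoImplicit false
universe u

open CategoryTheory CategoryTheory.Limits AlgebraicGeometry Opposite

namespace Groth.Agent.Lib.Helper23.LimPull

open AlgSp

variable {S : Scheme.{u}}

variable {I : Type u} [SmallCategory I] [IsCofiltered I] {DX DY : I ⥤ Sp S} (τ : DX ⟶ DY)
  (cX : Cone DX) (hcX : IsLimit cX) (cY : Cone DY)
  (g : cX.pt ⟶ cY.pt) (hg : ∀ i, g ≫ cY.π.app i = cX.π.app i ≫ τ.app i) {Z : Sp S} (h : Z ⟶ cY.pt)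

/-- the diagram of stagewise base changes -/
noncomputable def pullDiag : I ⥤ Sp S where
  obj i := pullback (τ.app i) (h ≫ cY.π.app i)
  map {i j} φ := pullback.lift (pullback.fst _ _ ≫ DX.map φ) (pullback.snd _ _) (by
    rw [Category.assoc, τ.naturality φ, ← Category.assoc, pullback.condition, Category.assoc,
      Category.assoc, cY.w])
  map_id := by
    intro i
    apply pullback.hom_ext
    · rw [pullback.lift_fst, DX.map_id, Category.comp_id, Category.id_comp]
    · rw [pullback.lift_snd, Category.id_comp]
  map_comp := by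
    intro i j k φ ψ
    apply pullback.hom_ext
    · rw [pullback.lift_fst, Category.assoc, pullback.lift_fst, pullback.lift_fst_assoc,
        DX.map_comp, Category.assoc]
    · rw [pullback.lift_snd, Category.assoc, pullback.lift_snd, pullback.lift_snd]

noncomputable def pfst (i : I) : (pullDiag τ cY h).obj i ⟶ DX.obj i := pullback.fst _ _

noncomputable def psnd (i : I) : (pullDiag τ cY h).obj i ⟶ Z := pullback.snd _ _

theorem pcond (i : I) : pfst τ cY h i ≫ τ.app i = psnd τ cY h i ≫ h ≫ cY.π.app i :=
  pullback.condition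

theorem map_pfst {i j : I} (φ : i ⟶ j) :
    (pullDiag τ cY h).map φ ≫ pfst τ cY h j = pfst τ cY h i ≫ DX.map φ :=
  pullback.lift_fst _ _ _

theorem map_psnd {i j : I} (φ : i ⟶ j) :
    (pullDiag τ cY h).map φ ≫ psnd τ cY h j = psnd τ cY h i :=
  pullback.lift_snd _ _ _

theorem p_ext {T : Sp S} {i : I} (a b : T ⟶ (pullDiag τ cY h).obj i)
    (h1 : a ≫ pfst τ cY h i = b ≫ pfst τ cY h i) (h2 : a ≫ psnd τ cY h i = b ≫ psnd τ cY h i) :
    a = b :=
  pullback.hom_ext h1 h2

/-- the cone on the diagram of base changes with apex the base change of the limit morphism -/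
noncomputable def pullCone : Cone (pullDiag τ cY h) where
  pt := pullback g h
  π :=
    { app := fun i => pullback.lift (pullback.fst g h ≫ cX.π.app i) (pullback.snd g h) (by
        rw [Category.assoc, ← hg i, ← Category.assoc, pullback.condition, Category.assoc])
      naturality := by
        intro i j φ
        apply p_ext
        · simp only [Functor.const_obj_obj, Functor.const_obj_map, Category.id_comp, Category.assoc,
            map_pfst]
          erw [pullback.lift_fst, pullback.lift_fst_assoc]
          rw [Category.assoc, cX.w]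
        · simp only [Functor.const_obj_obj, Functor.const_obj_map, Category.id_comp, Category.assoc,
            map_psnd]
          erw [pullback.lift_snd, pullback.lift_snd] }

noncomputable def cfst : (pullCone τ cX cY g hg h).pt ⟶ cX.pt := pullback.fst g h

noncomputable def csnd : (pullCone τ cX cY g hg h).pt ⟶ Z := pullback.snd g h

theorem ccond : cfst τ cX cY g hg h ≫ g = csnd τ cX cY g hg h ≫ h := pullback.condition

theorem pullCone_pfst (i : I) :
    (pullCone τ cX cY g hg h).π.app i ≫ pfst τ cY h i = cfst τ cX cY g hg h ≫ cX.π.app i :=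
  pullback.lift_fst _ _ _

theorem pullCone_psnd (i : I) :
    (pullCone τ cX cY g hg h).π.app i ≫ psnd τ cY h i = csnd τ cX cY g hg h :=
  pullback.lift_snd _ _ _

theorem c_ext {T : Sp S} (a b : T ⟶ (pullCone τ cX cY g hg h).pt)
    (h1 : a ≫ cfst τ cX cY g hg h = b ≫ cfst τ cX cY g hg h)
    (h2 : a ≫ csnd τ cX cY g hg h = b ≫ csnd τ cX cY g hg h) : a = b :=
  pullback.hom_ext h1 h2

noncomputable def clift {T : Sp S} (a : T ⟶ cX.pt) (b : T ⟶ Z) (w : a ≫ g = b ≫ h) :
    T ⟶ (pullCone τ cX cY g hg h).pt := pullback.lift a b w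

theorem clift_cfst {T : Sp S} (a : T ⟶ cX.pt) (b : T ⟶ Z) (w : a ≫ g = b ≫ h) :
    clift τ cX cY g hg h a b w ≫ cfst τ cX cY g hg h = a := pullback.lift_fst _ _ _

theorem clift_csnd {T : Sp S} (a : T ⟶ cX.pt) (b : T ⟶ Z) (w : a ≫ g = b ≫ h) :
    clift τ cX cY g hg h a b w ≫ csnd τ cX cY g hg h = b := pullback.lift_snd _ _ _

theorem snd_eq (s : Cone (pullDiag τ cY h)) (i j : I) :
    s.π.app i ≫ psnd τ cY h i = s.π.app j ≫ psnd τ cY h j := by
  have key : ∀ {a b : I} (φ : a ⟶ b), s.π.app b ≫ psnd τ cY h b = s.π.app a ≫ psnd τ cY h a := by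
    intro a b φ
    rw [← s.w φ, Category.assoc, map_psnd]
  rw [key (IsCofiltered.minToLeft i j), key (IsCofiltered.minToRight i j)]

include hcX in
/-- the base change of the limit morphism is the limit of the base changes -/
theorem isLimitPullCone (hcY : IsLimit cY) : Nonempty (IsLimit (pullCone τ cX cY g hg h)) := by
  obtain i₀ : I := IsCofiltered.nonempty.some
  let x : ∀ s : Cone (pullDiag τ cY h), s.pt ⟶ cX.pt := fun s =>
    hcX.lift ⟨s.pt,
      { app := fun i => s.π.app i ≫ pfst τ cY h i
        naturality := by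
          intro i j φ
          simp only [Functor.const_obj_obj, Functor.const_obj_map, Category.id_comp, Category.assoc]
          rw [← s.w φ, Category.assoc, map_pfst] }⟩
  have hx : ∀ (s : Cone (pullDiag τ cY h)) (i : I), x s ≫ cX.π.app i = s.π.app i ≫ pfst τ cY h i :=
    fun s i => hcX.fac _ i
  have hcomm : ∀ s : Cone (pullDiag τ cY h),
      x s ≫ g = (s.π.app i₀ ≫ psnd τ cY h i₀) ≫ h := by
    intro s
    apply hcY.hom_ext
    intro i
    rw [Category.assoc, hg i, ← Category.assoc, hx s i, Category.assoc, pcond,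
      ← Category.assoc, snd_eq τ cY h s i i₀]
    simp only [Category.assoc]
  refine ⟨
    { lift := fun s => clift τ cX cY g hg h (x s) (s.π.app i₀ ≫ psnd τ cY h i₀) (hcomm s)
      fac := ?_
      uniq := ?_ }⟩
  · intro s i
    apply p_ext
    · rw [Category.assoc, pullCone_pfst, ← Category.assoc, clift_cfst, hx s i]
    · rw [Category.assoc, pullCone_psnd, clift_csnd, snd_eq τ cY h s i₀ i]
  · intro s m hm
    apply c_ext
    · apply hcX.hom_ext
      intro i
      rw [clift_cfst, hx s i, ← hm i, Category.assoc, Category.assoc, pullCone_pfst]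
    · rw [clift_csnd, ← hm i₀, Category.assoc, pullCone_psnd]

end Groth.Agent.Lib.Helper23.LimPull
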