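import Mathlib.AlgebraicGeometry.AffineTransitionLimit
import Mathlib.AlgebraicGeometry.Properties

/-!
# Cofiltered limits of reduced affine schemes are reduced (helper23)
-/

set_option autoImplicit false
universe u

open CategoryTheory CategoryTheory.Limits AlgebraicGeometry

namespace Groth.Agent.Lib.Helper23.LimRed

theorem isReduced_of_isLimit_of_isAffine {J : Type u} [SmallCategory J] [IsCofiltered J]
    (D' : J ⥤ Scheme.{u}) (c' : Cone D') (hc' : IsLimit c') [∀ j, IsAffine (D'.obj j)]
    (hred : ∀ j, IsReduced (D'.obj j)) [IsAffine c'.pt] : IsReduced c'.pt := by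
  have : _root_.IsReduced Γ(c'.pt, ⊤) := by
    constructor
    rintro s ⟨n, hn⟩
    obtain ⟨j, t, rfl⟩ := exists_appTop_π_eq_of_isAffine_of_isLimit D' c' hc' s
    have h1 : (c'.π.app j).appTop (t ^ n) = 0 := by rw [map_pow, hn]
    obtain ⟨k, f, hf⟩ := exists_appTop_map_eq_zero_of_isAffine_of_isLimit D' c' hc' j (t ^ n) h1
    have := hred k
    have h2 : (D'.map f).appTop t = 0 := by
      rw [map_pow] at hf
      exact IsReduced.eq_zero _ ⟨n, hf⟩
    have h3 : c'.π.app j = c'.π.app k ≫ D'.map f := (c'.w f).symm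
    rw [h3, Scheme.Hom.comp_appTop]
    change (c'.π.app k).appTop ((D'.map f).appTop t) = 0
    rw [h2, map_zero]
  exact isReduced_of_isAffine_isReduced c'.pt

end Groth.Agent.Lib.Helper23.LimRed
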