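import Groth.Agent.Lib.Helper23.LimAffRep3
import Groth.Agent.Lib.Helper23.LimPull
import Mathlib.CategoryTheory.Limits.Connected
import Mathlib.CategoryTheory.Filtered.Final

/-!
# Stagewise affine charts of a cofiltered limit of sheaves with affine transition maps (helper23)
-/

set_option autoImplicit false
set_option backward.isDefEq.respectTransparency false
universe u

open CategoryTheory CategoryTheory.Limits AlgebraicGeometry Opposite

namespace Groth.Agent.Lib.Helper23.LimStageChart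

open AlgSp Groth.Agent.Lib.Helper23.LimAffRep Groth.Agent.Lib.Helper23.LimPull

variable {S : Scheme.{u}}

theorem exists_stage_charts {I : Type u} [SmallCategory I] [IsCofiltered I] (D : I ⥤ Sp S)
    (hDa : ∀ (i j : I) (φ : i ⟶ j), IsAffineMor (D.map φ)) (c : Cone D) (hc : IsLimit c) (i₁ : I)
    {U₁ : Over S} (hU₁ : IsAffine U₁.left) (a₁ : (yon S).obj U₁ ⟶ D.obj i₁) :
    ∃ (G' : Over i₁ ⥤ Over S) (c' : Cone G')
      (fstW : ∀ j : Over i₁, (yon S).obj (G'.obj j) ⟶ D.obj j.left)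
      (iW : ∀ j : Over i₁, G'.obj j ⟶ U₁) (aU : (yon S).obj c'.pt ⟶ c.pt) (iU : c'.pt ⟶ U₁),
      (∀ j, IsAffine (G'.obj j).left) ∧ IsAffine c'.pt.left ∧
      Nonempty (IsLimit ((Over.forget S).mapCone c')) ∧
      (∀ j, IsPullback (fstW j) ((yon S).map (iW j)) (D.map j.hom) a₁) ∧
      IsPullback aU ((yon S).map iU) (c.π.app i₁) a₁ ∧
      (∀ j, (yon S).map (c'.π.app j) ≫ fstW j = aU ≫ c.π.app j.left) ∧
      (∀ j, c'.π.app j ≫ iW j = iU) := by
  let DX : Over i₁ ⥤ Sp S := Over.forget i₁ ⋙ D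
  let DY : Over i₁ ⥤ Sp S := (Functor.const (Over i₁)).obj (D.obj i₁)
  let τ : DX ⟶ DY :=
    { app := fun j => D.map j.hom
      naturality := by
        intro j k φ
        change D.map φ.left ≫ D.map k.hom = D.map j.hom ≫ 𝟙 _
        rw [Category.comp_id, ← D.map_comp, Over.w] }
  let cX : Cone DX := c.whisker (Over.forget i₁)
  have hcX : IsLimit cX := (Functor.Initial.isLimitWhiskerEquiv (Over.forget i₁) c).symm hc
  have hconn : IsConnected (Over i₁) := isConnected_of_hasTerminal _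
  let cY : Cone DY := constCone (Over i₁) (D.obj i₁)
  have hcY : IsLimit cY := isLimitConstCone (Over i₁) (D.obj i₁)
  have hg : ∀ j, c.π.app i₁ ≫ cY.π.app j = cX.π.app j ≫ τ.app j := fun j => by
    change c.π.app i₁ ≫ 𝟙 _ = c.π.app j.left ≫ D.map j.hom
    rw [Category.comp_id, c.w]
  have hrep : ∀ j : Over i₁, ∃ (W : Over S) (i : W ⟶ U₁) (fst : (yon S).obj W ⟶ D.obj j.left),
      IsPullback fst ((yon S).map i) (τ.app j) (a₁ ≫ cY.π.app j) ∧ IsAffine W.left :=
    fun j => hDa _ _ j.hom hU₁ _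
  choose W iW fstW sqW hWaff using hrep
  let e : ∀ j, (yon S).obj (W j) ≅ (pullDiag τ cY a₁).obj j := fun j => (sqW j).isoPullback
  have he1 : ∀ j, (e j).hom ≫ psnd τ cY a₁ j = (yon S).map (iW j) :=
    fun j => (sqW j).isoPullback_hom_snd
  have he2 : ∀ j, (e j).hom ≫ pfst τ cY a₁ j = fstW j := fun j => (sqW j).isoPullback_hom_fst
  obtain ⟨hlim⟩ := isLimitPullCone τ cX hcX cY (c.π.app i₁) hg a₁ hcY
  obtain ⟨c', κ, hc', haff, hκ⟩ := exists_limit_of_rep (pullDiag τ cY a₁) W e hWaff _ hlim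
  obtain ⟨iU, hiU⟩ := (yon S).map_surjective (κ.hom ≫ csnd τ cX cY (c.π.app i₁) hg a₁)
  have hfst : ∀ j, (yon S).map (c'.π.app j) ≫ fstW j =
      (κ.hom ≫ cfst τ cX cY (c.π.app i₁) hg a₁) ≫ c.π.app j.left := by
    intro j
    calc (yon S).map (c'.π.app j) ≫ fstW j
        = (yon S).map (c'.π.app j) ≫ (e j).hom ≫ pfst τ cY a₁ j :=
          congrArg (fun m => (yon S).map (c'.π.app j) ≫ m) (he2 j).symm
      _ = ((yon S).map (c'.π.app j) ≫ (e j).hom) ≫ pfst τ cY a₁ j := (Category.assoc _ _ _).symm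
      _ = (κ.hom ≫ (pullCone τ cX cY (c.π.app i₁) hg a₁).π.app j) ≫ pfst τ cY a₁ j :=
          congrArg (fun m => m ≫ pfst τ cY a₁ j) (hκ j).symm
      _ = κ.hom ≫ ((pullCone τ cX cY (c.π.app i₁) hg a₁).π.app j ≫ pfst τ cY a₁ j) :=
          Category.assoc _ _ _
      _ = κ.hom ≫ (cfst τ cX cY (c.π.app i₁) hg a₁ ≫ cX.π.app j) :=
          congrArg (fun m => κ.hom ≫ m) (pullCone_pfst τ cX cY (c.π.app i₁) hg a₁ j)
      _ = (κ.hom ≫ cfst τ cX cY (c.π.app i₁) hg a₁) ≫ c.π.app j.left :=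
          (Category.assoc _ _ _).symm
  have hsnd : ∀ j, c'.π.app j ≫ iW j = iU := by
    intro j
    apply (yon S).map_injective
    have h1 : (yon S).map (c'.π.app j ≫ iW j) =
        (yon S).map (c'.π.app j) ≫ (e j).hom ≫ psnd τ cY a₁ j :=
      ((yon S).map_comp _ _).trans (congrArg (fun m => (yon S).map (c'.π.app j) ≫ m) (he1 j).symm)
    have h2 : (yon S).map (c'.π.app j) ≫ (e j).hom ≫ psnd τ cY a₁ j = (yon S).map iU :=
      calc (yon S).map (c'.π.app j) ≫ (e j).hom ≫ psnd τ cY a₁ j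
          = ((yon S).map (c'.π.app j) ≫ (e j).hom) ≫ psnd τ cY a₁ j := (Category.assoc _ _ _).symm
        _ = (κ.hom ≫ (pullCone τ cX cY (c.π.app i₁) hg a₁).π.app j) ≫ psnd τ cY a₁ j :=
            congrArg (fun m => m ≫ psnd τ cY a₁ j) (hκ j).symm
        _ = κ.hom ≫ ((pullCone τ cX cY (c.π.app i₁) hg a₁).π.app j ≫ psnd τ cY a₁ j) :=
            Category.assoc _ _ _
        _ = κ.hom ≫ csnd τ cX cY (c.π.app i₁) hg a₁ :=
            congrArg (fun m => κ.hom ≫ m) (pullCone_psnd τ cX cY (c.π.app i₁) hg a₁ j)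
        _ = (yon S).map iU := hiU.symm
    exact h1.trans h2
  refine ⟨liftDiag (pullDiag τ cY a₁) W e, c', fstW, iW,
    κ.hom ≫ cfst τ cX cY (c.π.app i₁) hg a₁, iU, hWaff, haff, hc', ?_, ?_, hfst, hsnd⟩
  · intro j
    have := sqW j
    have h1 : a₁ ≫ cY.π.app j = a₁ := Category.comp_id _
    rw [h1] at this
    exact this
  · refine IsPullback.of_iso_pullback ⟨?_⟩ κ rfl ?_
    · rw [hiU, Category.assoc, Category.assoc, ccond]
    · rw [hiU]
      rfl

end Groth.Agent.Lib.Helper23.LimStageChart
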