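import Groth.Prelude.Def_AlgSp3
import Groth.Agent.Lib.Helper30.EtaleSourceLFP
import Groth.Agent.Lib.Helper50.LimDesc10
import Mathlib.AlgebraicGeometry.Morphisms.FiniteType

/-!
# Extracting `LocallyOfFinitePresentation` of a scheme morphism from `LocP` data (helper23)
-/

set_option autoImplicit false
universe u

open CategoryTheory CategoryTheory.Limits AlgebraicGeometry Opposite

namespace Groth.Agent.Lib.Helper23.LocPLfp

open AlgSp

variable {S : Scheme.{u}}

/-- If `β : X ⟶ B` is locally of finite presentation and `γ : D₁ ⟶ B` locally of finite type (in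
charts), `B` has an atlas, `h_U ⟶ X` and `h_{U₁} ⟶ D₁` are étale and compatible with `q : U ⟶ U₁`
over `B`, then `q` is locally of finite presentation. -/
theorem lfp_of_locP {B X D₁ : Sp S}
    (hB : ∃ (V : Over S) (b : (yon S).obj V ⟶ B), RepWith @Etale b ∧ RepWith @Surjective b)
    (β : X ⟶ B) (hβ : LocP @LocallyOfFinitePresentation β)
    (γ : D₁ ⟶ B) (hγ : LocP @LocallyOfFiniteType γ)
    {U U₁ : Over S} (q : U ⟶ U₁)
    (aU : (yon S).obj U ⟶ X) (haU : RepWith @Etale aU)
    (a₁ : (yon S).obj U₁ ⟶ D₁) (ha₁ : RepWith @Etale a₁)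
    (w : aU ≫ β = (yon S).map q ≫ a₁ ≫ γ) : LocallyOfFinitePresentation q.left := by
  obtain ⟨V, b, hbe, hbs⟩ := hB
  let Z' : Over S := hbe.rep.pullback ((yon S).map q ≫ a₁ ≫ γ)
  let pZ : Z' ⟶ U := hbe.rep.snd ((yon S).map q ≫ a₁ ≫ γ)
  have sqZ : IsPullback (hbe.rep.fst ((yon S).map q ≫ a₁ ≫ γ)) ((yon S).map pZ) b
      ((yon S).map q ≫ a₁ ≫ γ) := hbe.rep.isPullback _
  obtain ⟨qZ', hqZ'⟩ := (yon S).map_surjective (hbe.rep.fst ((yon S).map q ≫ a₁ ≫ γ))
  rw [← hqZ'] at sqZ
  have hpZe : Etale pZ.left := hbe.property _ _ _ sqZ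
  have hpZs : Surjective pZ.left := hbs.property _ _ _ sqZ
  have hqZ'lfp : LocallyOfFinitePresentation qZ'.left := by
    refine hβ ((yon S).map pZ ≫ aU) b qZ' ?_ hbe ?_
    · exact (RepWith @Etale).comp_mem _ _ ((repWith_yon_map_iff _ _).2 hpZe) haU
    · rw [Category.assoc, w]
      exact sqZ.w.symm
  let U₁' : Over S := hbe.rep.pullback (a₁ ≫ γ)
  let pU : U₁' ⟶ U₁ := hbe.rep.snd (a₁ ≫ γ)
  have sqU : IsPullback (hbe.rep.fst (a₁ ≫ γ)) ((yon S).map pU) b (a₁ ≫ γ) :=
    hbe.rep.isPullback _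
  obtain ⟨qU, hqU⟩ := (yon S).map_surjective (hbe.rep.fst (a₁ ≫ γ))
  rw [← hqU] at sqU
  have hpUe : Etale pU.left := hbe.property _ _ _ sqU
  have hqUlft : LocallyOfFiniteType qU.left := by
    refine hγ ((yon S).map pU ≫ a₁) b qU ?_ hbe ?_
    · exact (RepWith @Etale).comp_mem _ _ ((repWith_yon_map_iff _ _).2 hpUe) ha₁
    · rw [Category.assoc]
      exact sqU.w.symm
  have wm : (yon S).map qZ' ≫ b = (yon S).map (pZ ≫ q) ≫ a₁ ≫ γ := by
    rw [Functor.map_comp, Category.assoc]
    exact sqZ.w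
  obtain ⟨m, hm⟩ := (yon S).map_surjective (sqU.lift _ _ wm)
  have hm1 : m ≫ qU = qZ' := by
    apply (yon S).map_injective
    rw [Functor.map_comp, hm]
    exact sqU.lift_fst _ _ _
  have hm2 : m ≫ pU = pZ ≫ q := by
    apply (yon S).map_injective
    rw [Functor.map_comp, hm]
    exact sqU.lift_snd _ _ _
  have hmlfp : LocallyOfFinitePresentation m.left := by
    have : LocallyOfFinitePresentation (m.left ≫ qU.left) := by
      have h0 : m.left ≫ qU.left = qZ'.left := congrArg CommaMorphism.left hm1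
      rw [h0]
      exact hqZ'lfp
    exact Groth.Agent.Lib.Helper50.locallyOfFinitePresentation_of_comp m.left qU.left
  have h1 : LocallyOfFinitePresentation (pZ.left ≫ q.left) := by
    have h0 : m.left ≫ pU.left = pZ.left ≫ q.left := congrArg CommaMorphism.left hm2
    rw [← h0]
    infer_instance
  exact Groth.Agent.Lib.Helper30.EtaleSource.locallyOfFinitePresentation_of_etale_surjective_comp
    pZ.left q.left

end Groth.Agent.Lib.Helper23.LocPLfp
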