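import Groth.Prelude.Def_AlgSp3
import Groth.Agent.Lib.Helper30.EtaleSourceLFT
import Mathlib.AlgebraicGeometry.Morphisms.FiniteType

/-!
# Extracting `LocallyOfFiniteType` of a scheme morphism from `LocP` of a composite (helper23)
-/

set_option autoImplicit false
universe u

open CategoryTheory CategoryTheory.Limits AlgebraicGeometry Opposite

namespace Groth.Agent.Lib.Helper23.LocPLft

open AlgSp

variable {S : Scheme.{u}}

/-- If `β : Y ⟶ B` is locally of finite type (in charts), `B` has an atlas, `h_Z ⟶ Y` is étale and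
`h_Z ⟶ Y ⟶ B` factors through `q : Z ⟶ U₁` followed by any `h_{U₁} ⟶ B`, then `q` is locally of
finite type. -/
theorem lft_of_locP {B Y : Sp S}
    (hB : ∃ (V : Over S) (b : (yon S).obj V ⟶ B), RepWith @Etale b ∧ RepWith @Surjective b)
    (β : Y ⟶ B) (hβ : LocP @LocallyOfFiniteType β) {Z U₁ : Over S} (q : Z ⟶ U₁)
    (fstZ : (yon S).obj Z ⟶ Y) (hfstZ : RepWith @Etale fstZ) (aB : (yon S).obj U₁ ⟶ B)
    (w : fstZ ≫ β = (yon S).map q ≫ aB) : LocallyOfFiniteType q.left := by
  obtain ⟨V, b, hbe, hbs⟩ := hB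
  -- base change of the atlas to `Z`
  let Z' : Over S := hbe.rep.pullback ((yon S).map q ≫ aB)
  let pZ : Z' ⟶ Z := hbe.rep.snd ((yon S).map q ≫ aB)
  have sqZ : IsPullback (hbe.rep.fst ((yon S).map q ≫ aB)) ((yon S).map pZ) b
      ((yon S).map q ≫ aB) := hbe.rep.isPullback _
  obtain ⟨qZ', hqZ'⟩ := (yon S).map_surjective (hbe.rep.fst ((yon S).map q ≫ aB))
  rw [← hqZ'] at sqZ
  have hpZe : Etale pZ.left := hbe.property _ _ _ sqZ
  have hpZs : Surjective pZ.left := hbs.property _ _ _ sqZ
  have hqZ'lft : LocallyOfFiniteType qZ'.left := by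
    refine hβ ((yon S).map pZ ≫ fstZ) b qZ' ?_ hbe ?_
    · exact (RepWith @Etale).comp_mem _ _ ((repWith_yon_map_iff _ _).2 hpZe) hfstZ
    · rw [Category.assoc, w]
      exact sqZ.w.symm
  -- base change of the atlas to `U₁`
  let U₁' : Over S := hbe.rep.pullback aB
  let pU : U₁' ⟶ U₁ := hbe.rep.snd aB
  have sqU : IsPullback (hbe.rep.fst aB) ((yon S).map pU) b aB := hbe.rep.isPullback _
  obtain ⟨qU, hqU⟩ := (yon S).map_surjective (hbe.rep.fst aB)
  rw [← hqU] at sqU
  have hpUe : Etale pU.left := hbe.property _ _ _ sqU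
  -- the induced map
  have wm : (yon S).map qZ' ≫ b = (yon S).map (pZ ≫ q) ≫ aB := by
    rw [Functor.map_comp, Category.assoc]
    exact sqZ.w
  obtain ⟨m, hm⟩ := (yon S).map_surjective (sqU.lift _ _ wm)
  have hm1 : m ≫ qU = qZ' := by
    apply (yon S).map_injective
    rw [Functor.map_comp, hm]
    exact sqU.lift_fst _ _ _
  have hm2 : m ≫ pU = pZ ≫ q := by
    apply (yon S).map_injective
    rw [Functor.map_comp, hm]
    exact sqU.lift_snd _ _ _
  have hmlft : LocallyOfFiniteType m.left := by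
    have : LocallyOfFiniteType (m.left ≫ qU.left) := by
      have h0 : m.left ≫ qU.left = qZ'.left := congrArg CommaMorphism.left hm1
      rw [h0]
      exact hqZ'lft
    exact locallyOfFiniteType_of_comp m.left qU.left
  have h1 : LocallyOfFiniteType (pZ.left ≫ q.left) := by
    have h0 : m.left ≫ pU.left = pZ.left ≫ q.left := congrArg CommaMorphism.left hm2
    rw [← h0]
    infer_instance
  exact Groth.Agent.Lib.Helper30.EtaleSource.locallyOfFiniteType_of_etale_surjective_comp
    pZ.left q.left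

end Groth.Agent.Lib.Helper23.LocPLft
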