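import Mathlib.RingTheory.Localization.Away.Basic

/-!
# Rings in which weighted-homogeneous equations have unique roots: a local property

For naturals `k l u v i j`, `SolProp k l u v i j A` says that every solution `(x, y)` of
`k * x ^ u = y ^ v` in `A` is of the form `x = a ^ i`, `y = l * a ^ j` for a unique `a`.
(Seminormality is `SolProp 1 1 3 2 2 3`; the `p`-part of absolute weak normality is
`SolProp (p ^ p) p 1 p p 1`.)  Under the weight conditions `k = l ^ v`, `u * i = v * j` and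
`1 ≤ u, i, j` this property passes to localizations away from an element and can be checked on a
cover by basic opens.
-/

namespace Groth.Agent.Lib.Helper23

/-- Every solution of `k x^u = y^v` has a unique root `a` with `x = a^i`, `y = l a^j`. -/
def SolProp (k l u v i j : ℕ) (A : Type*) [CommRing A] : Prop :=
  ∀ x y : A, (k : A) * x ^ u = y ^ v → ∃! a : A, x = a ^ i ∧ y = (l : A) * a ^ j

variable {k l u v i j : ℕ}

theorem SolProp.of_ringEquiv {A B : Type*} [CommRing A] [CommRing B] (e : A ≃+* B)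
    (h : SolProp k l u v i j A) : SolProp k l u v i j B := by
  intro x y hxy
  have hxy' : (k : A) * (e.symm x) ^ u = (e.symm y) ^ v := by
    have := congrArg e.symm hxy
    simpa using this
  obtain ⟨a, ⟨ha1, ha2⟩, hau⟩ := h _ _ hxy'
  refine ⟨e a, ⟨?_, ?_⟩, ?_⟩
  · have := congrArg e ha1
    simpa using this
  · have := congrArg e ha2
    simpa using this
  · rintro b ⟨hb1, hb2⟩
    have : e.symm b = a := hau _ ⟨by simp [hb1], by simp [hb2]⟩
    rw [← this]
    simp

theorem SolProp.localization {A : Type*} [CommRing A] (hk : k = l ^ v) (huv : u * i = v * j)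
    (hu : 1 ≤ u) (hi : 1 ≤ i) (hj : 1 ≤ j) (f : A) (B : Type*) [CommRing B] [Algebra A B]
    [IsLocalization.Away f B] (h : SolProp k l u v i j A) : SolProp k l u v i j B := by
  obtain ⟨G, hFG⟩ := (IsLocalization.Away.algebraMap_isUnit (S := B) f).exists_right_inv
  have hG : ∀ t : ℕ, (algebraMap A B f) ^ t * G ^ t = 1 := fun t => by
    rw [← mul_pow, hFG, one_pow]
  have hcancel : ∀ (t : ℕ) (a b : B),
      a * (algebraMap A B f) ^ t = b * (algebraMap A B f) ^ t → a = b := by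
    intro t a b hab
    calc a = a * ((algebraMap A B f) ^ t * G ^ t) := by rw [hG, mul_one]
      _ = b * ((algebraMap A B f) ^ t * G ^ t) := by rw [← mul_assoc, hab, mul_assoc]
      _ = b := by rw [hG, mul_one]
  obtain ⟨e', he'⟩ : ∃ e', u * i = e' + 1 :=
    ⟨u * i - 1, by have : 1 ≤ u * i := Nat.mul_le_mul hu hi; omega⟩
  obtain ⟨i', rfl⟩ : ∃ i', i = i' + 1 := ⟨i - 1, by omega⟩
  obtain ⟨j', rfl⟩ : ∃ j', j = j' + 1 := ⟨j - 1, by omega⟩
  -- uniqueness statement
  have huniq : ∀ a b : B, a ^ (i' + 1) = b ^ (i' + 1) →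
      (l : B) * a ^ (j' + 1) = (l : B) * b ^ (j' + 1) → a = b := by
    intro a b hab1 hab2
    obtain ⟨n, a₀, ha₀⟩ := IsLocalization.Away.surj f a
    obtain ⟨m, b₀, hb₀⟩ := IsLocalization.Away.surj f b
    have ha₁ : a * (algebraMap A B f) ^ (n + m) = algebraMap A B (a₀ * f ^ m) := by
      rw [map_mul, map_pow, ← ha₀, pow_add, mul_assoc]
    have hb₁ : b * (algebraMap A B f) ^ (n + m) = algebraMap A B (b₀ * f ^ n) := by
      rw [map_mul, map_pow, ← hb₀, pow_add, mul_assoc, mul_comm (algebraMap A B f ^ n)]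
    generalize a₀ * f ^ m = a₁ at ha₁
    generalize b₀ * f ^ n = b₁ at hb₁
    have hE1 : algebraMap A B (a₁ ^ (i' + 1)) = algebraMap A B (b₁ ^ (i' + 1)) := by
      rw [map_pow, map_pow, ← ha₁, ← hb₁, mul_pow, mul_pow, hab1]
    have hE2 : algebraMap A B ((l : A) * a₁ ^ (j' + 1)) =
        algebraMap A B ((l : A) * b₁ ^ (j' + 1)) := by
      rw [map_mul, map_mul, map_pow, map_pow, map_natCast, ← ha₁, ← hb₁, mul_pow, mul_pow,
        ← mul_assoc, ← mul_assoc, hab2]
    obtain ⟨M₁, hM₁⟩ := IsLocalization.Away.exists_of_eq (S := B) f hE1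
    obtain ⟨M₂, hM₂⟩ := IsLocalization.Away.exists_of_eq (S := B) f hE2
    have h1 : (f ^ (M₁ + M₂) * a₁) ^ (i' + 1) = (f ^ (M₁ + M₂) * b₁) ^ (i' + 1) := by
      calc (f ^ (M₁ + M₂) * a₁) ^ (i' + 1)
          = f ^ ((M₁ + M₂) * i' + M₂) * (f ^ M₁ * a₁ ^ (i' + 1)) := by ring
        _ = f ^ ((M₁ + M₂) * i' + M₂) * (f ^ M₁ * b₁ ^ (i' + 1)) := by rw [hM₁]
        _ = (f ^ (M₁ + M₂) * b₁) ^ (i' + 1) := by ring
    have h2 : (l : A) * (f ^ (M₁ + M₂) * a₁) ^ (j' + 1) =
        (l : A) * (f ^ (M₁ + M₂) * b₁) ^ (j' + 1) := by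
      calc (l : A) * (f ^ (M₁ + M₂) * a₁) ^ (j' + 1)
          = f ^ ((M₁ + M₂) * j' + M₁) * (f ^ M₂ * ((l : A) * a₁ ^ (j' + 1))) := by ring
        _ = f ^ ((M₁ + M₂) * j' + M₁) * (f ^ M₂ * ((l : A) * b₁ ^ (j' + 1))) := by rw [hM₂]
        _ = (l : A) * (f ^ (M₁ + M₂) * b₁) ^ (j' + 1) := by ring
    have hEq : (k : A) * ((f ^ (M₁ + M₂) * a₁) ^ (i' + 1)) ^ u =
        ((l : A) * (f ^ (M₁ + M₂) * a₁) ^ (j' + 1)) ^ v := by
      generalize f ^ (M₁ + M₂) * a₁ = X
      rw [hk, Nat.cast_pow, mul_pow, ← pow_mul, ← pow_mul, mul_comm (i' + 1) u, huv,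
        mul_comm v (j' + 1)]
    obtain ⟨c, -, hc⟩ := h _ _ hEq
    have e1 : f ^ (M₁ + M₂) * a₁ = c := hc _ ⟨rfl, rfl⟩
    have e2 : f ^ (M₁ + M₂) * b₁ = c := hc _ ⟨h1, h2⟩
    have e3 : algebraMap A B (f ^ (M₁ + M₂) * a₁) = algebraMap A B (f ^ (M₁ + M₂) * b₁) := by
      rw [e1, e2]
    rw [map_mul, map_mul, ← ha₁, ← hb₁, map_pow] at e3
    apply hcancel (M₁ + M₂ + (n + m))
    rw [pow_add, mul_left_comm, e3]
    ring
  intro x y hxy
  -- existence
  obtain ⟨n, x₀, hx₀⟩ := IsLocalization.Away.surj f x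
  obtain ⟨m, y₀, hy₀⟩ := IsLocalization.Away.surj f y
  have hnN : n ≤ (i' + 1) * (n + m) := by nlinarith
  have hmN : m ≤ (j' + 1) * (n + m) := by nlinarith
  have hx₁ : x * (algebraMap A B f) ^ ((i' + 1) * (n + m)) =
      algebraMap A B (x₀ * f ^ ((i' + 1) * (n + m) - n)) := by
    rw [map_mul, map_pow, ← hx₀, mul_assoc, ← pow_add, Nat.add_sub_cancel' hnN]
  have hy₁ : y * (algebraMap A B f) ^ ((j' + 1) * (n + m)) =
      algebraMap A B (y₀ * f ^ ((j' + 1) * (n + m) - m)) := by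
    rw [map_mul, map_pow, ← hy₀, mul_assoc, ← pow_add, Nat.add_sub_cancel' hmN]
  generalize x₀ * f ^ ((i' + 1) * (n + m) - n) = x₁ at hx₁
  generalize y₀ * f ^ ((j' + 1) * (n + m) - m) = y₁ at hy₁
  generalize n + m = N at hx₁ hy₁
  have hexpN : (i' + 1) * N * u = (j' + 1) * N * v := by
    calc (i' + 1) * N * u = N * (u * (i' + 1)) := by ring
      _ = N * (v * (j' + 1)) := by rw [huv]
      _ = (j' + 1) * N * v := by ring
  have hE : algebraMap A B ((k : A) * x₁ ^ u) = algebraMap A B (y₁ ^ v) := by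
    rw [map_mul, map_pow, map_pow, map_natCast, ← hx₁, ← hy₁, mul_pow, mul_pow, ← pow_mul,
      ← pow_mul, ← mul_assoc, hxy, hexpN]
  obtain ⟨M, hM⟩ := IsLocalization.Away.exists_of_eq (S := B) f hE
  have hexp1 : (i' + 1) * M * u = M * e' + M := by
    calc (i' + 1) * M * u = M * (u * (i' + 1)) := by ring
      _ = M * (e' + 1) := by rw [he']
      _ = M * e' + M := by ring
  have hexp2 : (j' + 1) * M * v = M * e' + M := by
    calc (j' + 1) * M * v = M * (v * (j' + 1)) := by ring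
      _ = M * (u * (i' + 1)) := by rw [huv]
      _ = M * (e' + 1) := by rw [he']
      _ = M * e' + M := by ring
  have hE₂ : (k : A) * (f ^ ((i' + 1) * M) * x₁) ^ u = (f ^ ((j' + 1) * M) * y₁) ^ v := by
    calc (k : A) * (f ^ ((i' + 1) * M) * x₁) ^ u
        = f ^ ((i' + 1) * M * u) * ((k : A) * x₁ ^ u) := by ring
      _ = f ^ (M * e') * (f ^ M * ((k : A) * x₁ ^ u)) := by rw [hexp1, pow_add, mul_assoc]
      _ = f ^ (M * e') * (f ^ M * y₁ ^ v) := by rw [hM]
      _ = f ^ ((j' + 1) * M * v) * y₁ ^ v := by rw [hexp2, pow_add, mul_assoc]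
      _ = (f ^ ((j' + 1) * M) * y₁) ^ v := by ring
  obtain ⟨a₂, ⟨ha₂x, ha₂y⟩, -⟩ := h _ _ hE₂
  have hxa : x = (algebraMap A B a₂ * G ^ (N + M)) ^ (i' + 1) := by
    apply hcancel ((i' + 1) * (N + M))
    calc x * (algebraMap A B f) ^ ((i' + 1) * (N + M))
        = (algebraMap A B f) ^ ((i' + 1) * M) * (x * (algebraMap A B f) ^ ((i' + 1) * N)) := by
          ring
      _ = algebraMap A B (f ^ ((i' + 1) * M) * x₁) := by rw [hx₁, map_mul, map_pow]
      _ = (algebraMap A B a₂) ^ (i' + 1) := by rw [ha₂x, map_pow]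
      _ = (algebraMap A B a₂) ^ (i' + 1) *
            ((algebraMap A B f) ^ (N + M) * G ^ (N + M)) ^ (i' + 1) := by
          rw [hG, one_pow, mul_one]
      _ = (algebraMap A B a₂ * G ^ (N + M)) ^ (i' + 1) *
            (algebraMap A B f) ^ ((i' + 1) * (N + M)) := by ring
  have hya : y = (l : B) * (algebraMap A B a₂ * G ^ (N + M)) ^ (j' + 1) := by
    apply hcancel ((j' + 1) * (N + M))
    calc y * (algebraMap A B f) ^ ((j' + 1) * (N + M))
        = (algebraMap A B f) ^ ((j' + 1) * M) * (y * (algebraMap A B f) ^ ((j' + 1) * N)) := by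
          ring
      _ = algebraMap A B (f ^ ((j' + 1) * M) * y₁) := by rw [hy₁, map_mul, map_pow]
      _ = (l : B) * (algebraMap A B a₂) ^ (j' + 1) := by
          rw [ha₂y, map_mul, map_pow, map_natCast]
      _ = (l : B) * (algebraMap A B a₂) ^ (j' + 1) *
            ((algebraMap A B f) ^ (N + M) * G ^ (N + M)) ^ (j' + 1) := by
          rw [hG, one_pow, mul_one]
      _ = (l : B) * (algebraMap A B a₂ * G ^ (N + M)) ^ (j' + 1) *
            (algebraMap A B f) ^ ((j' + 1) * (N + M)) := by ring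
  refine ⟨algebraMap A B a₂ * G ^ (N + M), ⟨hxa, hya⟩, ?_⟩
  rintro b ⟨hb1, hb2⟩
  exact huniq _ _ (hb1.symm.trans hxa) (hb2.symm.trans hya)

theorem SolProp.map_eqn {A B : Type*} [CommRing A] [CommRing B] (φ : A →+* B) {x y : A}
    (hxy : (k : A) * x ^ u = y ^ v) : (k : B) * (φ x) ^ u = (φ y) ^ v := by
  rw [← map_natCast φ, ← map_pow, ← map_mul, hxy, map_pow]

open Localization in
theorem SolProp.of_span_eq_top {A : Type*} [CommRing A] (hk : k = l ^ v) (huv : u * i = v * j)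
    (hu : 1 ≤ u) (hi : 1 ≤ i) (hj : 1 ≤ j) (s : Set A) (hs : Ideal.span s = ⊤)
    (h : ∀ f ∈ s, SolProp k l u v i j (Localization.Away f)) : SolProp k l u v i j A := by
  have hinj := Localization.algebraMap_injective_of_span_eq_top s hs
  -- uniqueness
  have huniq : ∀ a b : A, a ^ i = b ^ i → (l : A) * a ^ j = (l : A) * b ^ j → a = b := by
    intro a b hab1 hab2
    apply hinj
    funext c
    rw [Pi.algebraMap_apply, Pi.algebraMap_apply]
    have hEq : (k : A) * (a ^ i) ^ u = ((l : A) * a ^ j) ^ v := by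
      rw [hk, Nat.cast_pow, mul_pow, ← pow_mul, ← pow_mul, mul_comm i u, huv, mul_comm v j]
    obtain ⟨d, -, hd⟩ := h c.1 c.2 _ _ (SolProp.map_eqn (algebraMap A (Away c.1)) hEq)
    rw [hd (algebraMap A _ a) ⟨by rw [map_pow], by rw [map_mul, map_pow, map_natCast]⟩,
      hd (algebraMap A _ b) ⟨by rw [hab1, map_pow], by rw [hab2, map_mul, map_pow, map_natCast]⟩]
  intro x y hxy
  have hloc : ∀ a : s, ∃! g : Away a.1,
      algebraMap A _ x = g ^ i ∧ algebraMap A _ y = (l : Away a.1) * g ^ j :=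
    fun a => h a.1 a.2 _ _ (SolProp.map_eqn _ hxy)
  choose g hg hgu using hloc
  have hcompat : ∀ a b : s, IsLocalization.Away.awayToAwayRight (P := Away (a * b : A)) a.1 b (g a) =
      IsLocalization.Away.awayToAwayLeft b.1 a (g b) := by
    intro a b
    have hP : SolProp k l u v i j (Away (a.1 * b.1)) := by
      have h1 : SolProp k l u v i j (Away (algebraMap A (Away a.1) b.1)) :=
        (h a.1 a.2).localization hk huv hu hi hj (algebraMap A (Away a.1) b.1) _
      exact h1.of_ringEquiv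
        (IsLocalization.algEquiv (Submonoid.powers (a.1 * b.1)) _ _).toRingEquiv
    obtain ⟨c, -, hcu⟩ := hP _ _ (SolProp.map_eqn (algebraMap A (Away (a.1 * b.1))) hxy)
    rw [hcu (IsLocalization.Away.awayToAwayRight a.1 b.1 (g a)) ⟨?_, ?_⟩,
      hcu (IsLocalization.Away.awayToAwayLeft b.1 a.1 (g b)) ⟨?_, ?_⟩]
    · rw [← map_pow, ← (hg b).1, IsLocalization.Away.awayToAwayLeft_eq]
    · rw [← map_pow, ← map_natCast (IsLocalization.Away.awayToAwayLeft (S := Away b.1) b.1 a.1),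
        ← map_mul, ← (hg b).2, IsLocalization.Away.awayToAwayLeft_eq]
    · rw [← map_pow, ← (hg a).1, IsLocalization.Away.awayToAwayRight_eq]
    · rw [← map_pow, ← map_natCast (IsLocalization.Away.awayToAwayRight (S := Away a.1) a.1 b.1),
        ← map_mul, ← (hg a).2, IsLocalization.Away.awayToAwayRight_eq]
  obtain ⟨r, hr, -⟩ := Localization.existsUnique_algebraMap_eq_of_span_eq_top s hs g hcompat
  have hx : x = r ^ i := by
    apply hinj
    funext c
    rw [Pi.algebraMap_apply, Pi.algebraMap_apply, map_pow, hr c]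
    exact (hg c).1
  have hy : y = (l : A) * r ^ j := by
    apply hinj
    funext c
    rw [Pi.algebraMap_apply, Pi.algebraMap_apply, map_mul, map_pow, map_natCast, hr c]
    exact (hg c).2
  refine ⟨r, ⟨hx, hy⟩, ?_⟩
  rintro b ⟨hb1, hb2⟩
  exact huniq _ _ (hb1.symm.trans hx) (hb2.symm.trans hy)

end Groth.Agent.Lib.Helper23
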