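import Groth.Agent.Lib.Helper23.SchImage2
import Groth.Agent.Lib.Helper23.AlgSpProper2
import Groth.Agent.Lib.Helper5.LargestOpenSp

/-!
# Closed subsets proper over the base (helper23)

Properness of a closed subspace over the base only depends on its set of points, and is inherited
by closed subspaces supported in a finite union.
-/

set_option autoImplicit false
universe u
open CategoryTheory CategoryTheory.Limits AlgebraicGeometry Opposite

namespace Groth.Agent.Lib.Helper23.ClosedDescent

open AlgSp Groth.Agent.Lib.Helper23.AlgSpMor Groth.Agent.Lib.Helper37.AlgSpPoints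
  Groth.Agent.Lib.Helper12.AlgSpPoints

variable {S : Scheme.{u}}

/-- Joint surjectivity on points is stable under base change. -/
theorem exists_point_of_isPullback_of_jointly_surjective {ι : Type*} {A : ι → Sp S} {W V₁ : Sp S}
    (r : ∀ k, A k ⟶ W) (hsurj : ∀ w : Points W, ∃ k a, Points.map (r k) a = w) (g₁ : V₁ ⟶ W)
    (v : Points V₁) : ∃ k, ∃ p : Points (pullback (r k) g₁),
      Points.map (pullback.snd (r k) g₁) p = v := by
  obtain ⟨k, a, ha⟩ := hsurj (Points.map g₁ v)
  obtain ⟨p, -, hp⟩ := points_exists_of_isPullback (IsPullback.of_hasPullback (r k) g₁) a v ha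
  exact ⟨k, p, hp⟩

/-- **Joint descent of universal closedness** along a finite jointly surjective family. -/
theorem isUnivClosedMor_of_jointly_surjective {ι : Type*} [Finite ι] {A : ι → Sp S} {W B : Sp S}
    (r : ∀ k, A k ⟶ W) (g : W ⟶ B) (hsurj : ∀ w : Points W, ∃ k a, Points.map (r k) a = w)
    (h : ∀ k, IsUnivClosedMor (r k ≫ g)) : IsUnivClosedMor g := by
  intro V V₁ hV hb g₁ h₁ sq₁
  have big : ∀ k, IsPullback (pullback.fst (r k) g₁) (pullback.snd (r k) g₁ ≫ h₁) (r k ≫ g) hb :=
    fun k => (IsPullback.of_hasPullback (r k) g₁).paste_vert sq₁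
  have hc : ∀ k, IsClosedMap (Points.map (pullback.snd (r k) g₁ ≫ h₁)) :=
    fun k => h k hV hb _ _ (big k)
  intro C hC
  have : Points.map h₁ '' C = ⋃ k, Points.map (pullback.snd (r k) g₁ ≫ h₁) ''
      (Points.map (pullback.snd (r k) g₁) ⁻¹' C) := by
    ext w
    simp only [Set.mem_image, Set.mem_iUnion, Set.mem_preimage]
    constructor
    · rintro ⟨y, hy, rfl⟩
      obtain ⟨k, p, hp⟩ := exists_point_of_isPullback_of_jointly_surjective r hsurj g₁ y
      exact ⟨k, p, by rw [hp]; exact hy, by rw [Points.map_comp, hp]⟩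
    · rintro ⟨k, x, hx, rfl⟩
      exact ⟨_, hx, (Points.map_comp _ _ _).symm⟩
  rw [this]
  exact isClosed_iUnion_of_finite fun k => hc k _ (hC.preimage (Points.continuous_map _))

/-- **Joint descent of quasi-compactness** along a finite jointly surjective family. -/
theorem isQuasiCompactMor_of_jointly_surjective {ι : Type*} [Finite ι] {A : ι → Sp S} {W B : Sp S}
    (hW : IsAlgSpace W) (hB : Representable (Limits.diag B))
    (r : ∀ k, A k ⟶ W) (g : W ⟶ B) (hsurj : ∀ w : Points W, ∃ k a, Points.map (r k) a = w)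
    (h : ∀ k, IsQuasiCompactMor (r k ≫ g)) : IsQuasiCompactMor g := by
  intro V V₁ hV hVq hb g₁ h₁ sq₁
  have big : ∀ k, IsPullback (pullback.fst (r k) g₁) (pullback.snd (r k) g₁ ≫ h₁) (r k ≫ g) hb :=
    fun k => (IsPullback.of_hasPullback (r k) g₁).paste_vert sq₁
  have hq : ∀ k, IsQuasiCompactSp (pullback (r k) g₁) := fun k => h k hV hVq hb _ _ (big k)
  have hV₁ : IsAlgSpace V₁ := isAlgSpace_of_isPullback hW hV hB sq₁
  rw [isQuasiCompactSp_iff_compactSpace hV₁]
  refine ⟨?_⟩
  have : (Set.univ : Set (Points V₁)) =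
      ⋃ k, Set.range (Points.map (pullback.snd (r k) g₁)) := by
    ext v
    simp only [Set.mem_univ, Set.mem_iUnion, Set.mem_range, true_iff]
    exact exists_point_of_isPullback_of_jointly_surjective r hsurj g₁ v
  rw [this]
  refine isCompact_iUnion fun k => ?_
  have := compactSpace_points_of_isQuasiCompactSp (hq k)
  exact isCompact_range (Points.continuous_map _)

theorem isUnivClosedMor_of_repWith_isClosedImmersion {X Y : Sp S} (f : X ⟶ Y)
    (hf : RepWith @IsClosedImmersion f) : IsUnivClosedMor f :=
  isUnivClosedMor_of_repWith f (repWith_universallyClosed_of_isClosedImmersion f hf)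

/-- **Joint descent of separatedness** along a finite jointly surjective family of closed
immersions. -/
theorem isSeparatedMor_of_jointly_surjective {ι : Type*} [Finite ι] {A : ι → Sp S} {W B : Sp S}
    (hA : ∀ k, IsAlgSpace (A k)) (hW : IsAlgSpace W) (hB : Representable (Limits.diag B))
    (r : ∀ k, A k ⟶ W) (hr : ∀ k, RepWith @IsClosedImmersion (r k)) (g : W ⟶ B)
    (hsurj : ∀ w : Points W, ∃ k a, Points.map (r k) a = w)
    (h : ∀ k, IsSeparatedMor (r k ≫ g)) : IsSeparatedMor g := by
  apply isSeparatedMor_of_isUnivClosedMor_diagonal hW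
  apply isUnivClosedMor_of_jointly_surjective r _ hsurj
  intro k
  let M : pullback (r k ≫ g) (r k ≫ g) ⟶ pullback g g :=
    pullback.map (r k ≫ g) (r k ≫ g) g g (r k) (r k) (𝟙 B) ((Category.comp_id _).trans rfl)
      ((Category.comp_id _).trans rfl)
  have hM : RepWith @IsClosedImmersion M :=
    MorphismProperty.pullbackMap (P := RepWith (S := S) @IsClosedImmersion) (hr k) (hr k) rfl rfl
  have hfac : r k ≫ pullback.diagonal g = pullback.diagonal (r k ≫ g) ≫ M := by
    apply pullback.hom_ext
    · rw [Category.assoc, Category.assoc, pullback.diagonal_fst, Category.comp_id]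
      change r k = pullback.diagonal (r k ≫ g) ≫ pullback.lift _ _ _ ≫ pullback.fst g g
      rw [pullback.lift_fst, ← Category.assoc, pullback.diagonal_fst, Category.id_comp]
    · rw [Category.assoc, Category.assoc, pullback.diagonal_snd, Category.comp_id]
      change r k = pullback.diagonal (r k ≫ g) ≫ pullback.lift _ _ _ ≫ pullback.snd g g
      rw [pullback.lift_snd, ← Category.assoc, pullback.diagonal_snd, Category.id_comp]
  rw [hfac]
  have hPk : IsAlgSpace (pullback (r k ≫ g) (r k ≫ g)) :=
    isAlgSpace_of_isPullback (hA k) (hA k) hB (IsPullback.of_hasPullback _ _)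
  have hP : IsAlgSpace (pullback g g) :=
    isAlgSpace_of_isPullback hW hW hB (IsPullback.of_hasPullback _ _)
  exact isUnivClosedMor_comp hPk hP.diag _ _
    (isUnivClosedMor_of_repWith_isClosedImmersion _ (h k))
    (isUnivClosedMor_of_repWith_isClosedImmersion _ hM)

end Groth.Agent.Lib.Helper23.ClosedDescent
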