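import Groth.Agent.Lib.Helper23.ProperClosed
import Groth.Agent.Lib.Helper23.AlgSpProper

/-!
# Closed subspaces supported in a finite union of closed subspaces proper over the base (helper23)
-/

set_option autoImplicit false
universe u
open CategoryTheory CategoryTheory.Limits AlgebraicGeometry Opposite

namespace Groth.Agent.Lib.Helper23.ClosedDescent

open AlgSp Groth.Agent.Lib.Helper23.AlgSpMor Groth.Agent.Lib.Helper37.AlgSpPoints
  Groth.Agent.Lib.Helper12.AlgSpPoints

variable {S : Scheme.{u}}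

theorem isClosed_range_of_repWith_isClosedImmersion {Z X : Sp S} (i : Z ⟶ X)
    (hi : RepWith @IsClosedImmersion i) : IsClosed (Set.range (Points.map i)) :=
  (repWith_isClosedImmersion_iff_isClosed_range i
    (repWith_isImmersion_of_isClosedImmersion i hi)).1 hi

theorem locP_lft_of_repWith_isClosedImmersion {Z X : Sp S} (hZ : IsAlgSpace Z) (hX : IsAlgSpace X)
    (i : Z ⟶ X) (hi : RepWith @IsClosedImmersion i) : LocP @LocallyOfFiniteType i :=
  Groth.Agent.S9953.result (X := ⟨Z, hZ⟩) (Y := ⟨X, hX⟩) (ObjectProperty.homMk i)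
    (repWith_isImmersion_of_isClosedImmersion i hi)

/-- **Properness only depends on the support**: a closed subspace whose points lie in a finite union
of closed subspaces proper over `Y` is proper over `Y`. -/
theorem isProperMor_of_range_subset_iUnion {ι : Type*} [Finite ι] {X Y Z' : Sp S} {Z : ι → Sp S}
    (hX : IsAlgSpace X) (hY : IsAlgSpace Y) (hZ : ∀ k, IsAlgSpace (Z k)) (hZ' : IsAlgSpace Z')
    (f : X ⟶ Y) (hf : LocP @LocallyOfFiniteType f) (i : ∀ k, Z k ⟶ X)
    (hi : ∀ k, RepWith @IsClosedImmersion (i k)) (hp : ∀ k, IsProperMor (i k ≫ f))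
    (i' : Z' ⟶ X) (hi' : RepWith @IsClosedImmersion i')
    (hsub : Set.range (Points.map i') ⊆ ⋃ k, Set.range (Points.map (i k))) :
    IsProperMor (i' ≫ f) := by
  have hcl' := isClosed_range_of_repWith_isClosedImmersion i' hi'
  have hcl := fun k => isClosed_range_of_repWith_isClosedImmersion (i k) (hi k)
  choose Z₀ i₀ hZ₀ hred using fun k =>
    exists_isRedInduced hX (Set.range (Points.map i') ∩ Set.range (Points.map (i k)))
      (hcl'.inter (hcl k))
  have : Mono i' := mono_of_repWith_isClosedImmersion i' hi'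
  have : ∀ k, Mono (i k) := fun k => mono_of_repWith_isClosedImmersion (i k) (hi k)
  choose r hr using fun k => exists_factor_of_isReducedSp (hred k).2.2 (i₀ k) (i k) (hi k) (by
    rw [(hred k).2.1]; exact Set.inter_subset_right)
  choose r' hr' using fun k => exists_factor_of_isReducedSp (hred k).2.2 (i₀ k) i' hi' (by
    rw [(hred k).2.1]; exact Set.inter_subset_left)
  have hrcl : ∀ k, RepWith @IsClosedImmersion (r k) := fun k =>
    repWith_of_comp_mono _ (r k) (i k) (by rw [hr k]; exact (hred k).1)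
  have hr'cl : ∀ k, RepWith @IsClosedImmersion (r' k) := fun k =>
    repWith_of_comp_mono _ (r' k) i' (by rw [hr' k]; exact (hred k).1)
  have heq : ∀ k, r' k ≫ i' ≫ f = r k ≫ i k ≫ f := fun k => by
    rw [← Category.assoc, hr' k, ← Category.assoc, hr k]
  have hprop : ∀ k, IsProperMor (r' k ≫ i' ≫ f) := fun k => by
    rw [heq k]
    exact isProperMor_comp (hZ₀ k) (hZ k) hY (r k) (i k ≫ f)
      (isProperMor_of_repWith_isClosedImmersion (hZ₀ k) (hZ k) (r k) (hrcl k)) (hp k)
  have hsurj : ∀ z' : Points Z', ∃ k a, Points.map (r' k) a = z' := by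
    intro z'
    obtain ⟨k, hk⟩ := Set.mem_iUnion.1 (hsub ⟨z', rfl⟩)
    have hmem : Points.map i' z' ∈ Set.range (Points.map (i₀ k)) := by
      rw [(hred k).2.1]
      exact ⟨⟨z', rfl⟩, hk⟩
    obtain ⟨a, ha⟩ := hmem
    refine ⟨k, a, ?_⟩
    apply Groth.Agent.Lib.Helper5.LargestOpenSp.injective_map_of_mono i'
    rw [← Points.map_comp, hr' k, ha]
  refine ⟨?_, ⟨?_, ?_⟩, ?_⟩
  · exact isSeparatedMor_of_jointly_surjective hZ₀ hZ' hY.diag r' hr'cl (i' ≫ f) hsurj
      (fun k => (hprop k).1)
  · exact Groth.Agent.Lib.Helper46.LocPChart.locP_comp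
      Groth.Agent.Lib.Helper30.EtLocalInst.etLocal_lft hZ' hX hY i' f
      (locP_lft_of_repWith_isClosedImmersion hZ' hX i' hi') hf
  · exact isQuasiCompactMor_of_jointly_surjective hZ' hY.diag r' (i' ≫ f) hsurj
      (fun k => (hprop k).2.1.2)
  · exact isUnivClosedMor_of_jointly_surjective r' (i' ≫ f) hsurj (fun k => (hprop k).2.2)

end Groth.Agent.Lib.Helper23.ClosedDescent
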