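import Groth.Agent.Lib.Helper23.ProperClosed2
import Groth.Agent.Lib.Helper23.AlgSpClosed5

/-!
# Images of closed subsets proper over the base (helper23)
-/

set_option autoImplicit false
universe u
open CategoryTheory CategoryTheory.Limits AlgebraicGeometry Opposite

namespace Groth.Agent.Lib.Helper23.ClosedDescent

open AlgSp Groth.Agent.Lib.Helper23.AlgSpMor Groth.Agent.Lib.Helper37.AlgSpPoints
  Groth.Agent.Lib.Helper12.AlgSpPoints

variable {S : Scheme.{u}}

theorem isSeparatedMor_of_repWith_isClosedImmersion {Z X : Sp S} (hZ : IsAlgSpace Z)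
    (hX : IsAlgSpace X) (i : Z ⟶ X) (hi : RepWith @IsClosedImmersion i) : IsSeparatedMor i :=
  Groth.Agent.S9937.result (X := ⟨Z, hZ⟩) (Y := ⟨X, hX⟩) (ObjectProperty.homMk i) hi

/-- **The image of a closed subspace proper over `B`.**  Let `Z ⟶ X` be a closed subspace with
`Z ⟶ B` proper and `f : X ⟶ Y` a morphism over `B` with `Y ⟶ B` locally of finite type such that
`Z ⟶ Y` is universally closed.  Then the image of `|Z|` is closed and carries a closed subspace
structure proper over `B`. -/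
theorem exists_proper_image {X Y B Z : Sp S} (hX : IsAlgSpace X) (hY : IsAlgSpace Y)
    (hB : IsAlgSpace B) (hZ : IsAlgSpace Z) (a : X ⟶ B) (b : Y ⟶ B) (f : X ⟶ Y)
    (hcomm : f ≫ b = a) (hb : LocP @LocallyOfFiniteType b) (i : Z ⟶ X)
    (hZp : IsProperMor (i ≫ a)) (huc : IsUnivClosedMor (i ≫ f)) :
    IsClosed (Points.map f '' Set.range (Points.map i)) ∧
      ∃ (Z' : Sp S) (i' : Z' ⟶ Y), IsAlgSpace Z' ∧ RepWith @IsClosedImmersion i' ∧
        Set.range (Points.map i') = Points.map f '' Set.range (Points.map i) ∧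
        IsProperMor (i' ≫ b) := by
  have himg : Points.map f '' Set.range (Points.map i) = Set.range (Points.map (i ≫ f)) := by
    ext y
    constructor
    · rintro ⟨_, ⟨z, rfl⟩, rfl⟩
      exact ⟨z, Points.map_comp _ _ _⟩
    · rintro ⟨z, rfl⟩
      exact ⟨_, ⟨z, rfl⟩, (Points.map_comp _ _ _).symm⟩
  have hclosed : IsClosed (Set.range (Points.map (i ≫ f))) := by
    rw [← Set.image_univ]
    exact isClosedMap_points_of_isUnivClosedMor hY (i ≫ f) huc _ isClosed_univ
  rw [himg]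
  refine ⟨hclosed, ?_⟩
  obtain ⟨Z', i', hZ', hi'cl, hi'r, -⟩ := exists_isRedInduced hY _ hclosed
  obtain ⟨Z₀, ir, hZ₀, hircl, hirr, hZ₀red⟩ := exists_isRedInduced hZ Set.univ isClosed_univ
  have : Mono i' := mono_of_repWith_isClosedImmersion i' hi'cl
  -- the reduction of `Z` maps onto `Z'`
  obtain ⟨ρ, hρ⟩ := exists_factor_of_isReducedSp hZ₀red (ir ≫ i ≫ f) i' hi'cl (by
    rw [hi'r]
    rintro _ ⟨z₀, rfl⟩
    exact ⟨Points.map ir z₀, (Points.map_comp _ _ _).symm⟩)
  have hρsurj : ∀ z' : Points Z', ∃ (_ : Unit) (a : Points Z₀), Points.map ρ a = z' := by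
    intro z'
    have hmem : Points.map i' z' ∈ Set.range (Points.map (i ≫ f)) := by
      rw [← hi'r]; exact ⟨z', rfl⟩
    obtain ⟨z, hz⟩ := hmem
    have hz₀ : z ∈ Set.range (Points.map ir) := by rw [hirr]; trivial
    obtain ⟨z₀, rfl⟩ := hz₀
    refine ⟨(), z₀, ?_⟩
    apply Groth.Agent.Lib.Helper5.LargestOpenSp.injective_map_of_mono i'
    rw [← Points.map_comp, hρ, Points.map_comp, hz]
  have hρsurj' : IsSurjectiveMor ρ := fun z' => by
    obtain ⟨-, a, ha⟩ := hρsurj z'
    exact ⟨a, ha⟩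
  -- `Z₀ ⟶ B` is proper
  have heq : ρ ≫ i' ≫ b = ir ≫ i ≫ a := by
    rw [← Category.assoc, hρ, Category.assoc, Category.assoc, hcomm]
  have hprop : IsProperMor (ρ ≫ i' ≫ b) := by
    rw [heq]
    exact isProperMor_comp hZ₀ hZ hB ir (i ≫ a)
      (isProperMor_of_repWith_isClosedImmersion hZ₀ hZ ir hircl) hZp
  -- `ρ` is universally closed
  have hρuc : IsUnivClosedMor ρ := by
    apply isUnivClosedMor_of_comp_of_isSeparatedMor hZ₀ hZ' hY.diag ρ i' _
      (isSeparatedMor_of_repWith_isClosedImmersion hZ' hY i' hi'cl)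
    rw [hρ]
    exact isUnivClosedMor_comp hZ hY.diag ir (i ≫ f)
      (isUnivClosedMor_of_repWith_isClosedImmersion ir hircl) huc
  refine ⟨Z', i', hZ', hi'cl, hi'r, ?_, ⟨?_, ?_⟩, ?_⟩
  · exact (separation_of_surjective_univClosed hZ₀ hZ' hB ρ (ρ ≫ i' ≫ b) (i' ≫ b) rfl hρsurj'
      hρuc).2 hprop.1
  · exact Groth.Agent.Lib.Helper46.LocPChart.locP_comp
      Groth.Agent.Lib.Helper30.EtLocalInst.etLocal_lft hZ' hY hB i' b
      (locP_lft_of_repWith_isClosedImmersion hZ' hY i' hi'cl) hb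
  · exact isQuasiCompactMor_of_jointly_surjective (ι := Unit) (A := fun _ => Z₀) hZ' hB.diag
      (fun _ => ρ) (i' ≫ b) hρsurj (fun _ => hprop.2.1.2)
  · exact isUnivClosedMor_of_comp_surjective ρ (i' ≫ b) hρsurj' hprop.2.2

end Groth.Agent.Lib.Helper23.ClosedDescent
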