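import Mathlib

/-!
# The quasi-finite locus of a finite type algebra

* `quasiFiniteLocus R S`: primes `q` of `S` at which `S` is quasi-finite over `R`.
* `isOpen_quasiFiniteLocus`: it is open when `S` is of finite type (via Zariski's main theorem).
* `quasiFinite_of_forall_quasiFiniteAt`: a finite type algebra which is quasi-finite at all primes
  is quasi-finite.
* `quasiFinite_away_of_basicOpen_subset`: if `D(f)` is contained in the quasi-finite locus then
  `S_f` is quasi-finite over `R`.
-/

namespace Groth.Agent.Lib.Helper23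

open PrimeSpectrum

variable {R S : Type*} [CommRing R] [CommRing S] [Algebra R S]

variable (R S) in
/-- The set of primes of `S` at which `S` is quasi-finite over `R`. -/
def quasiFiniteLocus : Set (PrimeSpectrum S) := {q | Algebra.QuasiFiniteAt R q.asIdeal}

theorem quasiFiniteAt_of_quasiFinite_away (r : S) [Algebra.QuasiFinite R (Localization.Away r)]
    (q : Ideal S) [q.IsPrime] (hr : r ∉ q) : Algebra.QuasiFiniteAt R q := by
  let f : Localization.Away r →ₐ[S] Localization.AtPrime q :=
    IsLocalization.Away.liftAlgHom r (f := Algebra.ofId _ _) <|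
      IsLocalization.map_units (M := q.primeCompl) (Localization.AtPrime q) ⟨r, hr⟩
  refine .of_forall_exists_mul_mem_range (f.restrictScalars R) fun x ↦ ?_
  obtain ⟨x, ⟨s, hs⟩, rfl⟩ := IsLocalization.exists_mk'_eq q.primeCompl x
  exact ⟨algebraMap _ _ s, by simpa using IsLocalization.map_units _ ⟨s, hs⟩,
    algebraMap _ _ x, by simp⟩

theorem isOpen_quasiFiniteLocus [Algebra.FiniteType R S] : IsOpen (quasiFiniteLocus R S) := by
  rw [isOpen_iff_forall_mem_open]
  intro q hq
  have : Algebra.QuasiFiniteAt R q.asIdeal := hq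
  obtain ⟨S', hS', r, hrp, H⟩ :=
    Algebra.QuasiFiniteAt.exists_fg_and_exists_notMem_and_awayMap_bijective (R := R) q.asIdeal
  have : Module.Finite R S' := ⟨(Submodule.fg_top _).mpr hS'⟩
  have : Algebra.QuasiFinite R (Localization.Away r) := .trans _ S' _
  have : Algebra.QuasiFinite R (Localization.Away r.1) :=
    .of_surjective_algHom (Localization.awayMapₐ S'.val r) H.2
  refine ⟨basicOpen r.1, ?_, (basicOpen r.1).isOpen, hrp⟩
  intro q' hq'
  exact quasiFiniteAt_of_quasiFinite_away r.1 q'.asIdeal hq'

theorem quasiFinite_of_forall_quasiFiniteAt [Algebra.FiniteType R S]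
    (H : ∀ q : PrimeSpectrum S, Algebra.QuasiFiniteAt R q.asIdeal) : Algebra.QuasiFinite R S := by
  refine Algebra.QuasiFinite.iff_finite_comap_preimage_singleton.mpr fun x ↦ ?_
  have hc : IsCompact (comap (algebraMap R S) ⁻¹' {x}) := by
    rw [isCompact_iff_compactSpace]
    exact (PrimeSpectrum.preimageHomeomorphFiber R S x).symm.compactSpace
  refine hc.finite ⟨?_⟩
  rw [discreteTopology_iff_isOpen_singleton]
  rintro ⟨q, hq⟩
  obtain rfl : comap (algebraMap R S) q = x := hq
  exact (Algebra.quasiFiniteAt_iff_isOpen_singleton_fiber (R := R) q).mp (H q)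

theorem quasiFinite_away_of_basicOpen_subset [Algebra.FiniteType R S] (f : S)
    (hf : (basicOpen f : Set (PrimeSpectrum S)) ⊆ quasiFiniteLocus R S)
    (T : Type*) [CommRing T] [Algebra S T] [Algebra R T] [IsScalarTower R S T]
    [IsLocalization.Away f T] : Algebra.QuasiFinite R T := by
  have : Algebra.FinitePresentation S T := IsLocalization.Away.finitePresentation (S := T) f
  have : Algebra.FiniteType S T := inferInstance
  have : Algebra.FiniteType R T := .trans ‹Algebra.FiniteType R S› ‹Algebra.FiniteType S T›
  refine quasiFinite_of_forall_quasiFiniteAt fun Q ↦ ?_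
  have hq : (comap (algebraMap S T) Q) ∈ (basicOpen f : Set (PrimeSpectrum S)) := by
    have := (PrimeSpectrum.localization_away_comap_range T f).le ⟨Q, rfl⟩
    exact this
  have : Algebra.QuasiFiniteAt R (comap (algebraMap S T) Q).asIdeal := hf hq
  have : Q.asIdeal.LiesOver (comap (algebraMap S T) Q).asIdeal := ⟨rfl⟩
  exact Algebra.QuasiFiniteAt.of_surjectiveOnStalks_of_liesOver (comap (algebraMap S T) Q).asIdeal
    (RingHom.surjectiveOnStalks_of_isLocalization (Submonoid.powers f) T) Q.asIdeal

end Groth.Agent.Lib.Helper23
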