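import Groth.Agent.Lib.Helper23.ImmQuot
import Groth.Agent.Lib.Helper46.RedDescent
import Groth.Agent.S4682

/-!
# The reduced induced closed subspace on a closed subset of the points of an algebraic space (helper23)
-/

set_option autoImplicit false
universe u
open CategoryTheory CategoryTheory.Limits AlgebraicGeometry Opposite

namespace Groth.Agent.Lib.Helper23.ClosedDescent

open AlgSp Groth.Agent.Lib.Helper23.AlgSpMor Groth.Agent.Lib.Helper37.AlgSpPoints

variable {S : Scheme.{u}}

/-- A morphism from a reduced scheme whose image lies in a closed subset factors through the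
reduced induced closed subscheme. -/
theorem exists_lift_vanishingIdeal {W U : Scheme.{u}} [IsReduced W] (f : W ⟶ U)
    (C : TopologicalSpace.Closeds ↥U) (h : Set.range f ⊆ C) :
    ∃ l : W ⟶ (Scheme.IdealSheafData.vanishingIdeal C).subscheme,
      l ≫ (Scheme.IdealSheafData.vanishingIdeal C).subschemeι = f := by
  have H : (Scheme.IdealSheafData.vanishingIdeal C).subschemeι.ker ≤ f.ker := by
    rw [Scheme.IdealSheafData.ker_subschemeι, Groth.Agent.S4682.ker_eq_vanishingIdeal_of_isReduced f]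
    apply Scheme.IdealSheafData.vanishingIdeal_antimono
    rw [TopologicalSpace.Closeds.closure_le]
    rintro _ ⟨w, -, rfl⟩
    exact h ⟨w, rfl⟩
  exact ⟨IsClosedImmersion.lift _ f H, IsClosedImmersion.lift_fac _ _ H⟩

/-- **Existence of the reduced induced closed subspace.** -/
theorem exists_isRedInduced {X : Sp S} (hX : IsAlgSpace X) (T : Set (Points X)) (hT : IsClosed T) :
    ∃ (Z : Sp S) (i : Z ⟶ X), IsAlgSpace Z ∧ IsRedInduced T i := by
  obtain ⟨U, p, hpe, hps⟩ := hX.atlas
  let C : TopologicalSpace.Closeds ↥U.left :=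
    ⟨Points.ofPt p ⁻¹' T, hT.preimage (Points.continuous_ofPt p)⟩
  let I := Scheme.IdealSheafData.vanishingIdeal C
  have hZred : IsReduced I.subscheme := Groth.Agent.S4682.isReduced_vanishingIdeal_subscheme C
  have hrange : Set.range I.subschemeι = (C : Set ↥U.left) := by
    rw [Scheme.IdealSheafData.range_subschemeι, Scheme.IdealSheafData.coe_support_vanishingIdeal]
  let Z'o : Over S := Over.mk (I.subschemeι ≫ U.hom)
  let i'o : Z'o ⟶ U := Over.homMk I.subschemeι rfl
  have : Mono i'o := by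
    have : Mono i'o.left := inferInstanceAs (Mono I.subschemeι)
    exact Over.mono_of_mono_left _
  -- the relation `R = U ×_X U`
  have sqR := hpe.rep.isPullback p
  obtain ⟨t₀, ht₀⟩ := (yon S).map_surjective (hpe.rep.fst p)
  obtain ⟨s₀, hs₀⟩ : ∃ s₀, s₀ = hpe.rep.snd p := ⟨_, rfl⟩
  rw [← ht₀, ← hs₀] at sqR
  have hs₀e : Etale s₀.left := by rw [hs₀]; exact hpe.property_snd p
  -- the inverse image of `Z'` under `s₀`
  have hs := IsPullback.of_hasPullback s₀ i'o
  obtain ⟨k, hk⟩ : ∃ k, k = pullback.fst s₀ i'o := ⟨_, rfl⟩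
  obtain ⟨s', hs'⟩ : ∃ s', s' = pullback.snd s₀ i'o := ⟨_, rfl⟩
  rw [← hk, ← hs'] at hs
  have hs'e : Etale s'.left :=
    MorphismProperty.of_isPullback (P := @Etale) (hs.map (Over.forget S)) hs₀e
  have hR'red : IsReduced (pullback s₀ i'o).left :=
    have : IsReduced Z'o.left := hZred
    Groth.Agent.Lib.Helper46.RedDescent.isReduced_of_smooth s'.left
  -- `k ≫ t₀` lands in `C`
  have hland : Set.range (k ≫ t₀).left ⊆ (C : Set ↥U.left) := by
    rintro _ ⟨r', rfl⟩
    change Points.ofPt p ((k ≫ t₀).left r') ∈ T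
    rw [← ofPt_map_comp (k ≫ t₀) p r', Functor.map_comp, Category.assoc, sqR.w,
      ← Category.assoc, ← Functor.map_comp, hs.w, Functor.map_comp, Category.assoc,
      ofPt_map_comp s' ((yon S).map i'o ≫ p) r', ofPt_map_comp i'o p]
    have : i'o.left (s'.left r') ∈ (C : Set ↥U.left) := by
      rw [← hrange]; exact ⟨_, rfl⟩
    exact this
  obtain ⟨l, hl⟩ := exists_lift_vanishingIdeal (k ≫ t₀).left C hland
  let t'o : pullback s₀ i'o ⟶ Z'o := Over.homMk l (by
    change l ≫ I.subschemeι ≫ U.hom = (pullback s₀ i'o).hom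
    rw [← Category.assoc, hl, Over.w])
  have hto : k ≫ t₀ = t'o ≫ i'o := by
    ext1
    exact hl.symm
  have sqZ := isPullback_image_of_invariant s₀ t₀ p sqR i'o k s' t'o hs hto
  obtain ⟨e, he⟩ : ∃ e, e = Sheaf.toImage ((yon S).map i'o ≫ p) := ⟨_, rfl⟩
  obtain ⟨m, hm⟩ : ∃ m, m = Sheaf.imageι ((yon S).map i'o ≫ p) := ⟨_, rfl⟩
  have hem : e ≫ m = (yon S).map i'o ≫ p := by rw [he, hm]; exact Sheaf.toImage_ι _
  rw [← he, ← hm] at sqZ
  have hcl : RepWith @IsClosedImmersion m :=
    repWith_isClosedImmersion_of_etale_cover m p hpe hps sqZ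
      ((repWith_yon_map_iff _ i'o).2 (inferInstanceAs (IsClosedImmersion I.subschemeι)))
  have hee : RepWith @Etale e := (RepWith @Etale).of_isPullback sqZ.flip hpe
  have hes : RepWith @Surjective e := (RepWith @Surjective).of_isPullback sqZ.flip hps
  refine ⟨_, m, isAlgSpace_of_representable m hcl.rep hX, hcl, ?_, ⟨Z'o, e, hee, hes, hZred⟩⟩
  -- the image on points
  apply Set.eq_of_subset_of_subset
  · rintro _ ⟨z, rfl⟩
    obtain ⟨z', rfl⟩ := ofPt_surjective e hes z
    rw [Points.map_ofPt, hem, ofPt_map_comp i'o p]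
    have : i'o.left z' ∈ (C : Set ↥U.left) := by
      rw [← hrange]; exact ⟨_, rfl⟩
    exact this
  · intro x hx
    obtain ⟨u, rfl⟩ := ofPt_surjective p hps x
    have hu : u ∈ Set.range I.subschemeι := by
      rw [hrange]; exact hx
    obtain ⟨z', rfl⟩ := hu
    refine ⟨Points.ofPt e z', ?_⟩
    rw [Points.map_ofPt, hem, ofPt_map_comp i'o p]
    rfl

end Groth.Agent.Lib.Helper23.ClosedDescent
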