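import Groth.Agent.Lib.Helper23.SLQMain
import Groth.Agent.Lib.Helper23.AlgSpQc2
import Groth.Agent.Lib.Helper30.AlgSpDiag
import Groth.Agent.Lib.Helper17.DiagMono
import Groth.Agent.Lib.Helper5.AtlasQuot
import Groth.Agent.Lib.Helper5.FppfRep
import Groth.Prelude.Def_AlgSpRep
import Groth.Agent.Lib.Helper37.EtaleFibres

/-!
# Bootstrap: sheaves covered by algebraic spaces (helper23)

* `isRepresentable_of_jointly_mono_lqf`: an algebraic space with a jointly monic pair of maps to
  two schemes, the second locally quasi-finite, is a scheme.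
* `exists_isPullback_of_repBySpWith`: if `p : X ⟶ F` is representable by algebraic spaces, surjective
  and etale and `a : h_U ⟶ X` is an atlas, the base change of `a ≫ p` to any scheme is a scheme,
  etale and surjective over it.
* `isAlgSpace_of_repBySpWith`: then `F` is an algebraic space.
-/

set_option autoImplicit false
universe u
open CategoryTheory CategoryTheory.Limits AlgebraicGeometry Opposite

namespace Groth.Agent.Lib.Helper23.SLQ

open AlgSp Groth.Agent.Lib.Helper23.AlgSpMor

variable {S : Scheme.{u}}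

/-- An algebraic space with a jointly monic pair of maps to two schemes, the second of which is
locally quasi-finite, is a scheme. -/
theorem isRepresentable_of_jointly_mono_lqf {G : Sp S} (hG : IsAlgSpace G) {A B : Over S}
    (g1 : G ⟶ (yon S).obj A) (g2 : G ⟶ (yon S).obj B)
    (hmono : ∀ ⦃Z : Sp S⦄ (a b : Z ⟶ G), a ≫ g1 = b ≫ g1 → a ≫ g2 = b ≫ g2 → a = b)
    (hqf : LocP (@LocallyQuasiFinite ⊓ @LocallyOfFiniteType) g2) : G.obj.IsRepresentable := by
  have hlim := Groth.Agent.Lib.Helper30.AlgSpDiag.isLimitYonProd A B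
  let f : G ⟶ (yon S).obj (A ⨯ B) := hlim.lift (BinaryFan.mk g1 g2)
  have hf1 : f ≫ (yon S).map (prod.fst : A ⨯ B ⟶ A) = g1 :=
    hlim.fac (BinaryFan.mk g1 g2) ⟨WalkingPair.left⟩
  have hf2 : f ≫ (yon S).map (prod.snd : A ⨯ B ⟶ B) = g2 :=
    hlim.fac (BinaryFan.mk g1 g2) ⟨WalkingPair.right⟩
  have hm : Mono f := by
    constructor
    intro Z a b hab
    exact hmono a b (by rw [← hf1, ← Category.assoc, hab, Category.assoc])
      (by rw [← hf2, ← Category.assoc, hab, Category.assoc])
  have hsep : IsSeparatedMor f := Groth.Agent.Lib.Helper17.DM.isSeparatedMor_of_mono f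
  have hqf' : LocP (@LocallyQuasiFinite ⊓ @LocallyOfFiniteType) f := by
    intro U' V' a b k ha hb comm
    have h1 : a ≫ g2 = (yon S).map (k ≫ ((yon S).preimage (b ≫ (yon S).map prod.snd))) ≫
        𝟙 ((yon S).obj B) := by
      rw [Category.comp_id, Functor.map_comp, Functor.map_preimage, ← Category.assoc, ← comm,
        Category.assoc, hf2]
    have h2 := hqf a (𝟙 _) _ ha ((RepWith @Etale).id_mem _) h1
    rw [Over.comp_left] at h2
    exact ⟨@LocallyQuasiFinite.of_comp _ _ _ _ _ h2.1, @locallyOfFiniteType_of_comp _ _ _ _ _ h2.2⟩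
  exact isRepresentable_of_sep_lqf hG f hsep hqf'

/-- A map of sheaves `h_V ⟶ h_T` which is surjective on points comes from a surjective morphism. -/
theorem surjective_of_isSurjectiveMor_yon_map {V T : Over S} (v : V ⟶ T)
    (h : IsSurjectiveMor ((yon S).map v)) : Surjective v.left :=
  (repWith_yon_map_iff @Surjective v).1
    (repWith_surjective_of_isSurjectiveMor _ (representable_yon_map v) h)

/-- If `p : X ⟶ F` is representable by algebraic spaces, surjective and etale, and `a : h_U ⟶ X` is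
an atlas of the algebraic space `X`, then every base change of `a ≫ p` to a scheme is a scheme,
etale and surjective over the base. -/
theorem exists_isPullback_of_repBySpWith {F X : Sp S} (hX : IsAlgSpace X) (p : X ⟶ F)
    (hp : RepBySpWith (IsSurjectiveMor ⊓ IsEtaleMor) p.hom) {U : Over S}
    (a : (yon S).obj U ⟶ X) (hae : RepWith @Etale a) (has : RepWith @Surjective a)
    {T : Over S} (ξ : (yon S).obj T ⟶ F) :
    ∃ (V : Over S) (fst : (yon S).obj V ⟶ (yon S).obj U) (v : V ⟶ T),
      IsPullback fst ((yon S).map v) (a ≫ p) ξ ∧ Etale v.left ∧ Surjective v.left := by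
  rw [repBySpWith_hom_iff] at hp
  obtain ⟨P, fstP, sndP, sq1⟩ : ∃ (P : Sp S) (fstP : P ⟶ X) (sndP : P ⟶ (yon S).obj T),
      IsPullback fstP sndP p ξ := ⟨_, _, _, IsPullback.of_hasPullback p ξ⟩
  obtain ⟨hP, hs, he⟩ := hp ξ _ _ sq1
  obtain ⟨P', a', π, sq2⟩ : ∃ (P' : Sp S) (a' : P' ⟶ (yon S).obj U) (π : P' ⟶ P),
      IsPullback a' π a fstP := ⟨_, _, _, IsPullback.of_hasPullback a fstP⟩
  have sq12 : IsPullback a' (π ≫ sndP) (a ≫ p) ξ := sq2.paste_vert sq1
  have hP' : IsAlgSpace P' :=
    isAlgSpace_of_isPullback (IsAlgSpace.yon_obj U) hP hX.diag sq2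
  have hπe : RepWith @Etale π := (RepWith @Etale).of_isPullback sq2 hae
  have hπs : RepWith @Surjective π := (RepWith @Surjective).of_isPullback sq2 has
  -- `π ≫ sndP` is locally quasi-finite
  have hqf : LocP (@LocallyQuasiFinite ⊓ @LocallyOfFiniteType) (π ≫ sndP) := by
    obtain ⟨W, b, hbe, hbs⟩ := hP'.atlas
    have h1 : RepWith @Etale ((b ≫ π) ≫ sndP) :=
      he (b ≫ π) ((RepWith @Etale).comp_mem _ _ hbe hπe)
    obtain ⟨w, hw⟩ := (yon S).map_surjective ((b ≫ π) ≫ sndP)
    rw [← hw] at h1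
    have hwe : Etale w.left := (repWith_yon_map_iff @Etale w).1 h1
    refine Groth.Agent.Lib.Helper46.LocPChart.locP_of_chart
      Groth.Agent.Lib.Helper30.EtLocalInst.etLocal_lqf (π ≫ sndP) b (𝟙 _) w hbe hbs
      ((RepWith @Etale).id_mem _) ?_
      ⟨Groth.Agent.Lib.Helper37.EtaleFibres.locallyQuasiFinite_of_etale w.left, inferInstance⟩
    rw [Category.comp_id, hw, Category.assoc]
  have hrep := isRepresentable_of_jointly_mono_lqf hP' a' (π ≫ sndP)
    (fun Z x y h1 h2 => sq12.hom_ext h1 h2) hqf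
  obtain ⟨V, ⟨e⟩⟩ := exists_iso_of_isRepresentable hrep
  obtain ⟨v, hv⟩ := (yon S).map_surjective (e.hom ≫ π ≫ sndP)
  refine ⟨V, e.hom ≫ a', v, ?_, ?_, ?_⟩
  · rw [hv]
    exact IsPullback.of_iso sq12 e.symm (Iso.refl _) (Iso.refl _) (Iso.refl _) (by simp) (by simp)
      (by simp) (by simp)
  · have h1 : RepWith @Etale ((e.hom ≫ π) ≫ sndP) :=
      he (e.hom ≫ π) (MorphismProperty.RespectsIso.precomp _ _ _ hπe)
    rw [Category.assoc, ← hv] at h1
    exact (repWith_yon_map_iff @Etale v).1 h1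
  · apply surjective_of_isSurjectiveMor_yon_map
    rw [hv]
    exact isSurjectiveMor_comp _ _ (isSurjectiveMor_of_isIso _)
      (isSurjectiveMor_comp _ _ (isSurjectiveMor_of_repWith_surjective π hπs) hs)

/-- Bootstrap: a sheaf receiving a surjective etale map, representable by algebraic spaces, from
an algebraic space is an algebraic space. -/
theorem isAlgSpace_of_repBySpWith {F X : Sp S} (hX : IsAlgSpace X) (p : X ⟶ F)
    (hp : RepBySpWith (IsSurjectiveMor ⊓ IsEtaleMor) p.hom) : IsAlgSpace F := by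
  obtain ⟨U, a, hae, has⟩ := hX.atlas
  have key := fun (T : Over S) (ξ : (yon S).obj T ⟶ F) =>
    exists_isPullback_of_repBySpWith hX p hp a hae has ξ
  haveI : Epi (a ≫ p) := by
    apply Groth.Agent.Lib.Helper5.SheafQuot.epi_of_local_lift
    intro T y
    obtain ⟨V, fst, v, sq, hve, hvs⟩ := key T y
    refine ⟨_, Groth.Agent.Lib.Helper5.FppfRep.generate_singleton_mem_J v, ?_⟩
    rintro T' φ ⟨W, ψ, _, ⟨⟩, rfl⟩
    exact ⟨(yon S).map ψ ≫ fst, by rw [Category.assoc, sq.w, Functor.map_comp, Category.assoc]⟩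
  obtain ⟨R, fst, t, sq, hte, hts⟩ := key U (a ≫ p)
  obtain ⟨s, rfl⟩ := (yon S).map_surjective fst
  -- `s` is etale and surjective as well, by symmetry
  obtain ⟨R', fst', t', sq', hte', hts'⟩ := key U (a ≫ p)
  have hse : Etale s.left ∧ Surjective s.left := by
    obtain ⟨s', rfl⟩ := (yon S).map_surjective fst'
    let i := sq.flip.isoIsPullback _ _ sq'
    have h1 : i.hom ≫ (yon S).map t' = (yon S).map s := sq.flip.isoIsPullback_hom_snd _ _ sq'
    let i' : R ≅ R' := (yon S).preimageIso i
    have h2 : i'.hom ≫ t' = s := by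
      apply (yon S).map_injective
      rw [Functor.map_comp, Functor.preimageIso_hom, Functor.map_preimage, h1]
    have h3 : s.left = i'.hom.left ≫ t'.left := by rw [← Over.comp_left, h2]
    haveI : IsIso i'.hom.left := inferInstanceAs (IsIso ((Over.forget S).map i'.hom))
    rw [h3]
    exact ⟨inferInstance, inferInstance⟩
  haveI := hse.1
  haveI := hse.2
  exact Groth.Agent.Lib.Helper5.AtlasQuot.isAlgSpace_of_kernelPair (a ≫ p) t s sq

end Groth.Agent.Lib.Helper23.SLQ
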