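import Mathlib

/-!
# Etale morphisms have bounded fibres (helper23)

`BddFib N π`: every field-valued point of the target of `π` has at most `N` lifts to the source.
* `exists_bddFib_of_etale`: an étale morphism with quasi-compact source has bounded fibres;
* `BddFib.offDiag`: for `π` separated with `BddFib (N+1)`, the second projection from the complement of
  the diagonal in `T' ×_T T'` has `BddFib N`;
* `BddFib.isEmpty`: `BddFib 0` forces the source to be empty.
-/

set_option autoImplicit false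
universe u
open CategoryTheory CategoryTheory.Limits AlgebraicGeometry Opposite Polynomial

namespace Groth.Agent.Lib.Helper23.SLQ

theorem exists_bound_of_etale (A B : Type u) [CommRing A] [CommRing B] [Algebra A B]
    [Algebra.Etale A B] :
    ∃ N : ℕ, ∀ (K : Type u) [Field K] (s : Fin (N + 1) → (B →+* K)),
      (∀ i j, (s i).comp (algebraMap A B) = (s j).comp (algebraMap A B)) →
        ∃ i j, i ≠ j ∧ s i = s j := by
  classical
  -- local standard étale structure
  have hloc : ∀ Q : PrimeSpectrum B, ∃ f : B, f ∉ Q.asIdeal ∧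
      Algebra.IsStandardEtale A (Localization.Away f) := by
    intro Q
    have : Algebra.FormallyEtale A (Localization.AtPrime Q.asIdeal) :=
      Algebra.FormallyEtale.comp A B _
    exact Algebra.IsEtaleAt.exists_isStandardEtale (R := A) Q.asIdeal
  choose f hfQ hfE using hloc
  have htop : Ideal.span (Set.range f) = ⊤ := by
    by_contra hne
    obtain ⟨M, hM, hle⟩ := Ideal.exists_le_maximal _ hne
    exact hfQ ⟨M, hM.isPrime⟩ (hle (Ideal.subset_span ⟨_, rfl⟩))
  obtain ⟨F, hF, hF1⟩ := Submodule.mem_span_finite_of_mem_span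
    (show (1 : B) ∈ Ideal.span (Set.range f) by rw [htop]; trivial)
  have hE : ∀ g ∈ F, Algebra.IsStandardEtale A (Localization.Away g) := by
    intro g hg
    obtain ⟨Q, rfl⟩ := hF hg
    exact hfE Q
  let P : ∀ g ∈ F, StandardEtalePresentation A (Localization.Away g) := fun g hg =>
    (hE g hg).nonempty_standardEtalePresentation.some
  let d : B → ℕ := fun g => if hg : g ∈ F then (P g hg).f.natDegree else 0
  refine ⟨∑ g ∈ F, d g, ?_⟩
  intro K _ s hs
  let φ : A →+* K := (s 0).comp (algebraMap A B)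
  letI : Algebra A K := φ.toAlgebra
  have hex : ∀ i, ∃ g ∈ F, s i g ≠ 0 := by
    intro i
    by_contra hcon
    push Not at hcon
    have hle : Ideal.span (F : Set B) ≤ RingHom.ker (s i) :=
      Ideal.span_le.mpr fun g hg => (RingHom.mem_ker).mpr (hcon g hg)
    have h1 := hle hF1
    rw [RingHom.mem_ker, map_one] at h1
    exact one_ne_zero h1
  choose c hcF hc using hex
  -- pigeonhole
  obtain ⟨g, hg, hlt⟩ : ∃ g ∈ F, d g < (Finset.univ.filter (fun i => c i = g)).card := by
    by_contra hcon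
    push Not at hcon
    have h1 : (Finset.univ : Finset (Fin (∑ g ∈ F, d g + 1))).card =
        ∑ g ∈ F, (Finset.univ.filter (fun i => c i = g)).card :=
      Finset.card_eq_sum_card_fiberwise (fun i _ => hcF i)
    have h2 : ∑ g ∈ F, (Finset.univ.filter (fun i => c i = g)).card ≤ ∑ g ∈ F, d g :=
      Finset.sum_le_sum hcon
    rw [Finset.card_univ, Fintype.card_fin] at h1
    omega
  set I := Finset.univ.filter (fun i => c i = g) with hI
  set Pg := P g hg with hPg
  have hd : d g = Pg.f.natDegree := by simp [d, hg, hPg]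
  have hu : ∀ i ∈ I, IsUnit (s i g) := by
    intro i hi
    have : c i = g := (Finset.mem_filter.mp hi).2
    exact (this ▸ hc i).isUnit
  -- the lifted algebra maps
  let t : ∀ i ∈ I, Localization.Away g →ₐ[A] K := fun i hi =>
    { IsLocalization.Away.lift g (hu i hi) with
      commutes' := fun a => by
        change (IsLocalization.Away.lift g (hu i hi)) (algebraMap A (Localization.Away g) a) = φ a
        rw [IsScalarTower.algebraMap_apply A B (Localization.Away g), IsLocalization.Away.lift_eq]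
        exact congrArg (fun ψ : A →+* K => ψ a) (hs i 0) }
  let y : Fin (∑ g ∈ F, d g + 1) → K := fun i => if hi : i ∈ I then t i hi Pg.x else 0
  have hfne : Pg.f.map (algebraMap A K) ≠ 0 := (Pg.monic_f.map _).ne_zero
  have hy : ∀ i ∈ I, y i ∈ (Pg.f.map (algebraMap A K)).roots.toFinset := by
    intro i hi
    rw [Multiset.mem_toFinset, Polynomial.mem_roots hfne, Polynomial.IsRoot.def,
      Polynomial.eval_map, ← Polynomial.aeval_def]
    have : y i = t i hi Pg.x := by simp [y, hi]
    rw [this, Polynomial.aeval_algHom_apply, Pg.hasMap.1, map_zero]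
  have hcard : (Pg.f.map (algebraMap A K)).roots.toFinset.card < I.card := by
    refine lt_of_le_of_lt ?_ hlt
    rw [hd]
    calc _ ≤ Multiset.card (Pg.f.map (algebraMap A K)).roots := Multiset.toFinset_card_le _
      _ ≤ (Pg.f.map (algebraMap A K)).natDegree := Polynomial.card_roots' _
      _ = Pg.f.natDegree := Pg.monic_f.natDegree_map _
  obtain ⟨i, hi, j, hj, hij, hyij⟩ := Finset.exists_ne_map_eq_of_card_lt_of_maps_to hcard hy
  refine ⟨i, j, hij, ?_⟩
  have hy' : t i hi Pg.x = t j hj Pg.x := by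
    simpa [y, hi, hj] using hyij
  have htt : t i hi = t j hj := Pg.hom_ext hy'
  ext b
  have e1 : s i b = t i hi (algebraMap B _ b) := (IsLocalization.Away.lift_eq g (hu i hi) b).symm
  have e2 : s j b = t j hj (algebraMap B _ b) := (IsLocalization.Away.lift_eq g (hu j hj) b).symm
  rw [e1, e2, htt]

/-- every field-valued point of the target has at most `N` lifts -/
def BddFib (N : ℕ) {T' T : Scheme.{u}} (π : T' ⟶ T) : Prop :=
  ∀ (K : Type u) [Field K] (s : Fin (N + 1) → (Spec (CommRingCat.of K) ⟶ T')),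
    (∀ i j, s i ≫ π = s j ≫ π) → ∃ i j, i ≠ j ∧ s i = s j

theorem BddFib.isEmpty {T' T : Scheme.{u}} {π : T' ⟶ T} (h : BddFib 0 π) : IsEmpty ↥T' := by
  refine ⟨fun t => ?_⟩
  obtain ⟨i, j, hij, -⟩ := h (T'.residueField t) (fun _ => T'.fromSpecResidueField t)
    (fun _ _ => rfl)
  exact hij (Fin.ext (by omega))

theorem BddFib.comp_mono {N : ℕ} {T' T T₁ : Scheme.{u}} {π : T' ⟶ T} (h : BddFib N π)
    (i : T ⟶ T₁) [Mono i] : BddFib N (π ≫ i) := by
  intro K _ s hs
  exact h K s fun a b => by
    have := hs a b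
    rwa [← Category.assoc, ← Category.assoc, cancel_mono] at this

theorem BddFib.of_arrow_iso {N : ℕ} {T' T U' U : Scheme.{u}} {π : T' ⟶ T} {ρ : U' ⟶ U}
    (e : Arrow.mk π ≅ Arrow.mk ρ) (h : BddFib N ρ) : BddFib N π := by
  intro K _ s hs
  have hw : e.hom.left ≫ ρ = π ≫ e.hom.right := e.hom.w
  obtain ⟨i, j, hij, hs'⟩ := h K (fun i => s i ≫ e.hom.left) (fun a b => by
    simp only [Category.assoc]
    rw [hw, reassoc_of% (hs a b)])
  refine ⟨i, j, hij, ?_⟩
  have : IsIso e.hom.left := inferInstance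
  exact (cancel_mono e.hom.left).1 hs'

theorem bddFib_Spec_map {R R' : CommRingCat.{u}} (φ : R ⟶ R') (hφ : φ.hom.Etale) :
    ∃ N, BddFib N (Spec.map φ) := by
  letI : Algebra R R' := φ.hom.toAlgebra
  haveI : Algebra.Etale R R' := hφ
  obtain ⟨N, hN⟩ := exists_bound_of_etale R R'
  refine ⟨N, fun K _ s hs => ?_⟩
  obtain ⟨i, j, hij, h⟩ := hN K (fun i => (Spec.preimage (s i)).hom) (fun a b => by
    have h1 := hs a b
    rw [← Spec.map_preimage (s a), ← Spec.map_preimage (s b), ← Spec.map_comp, ← Spec.map_comp]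
      at h1
    have h2 := Spec.map_injective h1
    exact congrArg CommRingCat.Hom.hom h2)
  refine ⟨i, j, hij, ?_⟩
  rw [← Spec.map_preimage (s i), ← Spec.map_preimage (s j)]
  congr 1
  exact CommRingCat.hom_ext h

theorem bddFib_of_isAffine {T' T : Scheme.{u}} [IsAffine T'] [IsAffine T] (π : T' ⟶ T) [Etale π] :
    ∃ N, BddFib N π := by
  have h1 : Etale (Spec.map π.appTop) :=
    (MorphismProperty.arrow_mk_iso_iff @Etale (arrowIsoSpecΓOfIsAffine π)).mp inferInstance
  obtain ⟨N, hN⟩ := bddFib_Spec_map π.appTop (HasRingHomProperty.Spec_iff.mp h1)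
  exact ⟨N, BddFib.of_arrow_iso (arrowIsoSpecΓOfIsAffine π) hN⟩

theorem exists_bddFib_of_etale {T' T : Scheme.{u}} (π : T' ⟶ T) [Etale π] [CompactSpace ↥T'] :
    ∃ N, BddFib N π := by
  classical
  have hloc : ∀ x : T', ∃ (U : T'.Opens) (V : T.Opens), IsAffineOpen U ∧ IsAffineOpen V ∧ x ∈ U ∧
      U ≤ π ⁻¹ᵁ V := by
    intro x
    obtain ⟨_, ⟨V, hV, rfl⟩, hxV, -⟩ := T.isBasis_affineOpens.exists_subset_of_mem_open
      (Set.mem_univ (π x)) isOpen_univ
    obtain ⟨_, ⟨U, hU, rfl⟩, hxU, hle⟩ := T'.isBasis_affineOpens.exists_subset_of_mem_open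
      (show x ∈ ((π ⁻¹ᵁ V : T'.Opens) : Set T') from hxV) (π ⁻¹ᵁ V).isOpen
    exact ⟨U, V, hU, hV, hxU, hle⟩
  choose U V hU hV hxU hUV using hloc
  obtain ⟨F, hF⟩ := isCompact_univ.elim_finite_subcover (fun x => (U x : Set T'))
    (fun x => (U x).isOpen) (fun x _ => Set.mem_iUnion.mpr ⟨x, hxU x⟩)
  have hb : ∀ x, ∃ N, BddFib N ((U x).ι ≫ π) := by
    intro x
    haveI : IsAffine ↑(U x) := hU x
    haveI : IsAffine ↑(V x) := hV x
    obtain ⟨N, hN⟩ := bddFib_of_isAffine (π.resLE (V x) (U x) (hUV x))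
    refine ⟨N, ?_⟩
    rw [← Scheme.Hom.resLE_comp_ι π (hUV x)]
    exact hN.comp_mono _
  choose n hn using hb
  refine ⟨∑ x ∈ F, n x, fun K _ s hs => ?_⟩
  -- each point lands in some piece
  have hex : ∀ i, ∃ x ∈ F, s i (IsLocalRing.closedPoint K) ∈ U x := by
    intro i
    have := hF (Set.mem_univ (s i (IsLocalRing.closedPoint K)))
    simpa using this
  choose c hcF hc using hex
  obtain ⟨x, hx, hlt⟩ : ∃ x ∈ F, n x < (Finset.univ.filter (fun i => c i = x)).card := by
    by_contra hcon
    push Not at hcon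
    have h1 : (Finset.univ : Finset (Fin (∑ x ∈ F, n x + 1))).card =
        ∑ x ∈ F, (Finset.univ.filter (fun i => c i = x)).card :=
      Finset.card_eq_sum_card_fiberwise (fun i _ => hcF i)
    have h2 : ∑ x ∈ F, (Finset.univ.filter (fun i => c i = x)).card ≤ ∑ x ∈ F, n x :=
      Finset.sum_le_sum hcon
    rw [Finset.card_univ, Fintype.card_fin] at h1
    omega
  set I := Finset.univ.filter (fun i => c i = x) with hI
  let em : Fin (n x + 1) ↪o Fin (∑ x ∈ F, n x + 1) := I.orderEmbOfCardLe hlt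
  have hem : ∀ k, em k ∈ I := fun k => Finset.orderEmbOfCardLe_mem I hlt k
  have hrange : ∀ k, Set.range (s (em k)) ⊆ Set.range (U x).ι := by
    intro k
    rintro _ ⟨z, rfl⟩
    rw [Scheme.Opens.range_ι, Subsingleton.elim z (IsLocalRing.closedPoint K)]
    have : c (em k) = x := (Finset.mem_filter.mp (hem k)).2
    have h2 := hc (em k)
    rw [this] at h2
    exact h2
  let m : Fin (n x + 1) → (Spec (CommRingCat.of K) ⟶ ↑(U x)) := fun k =>
    IsOpenImmersion.lift (U x).ι (s (em k)) (hrange k)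
  have hm : ∀ k, m k ≫ (U x).ι = s (em k) := fun k => IsOpenImmersion.lift_fac _ _ _
  obtain ⟨k, l, hkl, hml⟩ := hn x K m (fun a b => by
    rw [reassoc_of% (hm a), reassoc_of% (hm b)]
    exact hs _ _)
  refine ⟨em k, em l, fun h => hkl (em.injective h), ?_⟩
  rw [← hm k, ← hm l, hml]

/-- The complement of the diagonal in `T' ×_T T'`, for `π` separated. -/
noncomputable def offDiag {T' T : Scheme.{u}} (π : T' ⟶ T) [IsSeparated π] :
    (pullback π π).Opens :=
  ⟨(Set.range (pullback.diagonal π))ᶜ,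
    (pullback.diagonal π).isClosedEmbedding.isClosed_range.isOpen_compl⟩

theorem BddFib.offDiag {N : ℕ} {T' T : Scheme.{u}} (π : T' ⟶ T) [IsSeparated π]
    (h : BddFib (N + 1) π) : BddFib N ((offDiag π).ι ≫ pullback.snd π π) := by
  intro K _ s hs
  -- not on the diagonal
  have hoff : ∀ i, s i ≫ (SLQ.offDiag π).ι ≫ pullback.fst π π ≠
      s i ≫ (SLQ.offDiag π).ι ≫ pullback.snd π π := by
    intro i heq
    have hfac : s i ≫ (SLQ.offDiag π).ι =
        (s i ≫ (SLQ.offDiag π).ι ≫ pullback.fst π π) ≫ pullback.diagonal π := by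
      apply pullback.hom_ext
      · simp
      · simp [heq]
    have hmem : (s i ≫ (SLQ.offDiag π).ι) (IsLocalRing.closedPoint K) ∈
        Set.range (pullback.diagonal π) := by
      rw [hfac, Scheme.Hom.comp_apply]
      exact ⟨_, rfl⟩
    have hnot : (s i ≫ (SLQ.offDiag π).ι) (IsLocalRing.closedPoint K) ∈
        ((SLQ.offDiag π : (pullback π π).Opens) : Set _) := by
      rw [Scheme.Hom.comp_apply]
      exact (s i (IsLocalRing.closedPoint K)).2
    exact hnot hmem
  let s' : Fin (N + 2) → (Spec (CommRingCat.of K) ⟶ T') :=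
    Fin.cons (s 0 ≫ (SLQ.offDiag π).ι ≫ pullback.snd π π)
      (fun i => s i ≫ (SLQ.offDiag π).ι ≫ pullback.fst π π)
  have hs0 : ∀ i, s i ≫ (SLQ.offDiag π).ι ≫ pullback.snd π π =
      s 0 ≫ (SLQ.offDiag π).ι ≫ pullback.snd π π := fun i => hs i 0
  have hs'π : ∀ a, s' a ≫ π = (s 0 ≫ (SLQ.offDiag π).ι ≫ pullback.snd π π) ≫ π := by
    intro a
    refine Fin.cases rfl (fun i => ?_) a
    simp only [s', Fin.cons_succ, Category.assoc]
    rw [pullback.condition, ← Category.assoc (SLQ.offDiag π).ι, ← Category.assoc (s i),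
      ← Category.assoc (s 0), ← Category.assoc (s 0)]
    congr 1
    simpa using hs0 i
  obtain ⟨a, b, hab, hsab⟩ := h K s' (fun a b => (hs'π a).trans (hs'π b).symm)
  -- case analysis
  revert hab hsab
  refine Fin.cases ?_ (fun i => ?_) a <;> refine Fin.cases ?_ (fun j => ?_) b
  · intro hab; exact (hab rfl).elim
  · intro _ hsab
    simp only [s', Fin.cons_zero, Fin.cons_succ] at hsab
    exact (hoff j (hsab.symm.trans (hs0 j).symm)).elim
  · intro _ hsab
    simp only [s', Fin.cons_zero, Fin.cons_succ] at hsab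
    exact (hoff i (hsab.trans (hs0 i).symm)).elim
  · intro hab hsab
    simp only [s', Fin.cons_succ] at hsab
    refine ⟨i, j, fun h => hab (by rw [h]), ?_⟩
    rw [← cancel_mono (SLQ.offDiag π).ι]
    apply pullback.hom_ext
    · simpa using hsab
    · simpa using hs i j

end Groth.Agent.Lib.Helper23.SLQ
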