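import Groth.Agent.Lib.Helper23.SLQDesc
import Groth.Agent.Lib.Helper23.SLQBound
import Groth.Agent.Lib.Helper23.AlgSpInj2
import Groth.Agent.Lib.Helper23.AlgSpMor4
import Groth.Agent.Lib.Helper46.LocPChart
import Groth.Agent.Lib.Helper30.EtLocalInst

/-!
# The induction on the fibre bound (helper23)

`isRepresentable_of_bddFib`: let `f : X ⟶ h_T` be a separated locally quasi-finite morphism from an
algebraic space, `π : T' ⟶ T` étale separated with at most `N` points in every fibre, and
`A ⊆ |X ×_T T'|` an open and closed subset which is a scheme and surjects onto `|X|`.  Then `X` is a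
scheme.
-/

set_option autoImplicit false
universe u
open CategoryTheory CategoryTheory.Limits AlgebraicGeometry Opposite

namespace Groth.Agent.Lib.Helper23.SLQ

open AlgSp Groth.Agent.Lib.Helper36.OpenSubspace Groth.Agent.Lib.Helper37.AlgSpPoints
  Groth.Agent.Lib.Helper23.AlgSpMor

variable {S : Scheme.{u}}

/-- An open subspace of a representable sheaf is representable. -/
theorem isRepresentable_openSub {X : Sp S} (hX : X.obj.IsRepresentable) (W : Set (Points X))
    (hW : IsOpen W) : (openSub X W).obj.IsRepresentable := by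
  obtain ⟨V, ⟨e⟩⟩ := exists_iso_of_isRepresentable hX
  obtain ⟨top, sq⟩ := exists_isPullback_openSub X W hW e.hom
  haveI : IsIso top := sq.isIso_fst_of_isIso
  exact isRepresentable_of_iso (asIso top)

theorem range_map_iso_comp {X Y Z : Sp S} (e : X ≅ Y) (g : Y ⟶ Z) :
    Set.range (Points.map (e.hom ≫ g)) = Set.range (Points.map g) := by
  apply Set.Subset.antisymm
  · rintro _ ⟨x, rfl⟩
    exact ⟨Points.map e.hom x, by rw [Points.map_comp]⟩
  · rintro _ ⟨y, rfl⟩
    refine ⟨Points.map e.inv y, ?_⟩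
    rw [← Points.map_comp, Iso.inv_hom_id_assoc]

/-- The preimage of a representable open subspace under a representable morphism is
representable. -/
theorem isRepresentable_preimage {Y X' : Sp S} (g : Y ⟶ X') (hg : Representable g)
    (A : Set (Points X')) (hA : IsOpen A) (hrep : (openSub X' A).obj.IsRepresentable) :
    (openSub Y (Points.map g ⁻¹' A)).obj.IsRepresentable := by
  obtain ⟨V, ⟨e⟩⟩ := exists_iso_of_isRepresentable hrep
  set vA := e.hom ≫ openSubι X' A with hvAdef
  have hvA : RepWith @IsOpenImmersion vA :=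
    (RepWith @IsOpenImmersion).comp_mem _ _ ((RepWith @IsOpenImmersion).of_isIso e.hom)
      (repWith_isOpenImmersion_openSubι X' A hA)
  have hrange : Set.range (Points.map vA) = A := by
    rw [hvAdef, range_map_iso_comp, range_map_openSubι]
  have sq := hg.isPullback vA
  have hβ : RepWith @IsOpenImmersion (hg.fst vA) :=
    (RepWith @IsOpenImmersion).of_isPullback sq.flip hvA
  have hB : IsOpen (Points.map g ⁻¹' A) := hA.preimage (Points.continuous_map g)
  have hr : Set.range (Points.map (hg.fst vA)) =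
      Set.range (Points.map (openSubι Y (Points.map g ⁻¹' A))) := by
    rw [range_map_openSubι]
    apply Set.Subset.antisymm
    · rintro _ ⟨y, rfl⟩
      change Points.map g (Points.map (hg.fst vA) y) ∈ A
      rw [← Points.map_comp, sq.w, Points.map_comp, ← hrange]
      exact ⟨_, rfl⟩
    · intro y hy
      have hy' : Points.map g y ∈ Set.range (Points.map vA) := by rw [hrange]; exact hy
      obtain ⟨v, hv⟩ := hy'
      obtain ⟨p, -, hp2⟩ := points_exists_of_isPullback sq.flip v y hv
      exact ⟨p, hp2⟩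
  obtain ⟨e', -⟩ := exists_iso_of_range_eq (hg.fst vA) (openSubι Y (Points.map g ⁻¹' A)) hβ
    (repWith_isOpenImmersion_openSubι Y _ hB) hr
  exact isRepresentable_of_iso e'


section OffDiag

variable {T T' : Over S} (π : T' ⟶ T) [IsSeparated π.left]

/-- The complement of the diagonal in `T' ×_T T'`, over `S`. -/
noncomputable def offDiagOver : Over S :=
  Over.mk ((offDiag π.left).ι ≫ pullback.fst π.left π.left ≫ T'.hom)

/-- first projection from the complement of the diagonal -/
noncomputable def offDiagFst : offDiagOver π ⟶ T' :=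
  Over.homMk ((offDiag π.left).ι ≫ pullback.fst π.left π.left) (by simp [offDiagOver])

/-- second projection from the complement of the diagonal -/
noncomputable def offDiagSnd : offDiagOver π ⟶ T' :=
  Over.homMk ((offDiag π.left).ι ≫ pullback.snd π.left π.left) (by
    change ((offDiag π.left).ι ≫ pullback.snd π.left π.left) ≫ T'.hom =
      (offDiag π.left).ι ≫ pullback.fst π.left π.left ≫ T'.hom
    rw [Category.assoc, ← Over.w π, ← Category.assoc (pullback.snd _ _), ← pullback.condition,
      Category.assoc])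

theorem offDiagFst_comp : offDiagFst π ≫ π = offDiagSnd π ≫ π := by
  ext1
  simp [offDiagFst, offDiagSnd, pullback.condition]

instance [Etale π.left] : Etale (offDiagSnd π).left := by
  change Etale ((offDiag π.left).ι ≫ pullback.snd π.left π.left)
  infer_instance

instance : IsSeparated (offDiagSnd π).left := by
  change IsSeparated ((offDiag π.left).ι ≫ pullback.snd π.left π.left)
  infer_instance

theorem bddFib_offDiagSnd {N : ℕ} (h : BddFib (N + 1) π.left) : BddFib N (offDiagSnd π).left :=
  BddFib.offDiag π.left h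

/-- Two points of `T'` over the same point of `T`, with values in a field, are equal or define a
point of the complement of the diagonal. -/
theorem offDiag_dichotomy [Etale π.left] {Ω : Type u} [Field Ω]
    (w : Spec (CommRingCat.of Ω) ⟶ S) (t0 t1 : Over.mk w ⟶ T') (h : t0 ≫ π = t1 ≫ π) :
    t0 = t1 ∨ ∃ t : Over.mk w ⟶ offDiagOver π, t ≫ offDiagFst π = t0 ∧ t ≫ offDiagSnd π = t1 := by
  have h' : t0.left ≫ π.left = t1.left ≫ π.left := congrArg CommaMorphism.left h
  let τ : Spec (CommRingCat.of Ω) ⟶ pullback π.left π.left := pullback.lift t0.left t1.left h'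
  have hsub : ∀ z : ↥(Spec (CommRingCat.of Ω)), z = IsLocalRing.closedPoint Ω := fun z =>
    Subsingleton.elim (α := PrimeSpectrum Ω) _ _
  by_cases hmem : τ (IsLocalRing.closedPoint Ω) ∈ Set.range (pullback.diagonal π.left)
  · left
    have hr : Set.range τ ⊆ Set.range (pullback.diagonal π.left) := by
      rintro _ ⟨z, rfl⟩
      rw [hsub z]
      exact hmem
    let l := IsOpenImmersion.lift (pullback.diagonal π.left) τ hr
    have hl : l ≫ pullback.diagonal π.left = τ := IsOpenImmersion.lift_fac _ _ _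
    ext1
    have hτ0 : τ ≫ pullback.fst π.left π.left = t0.left := pullback.lift_fst _ _ _
    have hτ1 : τ ≫ pullback.snd π.left π.left = t1.left := pullback.lift_snd _ _ _
    rw [← hτ0, ← hτ1, ← hl, Category.assoc, Category.assoc, pullback.diagonal_fst,
      pullback.diagonal_snd]
  · right
    have hr : Set.range τ ⊆ Set.range (offDiag π.left).ι := by
      rintro _ ⟨z, rfl⟩
      rw [hsub z, Scheme.Opens.range_ι]
      exact hmem
    let l := IsOpenImmersion.lift (offDiag π.left).ι τ hr
    have hl : l ≫ (offDiag π.left).ι = τ := IsOpenImmersion.lift_fac _ _ _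
    have hl0 : l ≫ (offDiag π.left).ι ≫ pullback.fst π.left π.left = t0.left := by
      rw [← Category.assoc, hl]
      exact pullback.lift_fst _ _ _
    have hl1 : l ≫ (offDiag π.left).ι ≫ pullback.snd π.left π.left = t1.left := by
      rw [← Category.assoc, hl]
      exact pullback.lift_snd _ _ _
    refine ⟨Over.homMk l ?_, ?_, ?_⟩
    · change l ≫ (offDiag π.left).ι ≫ pullback.fst π.left π.left ≫ T'.hom = w
      rw [← Category.assoc (offDiag π.left).ι, ← Category.assoc l, hl0]
      exact Over.w t0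
    · ext1
      exact hl0
    · ext1
      exact hl1


/-- Two distinct points of `X' = X ×_T T'` over the same point of `X` come from a point of
`X' ×_{T', q₀} T*`, where `T*` is the complement of the diagonal of `T' ×_T T'`. -/
theorem exists_offDiag_point [Etale π.left] {X X' : Sp S} {f : X ⟶ (yon S).obj T} {p : X' ⟶ X}
    {f' : X' ⟶ (yon S).obj T'} (sq : IsPullback p f' f ((yon S).map π)) (a w : Points X')
    (hne : a ≠ w) (h : Points.map p a = Points.map p w)
    (r : pullback f' ((yon S).map (offDiagFst π)) ⟶ X')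
    (hr1 : r ≫ p = pullback.fst f' ((yon S).map (offDiagFst π)) ≫ p)
    (hr2 : r ≫ f' = pullback.snd f' ((yon S).map (offDiagFst π)) ≫ (yon S).map (offDiagSnd π)) :
    ∃ y : Points (pullback f' ((yon S).map (offDiagFst π))),
      Points.map (pullback.fst f' ((yon S).map (offDiagFst π))) y = a ∧ Points.map r y = w := by
  obtain ⟨K₁, _, str₁, α, rfl⟩ := exists_eq_mk_fieldPtOfHom a
  obtain ⟨K₂, _, str₂, ω, rfl⟩ := exists_eq_mk_fieldPtOfHom w
  rw [map_mk_fieldPtOfHom, map_mk_fieldPtOfHom, mk_fieldPtOfHom_eq_iff] at h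
  obtain ⟨Ω, _, wΩ, i, j, hij⟩ := h
  obtain ⟨αΩ, hαΩ⟩ : ∃ x, x = (yon S).map i ≫ α := ⟨_, rfl⟩
  obtain ⟨ωΩ, hωΩ⟩ : ∃ x, x = (yon S).map j ≫ ω := ⟨_, rfl⟩
  have hp : αΩ ≫ p = ωΩ ≫ p := by
    rw [hαΩ, hωΩ, Category.assoc, Category.assoc]
    exact hij
  obtain ⟨t0, ht0⟩ := (yon S).map_surjective (αΩ ≫ f')
  obtain ⟨t1, ht1⟩ := (yon S).map_surjective (ωΩ ≫ f')
  have ht : t0 ≫ π = t1 ≫ π := by
    apply (yon S).map_injective
    rw [Functor.map_comp, Functor.map_comp, ht0, ht1, Category.assoc, Category.assoc, ← sq.w,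
      ← Category.assoc, hp, Category.assoc]
  rcases offDiag_dichotomy π wΩ t0 t1 ht with heq | ⟨t, ht0', ht1'⟩
  · exfalso
    apply hne
    rw [mk_fieldPtOfHom_eq_iff]
    refine ⟨Ω, inferInstance, wΩ, i, j, ?_⟩
    rw [← hαΩ, ← hωΩ]
    apply sq.hom_ext
    · exact hp
    · rw [← ht0, ← ht1, heq]
  · have hc : αΩ ≫ f' = (yon S).map t ≫ (yon S).map (offDiagFst π) := by
      rw [← Functor.map_comp, ht0', ht0]
    refine ⟨Points.mk (fieldPtOfHom wΩ (pullback.lift αΩ ((yon S).map t) hc)), ?_, ?_⟩
    · rw [map_mk_fieldPtOfHom, pullback.lift_fst, mk_fieldPtOfHom_eq_iff]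
      exact ⟨Ω, inferInstance, wΩ, 𝟙 _, i, by
        rw [CategoryTheory.Functor.map_id, Category.id_comp, hαΩ]⟩
    · rw [map_mk_fieldPtOfHom, mk_fieldPtOfHom_eq_iff]
      refine ⟨Ω, inferInstance, wΩ, 𝟙 _, j, ?_⟩
      rw [CategoryTheory.Functor.map_id, Category.id_comp, ← hωΩ]
      apply sq.hom_ext
      · rw [Category.assoc, hr1, pullback.lift_fst_assoc, hp]
      · rw [Category.assoc, hr2, pullback.lift_snd_assoc, ← Functor.map_comp, ht1', ht1]

end OffDiag


open Groth.Agent.Lib.Helper46.LocPChart Groth.Agent.Lib.Helper30.EtLocalInst in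
/-- **The induction on the fibre bound.** -/
theorem isRepresentable_of_bddFib (N : ℕ) :
    ∀ {T T' : Over S} (π : T' ⟶ T) [Etale π.left] [IsSeparated π.left] (_ : BddFib N π.left)
      {X X' : Sp S} (_ : IsAlgSpace X) (f : X ⟶ (yon S).obj T) (_ : IsSeparatedMor f)
      (_ : LocP (@LocallyQuasiFinite ⊓ @LocallyOfFiniteType) f) {p : X' ⟶ X}
      {f' : X' ⟶ (yon S).obj T'} (_ : IsPullback p f' f ((yon S).map π)) (A : Set (Points X'))
      (_ : IsOpen A) (_ : IsOpen Aᶜ) (_ : (openSub X' A).obj.IsRepresentable)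
      (_ : ∀ x : Points X, ∃ a ∈ A, Points.map p a = x), X.obj.IsRepresentable := by
  induction N with
  | zero =>
    intro T T' π _ _ hN X X' hX f hsep hqf p f' sq A hA hA' hrepA hsurjA
    haveI : IsEmpty ↥T'.left := hN.isEmpty
    have hX' : IsAlgSpace X' := isAlgSpace_of_isPullback hX (IsAlgSpace.yon_obj T')
      (IsAlgSpace.yon_obj T).diag sq
    exact isRepresentable_of_descent' f π sq (isRepresentable_of_isEmpty f')
      (isSeparatedMor_of_isPullback sq hsep)
      (locP_of_isPullback etLocal_lqf hX (IsAlgSpace.yon_obj T) hX' (IsAlgSpace.yon_obj T') sq hqf)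
      (fun x => by obtain ⟨a, -, ha⟩ := hsurjA x; exact ⟨a, ha⟩)
  | succ N ih =>
    intro T T' π _ _ hN X X' hX f hsep hqf p f' sq A hA hA' hrepA hsurjA
    have hX' : IsAlgSpace X' := isAlgSpace_of_isPullback hX (IsAlgSpace.yon_obj T')
      (IsAlgSpace.yon_obj T).diag sq
    have hsep' : IsSeparatedMor f' := isSeparatedMor_of_isPullback sq hsep
    have hqf' : LocP (@LocallyQuasiFinite ⊓ @LocallyOfFiniteType) f' :=
      locP_of_isPullback etLocal_lqf hX (IsAlgSpace.yon_obj T) hX' (IsAlgSpace.yon_obj T') sq hqf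
    -- the complement `W'` of `A`
    obtain ⟨ιW, hιWdef⟩ : ∃ m, m = openSubι X' Aᶜ := ⟨_, rfl⟩
    haveI : Mono ιW := by rw [hιWdef]; infer_instance
    have hιWo : RepWith @IsOpenImmersion ιW := by
      rw [hιWdef]; exact repWith_isOpenImmersion_openSubι X' Aᶜ hA'
    have hιWr : Set.range (Points.map ιW) = Aᶜ := by rw [hιWdef]; exact range_map_openSubι X' Aᶜ
    have hW' : IsAlgSpace (openSub X' Aᶜ) := isAlgSpace_openSub X' hX' Aᶜ hA'
    have hsepW : IsSeparatedMor (ιW ≫ f') :=
      isSeparatedMor_comp _ _ (Groth.Agent.Lib.Helper17.DM.isSeparatedMor_of_mono ιW) hsep'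
    have hιWe : RepWith @Etale ιW :=
      MorphismProperty.relative_monotone (fun _ _ g hg => by
        have : IsOpenImmersion ((Over.forget S).map g) := hg
        exact (inferInstance : Etale ((Over.forget S).map g))) _ hιWo
    have hqfW : LocP (@LocallyQuasiFinite ⊓ @LocallyOfFiniteType) (ιW ≫ f') := by
      intro U V a b k ha hb comm
      exact hqf' (a ≫ ιW) b k ((RepWith @Etale).comp_mem _ _ ha hιWe) hb
        (by rw [Category.assoc]; exact comm)
    -- the complement of the diagonal
    have hq : offDiagFst π ≫ π = offDiagSnd π ≫ π := offDiagFst_comp π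
    -- `X* = X' ×_{T', q₀} T*`
    obtain ⟨x1, hx1def⟩ : ∃ m, m = pullback.fst f' ((yon S).map (offDiagFst π)) := ⟨_, rfl⟩
    obtain ⟨x2, hx2def⟩ : ∃ m, m = pullback.snd f' ((yon S).map (offDiagFst π)) := ⟨_, rfl⟩
    have sq0 : IsPullback x1 x2 f' ((yon S).map (offDiagFst π)) := by
      rw [hx1def, hx2def]; exact IsPullback.of_hasPullback _ _
    have big : IsPullback (x1 ≫ p) x2 f ((yon S).map (offDiagSnd π) ≫ (yon S).map π) := by
      have := sq0.paste_horiz sq
      rwa [← Functor.map_comp, hq, Functor.map_comp] at this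
    obtain ⟨r, hr1, hr2⟩ : ∃ r, r ≫ p = x1 ≫ p ∧ r ≫ f' = x2 ≫ (yon S).map (offDiagSnd π) :=
      ⟨sq.lift (x1 ≫ p) (x2 ≫ (yon S).map (offDiagSnd π))
        (by rw [Category.assoc, Category.assoc]; exact big.w), sq.lift_fst _ _ _, sq.lift_snd _ _ _⟩
    have sqr : IsPullback r x2 f' ((yon S).map (offDiagSnd π)) :=
      IsPullback.of_right (by rw [hr1]; exact big) hr2 sq
    -- `Y = W' ×_{T', q₁} T*`
    obtain ⟨y1, hy1def⟩ : ∃ m, m = pullback.fst (ιW ≫ f') ((yon S).map (offDiagSnd π)) := ⟨_, rfl⟩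
    obtain ⟨y2, hy2def⟩ : ∃ m, m = pullback.snd (ιW ≫ f') ((yon S).map (offDiagSnd π)) := ⟨_, rfl⟩
    have sqY : IsPullback y1 y2 (ιW ≫ f') ((yon S).map (offDiagSnd π)) := by
      rw [hy1def, hy2def]; exact IsPullback.of_hasPullback _ _
    obtain ⟨j, hj1, hj2⟩ : ∃ j, j ≫ r = y1 ≫ ιW ∧ j ≫ x2 = y2 :=
      ⟨sqr.lift (y1 ≫ ιW) y2 (by rw [Category.assoc]; exact sqY.w), sqr.lift_fst _ _ _,
        sqr.lift_snd _ _ _⟩
    have sqj : IsPullback y1 j ιW r := IsPullback.of_bot (by rw [hj2]; exact sqY) hj1.symm sqr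
    have hjo : RepWith @IsOpenImmersion j := (RepWith @IsOpenImmersion).of_isPullback sqj hιWo
    have hx1 : Representable x1 :=
      (Functor.relativelyRepresentable.isStableUnderBaseChange (yon S)).of_isPullback sq0.flip
        (representable_yon_map (offDiagFst π))
    have hg : Representable (j ≫ x1) :=
      (Representable (S := S)).comp_mem _ _ hjo.rep hx1
    -- the open and closed subset `B` of `Y`
    have hBo : IsOpen (Points.map (j ≫ x1) ⁻¹' A) := hA.preimage (Points.continuous_map _)
    have hBc : IsOpen (Points.map (j ≫ x1) ⁻¹' A)ᶜ := by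
      rw [← Set.preimage_compl]; exact hA'.preimage (Points.continuous_map _)
    have hrepB := isRepresentable_preimage (j ≫ x1) hg A hA hrepA
    have hsurjB : ∀ w : Points (openSub X' Aᶜ),
        ∃ b ∈ Points.map (j ≫ x1) ⁻¹' A, Points.map y1 b = w := by
      intro w₀
      have hw : Points.map ιW w₀ ∈ Aᶜ := hιWr.le ⟨_, rfl⟩
      obtain ⟨a, haA, hpa⟩ := hsurjA (Points.map p (Points.map ιW w₀))
      have hne : a ≠ Points.map ιW w₀ := fun h => hw (h ▸ haA)
      obtain ⟨ys, hys1, hys2⟩ := exists_offDiag_point π sq a (Points.map ιW w₀) hne hpa r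
        (by rw [hr1, hx1def]) (by rw [hr2, hx2def])
      obtain ⟨y, hy1, hy2⟩ := points_exists_of_isPullback sqj w₀ ys hys2.symm
      refine ⟨y, ?_, hy1⟩
      change Points.map (j ≫ x1) y ∈ A
      rw [Points.map_comp, hy2, hx1def, hys1]
      exact haA
    have hW'rep : (openSub X' Aᶜ).obj.IsRepresentable :=
      ih (offDiagSnd π) (bddFib_offDiagSnd π hN) hW' (ιW ≫ f') hsepW hqfW sqY
        (Points.map (j ≫ x1) ⁻¹' A) hBo hBc hrepB hsurjB
    exact isRepresentable_of_descent' f π sq (isRepresentable_of_clopen A hA hA' hrepA hW'rep)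
      hsep' hqf' (fun x => by obtain ⟨a, -, ha⟩ := hsurjA x; exact ⟨a, ha⟩)

end Groth.Agent.Lib.Helper23.SLQ
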