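import Groth.Agent.Lib.Helper23.SLQRes
import Groth.Agent.Lib.Helper23.SLQInd
import Groth.Agent.Lib.Helper36.AlgSpCharts

/-!
# Finite étale pieces of separated spaces (helper23)

* `repWith_isFinite_of_sep`: a scheme finite over `T'` mapping to a sheaf separated over `T'` does so
  by a finite morphism;
* `isClosed_range_ofPt_of_finite`: the image of a finite morphism is closed;
* `exists_closed_bad_locus`: a finite étale `h_V ⟶ X'` with a single point over `t'`, injective on
  field-valued points there, is a monomorphism away from a closed subset of `T'` not containing `t'`.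
-/

set_option autoImplicit false
universe u
open CategoryTheory CategoryTheory.Limits AlgebraicGeometry Opposite

namespace Groth.Agent.Lib.Helper23.SLQ

open AlgSp Groth.Agent.Lib.Helper36.OpenSubspace Groth.Agent.Lib.Helper37.AlgSpPoints
  Groth.Agent.Lib.Helper23.AlgSpMor Groth.Agent.Lib.Helper36.AlgSpCharts

variable {S : Scheme.{u}}

/-- **Lemma F.** A morphism from a scheme finite over `T'` to a sheaf separated over `T'` is
representable by finite morphisms. -/
theorem repWith_isFinite_of_sep {X' : Sp S} {T' V : Over S} (F : X' ⟶ (yon S).obj T')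
    (hsep : IsSeparatedMor F) (v : (yon S).obj V ⟶ X') (k : V ⟶ T')
    (hk : v ≫ F = (yon S).map k) [IsFinite k.left] : RepWith @IsFinite v := by
  haveI : MorphismProperty.RespectsIso
      (MorphismProperty.inverseImage (@IsFinite : MorphismProperty Scheme.{u}) (Over.forget S)) :=
    AlgSp.inverseImage_forget_respectsIso _
  apply MorphismProperty.relative.of_exists
  intro W c
  obtain ⟨m, hm⟩ := (yon S).map_surjective (c ≫ F)
  have hQ : IsPullback ((yon S).map (pullback.fst k m)) ((yon S).map (pullback.snd k m))
      (v ≫ F) (c ≫ F) := by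
    rw [hk, ← hm]
    exact (IsPullback.of_hasPullback k m).map (yon S)
  let w : (yon S).obj (pullback k m) ⟶ pullback F F :=
    pullback.lift ((yon S).map (pullback.fst k m) ≫ v) ((yon S).map (pullback.snd k m) ≫ c)
      (by rw [Category.assoc, Category.assoc]; exact hQ.w)
  have hR := hsep.rep.isPullback w
  have hpb := isPullback_of_diagonal F v c hQ w (pullback.lift_fst _ _ _) (pullback.lift_snd _ _ _)
    hR
  have hcl : IsClosedImmersion (hsep.rep.snd w).left := hsep.property_snd w
  have hfin : IsFinite (pullback.snd k m).left := by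
    have sq : IsPullback (pullback.fst k m).left (pullback.snd k m).left k.left m.left :=
      (IsPullback.of_hasPullback k m).map (Over.forget S)
    exact MorphismProperty.of_isPullback (P := @IsFinite) sq inferInstance
  refine ⟨hsep.rep.pullback w, (yon S).map (hsep.rep.snd w ≫ pullback.fst k m),
    hsep.rep.snd w ≫ pullback.snd k m, ?_, ?_⟩
  · rw [Functor.map_comp, Functor.map_comp]
    exact hpb
  · change IsFinite ((hsep.rep.snd w).left ≫ (pullback.snd k m).left)
    infer_instance


/-- The image of a finite morphism from a scheme is closed. -/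
theorem isClosed_range_ofPt_of_finite {X' : Sp S} {V : Over S} (v : (yon S).obj V ⟶ X')
    (hv : RepWith @IsFinite v) : IsClosed (Set.range (Points.ofPt v)) := by
  rw [← isOpen_compl_iff]
  refine Points.isOpen_iff.2 fun W g => ?_
  have sq := hv.rep.isPullback' g
  have hfin : IsFinite (hv.rep.snd g).left := hv.property_snd g
  rw [Set.preimage_compl, ← Set.image_univ, preimage_image_ofPt sq Set.univ, Set.preimage_univ,
    Set.image_univ, isOpen_compl_iff]
  exact (hv.rep.snd g).left.isClosedMap.isClosed_range


/-- **The bad locus.** For `vX : h_V ⟶ X'` étale and finite over `T'`, with a single point `v` over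
`t' = k v` at which `k` is injective on field-valued points, there is a closed subset of `T'`
avoiding `t'` away from which `vX` is a monomorphism. -/
theorem exists_closed_bad_locus {X' : Sp S} {T' V : Over S} (F : X' ⟶ (yon S).obj T')
    (vX : (yon S).obj V ⟶ X') (k : V ⟶ T') (hk : vX ≫ F = (yon S).map k)
    (he : RepWith @Etale vX) (hfin : RepWith @IsFinite vX) [IsFinite k.left] (v : ↥V.left)
    (huniq : ∀ w, k.left w = k.left v → w = v) (hinj : InjAt k.left v) :
    ∃ C : Set ↥T'.left, IsClosed C ∧ k.left v ∉ C ∧
      ∀ (Z : Over S) (β₀ β₁ : Z ⟶ V), (yon S).map β₀ ≫ vX = (yon S).map β₁ ≫ vX →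
        (∀ z, k.left (β₀.left z) ∉ C) → β₀ = β₁ := by
  obtain ⟨R, r0, r1, sq⟩ := exists_isPullback_yon vX vX he.rep
  haveI r0e : Etale r0.left := prop_fst_of_isPullback sq he
  haveI r0f : IsFinite r0.left := prop_fst_of_isPullback sq hfin
  have hrk : r0 ≫ k = r1 ≫ k := by
    apply (yon S).map_injective
    rw [Functor.map_comp, Functor.map_comp, ← hk, ← Category.assoc, sq.w, Category.assoc]
  have hrk' : r0.left ≫ k.left = r1.left ≫ k.left := congrArg CommaMorphism.left hrk
  obtain ⟨δ', hδ1, hδ2⟩ := sq.exists_lift (𝟙 _) (𝟙 _) rfl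
  obtain ⟨δ, rfl⟩ := (yon S).map_surjective δ'
  have e1 : δ ≫ r0 = 𝟙 _ := (yon S).map_injective (by simpa using hδ1)
  have e2 : δ ≫ r1 = 𝟙 _ := (yon S).map_injective (by simpa using hδ2)
  have e1' : δ.left ≫ r0.left = 𝟙 _ := by rw [← Over.comp_left, e1]; rfl
  have e2' : δ.left ≫ r1.left = 𝟙 _ := by rw [← Over.comp_left, e2]; rfl
  haveI : Etale (δ.left ≫ r0.left) := by rw [e1']; infer_instance
  haveI hδe : Etale δ.left := Etale.of_comp δ.left r0.left
  haveI : Mono δ.left := mono_of_mono_fac e1'
  haveI hδo : IsOpenImmersion δ.left := IsOpenImmersion.of_flat_of_mono δ.left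
  haveI : IsClosedImmersion (δ.left ≫ r0.left) := by rw [e1']; infer_instance
  haveI hδc : IsClosedImmersion δ.left := IsClosedImmersion.of_comp δ.left r0.left
  refine ⟨(r0.left ≫ k.left) '' (Set.range δ.left)ᶜ, ?_, ?_, ?_⟩
  · exact (r0.left ≫ k.left).isClosedMap _ δ.left.isOpenEmbedding.isOpen_range.isClosed_compl
  · rintro ⟨d, hd, hdk⟩
    have h0 : r0.left d = v := huniq _ hdk
    have h1 : r1.left d = v := huniq _ (by
      have : (r1.left ≫ k.left) d = k.left v := by rw [← hrk']; exact hdk
      exact this)
    let ε : Spec (CommRingCat.of ↑(R.left.residueField d)) ⟶ R.left := R.left.fromSpecResidueField d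
    have hεpt : ε (IsLocalRing.closedPoint ↑(R.left.residueField d)) = d :=
      Scheme.fromSpecResidueField_apply _ _
    have ha : ε ≫ r0.left = ε ≫ r1.left := by
      apply hinj ↑(R.left.residueField d)
      · change r0.left (ε _) = v
        rw [hεpt, h0]
      · change r1.left (ε _) = v
        rw [hεpt, h1]
      · rw [Category.assoc, Category.assoc, hrk']
    let εO : Over.mk (ε ≫ R.hom) ⟶ R := Over.homMk ε rfl
    have hεO : εO ≫ r0 = εO ≫ r1 := by ext1; exact ha
    have key : εO = (εO ≫ r0) ≫ δ := by
      apply (yon S).map_injective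
      apply sq.hom_ext
      · rw [← Functor.map_comp, ← Functor.map_comp, Category.assoc, e1, Category.comp_id]
      · rw [← Functor.map_comp, ← Functor.map_comp, Category.assoc, e2, Category.comp_id, hεO]
    apply hd
    have key' : ε = (εO ≫ r0).left ≫ δ.left := congrArg CommaMorphism.left key
    refine ⟨(εO ≫ r0).left (IsLocalRing.closedPoint ↑(R.left.residueField d)), ?_⟩
    have h2 : ((εO ≫ r0).left ≫ δ.left) (IsLocalRing.closedPoint ↑(R.left.residueField d)) = d := by
      rw [← key']; exact hεpt
    exact h2
  · intro Z β₀ β₁ hβ hC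
    obtain ⟨γ', hγ1, hγ2⟩ := sq.exists_lift _ _ hβ
    obtain ⟨γ, rfl⟩ := (yon S).map_surjective γ'
    have g1 : γ ≫ r0 = β₀ := (yon S).map_injective (by simpa using hγ1)
    have g2 : γ ≫ r1 = β₁ := (yon S).map_injective (by simpa using hγ2)
    have hr : Set.range γ.left ⊆ Set.range δ.left := by
      rintro _ ⟨z, rfl⟩
      by_contra hcon
      apply hC z
      refine ⟨γ.left z, hcon, ?_⟩
      rw [← g1]
      rfl
    let l := IsOpenImmersion.lift δ.left γ.left hr
    have hl : l ≫ δ.left = γ.left := IsOpenImmersion.lift_fac _ _ _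
    ext1
    rw [← g1, ← g2, Over.comp_left, Over.comp_left, ← hl, Category.assoc, Category.assoc, e1', e2']

end Groth.Agent.Lib.Helper23.SLQ
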