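import Groth.Agent.Lib.Helper23.SLQFin

/-!
# Local data for separated locally quasi-finite spaces (helper23)

`exists_local_data`: for `f : X ⟶ h_T` separated and locally quasi-finite with `T` affine and a point
`u` of an affine étale chart of `X`, an affine étale `T' ⟶ T` and an open and closed subset of
`X ×_T T'` which is a scheme and whose image in `X` contains the image of `u`.
-/

set_option autoImplicit false
universe u
open CategoryTheory CategoryTheory.Limits AlgebraicGeometry Opposite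

namespace Groth.Agent.Lib.Helper23.SLQ

open AlgSp Groth.Agent.Lib.Helper36.OpenSubspace Groth.Agent.Lib.Helper37.AlgSpPoints
  Groth.Agent.Lib.Helper23.AlgSpMor Groth.Agent.Lib.Helper36.AlgSpCharts

variable {S : Scheme.{u}}

theorem repWith_etale_comp {X Y Z : Sp S} {f : X ⟶ Y} {g : Y ⟶ Z} (hf : RepWith @Etale f)
    (hg : RepWith @Etale g) : RepWith @Etale (f ≫ g) :=
  (AlgSp.repWith_isMultiplicative (S := S) @Etale).comp_mem _ _ hf hg

theorem repWith_etale_of_isPullback {X Y Y' Z : Sp S} {f : X ⟶ Z} {g : Y ⟶ Z} {f' : Y' ⟶ Y}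
    {g' : Y' ⟶ X} (sq : IsPullback f' g' g f) (hg : RepWith @Etale g) : RepWith @Etale g' :=
  (MorphismProperty.relative_isStableUnderBaseChange _).of_isPullback sq hg

/-- The morphism `h_V ⟶ X ×_T T'` induced by an open subscheme `V` of `U ×_T T'`, for an étale chart
`U` of `X`, is étale. -/
theorem repWith_etale_lift {X : Sp S} {T U T' V : Over S} (f : X ⟶ (yon S).obj T)
    (a : (yon S).obj U ⟶ X) (ha : RepWith @Etale a) (h : U ⟶ T) (hh : (yon S).map h = a ≫ f)
    (π : T' ⟶ T) (j : V ⟶ U) (k : V ⟶ T') (comm : j ≫ h = k ≫ π)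
    (comm' : j.left ≫ h.left = k.left ≫ π.left)
    (hopen : IsOpenImmersion (pullback.lift j.left k.left comm'))
    (w : ((yon S).map j ≫ a) ≫ f = (yon S).map k ≫ (yon S).map π) :
    RepWith @Etale (pullback.lift ((yon S).map j ≫ a) ((yon S).map k) w :
      (yon S).obj V ⟶ pullback f ((yon S).map π)) := by
  have sqO : IsPullback (pullback.fst h π).left (pullback.snd h π).left h.left π.left :=
    (IsPullback.of_hasPullback h π).map (Over.forget S)
  let lO : V ⟶ pullback h π := pullback.lift j k comm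
  have hlO : lO.left ≫ sqO.isoPullback.hom = pullback.lift j.left k.left comm' := by
    apply pullback.hom_ext
    · rw [Category.assoc, sqO.isoPullback_hom_fst, pullback.lift_fst, ← Over.comp_left,
        pullback.lift_fst]
    · rw [Category.assoc, sqO.isoPullback_hom_snd, pullback.lift_snd, ← Over.comp_left,
        pullback.lift_snd]
  have hlOo : IsOpenImmersion lO.left := by
    have : lO.left = pullback.lift j.left k.left comm' ≫ sqO.isoPullback.inv := by
      rw [← hlO, Category.assoc, Iso.hom_inv_id, Category.comp_id]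
    rw [this]
    infer_instance
  have w' : ((yon S).map (pullback.fst h π) ≫ a) ≫ f =
      (yon S).map (pullback.snd h π) ≫ (yon S).map π := by
    rw [Category.assoc, ← hh, ← Functor.map_comp, ← Functor.map_comp, pullback.condition]
  let a' : (yon S).obj (pullback h π) ⟶ pullback f ((yon S).map π) :=
    pullback.lift ((yon S).map (pullback.fst h π) ≫ a) ((yon S).map (pullback.snd h π)) w'
  have houter : IsPullback ((yon S).map (pullback.fst h π))
      (a' ≫ pullback.snd f ((yon S).map π)) (a ≫ f) ((yon S).map π) := by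
    rw [pullback.lift_snd, ← hh]
    exact (IsPullback.of_hasPullback h π).map (yon S)
  have sqa : IsPullback ((yon S).map (pullback.fst h π)) a' a (pullback.fst f ((yon S).map π)) :=
    IsPullback.of_bot houter (pullback.lift_fst _ _ _).symm (IsPullback.of_hasPullback _ _)
  have ha' : RepWith @Etale a' := repWith_etale_of_isPullback sqa ha
  have hfac : pullback.lift ((yon S).map j ≫ a) ((yon S).map k) w = (yon S).map lO ≫ a' := by
    apply pullback.hom_ext
    · rw [pullback.lift_fst, Category.assoc, pullback.lift_fst, ← Category.assoc,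
        ← Functor.map_comp, pullback.lift_fst]
    · rw [pullback.lift_snd, Category.assoc, pullback.lift_snd, ← Functor.map_comp,
        pullback.lift_snd]
  rw [hfac]
  refine repWith_etale_comp ((repWith_yon_map_iff _ _).2 ?_) ha'
  exact (inferInstance : Etale lO.left)


theorem range_map_eq_range_ofPt {X : Sp S} {V : Over S} (v : (yon S).obj V ⟶ X) :
    Set.range (Points.map v) = Set.range (Points.ofPt v) := by
  apply Set.Subset.antisymm
  · rintro _ ⟨y, rfl⟩
    refine ⟨Points.toScheme V y, ?_⟩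
    rw [Points.ofPt_eq_map_ofScheme, Points.ofScheme_toScheme]
  · rintro _ ⟨t, rfl⟩
    exact ⟨Points.ofScheme V t, (Points.ofPt_eq_map_ofScheme v t).symm⟩

open Groth.Agent.Lib.Helper5.LocalRep in
/-- **Local data.** For a separated locally quasi-finite `f : X ⟶ h_T` (with `T` affine), an affine
étale chart `U` of `X` and a point `u` of `U`, there are an étale `T' ⟶ T` with `T'` affine and an
open and closed subset `A` of `X ×_T T'` which is a scheme and whose image contains the image of
`u`. -/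
theorem exists_local_data {T U : Over S} [IsAffine T.left] [IsAffine U.left] {X : Sp S}
    (f : X ⟶ (yon S).obj T) (hsep : IsSeparatedMor f)
    (hqf : LocP (@LocallyQuasiFinite ⊓ @LocallyOfFiniteType) f)
    (a : (yon S).obj U ⟶ X) (ha : RepWith @Etale a) (u : ↥U.left) :
    ∃ (T' : Over S) (π : T' ⟶ T), IsAffine T'.left ∧ Etale π.left ∧
      ∃ A : Set (Points (pullback f ((yon S).map π))), IsOpen A ∧ IsOpen Aᶜ ∧
        (openSub (pullback f ((yon S).map π)) A).obj.IsRepresentable ∧
        ∃ y ∈ A, Points.map (pullback.fst f ((yon S).map π)) y = Points.ofPt a u := by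
  obtain ⟨h, hh⟩ := (yon S).map_surjective (a ≫ f)
  have hid : RepWith @Etale (𝟙 ((yon S).obj T)) :=
    (AlgSp.repWith_isMultiplicative (S := S) @Etale).id_mem _
  have hP := hqf a (𝟙 _) h ha hid (by rw [hh, Category.comp_id])
  haveI : LocallyQuasiFinite h.left := hP.1
  haveI : LocallyOfFiniteType h.left := hP.2
  haveI : IsSeparated h.left := inferInstance
  obtain ⟨T'₀, π₀, t', V₀, j₀, k₀, v, comm₀, hπ₀, hk₀, hopen, hjv, hkv, huniq, hinj⟩ :=
    exists_local_structure h.left u
  -- structures over `S`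
  let T'₁ : Over S := Over.mk (π₀ ≫ T.hom)
  let π₁ : T'₁ ⟶ T := Over.homMk π₀ rfl
  let V₁ : Over S := Over.mk (k₀ ≫ π₀ ≫ T.hom)
  let k₁ : V₁ ⟶ T'₁ := Over.homMk k₀ rfl
  let j₁ : V₁ ⟶ U := Over.homMk j₀ (by
    change j₀ ≫ U.hom = k₀ ≫ π₀ ≫ T.hom
    rw [← Over.w h, ← Category.assoc, comm₀, Category.assoc])
  have comm₁ : j₁ ≫ h = k₁ ≫ π₁ := by ext1; exact comm₀
  have w₁ : ((yon S).map j₁ ≫ a) ≫ f = (yon S).map k₁ ≫ (yon S).map π₁ := by
    rw [Category.assoc, ← hh, ← Functor.map_comp, ← Functor.map_comp, comm₁]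
  obtain ⟨vX₁, hvX₁⟩ : ∃ m : (yon S).obj V₁ ⟶ pullback f ((yon S).map π₁),
      m = pullback.lift ((yon S).map j₁ ≫ a) ((yon S).map k₁) w₁ := ⟨_, rfl⟩
  have hvX₁1 : vX₁ ≫ pullback.fst f ((yon S).map π₁) = (yon S).map j₁ ≫ a := by
    rw [hvX₁]; exact pullback.lift_fst _ _ _
  have hvX₁2 : vX₁ ≫ pullback.snd f ((yon S).map π₁) = (yon S).map k₁ := by
    rw [hvX₁]; exact pullback.lift_snd _ _ _
  have he₁ : RepWith @Etale vX₁ := by
    rw [hvX₁]
    exact repWith_etale_lift f a ha h hh π₁ j₁ k₁ comm₁ comm₀ hopen w₁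
  have hsep₁ : IsSeparatedMor (pullback.snd f ((yon S).map π₁)) :=
    isSeparatedMor_of_isPullback (IsPullback.of_hasPullback _ _) hsep
  haveI : IsFinite k₁.left := hk₀
  have hfin₁ : RepWith @IsFinite vX₁ := repWith_isFinite_of_sep _ hsep₁ vX₁ k₁ hvX₁2
  obtain ⟨C, hC, hvC, hCprop⟩ := exists_closed_bad_locus _ vX₁ k₁ hvX₁2 he₁ hfin₁ v
    (fun w hw => huniq w (hw.trans hkv)) hinj
  -- an affine open neighbourhood of `t'` avoiding the bad locus
  obtain ⟨_, ⟨O, hO, rfl⟩, htO, hOC⟩ := T'₀.isBasis_affineOpens.exists_subset_of_mem_open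
    (show k₀ v ∈ Cᶜ from hvC) hC.isOpen_compl
  -- the restricted data
  let OV : V₁.left.Opens := k₁.left ⁻¹ᵁ O
  obtain ⟨k', hk'def⟩ : ∃ m : overOpens V₁ OV ⟶ overOpens T'₁ O, m = overResLE k₁ O OV le_rfl :=
    ⟨_, rfl⟩
  have hk'ι : k' ≫ overOpensι T'₁ O = overOpensι V₁ OV ≫ k₁ := by
    rw [hk'def]; exact overResLE_ι _ _ _ _
  have comm' : (overOpensι V₁ OV ≫ j₁) ≫ h = k' ≫ overOpensι T'₁ O ≫ π₁ := by
    rw [Category.assoc, comm₁, ← Category.assoc, ← hk'ι, Category.assoc]
  have w' : ((yon S).map (overOpensι V₁ OV ≫ j₁) ≫ a) ≫ f =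
      (yon S).map k' ≫ (yon S).map (overOpensι T'₁ O ≫ π₁) := by
    rw [Category.assoc, ← hh, ← Functor.map_comp, ← Functor.map_comp, comm']
  obtain ⟨vX, hvX⟩ : ∃ m : (yon S).obj (overOpens V₁ OV) ⟶
      pullback f ((yon S).map (overOpensι T'₁ O ≫ π₁)),
      m = pullback.lift ((yon S).map (overOpensι V₁ OV ≫ j₁) ≫ a) ((yon S).map k') w' := ⟨_, rfl⟩
  have hvX1 : vX ≫ pullback.fst f ((yon S).map (overOpensι T'₁ O ≫ π₁)) =
      (yon S).map (overOpensι V₁ OV ≫ j₁) ≫ a := by rw [hvX]; exact pullback.lift_fst _ _ _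
  have hvX2 : vX ≫ pullback.snd f ((yon S).map (overOpensι T'₁ O ≫ π₁)) = (yon S).map k' := by
    rw [hvX]; exact pullback.lift_snd _ _ _
  -- comparison with the unrestricted data
  have wι : pullback.fst f ((yon S).map (overOpensι T'₁ O ≫ π₁)) ≫ f =
      (pullback.snd f ((yon S).map (overOpensι T'₁ O ≫ π₁)) ≫
        (yon S).map (overOpensι T'₁ O)) ≫ (yon S).map π₁ := by
    rw [Category.assoc, ← Functor.map_comp]; exact pullback.condition
  obtain ⟨ιX, hιX1, hιX2⟩ : ∃ m : pullback f ((yon S).map (overOpensι T'₁ O ≫ π₁)) ⟶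
      pullback f ((yon S).map π₁), m ≫ pullback.fst f ((yon S).map π₁) = pullback.fst f _ ∧
      m ≫ pullback.snd f ((yon S).map π₁) = pullback.snd f _ ≫ (yon S).map (overOpensι T'₁ O) :=
    ⟨pullback.lift _ _ wι, pullback.lift_fst _ _ _, pullback.lift_snd _ _ _⟩
  haveI : Mono ιX := ⟨fun a b hab => by
    apply pullback.hom_ext
    · have := congrArg (· ≫ pullback.fst f ((yon S).map π₁)) hab
      simpa only [Category.assoc, hιX1] using this
    · have := congrArg (· ≫ pullback.snd f ((yon S).map π₁)) hab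
      simp only [Category.assoc, hιX2] at this
      rw [← Category.assoc, ← Category.assoc, cancel_mono] at this
      exact this⟩
  have hvι : vX ≫ ιX = (yon S).map (overOpensι V₁ OV) ≫ vX₁ := by
    apply pullback.hom_ext
    · rw [Category.assoc, hιX1, hvX1, Category.assoc, hvX₁1, Functor.map_comp, Category.assoc]
    · rw [Category.assoc, hιX2, ← Category.assoc, hvX2, Category.assoc, hvX₁2,
        ← Functor.map_comp, hk'ι, Functor.map_comp]
  have he : RepWith @Etale vX := by
    apply repWith_of_comp_mono _ vX ιX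
    rw [hvι]
    refine repWith_etale_comp ((repWith_yon_map_iff _ _).2 ?_) he₁
    change Etale OV.ι
    infer_instance
  have hsep' : IsSeparatedMor (pullback.snd f ((yon S).map (overOpensι T'₁ O ≫ π₁))) :=
    isSeparatedMor_of_isPullback (IsPullback.of_hasPullback _ _) hsep
  haveI : IsFinite k'.left := by
    rw [hk'def]
    change IsFinite (k₀.resLE O (k₀ ⁻¹ᵁ O) le_rfl)
    rw [Scheme.Hom.resLE_eq_morphismRestrict]
    infer_instance
  have hfin : RepWith @IsFinite vX := repWith_isFinite_of_sep _ hsep' vX k' hvX2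
  haveI hmono : Mono vX := by
    refine mono_of_yon_cancel vX fun Z b₀ b₁ hb => ?_
    obtain ⟨β₀, rfl⟩ := (yon S).map_surjective b₀
    obtain ⟨β₁, rfl⟩ := (yon S).map_surjective b₁
    congr 1
    have h1 : β₀ ≫ overOpensι V₁ OV = β₁ ≫ overOpensι V₁ OV := by
      apply hCprop
      · rw [Functor.map_comp, Functor.map_comp, Category.assoc, Category.assoc, ← hvι,
          ← Category.assoc, ← Category.assoc, hb]
      · intro z
        apply hOC
        exact (β₀.left z).2
    exact (cancel_mono (overOpensι V₁ OV)).1 h1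
  have hvo : RepWith @IsOpenImmersion vX := ⟨he.rep, fun W P g fst snd sqg => by
    haveI : Etale snd.left := he.property g fst snd sqg
    haveI : Mono ((yon S).map snd) := sqg.mono_snd_of_mono
    haveI : Mono snd := (yon S).mono_of_mono_map this
    haveI : Mono snd.left := inferInstance
    exact IsOpenImmersion.of_flat_of_mono snd.left⟩
  refine ⟨overOpens T'₁ O, overOpensι T'₁ O ≫ π₁, hO, ?_, Set.range (Points.ofPt vX), ?_, ?_, ?_, ?_⟩
  · change Etale (Scheme.Opens.ι (X := T'₀) O ≫ π₀)
    infer_instance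
  · exact (isOpenMap_ofPt vX he).isOpen_range
  · exact (isClosed_range_ofPt_of_finite vX hfin).isOpen_compl
  · obtain ⟨e, -⟩ := exists_iso_openSub vX hvo
    have := isRepresentable_of_iso e
    rwa [range_map_eq_range_ofPt] at this
  · have hvO : v ∈ OV := htO
    refine ⟨Points.ofPt vX (⟨v, hvO⟩ : ↥OV), ⟨_, rfl⟩, ?_⟩
    have e1 : Points.map (pullback.fst f ((yon S).map (overOpensι T'₁ O ≫ π₁)))
        (Points.ofPt vX (⟨v, hvO⟩ : ↥OV)) =
        Points.ofPt (vX ≫ pullback.fst f ((yon S).map (overOpensι T'₁ O ≫ π₁)))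
          (⟨v, hvO⟩ : ↥OV) := rfl
    rw [e1, hvX1]
    have e2 := ofPt_map_comp (overOpensι V₁ OV ≫ j₁) a (⟨v, hvO⟩ : ↥OV)
    refine e2.trans ?_
    congr 1

end Groth.Agent.Lib.Helper23.SLQ
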