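import Mathlib
import Groth.Agent.S9734
import Groth.Agent.S0408
import Groth.Agent.Lib.Helper36.ResTrdeg

/-!
# Local structure of quasi-finite separated morphisms after étale localization (helper23)

* `InjAt k v`: `k` is injective on field-valued points located at `v`;
* `exists_etale_nbhd_injAt`: residue field enlargement (via S9734);
* `exists_local_structure`: after an étale base change `T' ⟶ T`, an open and closed piece of
  `U ×_T T'` finite over `T'` with a single point over `t'`, at which it is injective on field-valued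
  points (via S0408).
-/

set_option autoImplicit false
universe u
open CategoryTheory CategoryTheory.Limits AlgebraicGeometry Opposite

namespace Groth.Agent.Lib.Helper23.SLQ

/-- A morphism from the spectrum of a field factors through the residue field of its image. -/
theorem exists_factor_fromSpecResidueField {K : Type u} [Field K] (X : Scheme.{u})
    (f : Spec (CommRingCat.of K) ⟶ X) (x : X) (hx : f (IsLocalRing.closedPoint K) = x) :
    ∃ φ : X.residueField x ⟶ CommRingCat.of K, Spec.map φ ≫ X.fromSpecResidueField x = f := by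
  subst hx
  exact ⟨_, Scheme.descResidueField_stalkClosedPointTo_fromSpecResidueField K X f⟩

/-- `InjAt k v`: the morphism `k` is injective on field-valued points located at `v`. -/
def InjAt {V T : Scheme.{u}} (k : V ⟶ T) (v : V) : Prop :=
  ∀ (K : Type u) [Field K] (a₀ a₁ : Spec (CommRingCat.of K) ⟶ V),
    a₀ (IsLocalRing.closedPoint K) = v → a₁ (IsLocalRing.closedPoint K) = v →
      a₀ ≫ k = a₁ ≫ k → a₀ = a₁

/-- If `ℓ : Spec κ(u) ⟶ P` is a section over the canonical point of `u`, every field-valued point
at the same place factors through `ℓ`. -/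
theorem exists_factor_of_section {P U : Scheme.{u}} (fst : P ⟶ U) (u : U)
    (ℓ : Spec (U.residueField u) ⟶ P) (hℓ : ℓ ≫ fst = U.fromSpecResidueField u)
    {K : Type u} [Field K] (a : Spec (CommRingCat.of K) ⟶ P)
    (ha : a (IsLocalRing.closedPoint K) = ℓ (IsLocalRing.closedPoint (U.residueField u))) :
    ∃ β : U.residueField u ⟶ CommRingCat.of K, Spec.map β ≫ ℓ = a := by
  set p₁ := ℓ (IsLocalRing.closedPoint (U.residueField u)) with hp₁
  obtain ⟨ρ, hρ⟩ := exists_factor_fromSpecResidueField (K := U.residueField u) P ℓ p₁ rfl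
  obtain ⟨α, hα⟩ := exists_factor_fromSpecResidueField P a p₁ ha
  have hpt : (P.fromSpecResidueField p₁ ≫ fst)
      (IsLocalRing.closedPoint (P.residueField p₁)) = u := by
    have h1 : (ℓ ≫ fst) (IsLocalRing.closedPoint (U.residueField u)) = u := by
      rw [hℓ]; exact Scheme.fromSpecResidueField_apply _ _
    change fst (ℓ _) = u at h1
    change fst (P.fromSpecResidueField p₁ _) = u
    have h2 := Scheme.fromSpecResidueField_apply (X := P) p₁
      (IsLocalRing.closedPoint (P.residueField p₁))
    exact (congrArg fst h2).trans h1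
  obtain ⟨θ, hθ⟩ := exists_factor_fromSpecResidueField (K := P.residueField p₁) U
    (P.fromSpecResidueField p₁ ≫ fst) u hpt
  have h1 : θ ≫ ρ = 𝟙 _ := by
    have e1 : Spec.map (θ ≫ ρ) ≫ U.fromSpecResidueField u = U.fromSpecResidueField u := by
      rw [Spec.map_comp, Category.assoc, hθ, ← Category.assoc, hρ, hℓ]
    have e2 : Spec.map (𝟙 (U.residueField u)) ≫ U.fromSpecResidueField u =
        U.fromSpecResidueField u := by
      rw [Spec.map_id]; exact Category.id_comp _
    exact Spec.map_injective ((cancel_mono (U.fromSpecResidueField u)).1 (e1.trans e2.symm))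
  have h2 : ρ ≫ θ = 𝟙 _ := by
    have hinj : Function.Injective ρ.hom := RingHom.injective _
    ext x
    apply hinj
    have := congrArg (fun m => m.hom (ρ.hom x)) h1
    simpa using this
  refine ⟨θ ≫ α, ?_⟩
  rw [← hρ, ← Category.assoc, ← Spec.map_comp, ← Category.assoc, h2, Category.id_comp, hα]


open Groth.Agent.Lib.Helper36.ResTrdeg in
/-- **Residue field enlargement.** For a locally quasi-finite morphism `h : U ⟶ T` and a point `u`
there are an étale `π₁ : T₁ ⟶ T` and a point `u₁` of `U ×_T T₁` over `u` at which the projection to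
`T₁` is injective on field-valued points (the residue field extension is purely inseparable). -/
theorem exists_etale_nbhd_injAt {U T : Scheme.{u}} (h : U ⟶ T) [LocallyQuasiFinite h] (u : U) :
    ∃ (T₁ : Scheme.{u}) (π₁ : T₁ ⟶ T) (u₁ : ↑(pullback h π₁)), Etale π₁ ∧
      pullback.fst h π₁ u₁ = u ∧ InjAt (pullback.snd h π₁) u₁ := by
  classical
  letI alg : Algebra (T.residueField (h u)) (U.residueField u) :=
    (h.residueFieldMap u).hom.toAlgebra
  haveI hfin : Module.Finite (T.residueField (h u)) (U.residueField u) :=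
    finite_residueField_of_locallyQuasiFinite h u
  let ks := separableClosure (T.residueField (h u)) (U.residueField u)
  obtain ⟨T₁, g, t₁, ht₁, hg, he⟩ := Groth.Agent.S9734.result T (h u) ↥ks
  letI alg₁ : Algebra (T.residueField (h u)) (T₁.residueField t₁) :=
    ((T.residueFieldCongr ht₁).inv ≫ g.residueFieldMap t₁).hom.toAlgebra
  obtain ⟨e⟩ := he
  let δ : T₁.residueField t₁ ⟶ U.residueField u :=
    CommRingCat.ofHom ((ks.val.toRingHom).comp e.symm.toRingHom)
  have hδ : (T.residueFieldCongr ht₁).inv ≫ g.residueFieldMap t₁ ≫ δ = h.residueFieldMap u := by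
    ext x
    change ks.val (e.symm (algebraMap (T.residueField (h u)) (T₁.residueField t₁) x)) = _
    rw [e.symm.commutes]
    rfl
  have comm : U.fromSpecResidueField u ≫ h =
      (Spec.map δ ≫ T₁.fromSpecResidueField t₁) ≫ g := by
    rw [← Scheme.Hom.SpecMap_residueFieldMap_fromSpecResidueField, Category.assoc,
      ← Scheme.Hom.SpecMap_residueFieldMap_fromSpecResidueField,
      ← T.residueFieldCongr_fromSpecResidueField ht₁.symm, ← Spec.map_comp_assoc,
      ← Spec.map_comp_assoc, ← hδ]
    rfl
  let ℓ : Spec (U.residueField u) ⟶ pullback h g :=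
    pullback.lift (U.fromSpecResidueField u) (Spec.map δ ≫ T₁.fromSpecResidueField t₁) comm
  have hℓ1 : ℓ ≫ pullback.fst h g = U.fromSpecResidueField u := pullback.lift_fst _ _ _
  have hℓ2 : ℓ ≫ pullback.snd h g = Spec.map δ ≫ T₁.fromSpecResidueField t₁ :=
    pullback.lift_snd _ _ _
  refine ⟨T₁, g, ℓ (IsLocalRing.closedPoint (U.residueField u)), hg, ?_, ?_⟩
  · change (ℓ ≫ pullback.fst h g) _ = u
    rw [hℓ1]
    exact Scheme.fromSpecResidueField_apply _ _
  · intro K _ a₀ a₁ ha₀ ha₁ haa
    obtain ⟨β₀, rfl⟩ := exists_factor_of_section (pullback.fst h g) u ℓ hℓ1 a₀ ha₀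
    obtain ⟨β₁, rfl⟩ := exists_factor_of_section (pullback.fst h g) u ℓ hℓ1 a₁ ha₁
    rw [Category.assoc, Category.assoc, hℓ2, ← Category.assoc, ← Category.assoc,
      cancel_mono, ← Spec.map_comp, ← Spec.map_comp] at haa
    have h1 : δ ≫ β₀ = δ ≫ β₁ := Spec.map_injective haa
    haveI : Algebra.IsAlgebraic (T.residueField (h u)) (U.residueField u) :=
      Algebra.IsAlgebraic.of_finite _ _
    haveI : IsPurelyInseparable ↥ks (U.residueField u) :=
      separableClosure.isPurelyInseparable _ _
    have h2 : β₀.hom.comp (algebraMap ↥ks (U.residueField u)) =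
        β₁.hom.comp (algebraMap ↥ks (U.residueField u)) := by
      ext x
      have hx : δ.hom (e x) = (x : U.residueField u) := by
        change ks.val (e.symm (e x)) = _
        rw [e.symm_apply_apply]
        rfl
      have := congrArg (fun m => m.hom (e x)) h1
      change β₀.hom (δ.hom (e x)) = β₁.hom (δ.hom (e x)) at this
      rw [hx] at this
      exact this
    have h3 : β₀.hom = β₁.hom :=
      IsPurelyInseparable.injective_comp_algebraMap ↥ks (U.residueField u) K h2
    have h4 : β₀ = β₁ := CommRingCat.hom_ext h3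
    rw [h4]


/-- **Local structure of a quasi-finite separated morphism at a point**, after an étale base change:
an open and closed piece `V` of `U ×_T T'` finite over `T'`, with a single point `v` over `t'`, at
which `V ⟶ T'` is injective on field-valued points. -/
theorem exists_local_structure {U T : Scheme.{u}} (h : U ⟶ T) [LocallyOfFiniteType h]
    [LocallyQuasiFinite h] [IsSeparated h] (u : U) :
    ∃ (T' : Scheme.{u}) (π : T' ⟶ T) (t' : T') (V : Scheme.{u}) (j : V ⟶ U) (k : V ⟶ T') (v : V)
      (comm : j ≫ h = k ≫ π), Etale π ∧ IsFinite k ∧ IsOpenImmersion (pullback.lift j k comm) ∧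
        j v = u ∧ k v = t' ∧ (∀ w, k w = t' → w = v) ∧ InjAt k v := by
  obtain ⟨T₁, π₁, u₁, hπ₁, hu₁, hinj⟩ := exists_etale_nbhd_injAt h u
  have hq : (pullback.snd h π₁).QuasiFiniteAt u₁ := (pullback.snd h π₁).quasiFiniteAt u₁
  obtain ⟨T₂, g, t₂, hg, hgt, -, V', v, -, hfin, hvV, hv1, hv2, -, huniq⟩ :=
    Groth.Agent.S0408.result (pullback.snd h π₁) u₁ hq
  have comm : (V'.ι ≫ pullback.fst (pullback.snd h π₁) g ≫ pullback.fst h π₁) ≫ h =
      (V'.ι ≫ pullback.snd (pullback.snd h π₁) g) ≫ g ≫ π₁ := by
    simp only [Category.assoc]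
    rw [pullback.condition, ← Category.assoc (pullback.fst (pullback.snd h π₁) g),
      pullback.condition, Category.assoc]
  have hlift : pullback.lift (V'.ι ≫ pullback.fst (pullback.snd h π₁) g ≫ pullback.fst h π₁)
      (V'.ι ≫ pullback.snd (pullback.snd h π₁) g) comm =
      V'.ι ≫ (pullbackLeftPullbackSndIso h π₁ g).hom := by
    apply pullback.hom_ext
    · rw [pullback.lift_fst, Category.assoc, pullbackLeftPullbackSndIso_hom_fst]
    · rw [pullback.lift_snd, Category.assoc, pullbackLeftPullbackSndIso_hom_snd]
  refine ⟨T₂, g ≫ π₁, t₂, V', V'.ι ≫ pullback.fst (pullback.snd h π₁) g ≫ pullback.fst h π₁,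
    V'.ι ≫ pullback.snd (pullback.snd h π₁) g, ⟨v, hvV⟩, comm, inferInstance, hfin, ?_, ?_, ?_,
    ?_, ?_⟩
  · rw [hlift]
    infer_instance
  · change pullback.fst h π₁ (pullback.fst (pullback.snd h π₁) g v) = u
    rw [hv1, hu₁]
  · exact hv2
  · intro w hw
    have := huniq (V'.ι w) hw (Or.inl w.2)
    exact Subtype.ext this
  · intro K _ a₀ a₁ ha₀ ha₁ haa
    have hb : a₀ ≫ V'.ι ≫ pullback.fst (pullback.snd h π₁) g =
        a₁ ≫ V'.ι ≫ pullback.fst (pullback.snd h π₁) g := by
      apply hinj K
      · change pullback.fst (pullback.snd h π₁) g (V'.ι (a₀ _)) = u₁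
        rw [ha₀]
        exact hv1
      · change pullback.fst (pullback.snd h π₁) g (V'.ι (a₁ _)) = u₁
        rw [ha₁]
        exact hv1
      · simp only [Category.assoc]
        rw [pullback.condition]
        simp only [← Category.assoc] at haa ⊢
        rw [haa]
    rw [← cancel_mono V'.ι]
    apply pullback.hom_ext
    · simpa only [Category.assoc] using hb
    · simpa only [Category.assoc] using haa

end Groth.Agent.Lib.Helper23.SLQ
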