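import Mathlib.AlgebraicGeometry.ZariskisMainTheorem
import Groth.Agent.Lib.Helper23.SLQMain
import Groth.Agent.Lib.Helper23.SLQFin
import Groth.Agent.Lib.Helper23.AlgSpProper2
import Groth.Agent.Lib.Helper36.QFLocus
import Groth.Agent.Lib.Helper54.SchemeIsoLocus
import Groth.Agent.Lib.Helper17.DiagMono
import Groth.Agent.Lib.Helper17.AtlasCover

/-!
# Splitting off a finite part of a separated morphism quasi-finite at a point (helper23)

Small lemmas on `IsFiniteMor`, closed-and-open immersions, and the étale localisation of a separated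
morphism of algebraic spaces at a quasi-finite point.
-/

set_option autoImplicit false
universe u
open CategoryTheory CategoryTheory.Limits AlgebraicGeometry Opposite

namespace Groth.Agent.Lib.Helper23.SLQSplit

open AlgSp Groth.Agent.Lib.Helper36.OpenSubspace Groth.Agent.Lib.Helper37.AlgSpPoints

variable {S : Scheme.{u}}

/-- `h_k` is a finite morphism of sheaves when `k` is a finite morphism of schemes. -/
theorem isFiniteMor_yon_map {V T : Over S} (k : V ⟶ T) [IsFinite k.left] :
    IsFiniteMor ((yon S).map k) := by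
  intro Z hZ g
  obtain ⟨g, rfl⟩ := (yon S).map_surjective g
  have sq : IsPullback (pullback.fst k g) (pullback.snd k g) k g := IsPullback.of_hasPullback _ _
  have sq' := sq.map (Over.forget S)
  have hfin : IsFinite (pullback.snd k g).left :=
    MorphismProperty.of_isPullback (P := @IsFinite) sq' ‹IsFinite k.left›
  haveI : IsAffine Z.left := hZ
  refine ⟨pullback k g, pullback.snd k g, (yon S).map (pullback.fst k g), sq.map (yon S), ?_, hfin⟩
  exact isAffine_of_isAffineHom (pullback.snd k g).left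

/-- A morphism of sheaves representable by finite morphisms and by open immersions is representable
by closed immersions. -/
theorem repWith_isClosedImmersion_of_finite_of_open {A B : Sp S} (j : A ⟶ B)
    (h1 : RepWith @IsFinite j) (h2 : RepWith @IsOpenImmersion j) :
    RepWith @IsClosedImmersion j := by
  refine ⟨h1.rep, fun U V g fst snd sq => ?_⟩
  have hfin : IsFinite snd.left := h1.property g fst snd sq
  have hopen : IsOpenImmersion snd.left := h2.property g fst snd sq
  exact (IsClosedImmersion.iff_isFinite_and_mono _).2 ⟨hfin, (inferInstance : Mono snd.left)⟩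

open Groth.Agent.Lib.Helper36.QFLocus Groth.Agent.Lib.Helper46.LocPChart
  Groth.Agent.Lib.Helper30.EtLocalInst Groth.Agent.Lib.Helper23.AlgSpMor in
/-- The base change of the quasi-finite locus of a separated morphism locally of finite type to a
scheme is a scheme, separated, locally of finite type and locally quasi-finite over the base. -/
theorem exists_scheme_qfLocus_baseChange {X Y : Space S} (f : X ⟶ Y)
    (hf1 : LocP @LocallyOfFiniteType f.hom) (hf2 : IsSeparatedMor f.hom) {V₁ : Over S}
    (b₁ : (yon S).obj V₁ ⟶ Y.obj) :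
    ∃ (Z' : Over S) (g : Z' ⟶ V₁) (t : (yon S).obj Z' ⟶ openSub X.obj (qfLocus f)),
      IsPullback t ((yon S).map g) (openSubι X.obj (qfLocus f) ≫ f.hom) b₁ ∧
        IsSeparated g.left ∧ LocallyOfFiniteType g.left ∧ LocallyQuasiFinite g.left := by
  set X₁ := openSub X.obj (qfLocus f) with hX₁def
  set ι := openSubι X.obj (qfLocus f) with hιdef
  have hX₁ : IsAlgSpace X₁ := isAlgSpace_openSub X.obj X.property _ (isOpen_qfLocus f hf1)
  have hlqf : LocP (@LocallyQuasiFinite ⊓ @LocallyOfFiniteType) (ι ≫ f.hom) :=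
    locP_lqf_openSub f hf1
  have hsep : IsSeparatedMor (ι ≫ f.hom) :=
    isSeparatedMor_comp _ _ (Groth.Agent.Lib.Helper17.DM.isSeparatedMor_of_mono ι) hf2
  have sq : IsPullback (pullback.fst (ι ≫ f.hom) b₁) (pullback.snd (ι ≫ f.hom) b₁) (ι ≫ f.hom) b₁ :=
    IsPullback.of_hasPullback _ _
  have hP : IsAlgSpace (pullback (ι ≫ f.hom) b₁) :=
    isAlgSpace_of_isPullback hX₁ (IsAlgSpace.yon_obj V₁) Y.property.diag sq
  have hsepP := isSeparatedMor_of_isPullback sq hsep
  have hqfP := locP_of_isPullback etLocal_lqf hX₁ Y.property hP (IsAlgSpace.yon_obj V₁) sq hlqf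
  obtain ⟨Z', ⟨e⟩⟩ := Groth.Agent.Lib.Helper23.SLQ.exists_iso_of_isRepresentable
    (Groth.Agent.Lib.Helper23.SLQ.isRepresentable_of_sep_lqf hP _ hsepP hqfP)
  obtain ⟨g, hg⟩ := (yon S).map_surjective (e.hom ≫ pullback.snd (ι ≫ f.hom) b₁)
  have sq' : IsPullback (e.hom ≫ pullback.fst (ι ≫ f.hom) b₁) ((yon S).map g) (ι ≫ f.hom) b₁ := by
    rw [hg]
    exact IsPullback.of_iso sq e.symm (Iso.refl _) (Iso.refl _) (Iso.refl _) (by simp) (by simp)
      (by simp) (by simp)
  have hg2 : (RepWith (S := S) @Etale) (𝟙 ((yon S).obj Z')) := repWith_id _ Z'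
  have hQ : (@LocallyQuasiFinite ⊓ @LocallyOfFiniteType : MorphismProperty Scheme.{u}) g.left :=
    locP_fibre etLocal_lqf hX₁ Y.property (ι ≫ f.hom) hlqf b₁ _ _ sq' (𝟙 _) hg2 g
      (by rw [Category.id_comp])
  have hsepg : IsSeparated g.left := by
    rw [← isSeparatedMor_yon_map_iff, hg]
    exact isSeparatedMor_comp _ _ (Groth.Agent.Lib.Helper17.DM.isSeparatedMor_of_mono e.hom) hsepP
  exact ⟨Z', g, _, sq', hsepg, hQ.2, hQ.1⟩

/-- The étale localisation of a separated morphism of schemes over `S` at a quasi-finite point, in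
`Over S`. -/
theorem exists_etale_split_over {Z' V₁ : Over S} (g : Z' ⟶ V₁) [LocallyOfFiniteType g.left]
    [IsSeparated g.left] (z : ↥Z'.left) (hz : g.left.QuasiFiniteAt z) :
    ∃ (U' Q Vf : Over S) (g' : U' ⟶ V₁) (p1 : Q ⟶ Z') (p2 : Q ⟶ U') (i : Vf ⟶ Q) (v : ↥Vf.left),
      Etale g'.left ∧ IsPullback p1.left p2.left g.left g'.left ∧ IsOpenImmersion i.left ∧
        IsFinite (i ≫ p2).left ∧ (i ≫ p1).left v = z := by
  obtain ⟨U, g', hg', -, V, W, v, -, hfin, hv⟩ :=
    exists_etale_isCompl_of_quasiFiniteAt g.left (rfl : g.left z = g.left z) hz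
  have hw : pullback.fst g.left g' ≫ Z'.hom = pullback.snd g.left g' ≫ g' ≫ V₁.hom := by
    rw [← Over.w g, ← Category.assoc, pullback.condition, Category.assoc]
  let U' : Over S := Over.mk (g' ≫ V₁.hom)
  let Q : Over S := Over.mk (pullback.snd g.left g' ≫ g' ≫ V₁.hom)
  let Vf : Over S := Over.mk (V.ι ≫ pullback.snd g.left g' ≫ g' ≫ V₁.hom)
  let g'o : U' ⟶ V₁ := Over.homMk g' rfl
  let p1 : Q ⟶ Z' := Over.homMk (pullback.fst g.left g') hw
  let p2 : Q ⟶ U' := Over.homMk (pullback.snd g.left g') rfl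
  let i : Vf ⟶ Q := Over.homMk V.ι rfl
  refine ⟨U', Q, Vf, g'o, p1, p2, i, v, hg', IsPullback.of_hasPullback g.left g',
    (inferInstance : IsOpenImmersion V.ι), hfin, hv⟩

end Groth.Agent.Lib.Helper23.SLQSplit
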