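import Groth.Agent.Lib.Helper23.SLQSplit
import Groth.Agent.Lib.Helper57.EtRes4
import Groth.Agent.Lib.Helper37.AlgSpFibres
import Groth.Agent.Lib.Helper37.AlgSpDecent

/-!
# Finite unions of finite clopen pieces, and splitting off finitely many quasi-finite points (helper23)
-/

set_option autoImplicit false
universe u
open CategoryTheory CategoryTheory.Limits AlgebraicGeometry Opposite

namespace Groth.Agent.Lib.Helper23.SLQSplit

/-- Transport of finiteness along an equality of opens. -/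
theorem isFinite_ι_comp_congr {X U : Scheme.{u}} (h : X ⟶ U) {W W' : X.Opens} (e : W = W')
    (hW : IsFinite (W.ι ≫ h)) : IsFinite (W'.ι ≫ h) := by
  subst e; exact hW

/-- The union of two disjoint open subschemes finite over `U` is finite over `U`. -/
theorem isFinite_sup_ι_comp {X U : Scheme.{u}} (h : X ⟶ U) (V W : X.Opens) (hd : Disjoint V W)
    (hV : IsFinite (V.ι ≫ h)) (hW : IsFinite (W.ι ≫ h)) : IsFinite ((V ⊔ W).ι ≫ h) := by
  let kV : V.toScheme ⟶ (V ⊔ W).toScheme := X.homOfLE le_sup_left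
  let kW : W.toScheme ⟶ (V ⊔ W).toScheme := X.homOfLE le_sup_right
  have hkV : kV ≫ (V ⊔ W).ι = V.ι := X.homOfLE_ι _
  have hkW : kW ≫ (V ⊔ W).ι = W.ι := X.homOfLE_ι _
  have hc : IsCompl kV.opensRange kW.opensRange := by
    rw [isCompl_iff, disjoint_iff, codisjoint_iff]
    constructor
    · ext y
      simp only [TopologicalSpace.Opens.coe_inf, Scheme.Hom.coe_opensRange, Set.mem_inter_iff,
        Set.mem_range, TopologicalSpace.Opens.coe_bot, Set.mem_empty_iff_false, iff_false, not_and]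
      rintro ⟨a, ha⟩ ⟨b, hb⟩
      have h1 : a.1 = y.1 := by rw [← ha]; exact (X.homOfLE_apply _ a).symm
      have h2 : b.1 = y.1 := by rw [← hb]; exact (X.homOfLE_apply _ b).symm
      have h3 : y.1 ∈ V ⊓ W := ⟨h1 ▸ a.2, h2 ▸ b.2⟩
      rw [disjoint_iff.1 hd] at h3
      exact h3
    · ext y
      simp only [TopologicalSpace.Opens.coe_sup, Scheme.Hom.coe_opensRange, Set.mem_union,
        Set.mem_range, TopologicalSpace.Opens.coe_top, Set.mem_univ, iff_true]
      rcases y.2 with hy | hy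
      · exact Or.inl ⟨⟨y.1, hy⟩, Subtype.ext (X.homOfLE_apply _ _)⟩
      · exact Or.inr ⟨⟨y.1, hy⟩, Subtype.ext (X.homOfLE_apply _ _)⟩
  obtain ⟨hcol⟩ := nonempty_isColimit_binaryCofanMk_of_isCompl kV kW hc
  let e : V.toScheme ⨿ W.toScheme ≅ (V ⊔ W).toScheme :=
    (coprodIsCoprod _ _).coconePointUniqueUpToIso hcol
  have he1 : coprod.inl ≫ e.hom = kV :=
    (coprodIsCoprod _ _).comp_coconePointUniqueUpToIso_hom hcol ⟨WalkingPair.left⟩
  have he2 : coprod.inr ≫ e.hom = kW :=
    (coprodIsCoprod _ _).comp_coconePointUniqueUpToIso_hom hcol ⟨WalkingPair.right⟩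
  have he : e.hom ≫ (V ⊔ W).ι ≫ h = coprod.desc (V.ι ≫ h) (W.ι ≫ h) := by
    apply coprod.hom_ext
    · rw [← Category.assoc, he1, ← Category.assoc, hkV, coprod.inl_desc]
    · rw [← Category.assoc, he2, ← Category.assoc, hkW, coprod.inr_desc]
  have h1 : IsFinite (e.hom ≫ (V ⊔ W).ι ≫ h) := by
    rw [he]; infer_instance
  exact (MorphismProperty.cancel_left_of_respectsIso @IsFinite e.hom _).1 h1

open scoped Function in
/-- The union of a finite family of pairwise disjoint open subschemes, each finite over `U`, is finite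
over `U`. -/
theorem isFinite_iSup_ι_comp {X U : Scheme.{u}} (h : X ⟶ U) {K : Type} [Finite K] :
    ∀ (V : K → X.Opens), Pairwise (Disjoint on V) → (∀ k, IsFinite ((V k).ι ≫ h)) →
      IsFinite ((⨆ k, V k).ι ≫ h) := by
  induction K using Finite.induction_empty_option with
  | of_equiv e ih =>
    intro V hd hV
    have h1 := ih (V ∘ e) (fun a b hab => hd (e.injective.ne hab)) (fun k => hV _)
    exact isFinite_ι_comp_congr h (e.iSup_comp (g := V)) h1
  | h_empty =>
    intro V _ _
    have h0 : (⨆ k, V k) = (⊥ : X.Opens) := by simp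
    refine isFinite_ι_comp_congr h h0.symm ?_
    haveI : IsEmpty ↥((⊥ : X.Opens).toScheme) := by
      constructor
      rintro ⟨x, hx⟩
      exact hx
    infer_instance
  | h_option ih =>
    intro V hd hV
    have h1 := ih (fun a => V (some a)) (fun a b hab => hd (by simpa using hab)) (fun k => hV _)
    have h2 : Disjoint (V none) (⨆ a, V (some a)) := by
      rw [disjoint_iSup_iff]
      intro a
      exact hd (by simp)
    have h3 := isFinite_sup_ι_comp h _ _ h2 (hV none) h1
    exact isFinite_ι_comp_congr h (iSup_option V).symm h3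

open scoped Function in
/-- **Étale localisation at a finite set of quasi-finite points of a fibre** (schemes): after an
étale base change there is an open and closed subscheme, finite over the base, whose points over the
marked point are exactly the points mapping into the given finite set. -/
theorem exists_etale_split_finite {Z' V₁ : Scheme.{u}} (g : Z' ⟶ V₁) [LocallyOfFiniteType g]
    [IsSeparated g] (s : V₁) (T : Set Z') (hT : T.Finite) (hTs : ∀ z ∈ T, g z = s)
    (hTq : ∀ z ∈ T, g.QuasiFiniteAt z) :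
    ∃ (U' : Scheme.{u}) (g' : U' ⟶ V₁) (u : U'), Etale g' ∧ g' u = s ∧
      ∃ V : (pullback g g').Opens, IsClosed (V : Set ↑(pullback g g')) ∧
        IsFinite (V.ι ≫ pullback.snd g g') ∧
        ∀ w : ↑(pullback g g'), pullback.snd g g' w = u → (w ∈ V ↔ pullback.fst g g' w ∈ T) := by
  haveI : Finite ↥T := hT.to_subtype
  let e : ↥T ≃ Fin (Nat.card ↥T) := Finite.equivFin ↥T
  let x : Fin (Nat.card ↥T) → Z' := fun i => (e.symm i).1
  have hinj : Function.Injective x := fun a b hab => e.symm.injective (Subtype.ext hab)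
  obtain ⟨U', g', u, hg', hu, J, hJ, V, v, hclopen, hdisj, hprop, hall⟩ :=
    Groth.Agent.Lib.Helper57.EtRes.exists_etale_nbhd_purelyInseparable g s x hinj
      (fun i => hTs _ (e.symm i).2) (fun i => hTq _ (e.symm i).2)
  haveI : ∀ i, Finite (J i) := hJ
  let VK : (Σ i, J i) → (pullback g g').Opens := fun k => V k.1 k.2
  have hdK : Pairwise (Disjoint on VK) := by
    rintro ⟨i, j⟩ ⟨i', j'⟩ hne
    rw [Function.onFun, ← TopologicalSpace.Opens.coe_disjoint, Set.disjoint_iff_inter_eq_empty]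
    by_contra hcon
    obtain ⟨rfl, hj⟩ := hdisj i j i' j' (Set.nonempty_iff_ne_empty.2 hcon)
    exact hne (by rw [eq_of_heq hj])
  have hfin := isFinite_iSup_ι_comp (pullback.snd g g') VK hdK (fun k => (hprop k.1 k.2).2.1)
  refine ⟨U', g', u, hg', hu, ⨆ k, VK k, ?_, hfin, ?_⟩
  · rw [TopologicalSpace.Opens.coe_iSup]
    exact isClosed_iUnion_of_finite (fun k => (hclopen k.1 k.2).1)
  · intro w hw
    constructor
    · intro hwV
      obtain ⟨k, hk⟩ := TopologicalSpace.Opens.mem_iSup.1 hwV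
      obtain ⟨-, -, -, huniq, -, hx⟩ := hprop k.1 k.2
      rw [huniq w hk hw, hx]
      exact (e.symm k.1).2
    · intro hwT
      obtain ⟨j, hj⟩ := hall w (e ⟨_, hwT⟩) hw (by
        show _ = ((e.symm (e ⟨_, hwT⟩) : ↥T) : Z')
        rw [Equiv.symm_apply_apply])
      exact TopologicalSpace.Opens.mem_iSup.2 ⟨⟨_, j⟩, hj⟩

/-- For a morphism of finite type, a discrete subset of a fibre which is open in the fibre is
finite (the fibre is a Noetherian space). -/
theorem finite_of_isDiscrete_inter_fibre {A V : Scheme.{u}} (h : A ⟶ V) [LocallyOfFiniteType h]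
    [QuasiCompact h] (s : V) (O : A.Opens) (hd : _root_.IsDiscrete ((O : Set A) ∩ h ⁻¹' {s})) :
    ((O : Set A) ∩ h ⁻¹' {s}).Finite := by
  haveI : QuasiCompact (h.fiberToSpecResidueField s) :=
    MorphismProperty.pullback_snd (P := @QuasiCompact) _ _ inferInstance
  haveI : CompactSpace ↥(h.fiber s) :=
    QuasiCompact.compactSpace_of_compactSpace (h.fiberToSpecResidueField s)
  haveI : IsLocallyNoetherian (h.fiber s) :=
    inferInstanceAs (IsLocallyNoetherian (pullback h (V.fromSpecResidueField s)))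
  haveI : IsNoetherian (h.fiber s) := {}
  have hD : _root_.IsDiscrete ((h.fiberι s) ⁻¹' ((O : Set A) ∩ h ⁻¹' {s})) :=
    hd.preimage (h.fiberι s).continuous.continuousOn (h.fiberι s).isEmbedding.injective
  have hc : IsCompact ((h.fiberι s) ⁻¹' ((O : Set A) ∩ h ⁻¹' {s})) :=
    TopologicalSpace.NoetherianSpace.isCompact _
  have hfin := (hc.finite hD).image (h.fiberι s)
  refine hfin.subset ?_
  rintro a ⟨haO, has⟩
  have : a ∈ Set.range (h.fiberι s) := by rw [h.range_fiberι]; exact has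
  obtain ⟨b, rfl⟩ := this
  exact ⟨b, ⟨haO, has⟩, rfl⟩

section Decent

open AlgSp Groth.Agent.Lib.Helper37.AlgSpPoints

variable {S : Scheme.{u}}

/-- Over a decent space `Y`, for a compact étale chart `V₁` of `Y` and a scheme `Z' = X₁ ×_Y V₁`, only
finitely many points of `Z'` lie over a given point of `X₁`. -/
theorem finite_ofPt_eq_of_isDecent {Y X₁ : Sp S} (hY : IsDecent Y) (φ : X₁ ⟶ Y) {V₁ Z' : Over S}
    [CompactSpace ↥V₁.left] (b₁ : (yon S).obj V₁ ⟶ Y) (hb₁ : RepWith @Etale b₁)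
    (t : (yon S).obj Z' ⟶ X₁) (g : Z' ⟶ V₁) (sqZ : IsPullback t ((yon S).map g) φ b₁)
    (x₁ : Points X₁) : {z : ↥Z'.left | Points.ofPt t z = x₁}.Finite := by
  obtain ⟨q, s₀, rfl⟩ := exists_ofPt_toHom x₁
  obtain ⟨p, hp, hpm, hpq⟩ := hY (Points.mk (q.map φ))
  have hq' : RepWith @QuasiCompact (q.map φ).toHom :=
    Groth.Agent.Lib.Helper37.AlgSpDecent.repWith_quasiCompact_of_mono_qc_point p (q.map φ) hpm hpq
      hp.symm
  obtain ⟨E, fst', snd', sq, h1, h2⟩ : ∃ (E : Over S) (fst' : E ⟶ q.pt) (snd' : E ⟶ V₁),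
      IsPullback ((yon S).map fst') ((yon S).map snd') (q.toHom ≫ φ) b₁ ∧
        QuasiCompact snd'.left ∧ Etale fst'.left := by
    have sq := hq'.rep.isPullback' b₁
    refine ⟨_, hq'.rep.fst' b₁, hq'.rep.snd b₁, ?_, hq'.property_snd b₁,
      hb₁.property (q.map φ).toHom _ _ sq.flip⟩
    rw [← FieldPt.toHom_map]
    exact sq
  have : CompactSpace ↥E.left := QuasiCompact.compactSpace_of_compactSpace snd'.left
  haveI := h2
  have hfin : Finite ↥E.left :=
    Groth.Agent.Lib.Helper37.AlgSpFibres.finite_of_etale_over_field q.K fst'.left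
  obtain ⟨e, he1, he2⟩ := sqZ.exists_lift ((yon S).map fst' ≫ q.toHom)
    ((yon S).map snd') (by rw [Category.assoc, sq.w])
  obtain ⟨e, rfl⟩ := (yon S).map_surjective e
  have sqe : IsPullback ((yon S).map e) ((yon S).map fst') t q.toHom := by
    refine IsPullback.of_right ?_ he1 sqZ.flip
    rw [he2]
    exact sq.flip
  refine (Set.finite_range e.left).subset ?_
  intro z hz
  obtain ⟨r, hr, -⟩ := (ofPt_eq_ofPt_iff sqe z s₀).1 hz
  exact ⟨r, hr⟩

open Groth.Agent.Lib.Helper36.AlgSpCharts Groth.Agent.Lib.Helper46.LocPChart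
  Groth.Agent.Lib.Helper30.EtLocalInst in
/-- For a quasi-compact morphism `f : X ⟶ Y` locally of finite type, an affine scheme `V₁` over `Y`
and an open subspace `X₁` of `X` whose base change `Z'` to `V₁` is a scheme locally quasi-finite over
`V₁`, the fibres of `Z' ⟶ V₁` are finite. -/
theorem finite_fibre_of_isQuasiCompactMor {X Y : Space S} (f : X ⟶ Y)
    (hf1 : LocP @LocallyOfFiniteType f.hom) (hqc : IsQuasiCompactMor f.hom) {V₁ Z' : Over S}
    [IsAffine V₁.left] (b₁ : (yon S).obj V₁ ⟶ Y.obj) {X₁ : Sp S} (ι : X₁ ⟶ X.obj)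
    (hι : RepWith @IsOpenImmersion ι) (t : (yon S).obj Z' ⟶ X₁) (g : Z' ⟶ V₁)
    (sqZ : IsPullback t ((yon S).map g) (ι ≫ f.hom) b₁) [LocallyQuasiFinite g.left]
    (s : ↥V₁.left) : (g.left ⁻¹' {s}).Finite := by
  have sqX : IsPullback (pullback.fst f.hom b₁) (pullback.snd f.hom b₁) f.hom b₁ :=
    IsPullback.of_hasPullback _ _
  have hX' : IsQuasiCompactSp (pullback f.hom b₁) :=
    hqc (IsAlgSpace.yon_obj V₁) (Groth.Agent.Lib.Helper23.AlgSpMor.isQuasiCompactSp_yon V₁) b₁ _ _ sqX
  obtain ⟨A, c, hce, hcs, hAc⟩ := hX'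
  haveI : CompactSpace ↥A.left := hAc
  -- the open immersion `Z' ⟶ X'`
  obtain ⟨m, hm1, hm2⟩ := sqX.exists_lift (t ≫ ι) ((yon S).map g) (by rw [Category.assoc, sqZ.w])
  have sqm : IsPullback m t (pullback.fst f.hom b₁) ι := by
    refine IsPullback.of_right ?_ hm1 sqX.flip
    rw [hm2]
    exact sqZ.flip
  have hm : RepWith @IsOpenImmersion m := (RepWith @IsOpenImmersion).of_isPullback sqm.flip hι
  obtain ⟨A₁, p1, p2, sqA⟩ := exists_isPullback_yon m c hce.rep
  have hp1e : Etale p1.left := prop_fst_of_isPullback sqA hce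
  have hp1s : Surjective p1.left := prop_fst_of_isPullback sqA hcs
  have hp2 : IsOpenImmersion p2.left := prop_snd_of_isPullback sqA hm
  obtain ⟨hA, hhA⟩ := (yon S).map_surjective (c ≫ pullback.snd f.hom b₁)
  have hAlft : LocallyOfFiniteType hA.left :=
    locP_fibre etLocal_lft X.property Y.property f.hom hf1 b₁ _ _ sqX c hce hA hhA
  have hcomm : p1 ≫ g = p2 ≫ hA := by
    apply (yon S).map_injective
    rw [Functor.map_comp, Functor.map_comp, hhA, ← hm2, ← Category.assoc, sqA.w, Category.assoc]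
  have hcommL : p1.left ≫ g.left = p2.left ≫ hA.left := by
    rw [← Over.comp_left, ← Over.comp_left, hcomm]
  haveI : LocallyQuasiFinite p1.left :=
    Groth.Agent.Lib.Helper37.EtaleFibres.locallyQuasiFinite_of_etale p1.left
  haveI : LocallyQuasiFinite (p2.left ≫ hA.left) := by rw [← hcommL]; infer_instance
  have hdisc := (p2.left ≫ hA.left).isDiscrete_preimage_singleton s
  have hdisc2 := hdisc.image p2.left.isOpenEmbedding.isInducing
  have himg : p2.left '' ((p2.left ≫ hA.left) ⁻¹' {s}) =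
      ((p2.left.opensRange : Set ↥A.left) ∩ hA.left ⁻¹' {s}) := by
    ext a
    constructor
    · rintro ⟨a₁, ha₁, rfl⟩
      exact ⟨⟨a₁, rfl⟩, by simpa using ha₁⟩
    · rintro ⟨⟨a₁, rfl⟩, ha₁⟩
      exact ⟨a₁, by simpa using ha₁, rfl⟩
  rw [himg] at hdisc2
  have hfin := finite_of_isDiscrete_inter_fibre hA.left s p2.left.opensRange hdisc2
  rw [← himg] at hfin
  have hfin2 : ((p2.left ≫ hA.left) ⁻¹' {s}).Finite :=
    hfin.of_finite_image p2.left.isOpenEmbedding.injective.injOn
  refine (hfin2.image p1.left).subset ?_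
  intro z hz
  obtain ⟨a₁, rfl⟩ := hp1s.surj z
  refine ⟨a₁, ?_, rfl⟩
  show (p2.left ≫ hA.left) a₁ = s
  rw [← hcommL]
  exact hz

/-- `exists_etale_split_finite` packaged in `Over S`. -/
theorem exists_etale_split_finite_over {Z' V₁ : Over S} (g : Z' ⟶ V₁)
    [LocallyOfFiniteType g.left] [IsSeparated g.left] (s : ↥V₁.left) (T : Set ↥Z'.left)
    (hT : T.Finite) (hTs : ∀ z ∈ T, g.left z = s) (hTq : ∀ z ∈ T, g.left.QuasiFiniteAt z) :
    ∃ (U' Q Vf : Over S) (g' : U' ⟶ V₁) (p1 : Q ⟶ Z') (p2 : Q ⟶ U') (i : Vf ⟶ Q) (u : ↥U'.left),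
      Etale g'.left ∧ g'.left u = s ∧ IsPullback p1.left p2.left g.left g'.left ∧
        IsOpenImmersion i.left ∧ IsFinite (i ≫ p2).left ∧
        ∀ w : ↥Q.left, p2.left w = u → (w ∈ Set.range i.left ↔ p1.left w ∈ T) := by
  obtain ⟨U, g', u, hg', hu, V, -, hfin, hV⟩ := exists_etale_split_finite g.left s T hT hTs hTq
  have hw : pullback.fst g.left g' ≫ Z'.hom = pullback.snd g.left g' ≫ g' ≫ V₁.hom := by
    rw [← Over.w g, ← Category.assoc, pullback.condition, Category.assoc]
  let U' : Over S := Over.mk (g' ≫ V₁.hom)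
  let Q : Over S := Over.mk (pullback.snd g.left g' ≫ g' ≫ V₁.hom)
  let Vf : Over S := Over.mk (V.ι ≫ pullback.snd g.left g' ≫ g' ≫ V₁.hom)
  let g'o : U' ⟶ V₁ := Over.homMk g' rfl
  let p1 : Q ⟶ Z' := Over.homMk (pullback.fst g.left g') hw
  let p2 : Q ⟶ U' := Over.homMk (pullback.snd g.left g') rfl
  let i : Vf ⟶ Q := Over.homMk V.ι rfl
  refine ⟨U', Q, Vf, g'o, p1, p2, i, u, hg', hu, IsPullback.of_hasPullback g.left g',
    (inferInstance : IsOpenImmersion V.ι), hfin, fun w hwu => ?_⟩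
  have : Set.range i.left = (V : Set ↑(pullback g.left g')) := Scheme.Opens.range_ι V
  rw [this]
  exact hV w hwu

end Decent

end Groth.Agent.Lib.Helper23.SLQSplit
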