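import Groth.Agent.Lib.Helper23.SLQSplit
import Groth.Agent.Lib.Helper23.AlgSpClosed

/-!
# Proper and locally quasi-finite morphisms of algebraic spaces are finite (helper23)
-/

set_option autoImplicit false
universe u
open CategoryTheory CategoryTheory.Limits AlgebraicGeometry Opposite

namespace Groth.Agent.Lib.Helper23.SLQSplit

open AlgSp Groth.Agent.Lib.Helper36.OpenSubspace Groth.Agent.Lib.Helper37.AlgSpPoints
  Groth.Agent.Lib.Helper46.LocPChart Groth.Agent.Lib.Helper30.EtLocalInst
  Groth.Agent.Lib.Helper23.AlgSpMor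

variable {S : Scheme.{u}}

/-- **Proper + locally quasi-finite ⟹ finite** for morphisms of algebraic spaces (uses Zariski's main
theorem for schemes and "separated locally quasi-finite ⟹ representable"). -/
theorem isFiniteMor_of_isProperMor_of_lqf {X Y : Space S} (f : X ⟶ Y)
    (hp : IsProperMor f.hom) (hq : LocP (@LocallyQuasiFinite ⊓ @LocallyOfFiniteType) f.hom) :
    IsFiniteMor f.hom := by
  obtain ⟨hsep, ⟨hlft, hqc⟩, huc⟩ := hp
  intro Z hZ g
  haveI : IsAffine Z.left := hZ
  have sq : IsPullback (pullback.fst f.hom g) (pullback.snd f.hom g) f.hom g :=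
    IsPullback.of_hasPullback _ _
  have hP : IsAlgSpace (pullback f.hom g) :=
    isAlgSpace_of_isPullback X.property (IsAlgSpace.yon_obj Z) Y.property.diag sq
  have hsepP := isSeparatedMor_of_isPullback sq hsep
  have hqfP := locP_of_isPullback etLocal_lqf X.property Y.property hP (IsAlgSpace.yon_obj Z) sq hq
  obtain ⟨W, ⟨e⟩⟩ := Groth.Agent.Lib.Helper23.SLQ.exists_iso_of_isRepresentable
    (Groth.Agent.Lib.Helper23.SLQ.isRepresentable_of_sep_lqf hP _ hsepP hqfP)
  obtain ⟨i, hi⟩ := (yon S).map_surjective (e.hom ≫ pullback.snd f.hom g)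
  have sq' : IsPullback (e.hom ≫ pullback.fst f.hom g) ((yon S).map i) f.hom g := by
    rw [hi]
    exact IsPullback.of_iso sq e.symm (Iso.refl _) (Iso.refl _) (Iso.refl _) (by simp) (by simp)
      (by simp) (by simp)
  have hQ : (@LocallyQuasiFinite ⊓ @LocallyOfFiniteType : MorphismProperty Scheme.{u}) i.left :=
    locP_fibre etLocal_lqf X.property Y.property f.hom hq g _ _ sq' (𝟙 _) (repWith_id _ W) i
      (by rw [Category.id_comp])
  haveI hsepi : IsSeparated i.left :=
    (isSeparatedMor_yon_map_iff i).1 (isSeparatedMor_of_isPullback sq' hsep)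
  haveI huci : UniversallyClosed i.left := by
    have h1 : IsUnivClosedMor ((yon S).map i) := by
      intro Z₁ Z₁' hZ₁ g₁ fst₁ snd₁ sq₁
      exact huc hZ₁ (g₁ ≫ g) (fst₁ ≫ e.hom ≫ pullback.fst f.hom g) snd₁ (sq₁.paste_horiz sq')
    exact (repWith_yon_map_iff _ _).1
      (repWith_universallyClosed_of_isUnivClosedMor _ (representable_yon_map i) h1)
  haveI : LocallyOfFiniteType i.left := hQ.2
  haveI : LocallyQuasiFinite i.left := hQ.1
  haveI : IsProper i.left := {}
  have hfin : IsFinite i.left :=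
    (IsFinite.iff_isProper_and_locallyQuasiFinite _).2 ⟨inferInstance, inferInstance⟩
  exact ⟨W, i, _, sq', isAffine_of_isAffineHom i.left, hfin⟩

/-- Factoring the first projection of a pullback square through a monomorphism gives a pullback
square over the composite. -/
theorem isPullback_of_factor_mono {C : Type*} [Category C] {P X₁ X Y V : C} {fst : P ⟶ X}
    {snd : P ⟶ V} {f : X ⟶ Y} {j : V ⟶ Y} (sq : IsPullback fst snd f j) (ι : X₁ ⟶ X) [Mono ι]
    (k : P ⟶ X₁) (hk : k ≫ ι = fst) : IsPullback k snd (ι ≫ f) j := by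
  have w : k ≫ ι ≫ f = snd ≫ j := by rw [← Category.assoc, hk, sq.w]
  refine ⟨⟨w⟩, ⟨PullbackCone.IsLimit.mk _
    (fun s => sq.lift (s.fst ≫ ι) s.snd (by rw [Category.assoc]; exact s.condition))
    (fun s => by
      rw [← cancel_mono ι, Category.assoc, hk, sq.lift_fst])
    (fun s => sq.lift_snd _ _ _)
    (fun s m h1 h2 => sq.hom_ext (by rw [sq.lift_fst, ← hk, ← Category.assoc, h1])
      (by rw [sq.lift_snd]; exact h2))⟩⟩

open Groth.Agent.Lib.Helper36.QFLocus in
/-- The quasi-finite-at-a-point hypothesis in chart form puts the point in the quasi-finite locus. -/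
theorem mem_qfLocus_of_hasAtMor {X Y : Space S} (f : X ⟶ Y)
    (hf1 : LocP @LocallyOfFiniteType f.hom) (x : Points X.obj)
    (hx : HasAtMor (fun U _ h u => ∃ W : U.Opens, u ∈ W ∧ LocallyQuasiFinite (W.ι ≫ h) ∧
      LocallyOfFiniteType (W.ι ≫ h)) f.hom x) : x ∈ qfLocus f := by
  obtain ⟨U₁, V₂, a₁, b₂, h₁, u₁, ha₁, hb₂, comm, hx, W, hu₁W, hqfW, hlftW⟩ := hx
  have hq : h₁.left.QuasiFiniteAt u₁ := by
    haveI := hqfW
    have h0 := (W.ι ≫ h₁.left).quasiFiniteAt ⟨u₁, hu₁W⟩
    exact (Scheme.Hom.quasiFiniteAt_comp_iff_of_isOpenImmersion (f := W.ι) (g := h₁.left)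
      (x := ⟨u₁, hu₁W⟩)).1 h0
  rw [← hx]
  exact (mem_qfLocus_iff_of_chart f hf1 a₁ b₂ h₁ ha₁ hb₂ comm u₁).2 hq

open Groth.Agent.Lib.Helper36.QFLocus in
/-- A proper morphism of algebraic spaces which is quasi-finite at all points of the fibre over `y` is
finite over an open neighbourhood of `y`. -/
theorem exists_open_nhd_finite_of_proper {X Y : Space S} (f : X ⟶ Y) (y : Points Y.obj)
    (hf : IsProperMor f.hom) (hq : ∀ x : Points X.obj, Points.map f.hom x = y → x ∈ qfLocus f) :
    ∃ (V : Space S) (j : V ⟶ Y), RepWith @IsOpenImmersion j.hom ∧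
      y ∈ Set.range (Points.map j.hom) ∧
        ∀ (P : Space S) (fst : P ⟶ X) (snd : P ⟶ V), IsPullback fst.hom snd.hom f.hom j.hom →
          IsFiniteMor snd.hom := by
  have hlft : LocP @LocallyOfFiniteType f.hom := hf.2.1.1
  have hclosed : IsClosedMap (Points.map f.hom) :=
    isClosedMap_points_of_isUnivClosedMor Y.property f.hom hf.2.2
  have hC : IsClosed ((qfLocus f)ᶜ) := (isOpen_qfLocus f hlft).isClosed_compl
  obtain ⟨A, hAdef⟩ : ∃ A : Set (Points Y.obj), A = (Points.map f.hom '' (qfLocus f)ᶜ)ᶜ := ⟨_, rfl⟩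
  have hA : IsOpen A := by rw [hAdef]; exact (hclosed _ hC).isOpen_compl
  have hyA : y ∈ A := by
    rw [hAdef]
    rintro ⟨x, hxC, hxy⟩
    exact hxC (hq x hxy)
  have hV : IsAlgSpace (openSub Y.obj A) := isAlgSpace_openSub Y.obj Y.property A hA
  refine ⟨⟨openSub Y.obj A, hV⟩, ObjectProperty.homMk (openSubι Y.obj A),
    repWith_isOpenImmersion_openSubι Y.obj A hA, ?_, ?_⟩
  · show y ∈ Set.range (Points.map (openSubι Y.obj A))
    rw [range_map_openSubι]; exact hyA
  · intro P fst snd sq
    have sq' : IsPullback fst.hom snd.hom f.hom (openSubι Y.obj A) := sq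
    have hrange : Set.range (Points.map fst.hom) ⊆ qfLocus f := by
      rintro _ ⟨p, rfl⟩
      by_contra hcon
      have h1 : Points.map f.hom (Points.map fst.hom p) ∈ A := by
        rw [← Points.map_comp, sq'.w, Points.map_comp]
        exact (range_map_openSubι Y.obj A).subset ⟨_, rfl⟩
      rw [hAdef] at h1
      exact h1 ⟨_, hcon, rfl⟩
    obtain ⟨k, hk⟩ := exists_lift_openSub_of_range fst.hom (qfLocus f) hrange
    have sq1 := isPullback_of_factor_mono sq' (openSubι X.obj (qfLocus f)) k hk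
    have hX₁ : IsAlgSpace (openSub X.obj (qfLocus f)) :=
      isAlgSpace_openSub X.obj X.property _ (isOpen_qfLocus f hlft)
    have hlqf : LocP (@LocallyQuasiFinite ⊓ @LocallyOfFiniteType) snd.hom :=
      locP_of_isPullback etLocal_lqf hX₁ Y.property P.property hV sq1 (locP_lqf_openSub f hlft)
    have hprop : IsProperMor snd.hom :=
      isProperMor_of_isPullback X.property Y.property hV sq' hf
    exact isFiniteMor_of_isProperMor_of_lqf snd hprop hlqf

end Groth.Agent.Lib.Helper23.SLQSplit
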