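import Groth.Agent.Lib.Helper23.SLQSplit3
import Groth.Agent.Lib.Helper37.DecentMor2
import Groth.Agent.Lib.Helper37.AlgSpFibres
import Groth.Agent.Lib.Helper36.AlgSpChartDiag
import Groth.Agent.Lib.Helper36.QuasiFiniteAt

/-!
# A finite fibre forces quasi-finiteness (helper23)
-/

set_option autoImplicit false
universe u
open CategoryTheory CategoryTheory.Limits AlgebraicGeometry Opposite

namespace Groth.Agent.Lib.Helper23.SLQSplit

open AlgSp Groth.Agent.Lib.Helper36.OpenSubspace Groth.Agent.Lib.Helper37.AlgSpPoints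
  Groth.Agent.Lib.Helper46.LocPChart Groth.Agent.Lib.Helper30.EtLocalInst
  Groth.Agent.Lib.Helper23.AlgSpMor Groth.Agent.Lib.Helper36.AlgSpCharts
  Groth.Agent.Lib.Helper36.QFLocus

variable {S : Scheme.{u}}

/-- A scheme locally of finite type over a field with finitely many points in an open neighbourhood
of `u` is quasi-finite at `u`. -/
theorem quasiFiniteAt_of_finite_nhd {U : Scheme.{u}} {K : Type u} [Field K]
    (h : U ⟶ Spec (CommRingCat.of K)) [LocallyOfFiniteType h] (u : ↥U) (O : U.Opens) (hu : u ∈ O)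
    (hO : (O : Set ↥U).Finite) : h.QuasiFiniteAt u := by
  haveI : Finite ↥O.toScheme := hO.to_subtype
  haveI : JacobsonSpace ↥O.toScheme := LocallyOfFiniteType.jacobsonSpace (O.ι ≫ h)
  haveI : DiscreteTopology ↥O.toScheme := inferInstance
  obtain ⟨u', hu'⟩ : ∃ u' : ↥O.toScheme, O.ι u' = u := ⟨⟨u, hu⟩, rfl⟩
  have h1 : IsOpen ({u'} : Set ↥O.toScheme) := isOpen_discrete _
  have h2 : IsOpen (O.ι '' {u'}) := O.ι.isOpenEmbedding.isOpenMap _ h1
  rw [Set.image_singleton, hu'] at h2
  exact Groth.Agent.Lib.Helper36.QuasiFiniteAt.quasiFiniteAt_of_isOpen_singleton h u h2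

/-- If the fibre of a quasi-separated morphism locally of finite type over a field-valued point has
finitely many points, the morphism is quasi-finite at every point over it. -/
theorem mem_qfLocus_of_finite_fibre {X Y : Space S} (f : X ⟶ Y)
    (hf1 : LocP @LocallyOfFiniteType f.hom) (hqs : IsQuasiSeparatedMor f.hom) (yb : FieldPt Y.obj)
    (Xy : Sp S) (fst : Xy ⟶ X.obj) (snd : Xy ⟶ (yon S).obj yb.pt)
    (hsq : IsPullback fst snd f.hom yb.toHom) (hfin : Finite (Points Xy)) (x : Points X.obj)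
    (hx : Points.map f.hom x = Points.mk yb) : x ∈ qfLocus f := by
  obtain ⟨U, V₁, a, b, h, hae, has, hbe, hbs, weq⟩ :=
    Groth.Agent.Lib.Helper36.AlgSpChartDiag.exists_chart_diagram f
  obtain ⟨T, τ₁, τ₂, sqT⟩ := exists_isPullback_yon yb.toHom b hbe.rep
  have hτ₁e : Etale τ₁.left := prop_fst_of_isPullback sqT hbe
  obtain ⟨UT, π₁, π₂, sqU0⟩ : ∃ (UT : Over S) (π₁ : UT ⟶ U) (π₂ : UT ⟶ T), IsPullback π₁ π₂ h τ₂ :=
    ⟨_, _, _, IsPullback.of_hasPullback h τ₂⟩
  have sqU : IsPullback ((yon S).map π₁) ((yon S).map π₂) ((yon S).map h) ((yon S).map τ₂) :=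
    sqU0.map (yon S)
  have sqUl : IsPullback π₁.left π₂.left h.left τ₂.left := sqU0.map (Over.forget S)
  have outer : IsPullback ((yon S).map π₂ ≫ (yon S).map τ₁) ((yon S).map π₁) yb.toHom
      ((yon S).map h ≫ b) := sqU.flip.paste_horiz sqT
  rw [← weq] at outer
  obtain ⟨c, hc1, hc2⟩ := hsq.exists_lift ((yon S).map π₁ ≫ a)
    ((yon S).map π₂ ≫ (yon S).map τ₁) (by rw [Category.assoc, outer.w])
  have sqc : IsPullback c ((yon S).map π₁) fst a := by
    refine IsPullback.of_right ?_ hc1 hsq.flip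
    rw [hc2]; exact outer
  have hce : RepWith @Etale c := (RepWith @Etale).of_isPullback sqc.flip hae
  have hcs : RepWith @Surjective c := (RepWith @Surjective).of_isPullback sqc.flip has
  have hdec : IsDecent Xy :=
    Groth.Agent.Lib.Helper37.DecentMor2.isDecentMor_of_isQuasiSeparatedMor f hqs yb.toHom fst snd hsq
  haveI hlfth : LocallyOfFiniteType h.left := hf1 a b h hae hbe weq
  haveI hlftπ : LocallyOfFiniteType π₂.left :=
    MorphismProperty.of_isPullback (P := @LocallyOfFiniteType) sqUl hlfth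
  haveI hlftT : LocallyOfFiniteType (π₂ ≫ τ₁).left := by
    rw [Over.comp_left]; infer_instance
  have key : ∀ u' : ↥UT.left, (π₂ ≫ τ₁).left.QuasiFiniteAt u' := by
    intro u'
    obtain ⟨_, ⟨O, hO, rfl⟩, hu'O, -⟩ :=
      UT.left.isBasis_affineOpens.exists_subset_of_mem_open (Set.mem_univ u') isOpen_univ
    refine quasiFiniteAt_of_finite_nhd (K := yb.K) (π₂ ≫ τ₁).left u' O hu'O ?_
    haveI : IsAffine (overOpens UT O).left := hO
    have hcO : RepWith @Etale ((yon S).map (overOpensι UT O) ≫ c) :=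
      (RepWith @Etale).comp_mem _ _ (repWith_etale_overOpensι UT O) hce
    have hfib : ∀ ξ : Points Xy,
        (Points.ofPt ((yon S).map (overOpensι UT O) ≫ c) ⁻¹' {ξ}).Finite := by
      intro ξ
      obtain ⟨p, rfl, -, hpq⟩ := hdec ξ
      exact Groth.Agent.Lib.Helper37.AlgSpFibres.finite_fibre_of_qc_point p hpq _ hcO
    have huniv : (Set.univ : Set ↥(overOpens UT O).left) =
        ⋃ ξ : Points Xy, Points.ofPt ((yon S).map (overOpensι UT O) ≫ c) ⁻¹' {ξ} := by
      ext w; simp
    have hfinO : (Set.univ : Set ↥(overOpens UT O).left).Finite := by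
      rw [huniv]; exact Set.finite_iUnion hfib
    have himg := hfinO.image (Scheme.Opens.ι (X := UT.left) O)
    rw [Set.image_univ] at himg
    have hr : Set.range (Scheme.Opens.ι (X := UT.left) O) = (O : Set ↥UT.left) :=
      Scheme.Opens.range_ι O
    rw [← hr]
    exact himg
  have e0 : Points.map f.hom x =
      Points.map yb.toHom (Points.ofScheme yb.pt (IsLocalRing.closedPoint yb.K)) := by
    rw [hx, ← Points.ofPt_eq_map_ofScheme, Points.ofPt_toHom]
  obtain ⟨ξ, hξ1, -⟩ := points_exists_of_isPullback hsq x _ e0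
  obtain ⟨u', rfl⟩ := ofPt_surjective c hcs ξ
  haveI : LocallyQuasiFinite τ₁.left :=
    Groth.Agent.Lib.Helper37.EtaleFibres.locallyQuasiFinite_of_etale τ₁.left
  have hq2 : π₂.left.QuasiFiniteAt u' := by
    have := key u'
    rw [Over.comp_left] at this
    exact (Scheme.Hom.quasiFiniteAt_comp_iff (f := π₂.left) (g := τ₁.left)).1 this
  have hq3 : h.left.QuasiFiniteAt (π₁.left u') :=
    (Groth.Agent.Lib.Helper36.QuasiFiniteAt.quasiFiniteAt_iff_of_isPullback h.left π₂.left π₁.left
      τ₂.left sqUl u').1 hq2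
  rw [← hξ1, Points.map_ofPt, hc1, ofPt_map_comp]
  exact (mem_qfLocus_iff_of_chart f hf1 a b h hae hbe weq (π₁.left u')).2 hq3

end Groth.Agent.Lib.Helper23.SLQSplit
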