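import Groth.Agent.Lib.Helper23.SchImageImm3
import Groth.Agent.Lib.Helper46.RepIso

/-!
# Scheme theoretic density and scheme theoretic closure (helper23)
-/

set_option autoImplicit false
universe u
open CategoryTheory CategoryTheory.Limits AlgebraicGeometry Opposite

namespace Groth.Agent.Lib.Helper23.SchImageQc

open AlgSp Groth.Agent.Lib.Helper23.AlgSpMor Groth.Agent.Lib.Helper23.ClosedDescent
  Groth.Agent.Lib.Helper37.AlgSpPoints

variable {S : Scheme.{u}}

/-- The inclusion of a schematically dense open has trivial kernel. -/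
theorem ker_ι_eq_bot_of_isSchematicallyDense {V : Scheme.{u}} (W : V.Opens)
    (hd : CInt.IsSchematicallyDense W) : W.ι.ker = ⊥ := by
  rw [← le_bot_iff, Scheme.IdealSheafData.le_def]
  intro A
  refine (Scheme.Hom.ideal_ker_le W.ι A).trans ?_
  rw [Scheme.IdealSheafData.ideal_bot, Pi.bot_apply, le_bot_iff,
    ← RingHom.injective_iff_ker_eq_bot]
  have key : ∀ (B : V.Opens) (hB : B ≤ A.1) (_ : B = A.1 ⊓ W),
      Function.Injective (V.presheaf.map (homOfLE hB).op) := by
    intro B hB h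
    subst h
    exact hd A.1
  rw [Scheme.Opens.ι_app]
  refine key _ _ ?_
  ext x
  simp only [Scheme.Hom.coe_image, Scheme.Hom.coe_preimage, Set.mem_image, Set.mem_preimage,
    SetLike.mem_coe, TopologicalSpace.Opens.coe_inf, Set.mem_inter_iff]
  constructor
  · rintro ⟨y, hy, rfl⟩
    exact ⟨hy, y.2⟩
  · rintro ⟨h1, h2⟩
    exact ⟨⟨x, h2⟩, h1, rfl⟩

/-- A scheme theoretically dense open subspace has scheme theoretic closure everything. -/
theorem isSchImage_id_of_isSchDense {U X : Sp S} (j : U ⟶ X) (hj : IsSchDense j) :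
    IsSchImage j (𝟙 X) := by
  refine ⟨Groth.Agent.Lib.Helper46.RepIso.repWith_of_isIso @IsClosedImmersion (𝟙 X),
    ⟨j, Category.comp_id j⟩, ?_⟩
  intro Z' i' hZ' hi' ⟨f'', hf''⟩
  obtain ⟨hjo, V, φ, W, fst, hφe, hφs, sq, hd⟩ := hj
  have : Mono i' := mono_of_repWith_isClosedImmersion i' hi'
  have : Epi φ := epi_of_etale_surjective φ hφe hφs
  have sqZ' := hi'.rep.isPullback φ
  obtain ⟨fstZ, hfstZ⟩ : ∃ fstZ, fstZ = hi'.rep.fst φ := ⟨_, rfl⟩
  obtain ⟨j', hj'⟩ : ∃ j', j' = hi'.rep.snd φ := ⟨_, rfl⟩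
  rw [← hfstZ, ← hj'] at sqZ'
  have hj'cl : IsClosedImmersion j'.left := by rw [hj']; exact hi'.property_snd φ
  have hcomm : (fst ≫ f'') ≫ i' =
      (yon S).map (Over.homMk W.ι rfl : Over.mk (W.ι ≫ V.hom) ⟶ V) ≫ φ := by
    rw [Category.assoc, hf'', sq.w]
  obtain ⟨l₀, hl₀⟩ := (yon S).map_surjective (sqZ'.lift _ _ hcomm)
  have hl₀j : l₀ ≫ j' = (Over.homMk W.ι rfl : Over.mk (W.ι ≫ V.hom) ⟶ V) := by
    apply (yon S).map_injective
    rw [Functor.map_comp, hl₀, sqZ'.lift_snd]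
  have hker : j'.left.ker = ⊥ := by
    rw [← le_bot_iff, ← ker_ι_eq_bot_of_isSchematicallyDense W hd]
    have h1 : l₀.left ≫ j'.left = W.ι := congrArg CommaMorphism.left hl₀j
    rw [← h1]
    exact Scheme.Hom.le_ker_comp l₀.left j'.left
  have hiso : IsIso j'.left := IsClosedImmersion.isIso_iff_ker_eq_bot.2 hker
  have : IsIso j' := by
    have : IsIso ((Over.forget S).map j') := hiso
    exact isIso_of_reflects_iso j' (Over.forget S)
  have : IsIso ((yon S).map j') := inferInstance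
  obtain ⟨k, hk, -⟩ := exists_lift_of_epi_mono φ i' (inv ((yon S).map j') ≫ fstZ) (𝟙 X)
    (by rw [Category.assoc, sqZ'.w, IsIso.inv_hom_id_assoc, Category.comp_id])
  exact ⟨k, hk⟩

end Groth.Agent.Lib.Helper23.SchImageQc
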