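import Groth.Agent.Lib.Helper23.SheafInter
import Groth.Agent.Lib.Helper23.RedInduced

/-!
# Intersections of closed subspaces; existence of the scheme theoretic image (helper23)
-/

set_option autoImplicit false
universe u
open CategoryTheory CategoryTheory.Limits AlgebraicGeometry Opposite

namespace Groth.Agent.Lib.Helper23.ClosedDescent

open AlgSp Groth.Agent.Lib.Helper23.AlgSpMor Groth.Agent.Lib.Helper5.LocalRep

variable {S : Scheme.{u}}

theorem mono_of_repWith_isClosedImmersion {Z Y : Sp S} (i : Z ⟶ Y)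
    (h : RepWith @IsClosedImmersion i) : Mono i :=
  Groth.Agent.Lib.Helper62.mono_of_repWith @IsClosedImmersion (fun f hf => by
    have := hf; infer_instance) i h

/-- A morphism of sheaves through which every section lifts is an epimorphism. -/
theorem epi_of_lift {G G' : Sp S} (m : G ⟶ G')
    (h : ∀ (Z : Over S) (z : (yon S).obj Z ⟶ G'), ∃ a : (yon S).obj Z ⟶ G, a ≫ m = z) : Epi m := by
  apply epi_of_local_lift
  intro Z z pt
  obtain ⟨a, ha⟩ := h Z z
  exact ⟨⊤, trivial, (yon S).map (overOpensι Z ⊤) ≫ a, by rw [Category.assoc, ha]⟩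

/-- **An arbitrary intersection of closed subspaces is a closed subspace.** -/
theorem exists_inter_closed {Y : Sp S} {ι : Sort*} (Z' : ι → Sp S) (i' : ∀ a, Z' a ⟶ Y)
    (hcl : ∀ a, RepWith @IsClosedImmersion (i' a)) :
    ∃ (Z : Sp S) (m : Z ⟶ Y), RepWith @IsClosedImmersion m ∧
      (∀ a, ∃ k : Z ⟶ Z' a, k ≫ i' a = m) ∧
      ∀ (P : Sp S) (y : P ⟶ Y), (∀ a, ∃ z : P ⟶ Z' a, z ≫ i' a = y) → ∃ z : P ⟶ Z, z ≫ m = y := by
  have hmono : ∀ a, Mono (i' a) := fun a => mono_of_repWith_isClosedImmersion _ (hcl a)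
  obtain ⟨Z, m, hm, hk, huniv⟩ := SheafInter.exists_wide_inter Z' i'
  refine ⟨Z, m, ?_, hk, huniv⟩
  apply MorphismProperty.relative.of_exists
  intro T g
  let I : T.left.IdealSheafData := ⨆ a, ((hcl a).rep.snd g).left.ker
  let W : Over S := Over.mk (I.subschemeι ≫ T.hom)
  let ιW : W ⟶ T := Over.homMk I.subschemeι rfl
  have hcla : ∀ a, IsClosedImmersion ((hcl a).rep.snd g).left := fun a => (hcl a).property_snd g
  have hW : ∀ a, ∃ z : (yon S).obj W ⟶ Z' a, z ≫ i' a = (yon S).map ιW ≫ g := by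
    intro a
    have := hcla a
    have H : ((hcl a).rep.snd g).left.ker ≤ I.subschemeι.ker := by
      rw [Scheme.IdealSheafData.ker_subschemeι]
      exact le_iSup (fun a => ((hcl a).rep.snd g).left.ker) a
    let lo : W ⟶ (hcl a).rep.pullback g :=
      Over.homMk (IsClosedImmersion.lift ((hcl a).rep.snd g).left I.subschemeι H) (by
        change _ ≫ ((hcl a).rep.pullback g).hom = I.subschemeι ≫ T.hom
        rw [← Over.w ((hcl a).rep.snd g), IsClosedImmersion.lift_fac_assoc])
    have hlo : lo ≫ (hcl a).rep.snd g = ιW := by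
      ext1
      exact IsClosedImmersion.lift_fac _ _ H
    refine ⟨(yon S).map lo ≫ (hcl a).rep.fst g, ?_⟩
    rw [Category.assoc, ((hcl a).rep.isPullback g).w, ← Category.assoc, ← Functor.map_comp, hlo]
  obtain ⟨a₀, ha₀⟩ := huniv _ _ hW
  let c : (yon S).obj W ⟶ pullback m g := pullback.lift a₀ ((yon S).map ιW) ha₀
  have hc1 : c ≫ pullback.fst m g = a₀ := pullback.lift_fst _ _ _
  have hc2 : c ≫ pullback.snd m g = (yon S).map ιW := pullback.lift_snd _ _ _
  have : Mono ιW := by
    have : Mono ιW.left := inferInstanceAs (Mono I.subschemeι)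
    exact Over.mono_of_mono_left _
  have : Mono c := by
    have : Mono (c ≫ pullback.snd m g) := by rw [hc2]; infer_instance
    exact mono_of_mono c (pullback.snd m g)
  have : Epi c := by
    apply epi_of_lift
    intro V z
    obtain ⟨t, ht⟩ := (yon S).map_surjective (z ≫ pullback.snd m g)
    have hI : I ≤ t.left.ker := by
      refine iSup_le fun a => ?_
      obtain ⟨k, hk'⟩ := hk a
      have hcomm : (z ≫ pullback.fst m g ≫ k) ≫ i' a = (yon S).map t ≫ g := by
        rw [Category.assoc, Category.assoc, hk', pullback.condition, ← Category.assoc, ht]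
      obtain ⟨r, hr⟩ := (yon S).map_surjective (((hcl a).rep.isPullback g).lift _ _ hcomm)
      have hrt : r ≫ (hcl a).rep.snd g = t := by
        apply (yon S).map_injective
        rw [Functor.map_comp, hr, IsPullback.lift_snd]
      have : t.left = r.left ≫ ((hcl a).rep.snd g).left := by rw [← hrt]; rfl
      rw [this]
      exact Scheme.Hom.le_ker_comp _ _
    have H : I.subschemeι.ker ≤ t.left.ker := by
      rwa [Scheme.IdealSheafData.ker_subschemeι]
    let τ : V ⟶ W := Over.homMk (IsClosedImmersion.lift I.subschemeι t.left H) (by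
      change _ ≫ I.subschemeι ≫ T.hom = V.hom
      rw [IsClosedImmersion.lift_fac_assoc, Over.w t])
    have hτ : τ ≫ ιW = t := by
      ext1
      exact IsClosedImmersion.lift_fac _ _ H
    refine ⟨(yon S).map τ, ?_⟩
    apply pullback.hom_ext
    · rw [Category.assoc, hc1, ← cancel_mono m, Category.assoc, ha₀, ← Category.assoc,
        ← Functor.map_comp, hτ, ht, Category.assoc, Category.assoc, pullback.condition]
    · rw [Category.assoc, hc2, ← Functor.map_comp, hτ, ht]
  have : IsIso c := isIso_of_mono_of_epi c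
  refine ⟨W, a₀, ιW, ?_, inferInstanceAs (IsClosedImmersion I.subschemeι)⟩
  exact IsPullback.of_iso_pullback ⟨ha₀⟩ (asIso c) hc1 hc2

/-- **Existence of the scheme theoretic image** of an arbitrary morphism to an algebraic space. -/
theorem exists_isSchImage {X Y : Sp S} (hY : IsAlgSpace Y) (f : X ⟶ Y) :
    ∃ (Z : Sp S) (i : Z ⟶ Y), IsAlgSpace Z ∧ IsSchImage f i := by
  let Idx := {a : Σ Z' : Sp S, Z' ⟶ Y // IsAlgSpace a.1 ∧ RepWith @IsClosedImmersion a.2 ∧
    ∃ f'' : X ⟶ a.1, f'' ≫ a.2 = f}
  obtain ⟨Z, m, hm, hk, huniv⟩ := exists_inter_closed (fun a : Idx => a.1.1) (fun a => a.1.2)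
    (fun a => a.2.2.1)
  refine ⟨Z, m, isAlgSpace_of_representable m hm.rep hY, hm, ?_, ?_⟩
  · exact huniv X f (fun a => a.2.2.2)
  · intro Z' i' hZ' hi' hfac
    exact hk ⟨⟨Z', i'⟩, hZ', hi', hfac⟩

end Groth.Agent.Lib.Helper23.ClosedDescent
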