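import Groth.Agent.Lib.Helper23.SchImage
import Groth.Agent.Lib.Helper12.AlgSpPoints2
import Groth.Agent.Lib.Helper23.AlgSpImm2

/-!
# Morphisms from reduced spaces and closed subspaces; the reduced case of the scheme theoretic image
(helper23)
-/

set_option autoImplicit false
universe u
open CategoryTheory CategoryTheory.Limits AlgebraicGeometry Opposite

namespace Groth.Agent.Lib.Helper23.ClosedDescent

open AlgSp Groth.Agent.Lib.Helper23.AlgSpMor Groth.Agent.Lib.Helper37.AlgSpPoints
  Groth.Agent.Lib.Helper12.AlgSpPoints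

variable {S : Scheme.{u}}

/-- A morphism from a reduced sheaf landing (on points) in a closed subspace factors through it. -/
theorem exists_factor_of_isReducedSp {X Y Z : Sp S} (hX : IsReducedSp X) (f : X ⟶ Y) (i : Z ⟶ Y)
    (hi : RepWith @IsClosedImmersion i)
    (hsub : Set.range (Points.map f) ⊆ Set.range (Points.map i)) : ∃ f' : X ⟶ Z, f' ≫ i = f := by
  obtain ⟨W, a, hae, has, hWred⟩ := hX
  have : Mono i := mono_of_repWith_isClosedImmersion i hi
  have sq := hi.rep.isPullback (a ≫ f)
  have hcl : IsClosedImmersion (hi.rep.snd (a ≫ f)).left := hi.property_snd _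
  have hsurj : Surjective (hi.rep.snd (a ≫ f)).left := by
    refine ⟨fun w => ?_⟩
    have h1 := Points.preimage_image_of_isPullback sq Set.univ
    rw [Set.image_univ, Set.preimage_univ, Set.image_univ] at h1
    have h2 : w ∈ Points.ofPt (a ≫ f) ⁻¹' Set.range (Points.map i) := by
      apply hsub
      exact ⟨Points.ofPt a w, Points.map_ofPt a f w⟩
    rw [h1] at h2
    exact h2
  have : IsReduced W.left := hWred
  have hiso : IsIso (hi.rep.snd (a ≫ f)).left := isIso_of_isClosedImmersion_of_surjective _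
  have : IsIso (hi.rep.snd (a ≫ f)) := by
    have : IsIso ((Over.forget S).map (hi.rep.snd (a ≫ f))) := hiso
    exact isIso_of_reflects_iso _ (Over.forget S)
  let b : (yon S).obj W ⟶ Z := inv ((yon S).map (hi.rep.snd (a ≫ f))) ≫ hi.rep.fst (a ≫ f)
  have hb : b ≫ i = a ≫ f := by
    rw [Category.assoc, sq.w, IsIso.inv_hom_id_assoc]
  have hepi : Epi a := epi_of_etale_surjective a hae has
  have h3 : pullback.lift a b hb.symm ≫ pullback.fst f i = a := pullback.lift_fst _ _ _
  have : Epi (pullback.fst f i) := epi_of_epi_fac h3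
  have : IsIso (pullback.fst f i) := isIso_of_mono_of_epi _
  refine ⟨inv (pullback.fst f i) ≫ pullback.snd f i, ?_⟩
  rw [Category.assoc, ← pullback.condition, IsIso.inv_hom_id_assoc]

/-- Two closed subspaces each contained in the other are isomorphic over the ambient sheaf. -/
theorem isIso_of_mutual_factor {Z Z₀ Y : Sp S} (i : Z ⟶ Y) (i₀ : Z₀ ⟶ Y) [Mono i] [Mono i₀]
    (k : Z ⟶ Z₀) (hk : k ≫ i₀ = i) (k' : Z₀ ⟶ Z) (hk' : k' ≫ i = i₀) : IsIso k := by
  refine ⟨k', ?_, ?_⟩
  · rw [← cancel_mono i, Category.assoc, hk', hk, Category.id_comp]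
  · rw [← cancel_mono i₀, Category.assoc, hk, hk', Category.id_comp]

/-- The scheme theoretic image of a morphism from a reduced space is the reduced induced structure
on the closure of the image. -/
theorem isRedInduced_of_isSchImage_of_isReducedSp {X Y Z : Sp S} (hY : IsAlgSpace Y)
    (hX : IsReducedSp X) (f : X ⟶ Y) (i : Z ⟶ Y) (hZ : IsSchImage f i) :
    IsRedInduced (closure (Set.range (Points.map f))) i := by
  obtain ⟨hicl, ⟨f', hf'⟩, hmin⟩ := hZ
  obtain ⟨Z₀, i₀, hZ₀alg, hi₀cl, hi₀r, hZ₀red⟩ :=
    exists_isRedInduced hY (closure (Set.range (Points.map f))) isClosed_closure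
  have : Mono i := mono_of_repWith_isClosedImmersion i hicl
  have : Mono i₀ := mono_of_repWith_isClosedImmersion i₀ hi₀cl
  -- `f` factors through `Z₀`
  obtain ⟨f₀, hf₀⟩ := exists_factor_of_isReducedSp hX f i₀ hi₀cl (by
    rw [hi₀r]; exact subset_closure)
  obtain ⟨k, hk⟩ := hmin i₀ hZ₀alg hi₀cl ⟨f₀, hf₀⟩
  -- `Z₀` factors through `Z`
  have hclosed : IsClosed (Set.range (Points.map i)) :=
    (repWith_isClosedImmersion_iff_isClosed_range i
      (MorphismProperty.relative_monotone (fun _ _ g hg => by
        have : IsClosedImmersion g.left := hg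
        exact (inferInstance : IsImmersion g.left)) _ hicl)).1 hicl
  have hsub : Set.range (Points.map i₀) ⊆ Set.range (Points.map i) := by
    rw [hi₀r]
    apply closure_minimal _ hclosed
    rintro _ ⟨x, rfl⟩
    exact ⟨Points.map f' x, by rw [← Points.map_comp, hf']⟩
  obtain ⟨k', hk'⟩ := exists_factor_of_isReducedSp hZ₀red i₀ i hicl hsub
  have hkiso : IsIso k := isIso_of_mutual_factor i i₀ k hk k' hk'
  refine ⟨hicl, ?_, ?_⟩
  · rw [← hi₀r]
    apply Set.eq_of_subset_of_subset
    · rintro _ ⟨z, rfl⟩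
      exact ⟨Points.map k z, by rw [← Points.map_comp, hk]⟩
    · exact hsub
  · obtain ⟨W, e, hee, hes, hW⟩ := hZ₀red
    have hk'iso : IsIso k' := by
      have : k' = inv k := by
        rw [← cancel_mono i, hk', ← hk, IsIso.inv_hom_id_assoc]
      rw [this]; infer_instance
    refine ⟨W, e ≫ k', ?_, ?_, hW⟩
    · exact ((RepWith @Etale).cancel_right_of_respectsIso e k').2 hee
    · exact ((RepWith @Surjective).cancel_right_of_respectsIso e k').2 hes

end Groth.Agent.Lib.Helper23.ClosedDescent
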