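import Groth.Agent.Lib.Helper23.SchImageQc5

/-!
# Immersions into their scheme theoretic image (helper23)

Scheme level facts: an immersion with dense image into a reduced scheme is an open immersion;
a morphism with dense image into a reduced scheme is injective on functions; an open immersion
injective on functions has schematically dense image.
-/

set_option autoImplicit false
universe u
open CategoryTheory CategoryTheory.Limits AlgebraicGeometry Opposite

namespace Groth.Agent.Lib.Helper23.SchImageQc

/-- An immersion with dense image into a reduced scheme is an open immersion. -/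
theorem isOpenImmersion_of_isImmersion_of_denseRange {W T : Scheme.{u}} (γ : W ⟶ T)
    [IsImmersion γ] [IsReduced T] (hd : DenseRange γ) : IsOpenImmersion γ := by
  have hsurj : Surjective γ.liftCoborder := by
    refine ⟨fun t => ?_⟩
    -- the range of `γ.liftCoborder` is closed and dense
    have hcl : IsClosed (Set.range γ.liftCoborder) :=
      γ.liftCoborder.isClosedEmbedding.isClosed_range
    have hdense : Dense (Set.range γ.liftCoborder) := by
      intro t
      rw [mem_closure_iff]
      intro o ho hto
      have ho' : IsOpen (γ.coborderRange.ι '' o) := γ.coborderRange.ι.isOpenEmbedding.isOpenMap o ho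
      obtain ⟨_, ⟨t', ht'o, rfl⟩, ⟨w, hw⟩⟩ := hd.inter_open_nonempty _ ho' ⟨_, t, hto, rfl⟩
      refine ⟨t', ht'o, w, ?_⟩
      apply γ.coborderRange.ι.isOpenEmbedding.injective
      rw [← hw, ← Scheme.Hom.comp_apply, γ.liftCoborder_ι]
    have : Set.range γ.liftCoborder = Set.univ := by
      rw [← hcl.closure_eq]; exact hdense.closure_eq
    exact Set.range_eq_univ.1 this t
  have : IsIso γ.liftCoborder := isIso_of_isClosedImmersion_of_surjective γ.liftCoborder
  rw [← γ.liftCoborder_ι]
  infer_instance

/-- A morphism with dense image into a reduced scheme is injective on functions. -/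
theorem app_injective_of_denseRange_of_isReduced {W T : Scheme.{u}} (γ : W ⟶ T) [IsReduced T]
    (hd : DenseRange γ) (V : T.Opens) : Function.Injective (γ.app V) := by
  rw [injective_iff_map_eq_zero]
  intro s hs
  rw [← basicOpen_eq_bot_iff]
  have h1 : γ ⁻¹ᵁ T.basicOpen s = ⊥ := by
    rw [Scheme.preimage_basicOpen, hs, Scheme.basicOpen_zero]
  by_contra hne
  obtain ⟨t, ht⟩ : (T.basicOpen s : Set T).Nonempty := by
    rw [Set.nonempty_iff_ne_empty]
    intro h
    exact hne (SetLike.coe_injective (by simpa using h))
  obtain ⟨_, ht', ⟨w, rfl⟩⟩ := hd.inter_open_nonempty _ (T.basicOpen s).isOpen ⟨t, ht⟩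
  have : w ∈ γ ⁻¹ᵁ T.basicOpen s := ht'
  rw [h1] at this
  exact this

/-- If `γ` is injective on functions over every open, then every open containing the image of `γ` is
schematically dense. -/
theorem isSchematicallyDense_of_app_injective {W T : Scheme.{u}} (γ : W ⟶ T)
    (h : ∀ V : T.Opens, Function.Injective (γ.app V)) (R : T.Opens) (hR : γ ⁻¹ᵁ R = ⊤) :
    CInt.IsSchematicallyDense R := by
  intro V
  rw [injective_iff_map_eq_zero]
  intro s hs
  apply h V
  have e : γ ⁻¹ᵁ V ≤ γ ⁻¹ᵁ (V ⊓ R) := by
    rw [Scheme.Hom.preimage_inf, hR, inf_top_eq]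
  have := γ.map_appLE e (homOfLE (inf_le_left : V ⊓ R ≤ V)).op
  rw [map_zero, Scheme.Hom.app_eq_appLE, ← this, CommRingCat.comp_apply, hs, map_zero]

end Groth.Agent.Lib.Helper23.SchImageQc
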