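import Groth.Agent.Lib.Helper23.SchImageImm
import Groth.Agent.Lib.Helper23.ImmDescent2
import Groth.Agent.Lib.Helper23.ProperClosed3

/-!
# Immersions into their scheme theoretic image: the sheaf level (helper23)
-/

set_option autoImplicit false
universe u
open CategoryTheory CategoryTheory.Limits AlgebraicGeometry Opposite

namespace Groth.Agent.Lib.Helper23.SchImageQc

open AlgSp Groth.Agent.Lib.Helper23.AlgSpMor Groth.Agent.Lib.Helper23.ClosedDescent
  Groth.Agent.Lib.Helper37.AlgSpPoints

variable {S : Scheme.{u}}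

/-- If `c` is a closed immersion, `h = h' ≫ c` and the image of `c` lies in the closure of the image
of `h`, then `h'` has dense image. -/
theorem dense_range_of_range_subset_closure {Z X Zbar : Sp S} (hX : IsAlgSpace X) (h : Z ⟶ X)
    (c : Zbar ⟶ X) (hc : RepWith @IsClosedImmersion c) (h' : Z ⟶ Zbar) (fac : h' ≫ c = h)
    (hsub : Set.range (Points.map c) ⊆ closure (Set.range (Points.map h))) :
    Dense (Set.range (Points.map h')) := by
  have : Mono c := mono_of_repWith_isClosedImmersion c hc
  have hce : Topology.IsClosedEmbedding (Points.map c) :=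
    Topology.IsClosedEmbedding.of_continuous_injective_isClosedMap (Points.continuous_map c)
      (Groth.Agent.Lib.Helper5.LargestOpenSp.injective_map_of_mono c)
      (isClosedMap_points_of_isUnivClosedMor hX c (isUnivClosedMor_of_repWith_isClosedImmersion c hc))
  intro z
  rw [hce.isInducing.closure_eq_preimage_closure_image]
  have h1 : Points.map c '' Set.range (Points.map h') = Set.range (Points.map h) := by
    rw [← Set.range_comp, ← fac]
    congr 1
    funext x
    exact (Points.map_comp h' c x).symm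
  rw [h1]
  exact hsub ⟨z, rfl⟩

/-- **Chart criterion**: `h = h' ≫ c` with `c` a monomorphism; on a chart `U` of `X` the base change
`γ : W ⟶ T` of `h'` is an open immersion injective on functions.  Then `h'` is an open immersion
and scheme theoretically dense. -/
theorem repWith_isOpenImmersion_and_isSchDense_of_chart {Z X Zbar : Sp S} (h : Z ⟶ X)
    (c : Zbar ⟶ X) [Mono c] (h' : Z ⟶ Zbar) (fac : h' ≫ c = h) {U W T : Over S}
    (p : (yon S).obj U ⟶ X) (hpe : RepWith @Etale p) (hps : RepWith @Surjective p)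
    (fst : (yon S).obj W ⟶ Z) (ga : W ⟶ U) (sq : IsPullback fst ((yon S).map ga) h p)
    (ι : T ⟶ U) (e : (yon S).obj T ⟶ Zbar) (sqE : IsPullback e ((yon S).map ι) c p)
    (γ : W ⟶ T) (hγ : γ ≫ ι = ga) (ho : IsOpenImmersion γ.left)
    (hinj : ∀ V' : T.left.Opens, Function.Injective (γ.left.app V')) :
    RepWith @IsOpenImmersion h' ∧ IsSchDense h' := by
  have hee : RepWith @Etale e := (RepWith @Etale).of_isPullback sqE.flip hpe
  have hes : RepWith @Surjective e := (RepWith @Surjective).of_isPullback sqE.flip hps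
  have hfe : (yon S).map γ ≫ e = fst ≫ h' := by
    rw [← cancel_mono c, Category.assoc, Category.assoc, fac, sq.w, sqE.w, ← Category.assoc,
      ← Functor.map_comp, hγ]
  have t : IsPullback ((yon S).map γ ≫ (yon S).map ι) fst p (h' ≫ c) := by
    rw [← Functor.map_comp, hγ, fac]
    exact sq.flip
  have sqγ : IsPullback ((yon S).map γ) fst e h' := IsPullback.of_right t hfe sqE.flip
  have hopen : RepWith @IsOpenImmersion h' :=
    repWith_isOpenImmersion_of_fppf_cover h' e (repWith_flat_of_etale hee) (repWith_lfp_of_etale hee)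
      hes sqγ.flip ((repWith_yon_map_iff _ γ).2 ho)
  refine ⟨hopen, hopen, ?_⟩
  have := ho
  obtain ⟨R, hR⟩ : ∃ R, R = γ.left.opensRange := ⟨_, rfl⟩
  have hrange : Set.range R.ι = Set.range γ.left := by
    rw [Scheme.Opens.range_ι, hR]; rfl
  obtain ⟨ε₀, hε₀⟩ : ∃ ε₀, ε₀ = IsOpenImmersion.isoOfRangeEq R.ι γ.left hrange := ⟨_, rfl⟩
  have hε₀fac : ε₀.hom ≫ γ.left = R.ι := by
    rw [hε₀]; exact IsOpenImmersion.isoOfRangeEq_hom_fac _ _ _
  let εiso : Over.mk (R.ι ≫ T.hom) ≅ W := Over.isoMk ε₀ (by
    change ε₀.hom ≫ W.hom = R.ι ≫ T.hom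
    rw [← Over.w γ, ← Category.assoc, hε₀fac])
  obtain ⟨ε, hε⟩ : ∃ ε, ε = εiso.hom := ⟨_, rfl⟩
  have hεγ : ε ≫ γ = (Over.homMk R.ι rfl : Over.mk (R.ι ≫ T.hom) ⟶ T) := by
    rw [hε]
    ext1
    exact hε₀fac
  have : IsIso ε := by rw [hε]; infer_instance
  have : IsIso ((yon S).map ε) := inferInstance
  refine ⟨T, e, R, (yon S).map ε ≫ fst, hee, hes, ?_, ?_⟩
  · refine IsPullback.of_iso sqγ.flip (asIso ((yon S).map ε)).symm (Iso.refl _) (Iso.refl _)
      (Iso.refl _) ?_ ?_ ?_ ?_
    · simp
    · simp only [Iso.refl_hom, Category.comp_id, Iso.symm_hom, asIso_inv, IsIso.eq_inv_comp]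
      rw [← Functor.map_comp, hεγ]
    · simp
    · simp
  · refine isSchematicallyDense_of_app_injective γ.left hinj R ?_
    rw [hR]
    exact Scheme.Hom.preimage_opensRange γ.left

end Groth.Agent.Lib.Helper23.SchImageQc
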