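import Groth.Agent.Lib.Helper23.SchImageImm2

/-!
# A quasi-compact or reduced-source immersion is a dense open immersion into its scheme theoretic
image (helper23)
-/

set_option autoImplicit false
universe u
open CategoryTheory CategoryTheory.Limits AlgebraicGeometry Opposite

namespace Groth.Agent.Lib.Helper23.SchImageQc

open AlgSp Groth.Agent.Lib.Helper23.AlgSpMor Groth.Agent.Lib.Helper23.ClosedDescent
  Groth.Agent.Lib.Helper37.AlgSpPoints

variable {S : Scheme.{u}}

/-- The scheme theoretic image on a given good chart. -/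
theorem exists_isPullback_image_of_chart {V Y Z : Sp S} (hY : IsAlgSpace Y) (hZ : IsAlgSpace Z)
    (g : V ⟶ Y) (i : Z ⟶ Y) (hi : IsSchImage g i) {U W : Over S} (p : (yon S).obj U ⟶ Y)
    (hpe : RepWith @Etale p) (hps : RepWith @Surjective p) (ga : W ⟶ U)
    (hgaq : QuasiCompact ga.left) (w : (yon S).obj W ⟶ V) (hw : w ≫ g = (yon S).map ga ≫ p)
    (hepi : Epi (pullback.lift w ((yon S).map ga) hw)) :
    ∃ e : (yon S).obj (imageOver ga) ⟶ Z, IsPullback e ((yon S).map (imageOverι ga)) i p := by
  obtain ⟨Z₀, m, e₀, hZ₀, hm, sq⟩ := exists_image_of_chart hY g p hpe hps ga hgaq w hw hepi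
  obtain ⟨k, hk⟩ := hm.2.2 i hZ hi.1 hi.2.1
  obtain ⟨k', hk'⟩ := hi.2.2 m hZ₀ hm.1 hm.2.1
  have : Mono i := mono_of_repWith_isClosedImmersion i hi.1
  have : Mono m := mono_of_repWith_isClosedImmersion m hm.1
  have : IsIso k := isIso_of_mutual_factor m i k hk k' hk'
  refine ⟨e₀ ≫ k, ?_⟩
  refine IsPullback.of_iso sq (Iso.refl _) (asIso k) (Iso.refl _) (Iso.refl _) ?_ ?_ ?_ ?_
  · simp
  · simp
  · simpa using hk.symm
  · simp

/-- Density passes to an etale chart. -/
theorem denseRange_of_dense_of_isPullback {Z Zbar : Sp S} (h' : Z ⟶ Zbar)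
    (hd : Dense (Set.range (Points.map h'))) {W T : Over S} (fst : (yon S).obj W ⟶ Z) (γ : W ⟶ T)
    (e : (yon S).obj T ⟶ Zbar) (hee : RepWith @Etale e)
    (sq : IsPullback fst ((yon S).map γ) h' e) : DenseRange γ.left := by
  intro t
  rw [mem_closure_iff]
  intro o ho hto
  have ho' : IsOpen (Points.ofPt e '' o) := isOpenMap_ofPt e hee o ho
  obtain ⟨_, ⟨t', ht'o, rfl⟩, ⟨z, hz⟩⟩ := hd.inter_open_nonempty _ ho' ⟨_, t, hto, rfl⟩
  obtain ⟨pt, -, hpt2⟩ := points_exists_of_isPullback sq z (Points.ofScheme T t')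
    (by rw [hz, Points.ofPt_eq_map_ofScheme])
  refine ⟨t', ht'o, Points.toScheme W pt, ?_⟩
  have h1 : Points.map ((yon S).map γ) (Points.ofScheme W (Points.toScheme W pt)) =
      Points.ofScheme T (γ.left (Points.toScheme W pt)) := by
    rw [← Points.ofPt_eq_map_ofScheme, ofPt_yon_map]
  rw [Points.ofScheme_toScheme, hpt2] at h1
  have := congrArg (Points.toScheme T) h1
  rw [Points.toScheme_ofScheme, Points.toScheme_ofScheme] at this
  exact this.symm

/-- The base change of `h'` to a chart, as a pullback square. -/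
theorem isPullback_of_chart {Z X Zbar : Sp S} (h : Z ⟶ X) (c : Zbar ⟶ X) [Mono c] (h' : Z ⟶ Zbar)
    (fac : h' ≫ c = h) {U W T : Over S} (p : (yon S).obj U ⟶ X) (fst : (yon S).obj W ⟶ Z)
    (ga : W ⟶ U) (sq : IsPullback fst ((yon S).map ga) h p) (ι : T ⟶ U)
    (e : (yon S).obj T ⟶ Zbar) (sqE : IsPullback e ((yon S).map ι) c p) (γ : W ⟶ T)
    (hγ : γ ≫ ι = ga) : IsPullback fst ((yon S).map γ) h' e := by
  have hfe : (yon S).map γ ≫ e = fst ≫ h' := by
    rw [← cancel_mono c, Category.assoc, Category.assoc, fac, sq.w, sqE.w, ← Category.assoc,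
      ← Functor.map_comp, hγ]
  have t : IsPullback ((yon S).map γ ≫ (yon S).map ι) fst p (h' ≫ c) := by
    rw [← Functor.map_comp, hγ, fac]
    exact sq.flip
  exact (IsPullback.of_right t hfe sqE.flip).flip

/-- **A quasi-compact (or reduced-source) immersion is a scheme theoretically dense, topologically
dense open immersion into its scheme theoretic image.** -/
theorem immersion_into_isSchImage {Z X Zbar : Sp S} (hZ : IsAlgSpace Z) (hX : IsAlgSpace X)
    (hZbar : IsAlgSpace Zbar) (h : Z ⟶ X) (hh : RepWith @IsImmersion h)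
    (hq : IsQuasiCompactMor h ∨ IsReducedSp Z) (c : Zbar ⟶ X) (hc : IsSchImage h c)
    (h' : Z ⟶ Zbar) (fac : h' ≫ c = h) :
    RepWith @IsOpenImmersion h' ∧ IsSchDense h' ∧ Dense (Set.range (Points.map h')) := by
  have : Mono c := mono_of_repWith_isClosedImmersion c hc.1
  obtain ⟨U, p, hpe, hps⟩ := hX.atlas
  have sq := hh.rep.isPullback p
  obtain ⟨fst, hfst⟩ : ∃ fst, fst = hh.rep.fst p := ⟨_, rfl⟩
  obtain ⟨ga, hga⟩ : ∃ ga, ga = hh.rep.snd p := ⟨_, rfl⟩
  rw [← hfst, ← hga] at sq
  have himm : IsImmersion ga.left := by rw [hga]; exact hh.property_snd p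
  rcases hq with hq | hred
  · -- the quasi-compact case
    have hgaq : QuasiCompact ga.left :=
      (repWith_quasiCompact_of_isQuasiCompactMor h hh.rep hq).property p fst ga sq
    have hepi : Epi (pullback.lift fst ((yon S).map ga) sq.w) := by
      have : pullback.lift fst ((yon S).map ga) sq.w = sq.isoPullback.hom := by
        apply pullback.hom_ext
        · rw [pullback.lift_fst, sq.isoPullback_hom_fst]
        · rw [pullback.lift_snd, sq.isoPullback_hom_snd]
      rw [this]; infer_instance
    obtain ⟨e, sqE⟩ :=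
      exists_isPullback_image_of_chart hX hZbar h c hc p hpe hps ga hgaq fst sq.w hepi
    have hdense : Dense (Set.range (Points.map h')) :=
      dense_range_of_range_subset_closure hX h c hc.1 h' fac
        (range_subset_closure_of_isSchImage hZ hX hZbar h hq c hc)
    have ho : IsOpenImmersion (toImageOver ga).left :=
      inferInstanceAs (IsOpenImmersion ga.left.toImage)
    have hinj : ∀ V' : (imageOver ga).left.Opens,
        Function.Injective ((toImageOver ga).left.app V') := fun V' => by
      have := ClosedDescentSch.isSchemeTheoreticallyDominant_toImage ga.left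
      exact Scheme.Hom.app_injective ga.left.toImage V'
    obtain ⟨h1, h2⟩ := repWith_isOpenImmersion_and_isSchDense_of_chart h c h' fac p hpe hps fst ga
      sq (imageOverι ga) e sqE (toImageOver ga) (toImageOver_imageOverι ga) ho hinj
    exact ⟨h1, h2, hdense⟩
  · -- the reduced case
    have hri := isRedInduced_of_isSchImage_of_isReducedSp hX hred h c hc
    have hdense : Dense (Set.range (Points.map h')) :=
      dense_range_of_range_subset_closure hX h c hc.1 h' fac (by rw [hri.2.1])
    have sqE := hc.1.rep.isPullback p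
    obtain ⟨e, he⟩ : ∃ e, e = hc.1.rep.fst p := ⟨_, rfl⟩
    obtain ⟨ι, hι⟩ : ∃ ι, ι = hc.1.rep.snd p := ⟨_, rfl⟩
    rw [← he, ← hι] at sqE
    have hee : RepWith @Etale e := (RepWith @Etale).of_isPullback sqE.flip hpe
    have hcomm : (fst ≫ h') ≫ c = (yon S).map ga ≫ p := by rw [Category.assoc, fac, sq.w]
    obtain ⟨γ, hγ'⟩ := (yon S).map_surjective (sqE.lift _ _ hcomm)
    have hγ : γ ≫ ι = ga := by
      apply (yon S).map_injective
      rw [Functor.map_comp, hγ', sqE.lift_snd]
    have : IsImmersion (γ.left ≫ ι.left) := by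
      rw [← Over.comp_left, hγ]; exact himm
    have hγimm : IsImmersion γ.left := IsImmersion.of_comp γ.left ι.left
    have hTred : IsReduced (hc.1.rep.pullback p).left :=
      Groth.Agent.Lib.Helper46.RedDescent.isReduced_of_etale_chart hri.2.2 e hee
    have sqγ := isPullback_of_chart h c h' fac p fst ga sq ι e sqE γ hγ
    have hdr : DenseRange γ.left := denseRange_of_dense_of_isPullback h' hdense fst γ e hee sqγ
    have ho : IsOpenImmersion γ.left := isOpenImmersion_of_isImmersion_of_denseRange γ.left hdr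
    have hinj := app_injective_of_denseRange_of_isReduced γ.left hdr
    obtain ⟨h1, h2⟩ := repWith_isOpenImmersion_and_isSchDense_of_chart h c h' fac p hpe hps fst ga
      sq ι e sqE γ hγ ho hinj
    exact ⟨h1, h2, hdense⟩

end Groth.Agent.Lib.Helper23.SchImageQc
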