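import Groth.Agent.Lib.Helper23.SchImage2
import Groth.Agent.Lib.Helper23.ClosedDescentSch
import Groth.Agent.Lib.Helper23.AlgSpDescent

/-!
# Scheme theoretic images of quasi-compact morphisms: chart computations (helper23)

Scheme level: flat base change of the scheme theoretic image of a quasi-compact morphism, in the form
"the base change of the image is contained in every closed subscheme through which the base change
of the morphism factors".  Sheaf level: the same statement for a sheaf `F ⟶ h_U` covered by a scheme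
`W` with `W ⟶ U` quasi-compact.
-/

set_option autoImplicit false
universe u
open CategoryTheory CategoryTheory.Limits AlgebraicGeometry Opposite

namespace Groth.Agent.Lib.Helper23.SchImageQc

open AlgSp Groth.Agent.Lib.Helper23.AlgSpMor Groth.Agent.Lib.Helper23.ClosedDescent

variable {S : Scheme.{u}}

/-- Epimorphisms of sheaves lift against monomorphisms. -/
theorem exists_lift_of_epi_mono {A B C D : Sp S} (e : A ⟶ B) [Epi e] (m : C ⟶ D) [Mono m]
    (f : A ⟶ C) (g : B ⟶ D) (h : f ≫ m = e ≫ g) : ∃ l : B ⟶ C, l ≫ m = g ∧ e ≫ l = f := by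
  have : StrongEpi e := StrongEpiCategory.strongEpi_of_epi e
  have sq : CommSq f e m g := ⟨h⟩
  exact ⟨sq.lift, sq.fac_right, sq.fac_left⟩

/-- **Flat base change of the scheme theoretic image (scheme level).**  For `ga : W ⟶ U`
quasi-compact and `c : U' ⟶ U` flat, the base change `K` of the image of `ga` along `c` lies in every
closed subscheme of `U'` through which `W ×_U U' ⟶ U'` factors. -/
theorem exists_lift_image_of_isPullback {U U' W Z'' K W' : Scheme.{u}} (c : U' ⟶ U) [Flat c]
    (ga : W ⟶ U) [QuasiCompact ga] (k : K ⟶ U') (s' : K ⟶ ga.image)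
    (sqK : IsPullback k s' c ga.imageι) (j : Z'' ⟶ U') [IsClosedImmersion j] (w₁ : W' ⟶ W)
    (w₂ : W' ⟶ U') (sqW : IsPullback w₁ w₂ ga c) (l₀ : W' ⟶ Z'') (hl₀ : l₀ ≫ j = w₂) :
    ∃ l : K ⟶ Z'', l ≫ j = k := by
  have hcomm : w₂ ≫ c = (w₁ ≫ ga.toImage) ≫ ga.imageι := by
    rw [Category.assoc, ga.toImage_imageι, sqW.w]
  obtain ⟨d, hd⟩ : ∃ d, d = sqK.lift w₂ (w₁ ≫ ga.toImage) hcomm := ⟨_, rfl⟩
  have hd1 : d ≫ k = w₂ := by rw [hd]; exact sqK.lift_fst _ _ _
  have hd2 : d ≫ s' = w₁ ≫ ga.toImage := by rw [hd]; exact sqK.lift_snd _ _ _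
  have hbig : IsPullback (d ≫ k) w₁ c (ga.toImage ≫ ga.imageι) := by
    rw [hd1, ga.toImage_imageι]
    exact sqW.flip
  have hleft : IsPullback d w₁ s' ga.toImage := IsPullback.of_right hbig hd2 sqK
  have := ClosedDescentSch.isSchemeTheoreticallyDominant_toImage ga
  have hs'flat : Flat s' := MorphismProperty.of_isPullback (P := @Flat) sqK ‹Flat c›
  have : IsSchemeTheoreticallyDominant d := IsSchemeTheoreticallyDominant.of_isPullback hleft.flip
  have hker : (d ≫ k).ker = k.ker := by
    rw [Scheme.Hom.ker_comp, d.ker_eq_bot, Scheme.IdealSheafData.map_bot]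
  have H : j.ker ≤ k.ker := by
    rw [← hker, hd1, ← hl₀]
    exact Scheme.Hom.le_ker_comp l₀ j
  exact ⟨IsClosedImmersion.lift j k H, IsClosedImmersion.lift_fac _ _ H⟩

/-- The scheme theoretic image of a morphism of schemes over `S`, as a scheme over `S`. -/
noncomputable def imageOver {W U : Over S} (ga : W ⟶ U) : Over S :=
  Over.mk (ga.left.imageι ≫ U.hom)

/-- The closed immersion of the scheme theoretic image. -/
noncomputable def imageOverι {W U : Over S} (ga : W ⟶ U) : imageOver ga ⟶ U :=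
  Over.homMk ga.left.imageι rfl

/-- The morphism to the scheme theoretic image. -/
noncomputable def toImageOver {W U : Over S} (ga : W ⟶ U) : W ⟶ imageOver ga :=
  Over.homMk ga.left.toImage (by
    change ga.left.toImage ≫ ga.left.imageι ≫ U.hom = W.hom
    rw [← Category.assoc, ga.left.toImage_imageι, Over.w])

@[simp] lemma imageOverι_left {W U : Over S} (ga : W ⟶ U) :
    (imageOverι ga).left = ga.left.imageι := rfl

@[simp] lemma toImageOver_left {W U : Over S} (ga : W ⟶ U) :
    (toImageOver ga).left = ga.left.toImage := rfl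

@[reassoc (attr := simp)] lemma toImageOver_imageOverι {W U : Over S} (ga : W ⟶ U) :
    toImageOver ga ≫ imageOverι ga = ga := by
  ext1
  exact ga.left.toImage_imageι

instance {W U : Over S} (ga : W ⟶ U) : Mono (imageOverι ga) := by
  have : Mono (imageOverι ga).left := inferInstanceAs (Mono ga.left.imageι)
  exact Over.mono_of_mono_left _

theorem isClosedImmersion_imageOverι {W U : Over S} (ga : W ⟶ U) :
    IsClosedImmersion (imageOverι ga).left :=
  inferInstanceAs (IsClosedImmersion ga.left.imageι)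

theorem repWith_imageOverι {W U : Over S} (ga : W ⟶ U) :
    RepWith @IsClosedImmersion ((yon S).map (imageOverι ga)) :=
  (repWith_yon_map_iff _ _).2 (isClosedImmersion_imageOverι ga)

/-- A morphism of schemes over `S` factoring through a closed subscheme: so does its image. -/
theorem exists_lift_imageOver {W U Z' : Over S} (ga : W ⟶ U) (j : Z' ⟶ U)
    (hj : IsClosedImmersion j.left) (l₀ : W ⟶ Z') (hl₀ : l₀ ≫ j = ga) :
    ∃ l : imageOver ga ⟶ Z', l ≫ j = imageOverι ga := by
  have H : j.left.ker ≤ ga.left.imageι.ker := by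
    rw [Scheme.Hom.imageι, Scheme.IdealSheafData.ker_subschemeι, ← hl₀]
    exact Scheme.Hom.le_ker_comp l₀.left j.left
  have hfac : IsClosedImmersion.lift j.left ga.left.imageι H ≫ j.left = ga.left.imageι :=
    IsClosedImmersion.lift_fac _ _ H
  refine ⟨Over.homMk (IsClosedImmersion.lift j.left ga.left.imageι H) ?_, ?_⟩
  · have h2 : j.left ≫ U.hom = Z'.hom := Over.w j
    change IsClosedImmersion.lift j.left ga.left.imageι H ≫ Z'.hom = ga.left.imageι ≫ U.hom
    rw [← h2, ← Category.assoc]
    exact congrArg (· ≫ U.hom) hfac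
  · ext1
    exact hfac

/-- **Flat base change of the scheme theoretic image (sheaf level).**  Let `F ⟶ h_U` be a sheaf over a
scheme with a map `h_W ⟶ F` such that `ga : W ⟶ U` is quasi-compact, let `c : U' ⟶ U` be flat and
`F' = F ×_{h_U} h_{U'}`.  If `F' ⟶ h_{U'}` factors through a closed subscheme `Z''` of `U'`, then the
base change `K` of the image of `ga` is contained in `Z''`. -/
theorem exists_lift_of_flat_chart {U U' W K Z'' : Over S} (c : U' ⟶ U) (hc : Flat c.left)
    (ga : W ⟶ U) (hga : QuasiCompact ga.left) (k : K ⟶ U') (s' : K ⟶ imageOver ga)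
    (sqK : IsPullback k s' c (imageOverι ga)) (j : Z'' ⟶ U') (hj : IsClosedImmersion j.left)
    {F F' : Sp S} (a : (yon S).obj W ⟶ F) (φ : F ⟶ (yon S).obj U) (ha : a ≫ φ = (yon S).map ga)
    (ψ : F' ⟶ F) (φ' : F' ⟶ (yon S).obj U') (sqF : IsPullback ψ φ' φ ((yon S).map c))
    (f'' : F' ⟶ (yon S).obj Z'') (hf'' : f'' ≫ (yon S).map j = φ') :
    ∃ l : K ⟶ Z'', l ≫ j = k := by
  have sqW := IsPullback.of_hasPullback ga c
  obtain ⟨w₁, hw₁⟩ : ∃ w₁, w₁ = pullback.fst ga c := ⟨_, rfl⟩
  obtain ⟨w₂, hw₂⟩ : ∃ w₂, w₂ = pullback.snd ga c := ⟨_, rfl⟩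
  rw [← hw₁, ← hw₂] at sqW
  have hcomm : ((yon S).map w₁ ≫ a) ≫ φ = (yon S).map w₂ ≫ (yon S).map c := by
    rw [Category.assoc, ha, ← Functor.map_comp, ← Functor.map_comp, sqW.w]
  obtain ⟨a', ha'⟩ : ∃ a', a' = sqF.lift ((yon S).map w₁ ≫ a) ((yon S).map w₂) hcomm := ⟨_, rfl⟩
  have ha'2 : a' ≫ φ' = (yon S).map w₂ := by rw [ha']; exact sqF.lift_snd _ _ _
  obtain ⟨l₀, hl₀⟩ := (yon S).map_surjective (a' ≫ f'')
  have hl₀j : l₀ ≫ j = w₂ := by
    apply (yon S).map_injective
    rw [Functor.map_comp, hl₀, Category.assoc, hf'', ha'2]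
  have := hc
  have := hga
  have := hj
  obtain ⟨l, hl⟩ := exists_lift_image_of_isPullback c.left ga.left k.left s'.left
    (sqK.map (Over.forget S)) j.left w₁.left w₂.left (sqW.map (Over.forget S)) l₀.left
    (congrArg CommaMorphism.left hl₀j)
  refine ⟨Over.homMk l ?_, ?_⟩
  · rw [← Over.w j, ← Category.assoc, hl, Over.w]
  · ext1
    exact hl

end Groth.Agent.Lib.Helper23.SchImageQc
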