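import Groth.Agent.Lib.Helper23.SchImageQc
import Groth.Agent.Lib.Helper23.RedInduced

/-!
# Scheme theoretic images of quasi-compact morphisms of algebraic spaces: construction on a chart
(helper23)

Let `g : V ⟶ Y` be a morphism to an algebraic space, `p : h_U ⟶ Y` an etale surjective chart and
`h_W ⟶ V ×_Y h_U` an epimorphism from a scheme with `ga : W ⟶ U` quasi-compact.  Then the scheme
theoretic image of `ga` descends to a closed subspace of `Y`, which is the scheme theoretic image of `g`.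
-/

set_option autoImplicit false
universe u
open CategoryTheory CategoryTheory.Limits AlgebraicGeometry Opposite

namespace Groth.Agent.Lib.Helper23.SchImageQc

open AlgSp Groth.Agent.Lib.Helper23.AlgSpMor Groth.Agent.Lib.Helper23.ClosedDescent

variable {S : Scheme.{u}}

/-- **The scheme theoretic image of a quasi-compact morphism, computed on a chart.** -/
theorem exists_image_of_chart {V Y : Sp S} (hY : IsAlgSpace Y) (g : V ⟶ Y) {U W : Over S}
    (p : (yon S).obj U ⟶ Y) (hpe : RepWith @Etale p) (hps : RepWith @Surjective p)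
    (ga : W ⟶ U) (hga : QuasiCompact ga.left) (w : (yon S).obj W ⟶ V)
    (hw : w ≫ g = (yon S).map ga ≫ p) (hepi : Epi (pullback.lift w ((yon S).map ga) hw)) :
    ∃ (Z₀ : Sp S) (m : Z₀ ⟶ Y) (e : (yon S).obj (imageOver ga) ⟶ Z₀), IsAlgSpace Z₀ ∧
      IsSchImage g m ∧ IsPullback e ((yon S).map (imageOverι ga)) m p := by
  have hpepi : Epi p := epi_of_etale_surjective p hpe hps
  obtain ⟨pr₁, hpr₁⟩ : ∃ pr₁, pr₁ = pullback.fst g p := ⟨_, rfl⟩
  obtain ⟨pr₂, hpr₂⟩ : ∃ pr₂, pr₂ = pullback.snd g p := ⟨_, rfl⟩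
  have sqP : IsPullback pr₁ pr₂ g p := by rw [hpr₁, hpr₂]; exact IsPullback.of_hasPullback g p
  obtain ⟨a, ha⟩ : ∃ a, a = pullback.lift w ((yon S).map ga) hw := ⟨_, rfl⟩
  have ha1 : a ≫ pr₁ = w := by rw [ha, hpr₁]; exact pullback.lift_fst _ _ _
  have ha2 : a ≫ pr₂ = (yon S).map ga := by rw [ha, hpr₂]; exact pullback.lift_snd _ _ _
  have : Epi a := by rw [ha]; exact hepi
  have hpr₁epi : Epi pr₁ := epi_of_isPullback sqP.flip
  obtain ⟨i'o, hi'o⟩ : ∃ i'o, i'o = imageOverι ga := ⟨_, rfl⟩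
  have hi'cl : IsClosedImmersion i'o.left := by rw [hi'o]; exact isClosedImmersion_imageOverι ga
  have : Mono i'o := by rw [hi'o]; infer_instance
  have : Mono ((yon S).map i'o) := inferInstance
  -- `V ×_Y h_U ⟶ h_U` factors through the image
  obtain ⟨ψ, hψ, -⟩ := exists_lift_of_epi_mono a ((yon S).map i'o) ((yon S).map (toImageOver ga)) pr₂
    (by rw [← Functor.map_comp, hi'o, toImageOver_imageOverι, ha2])
  -- the relation `R = U ×_Y U`
  have sqR := hpe.rep.isPullback p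
  obtain ⟨t₀, ht₀⟩ := (yon S).map_surjective (hpe.rep.fst p)
  obtain ⟨s₀, hs₀⟩ : ∃ s₀, s₀ = hpe.rep.snd p := ⟨_, rfl⟩
  rw [← ht₀, ← hs₀] at sqR
  have hs₀e : Etale s₀.left := by rw [hs₀]; exact hpe.property_snd p
  have hs₀f : Flat s₀.left := inferInstance
  -- the inverse image of the image under `s₀`
  have hs := IsPullback.of_hasPullback s₀ i'o
  obtain ⟨k, hk⟩ : ∃ k, k = pullback.fst s₀ i'o := ⟨_, rfl⟩
  obtain ⟨s', hs'⟩ : ∃ s', s' = pullback.snd s₀ i'o := ⟨_, rfl⟩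
  rw [← hk, ← hs'] at hs
  -- the inverse image of the image under `t₀`
  have htt := IsPullback.of_hasPullback t₀ i'o
  obtain ⟨j, hj⟩ : ∃ j, j = pullback.fst t₀ i'o := ⟨_, rfl⟩
  obtain ⟨t'', ht''⟩ : ∃ t'', t'' = pullback.snd t₀ i'o := ⟨_, rfl⟩
  rw [← hj, ← ht''] at htt
  have hjcl : IsClosedImmersion j.left :=
    MorphismProperty.of_isPullback (P := @IsClosedImmersion) (htt.flip.map (Over.forget S)) hi'cl
  -- the base change of `V ×_Y h_U` along `s₀`
  have sqF := IsPullback.of_hasPullback pr₂ ((yon S).map s₀)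
  obtain ⟨ψ', hψ'⟩ : ∃ ψ', ψ' = pullback.fst pr₂ ((yon S).map s₀) := ⟨_, rfl⟩
  obtain ⟨φ', hφ'⟩ : ∃ φ', φ' = pullback.snd pr₂ ((yon S).map s₀) := ⟨_, rfl⟩
  rw [← hψ', ← hφ'] at sqF
  have hq : (ψ' ≫ pr₁) ≫ g = (φ' ≫ (yon S).map t₀) ≫ p := by
    rw [Category.assoc, sqP.w, ← Category.assoc, sqF.w, Category.assoc, Category.assoc, sqR.w]
  obtain ⟨q, hq1, hq2⟩ : ∃ q, q ≫ pr₁ = ψ' ≫ pr₁ ∧ q ≫ pr₂ = φ' ≫ (yon S).map t₀ :=
    ⟨sqP.lift _ _ hq, sqP.lift_fst _ _ _, sqP.lift_snd _ _ _⟩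
  have httY := htt.map (yon S)
  have hf'' : φ' ≫ (yon S).map t₀ = (q ≫ ψ) ≫ (yon S).map i'o := by
    rw [Category.assoc, hψ, hq2]
  obtain ⟨f'', hf''1⟩ : ∃ f'', f'' ≫ (yon S).map j = φ' :=
    ⟨httY.lift _ _ hf'', httY.lift_fst _ _ _⟩
  subst hi'o
  obtain ⟨l, hl⟩ := exists_lift_of_flat_chart s₀ hs₀f ga hga k s' hs j hjcl a pr₂ ha2 ψ' φ' sqF
    f'' hf''1
  have hto : k ≫ t₀ = (l ≫ t'') ≫ imageOverι ga := by
    rw [← hl, Category.assoc, htt.w, Category.assoc]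
  have sqZ := isPullback_image_of_invariant s₀ t₀ p sqR (imageOverι ga) k s' (l ≫ t'') hs hto
  obtain ⟨e, he⟩ : ∃ e, e = Sheaf.toImage ((yon S).map (imageOverι ga) ≫ p) := ⟨_, rfl⟩
  obtain ⟨m, hm⟩ : ∃ m, m = Sheaf.imageι ((yon S).map (imageOverι ga) ≫ p) := ⟨_, rfl⟩
  have hem : e ≫ m = (yon S).map (imageOverι ga) ≫ p := by rw [he, hm]; exact Sheaf.toImage_ι _
  have : Epi e := by rw [he]; infer_instance
  have : Mono m := by rw [hm]; infer_instance
  rw [← he, ← hm] at sqZ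
  have hcl : RepWith @IsClosedImmersion m :=
    repWith_isClosedImmersion_of_etale_cover m p hpe hps sqZ
      ((repWith_yon_map_iff _ (imageOverι ga)).2 hi'cl)
  refine ⟨_, m, e, isAlgSpace_of_representable m hcl.rep hY, ⟨hcl, ?_, ?_⟩, sqZ⟩
  · -- `g` factors through `m`
    obtain ⟨g', hg', -⟩ := exists_lift_of_epi_mono (a ≫ pr₁) m ((yon S).map (toImageOver ga) ≫ e) g
      (by rw [Category.assoc, hem, ← Category.assoc, ← Functor.map_comp,
        toImageOver_imageOverι, ha1, hw])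
    exact ⟨g', hg'⟩
  · -- minimality
    intro Z' i' hZ' hi' ⟨f'', hf''⟩
    have : Mono i' := mono_of_repWith_isClosedImmersion i' hi'
    have sqZ' := hi'.rep.isPullback p
    obtain ⟨fstZ', hfstZ'⟩ : ∃ fstZ', fstZ' = hi'.rep.fst p := ⟨_, rfl⟩
    obtain ⟨j', hj'⟩ : ∃ j', j' = hi'.rep.snd p := ⟨_, rfl⟩
    rw [← hfstZ', ← hj'] at sqZ'
    have hj'cl : IsClosedImmersion j'.left := by rw [hj']; exact hi'.property_snd p
    have hc : (pr₁ ≫ f'') ≫ i' = pr₂ ≫ p := by rw [Category.assoc, hf'', sqP.w]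
    obtain ⟨l₀, hl₀⟩ := (yon S).map_surjective (a ≫ sqZ'.lift _ _ hc)
    have hl₀j : l₀ ≫ j' = ga := by
      apply (yon S).map_injective
      rw [Functor.map_comp, hl₀, Category.assoc, sqZ'.lift_snd, ha2]
    obtain ⟨l', hl'⟩ := exists_lift_imageOver ga j' hj'cl l₀ hl₀j
    obtain ⟨k', hk', -⟩ := exists_lift_of_epi_mono e i' ((yon S).map l' ≫ fstZ') m
      (by rw [Category.assoc, sqZ'.w, ← Category.assoc, ← Functor.map_comp, hl', hem])
    exact ⟨k', hk'⟩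

end Groth.Agent.Lib.Helper23.SchImageQc
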