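import Groth.Agent.Lib.Helper23.SchImageQc2
import Groth.Agent.Lib.Helper5.AlgSpCoprod2

/-!
# Good charts for quasi-compact morphisms of algebraic spaces (helper23)

For a quasi-compact morphism `g : V ⟶ Y` of algebraic spaces there are an etale surjective chart
`p : h_U ⟶ Y` and an etale surjective chart `h_W ⟶ V ×_Y h_U` such that `W ⟶ U` is a quasi-compact
morphism of schemes: take `U` the disjoint union of the affine opens of an atlas of `Y` and `W` the
disjoint union of quasi-compact charts of the `V ×_Y h_{U_i}`.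
-/

set_option autoImplicit false
universe u
open CategoryTheory CategoryTheory.Limits AlgebraicGeometry Opposite

namespace Groth.Agent.Lib.Helper23.SchImageQc

open AlgSp Groth.Agent.Lib.Helper23.AlgSpMor Groth.Agent.Lib.Helper23.ClosedDescent
  Groth.Agent.Lib.Helper5

variable {S : Scheme.{u}}

/-- A morphism of disjoint unions of schemes over `S` whose components are quasi-compact is
quasi-compact. -/
theorem quasiCompact_of_sigmaOver {ι : Type u} (Wi Ui : ι → Over S) (ga : sigmaOver Wi ⟶ sigmaOver Ui)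
    (gai : ∀ i, Wi i ⟶ Ui i) (h : ∀ i, sigmaOverι Wi i ≫ ga = gai i ≫ sigmaOverι Ui i)
    (hq : ∀ i, QuasiCompact (gai i).left) : QuasiCompact ga.left := by
  let c : Cofan (fun i => (yon S).obj (Ui i)) :=
    Cofan.mk ((yon S).obj (sigmaOver Ui)) fun i => (yon S).map (sigmaOverι Ui i)
  have hc : IsColimit c := isColimitYonSigmaOver Ui
  let c' : Cofan (fun i => (yon S).obj (Wi i)) :=
    Cofan.mk ((yon S).obj (sigmaOver Wi)) fun i => (yon S).map (sigmaOverι Wi i)
  have hc' : IsColimit c' := isColimitYonSigmaOver Wi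
  have sqY : ∀ i, IsPullback (c'.inj i) ((yon S).map (gai i)) ((yon S).map ga) (c.inj i) :=
    (cofan_sheaf_vanKampen (J S) c hc c' (fun i => (yon S).map (gai i)) ((yon S).map ga)
      (fun i => by
        change (yon S).map (gai i) ≫ (yon S).map (sigmaOverι Ui i) =
          (yon S).map (sigmaOverι Wi i) ≫ (yon S).map ga
        rw [← Functor.map_comp, ← Functor.map_comp, h i])).mp ⟨hc'⟩
  have sqO : ∀ i, IsPullback (sigmaOverι Wi i) (gai i) ga (sigmaOverι Ui i) :=
    fun i => IsPullback.of_map (yon S) (h i) (sqY i)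
  have sqS : ∀ i, IsPullback (Sigma.ι (fun i => (Wi i).left) i) (gai i).left ga.left
      (Sigma.ι (fun i => (Ui i).left) i) := fun i => (sqO i).map (Over.forget S)
  apply IsZariskiLocalAtTarget.of_openCover (P := @QuasiCompact)
    (sigmaOpenCover fun i => (Ui i).left)
  intro i
  have e : pullback.snd ga.left (Sigma.ι (fun i => (Ui i).left) i) =
      (sqS i).isoPullback.inv ≫ (gai i).left :=
    (Iso.eq_inv_comp _).mpr (sqS i).isoPullback_hom_snd
  change QuasiCompact (pullback.snd ga.left (Sigma.ι (fun i => (Ui i).left) i))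
  rw [e]
  exact (MorphismProperty.cancel_left_of_respectsIso @QuasiCompact _ _).mpr (hq i)

/-- **Good charts for a quasi-compact morphism of algebraic spaces.** -/
theorem exists_good_chart {V Y : Sp S} (hV : IsAlgSpace V) (hY : IsAlgSpace Y) (g : V ⟶ Y)
    (hg : IsQuasiCompactMor g) :
    ∃ (U W : Over S) (p : (yon S).obj U ⟶ Y) (ga : W ⟶ U) (w : (yon S).obj W ⟶ V)
      (hw : w ≫ g = (yon S).map ga ≫ p), RepWith @Etale p ∧ RepWith @Surjective p ∧
      QuasiCompact ga.left ∧ RepWith @Etale (pullback.lift w ((yon S).map ga) hw) ∧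
      RepWith @Surjective (pullback.lift w ((yon S).map ga) hw) := by
  obtain ⟨U₀, p₀, hp₀e, hp₀s⟩ := hY.atlas
  let I : Type u := U₀.left.affineOpens
  let Ui : I → Over S := fun i => overOpens U₀ i.1
  obtain ⟨U, hU⟩ : ∃ U, U = sigmaOver Ui := ⟨_, rfl⟩
  let u : sigmaOver Ui ⟶ U₀ := Over.homMk (Sigma.desc fun i : I => (i.1 : U₀.left.Opens).ι) (by
    apply Sigma.hom_ext
    intro i
    change Sigma.ι _ i ≫ Sigma.desc _ ≫ U₀.hom = Sigma.ι _ i ≫ Sigma.desc _
    rw [Sigma.ι_desc_assoc, Sigma.ι_desc]
    rfl)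
  have hui : ∀ i, sigmaOverι Ui i ≫ u = overOpensι U₀ i.1 := by
    intro i
    ext1
    exact Sigma.ι_desc _ _
  have hue : Etale u.left :=
    IsZariskiLocalAtSource.sigmaDesc (P := @Etale) (fun i => inferInstance)
  have hus : Surjective u.left := by
    apply Surjective.sigmaDesc_of_union_range_eq_univ
    rw [Set.eq_univ_iff_forall]
    intro x
    have h1 : x ∈ (⨆ i : U₀.left.affineOpens, (i : U₀.left.Opens)) := by
      rw [iSup_affineOpens_eq_top]; trivial
    obtain ⟨i, hi⟩ := TopologicalSpace.Opens.mem_iSup.1 h1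
    refine Set.mem_iUnion.2 ⟨i, ?_⟩
    rw [Scheme.Opens.range_ι]
    exact hi
  obtain ⟨p, hp⟩ : ∃ p, p = (yon S).map u ≫ p₀ := ⟨_, rfl⟩
  have hpe : RepWith @Etale p := by
    rw [hp]
    exact (RepWith @Etale).comp_mem _ _ ((repWith_yon_map_iff _ _).2 hue) hp₀e
  have hps : RepWith @Surjective p := by
    rw [hp]
    exact (RepWith @Surjective).comp_mem _ _ ((repWith_yon_map_iff _ _).2 hus) hp₀s
  -- the pieces of `V ×_Y h_U`
  let pi : ∀ i, (yon S).obj (Ui i) ⟶ Y := fun i => (yon S).map (sigmaOverι Ui i) ≫ p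
  have hqci : ∀ i, IsQuasiCompactSp (pullback g (pi i)) := by
    intro i
    refine hg (IsAlgSpace.yon_obj _) ?_ (pi i) (pullback.fst _ _) (pullback.snd _ _)
      (IsPullback.of_hasPullback _ _)
    have : IsAffine (Ui i).left := i.2
    exact ⟨Ui i, 𝟙 _, repWith_id _ _, repWith_id _ _, inferInstance⟩
  choose Wi ai haie hais hWc using hqci
  let inj : ∀ i, pullback g (pi i) ⟶ pullback g p := fun i =>
    pullback.lift (pullback.fst g (pi i)) (pullback.snd g (pi i) ≫ (yon S).map (sigmaOverι Ui i))
      (by rw [pullback.condition, Category.assoc])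
  have hinj1 : ∀ i, inj i ≫ pullback.fst g p = pullback.fst g (pi i) :=
    fun i => pullback.lift_fst _ _ _
  have hinj2 : ∀ i, inj i ≫ pullback.snd g p =
      pullback.snd g (pi i) ≫ (yon S).map (sigmaOverι Ui i) := fun i => pullback.lift_snd _ _ _
  have sqi : ∀ i, IsPullback (inj i) (pullback.snd g (pi i)) (pullback.snd g p)
      ((yon S).map (sigmaOverι Ui i)) := by
    intro i
    have t : IsPullback (inj i ≫ pullback.fst g p) (pullback.snd g (pi i)) g
        ((yon S).map (sigmaOverι Ui i) ≫ p) := by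
      rw [hinj1]
      exact IsPullback.of_hasPullback g (pi i)
    exact IsPullback.of_right t (hinj2 i) (IsPullback.of_hasPullback g p)
  let c : Cofan (fun i => (yon S).obj (Ui i)) :=
    Cofan.mk ((yon S).obj (sigmaOver Ui)) fun i => (yon S).map (sigmaOverι Ui i)
  have hc : IsColimit c := isColimitYonSigmaOver Ui
  let c' : Cofan (fun i => pullback g (pi i)) := Cofan.mk (pullback g p) inj
  have hc' : IsColimit c' :=
    ((cofan_sheaf_vanKampen (J S) c hc c' (fun i => pullback.snd g (pi i)) (pullback.snd g p)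
      (fun i => (hinj2 i).symm)).mpr sqi).some
  -- the chart of `V ×_Y h_U`
  let cW : Cofan (fun i => (yon S).obj (Wi i)) :=
    Cofan.mk ((yon S).obj (sigmaOver Wi)) fun i => (yon S).map (sigmaOverι Wi i)
  have hcW : IsColimit cW := isColimitYonSigmaOver Wi
  let pp : (yon S).obj (sigmaOver Wi) ⟶ pullback g p :=
    Cofan.IsColimit.desc hcW (fun i => ai i ≫ inj i)
  have hpp : ∀ i, (yon S).map (sigmaOverι Wi i) ≫ pp = ai i ≫ c'.inj i :=
    fun i => Cofan.IsColimit.fac hcW (fun i => ai i ≫ inj i) i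
  have hP : IsAlgSpace (pullback g p) :=
    isAlgSpace_of_isPullback hV (IsAlgSpace.yon_obj _) hY.diag (IsPullback.of_hasPullback g p)
  have hrep : Representable pp := hP.representable_from_yon pp
  have hppe : RepWith @Etale pp :=
    repWith_desc_of_cofan (fun i => pullback g (pi i)) c' hc' @Etale Wi ai haie pp hpp hrep
  have hpps : RepWith @Surjective pp :=
    repWith_desc_of_cofan (fun i => pullback g (pi i)) c' hc' @Surjective Wi ai hais pp hpp hrep
  obtain ⟨ga, hga⟩ := (yon S).map_surjective (pp ≫ pullback.snd g p)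
  have hw : (pp ≫ pullback.fst g p) ≫ g = (yon S).map ga ≫ p := by
    rw [hga, Category.assoc, Category.assoc, pullback.condition]
  have hlift : pullback.lift (pp ≫ pullback.fst g p) ((yon S).map ga) hw = pp := by
    apply pullback.hom_ext
    · rw [pullback.lift_fst]
    · rw [pullback.lift_snd, hga]
  -- quasi-compactness of `ga`
  obtain ⟨gai, hgai⟩ : ∃ gai : ∀ i, Wi i ⟶ Ui i,
      ∀ i, (yon S).map (gai i) = ai i ≫ pullback.snd g (pi i) :=
    ⟨fun i => ((yon S).map_surjective (ai i ≫ pullback.snd g (pi i))).choose,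
      fun i => ((yon S).map_surjective (ai i ≫ pullback.snd g (pi i))).choose_spec⟩
  have hcomp : ∀ i, sigmaOverι Wi i ≫ ga = gai i ≫ sigmaOverι Ui i := by
    intro i
    apply (yon S).map_injective
    rw [Functor.map_comp, hga, ← Category.assoc, hpp, Functor.map_comp, hgai]
    change (ai i ≫ inj i) ≫ pullback.snd g p = _
    rw [Category.assoc, hinj2, Category.assoc]
  have hgaq : QuasiCompact ga.left := by
    refine quasiCompact_of_sigmaOver Wi Ui ga gai hcomp fun i => ?_
    have : IsAffine (Ui i).left := i.2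
    have : CompactSpace ↥(Wi i).left := hWc i
    exact (quasiCompact_iff_compactSpace _).2 inferInstance
  refine ⟨sigmaOver Ui, sigmaOver Wi, p, ga, pp ≫ pullback.fst g p, hw, hpe, hps, hgaq, ?_, ?_⟩
  · rw [hlift]; exact hppe
  · rw [hlift]; exact hpps

end Groth.Agent.Lib.Helper23.SchImageQc
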