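import Groth.Agent.Lib.Helper23.SchImageQc3

/-!
# Scheme theoretic images of quasi-compact morphisms of algebraic spaces: flat base change (helper23)
-/

set_option autoImplicit false
universe u
open CategoryTheory CategoryTheory.Limits AlgebraicGeometry Opposite

namespace Groth.Agent.Lib.Helper23.SchImageQc

open AlgSp Groth.Agent.Lib.Helper23.AlgSpMor Groth.Agent.Lib.Helper23.ClosedDescent

variable {S : Scheme.{u}}

/-- **The scheme theoretic image of a quasi-compact morphism on a good chart.** -/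
theorem exists_chart_of_isSchImage {V Y Z : Sp S} (hV : IsAlgSpace V) (hY : IsAlgSpace Y)
    (hZ : IsAlgSpace Z) (g : V ⟶ Y) (hg : IsQuasiCompactMor g) (i : Z ⟶ Y) (hi : IsSchImage g i) :
    ∃ (U W : Over S) (p : (yon S).obj U ⟶ Y) (ga : W ⟶ U) (w : (yon S).obj W ⟶ V)
      (hw : w ≫ g = (yon S).map ga ≫ p) (e : (yon S).obj (imageOver ga) ⟶ Z),
      RepWith @Etale p ∧ RepWith @Surjective p ∧ QuasiCompact ga.left ∧
      Epi (pullback.lift w ((yon S).map ga) hw) ∧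
      IsPullback e ((yon S).map (imageOverι ga)) i p := by
  obtain ⟨U, W, p, ga, w, hw, hpe, hps, hgaq, hae, has⟩ := exists_good_chart hV hY g hg
  have hepi : Epi (pullback.lift w ((yon S).map ga) hw) := epi_of_etale_surjective _ hae has
  obtain ⟨Z₀, m, e₀, hZ₀, hm, sq⟩ := exists_image_of_chart hY g p hpe hps ga hgaq w hw hepi
  obtain ⟨k, hk⟩ := hm.2.2 i hZ hi.1 hi.2.1
  obtain ⟨k', hk'⟩ := hi.2.2 m hZ₀ hm.1 hm.2.1
  have : Mono i := mono_of_repWith_isClosedImmersion i hi.1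
  have : Mono m := mono_of_repWith_isClosedImmersion m hm.1
  have : IsIso k := isIso_of_mutual_factor m i k hk k' hk'
  refine ⟨U, W, p, ga, w, hw, e₀ ≫ k, hpe, hps, hgaq, hepi, ?_⟩
  refine IsPullback.of_iso sq (Iso.refl _) (asIso k) (Iso.refl _) (Iso.refl _) ?_ ?_ ?_ ?_
  · simp
  · simp
  · simpa using hk.symm
  · simp

/-- **Flat base change of the scheme theoretic image of a quasi-compact morphism.** -/
theorem isSchImage_of_flat_baseChange {X Y V Z VX ZX : Sp S} (hX : IsAlgSpace X)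
    (hY : IsAlgSpace Y) (hV : IsAlgSpace V) (hZ : IsAlgSpace Z) (f : X ⟶ Y) (hf : LocP @Flat f)
    (g : V ⟶ Y) (hg : IsQuasiCompactMor g) (i : Z ⟶ Y) (hi : IsSchImage g i) (g₁ : VX ⟶ V)
    (gX : VX ⟶ X) (sqV : IsPullback g₁ gX g f) (i₁ : ZX ⟶ Z) (iX : ZX ⟶ X)
    (sqZ : IsPullback i₁ iX i f) : IsSchImage gX iX := by
  obtain ⟨U, W, p, ga, w, hw, e, hpe, hps, hgaq, hepi, sqE⟩ :=
    exists_chart_of_isSchImage hV hY hZ g hg i hi
  obtain ⟨pr₁, hpr₁⟩ : ∃ pr₁, pr₁ = pullback.fst g p := ⟨_, rfl⟩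
  obtain ⟨pr₂, hpr₂⟩ : ∃ pr₂, pr₂ = pullback.snd g p := ⟨_, rfl⟩
  have sqP : IsPullback pr₁ pr₂ g p := by rw [hpr₁, hpr₂]; exact IsPullback.of_hasPullback g p
  obtain ⟨a, ha⟩ : ∃ a, a = pullback.lift w ((yon S).map ga) hw := ⟨_, rfl⟩
  have ha2 : a ≫ pr₂ = (yon S).map ga := by rw [ha, hpr₂]; exact pullback.lift_snd _ _ _
  -- an atlas of `X ×_Y h_U`
  obtain ⟨x₁, hx₁⟩ : ∃ x₁, x₁ = pullback.fst f p := ⟨_, rfl⟩
  obtain ⟨x₂, hx₂⟩ : ∃ x₂, x₂ = pullback.snd f p := ⟨_, rfl⟩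
  have sqXU : IsPullback x₁ x₂ f p := by rw [hx₁, hx₂]; exact IsPullback.of_hasPullback f p
  have hXU : IsAlgSpace (pullback f p) :=
    isAlgSpace_of_isPullback hX (IsAlgSpace.yon_obj _) hY.diag (IsPullback.of_hasPullback f p)
  obtain ⟨U', q, hqe, hqs⟩ := hXU.atlas
  obtain ⟨c, hc⟩ := (yon S).map_surjective (q ≫ x₂)
  obtain ⟨x, hx⟩ : ∃ x, x = q ≫ x₁ := ⟨_, rfl⟩
  have hxe : RepWith @Etale x := by
    rw [hx]
    exact (RepWith @Etale).comp_mem _ _ hqe ((RepWith @Etale).of_isPullback sqXU.flip hpe)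
  have hxs : RepWith @Surjective x := by
    rw [hx]
    exact (RepWith @Surjective).comp_mem _ _ hqs
      ((RepWith @Surjective).of_isPullback sqXU.flip hps)
  have hxepi : Epi x := epi_of_etale_surjective x hxe hxs
  have hxf : x ≫ f = (yon S).map c ≫ p := by
    rw [hx, hc, Category.assoc, Category.assoc, sqXU.w]
  have hcflat : Flat c.left := hf x p c hxe hpe hxf
  refine ⟨(RepWith @IsClosedImmersion).of_isPullback sqZ hi.1, ?_, ?_⟩
  · obtain ⟨g', hg'⟩ := hi.2.1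
    exact ⟨sqZ.lift (g₁ ≫ g') gX (by rw [Category.assoc, hg', sqV.w]), sqZ.lift_snd _ _ _⟩
  · intro Z'' i'' hZ'' hi'' ⟨f'', hf''⟩
    have : Mono i'' := mono_of_repWith_isClosedImmersion i'' hi''
    -- the base change of the image along `c`
    have sqK := IsPullback.of_hasPullback c (imageOverι ga)
    obtain ⟨k, hk⟩ : ∃ k, k = pullback.fst c (imageOverι ga) := ⟨_, rfl⟩
    obtain ⟨s', hs'⟩ : ∃ s', s' = pullback.snd c (imageOverι ga) := ⟨_, rfl⟩
    rw [← hk, ← hs'] at sqK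
    -- the inverse image of `Z''` in `U'`
    have sqZ'' := hi''.rep.isPullback x
    obtain ⟨fst'', hfst''⟩ : ∃ fst'', fst'' = hi''.rep.fst x := ⟨_, rfl⟩
    obtain ⟨j, hj⟩ : ∃ j, j = hi''.rep.snd x := ⟨_, rfl⟩
    rw [← hfst'', ← hj] at sqZ''
    have hjcl : IsClosedImmersion j.left := by rw [hj]; exact hi''.property_snd x
    -- the base change of `V ×_Y h_U` along `c`
    have sqF := IsPullback.of_hasPullback pr₂ ((yon S).map c)
    obtain ⟨ψ', hψ'⟩ : ∃ ψ', ψ' = pullback.fst pr₂ ((yon S).map c) := ⟨_, rfl⟩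
    obtain ⟨φ', hφ'⟩ : ∃ φ', φ' = pullback.snd pr₂ ((yon S).map c) := ⟨_, rfl⟩
    rw [← hψ', ← hφ'] at sqF
    have hr : (ψ' ≫ pr₁) ≫ g = (φ' ≫ x) ≫ f := by
      rw [Category.assoc, sqP.w, ← Category.assoc, sqF.w, Category.assoc, Category.assoc, hxf]
    obtain ⟨r, hr2⟩ : ∃ r, r ≫ gX = φ' ≫ x := ⟨sqV.lift _ _ hr, sqV.lift_snd _ _ _⟩
    have hf3 : (r ≫ f'') ≫ i'' = φ' ≫ x := by rw [Category.assoc, hf'', hr2]
    obtain ⟨f₃, hf₃⟩ : ∃ f₃, f₃ ≫ (yon S).map j = φ' :=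
      ⟨sqZ''.lift _ _ hf3, sqZ''.lift_snd _ _ _⟩
    obtain ⟨l, hl⟩ := exists_lift_of_flat_chart c hcflat ga hgaq k s' sqK j hjcl a pr₂ ha2 ψ' φ' sqF
      f₃ hf₃
    -- the chart of `ZX`
    have hε : ((yon S).map s' ≫ e) ≫ i = ((yon S).map k ≫ x) ≫ f := by
      rw [Category.assoc, sqE.w, ← Category.assoc, ← Functor.map_comp, ← sqK.w, Functor.map_comp,
        Category.assoc, Category.assoc, hxf]
    obtain ⟨ε, hε1, hε2⟩ : ∃ ε, ε ≫ i₁ = (yon S).map s' ≫ e ∧ ε ≫ iX = (yon S).map k ≫ x :=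
      ⟨sqZ.lift _ _ hε, sqZ.lift_fst _ _ _, sqZ.lift_snd _ _ _⟩
    have t : IsPullback (ε ≫ i₁) ((yon S).map k) i (x ≫ f) := by
      rw [hε1, hxf]
      exact (sqK.map (yon S)).flip.paste_horiz sqE
    have sqε : IsPullback ε ((yon S).map k) iX x := IsPullback.of_right t hε2 sqZ
    have : Epi ε := epi_of_isPullback sqε.flip
    obtain ⟨k', hk', -⟩ := exists_lift_of_epi_mono ε i'' ((yon S).map l ≫ fst'') iX
      (by rw [Category.assoc, sqZ''.w, ← Category.assoc, ← Functor.map_comp, hl, hε2])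
    exact ⟨k', hk'⟩

end Groth.Agent.Lib.Helper23.SchImageQc
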