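import Groth.Agent.Lib.Helper23.SchImageQc4

/-!
# Scheme theoretic images of quasi-compact morphisms of algebraic spaces: density (helper23)
-/

set_option autoImplicit false
universe u
open CategoryTheory CategoryTheory.Limits AlgebraicGeometry Opposite

namespace Groth.Agent.Lib.Helper23.SchImageQc

open AlgSp Groth.Agent.Lib.Helper23.AlgSpMor Groth.Agent.Lib.Helper23.ClosedDescent
  Groth.Agent.Lib.Helper37.AlgSpPoints

variable {S : Scheme.{u}}

/-- **The image of a quasi-compact morphism is dense in its scheme theoretic image.** -/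
theorem range_subset_closure_of_isSchImage {V Y Z : Sp S} (hV : IsAlgSpace V) (hY : IsAlgSpace Y)
    (hZ : IsAlgSpace Z) (g : V ⟶ Y) (hg : IsQuasiCompactMor g) (i : Z ⟶ Y) (hi : IsSchImage g i) :
    Set.range (Points.map i) ⊆ closure (Set.range (Points.map g)) := by
  obtain ⟨U, W, p, ga, w, hw, e, hpe, hps, hgaq, hepi, sqE⟩ :=
    exists_chart_of_isSchImage hV hY hZ g hg i hi
  have hes : RepWith @Surjective e := (RepWith @Surjective).of_isPullback sqE.flip hps
  rintro _ ⟨z, rfl⟩
  rw [mem_closure_iff]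
  intro o ho hzo
  obtain ⟨ζ, rfl⟩ := ofPt_surjective e hes z
  have hu : Points.ofPt p ((imageOverι ga).left ζ) = Points.map i (Points.ofPt e ζ) := by
    rw [Points.map_ofPt, sqE.w, ofPt_map_comp]
  have hO : IsOpen (Points.ofPt p ⁻¹' o) := ho.preimage (Points.continuous_ofPt p)
  have := hgaq
  have hcl : (imageOverι ga).left ζ ∈ closure (Set.range ga.left) := by
    rw [← Scheme.Hom.support_ker]
    have : (imageOverι ga).left ζ ∈ Set.range ga.left.ker.subschemeι := ⟨ζ, rfl⟩
    rwa [Scheme.IdealSheafData.range_subschemeι] at this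
  obtain ⟨_, hx1, ⟨w₀, rfl⟩⟩ := mem_closure_iff.1 hcl _ hO (by
    change Points.ofPt p _ ∈ o
    rw [hu]; exact hzo)
  refine ⟨Points.ofPt p (ga.left w₀), hx1, Points.ofPt w w₀, ?_⟩
  rw [Points.map_ofPt, hw, ofPt_map_comp]

end Groth.Agent.Lib.Helper23.SchImageQc
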