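import Groth.Agent.Lib.Helper23.SchImage2
import Groth.Agent.Lib.Helper23.ProperClosed2
import Groth.Agent.Lib.Helper23.AlgSpMor5
import Groth.Agent.Lib.Helper23.AlgSpProper2
import Groth.Agent.Lib.Helper46.STLocal
import Groth.Agent.Lib.Helper46.RedDescent

/-!
# Etale base change of the scheme theoretic image of a morphism with reduced source (helper23)
-/

set_option autoImplicit false
universe u
open CategoryTheory CategoryTheory.Limits AlgebraicGeometry Opposite

namespace Groth.Agent.Lib.Helper23.ClosedDescent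

open AlgSp Groth.Agent.Lib.Helper23.AlgSpMor

variable {S : Scheme.{u}}

theorem isSchImage_etale_baseChange_of_isReducedSp {X Y Z V XV ZV : Sp S} (hY : IsAlgSpace Y)
    (hZ : IsAlgSpace Z) (hV : IsAlgSpace V) (hZV : IsAlgSpace ZV) (f : X ⟶ Y) (i : Z ⟶ Y)
    (hXr : IsReducedSp X) (hi : IsSchImage f i) (b : V ⟶ Y) (hb : IsEtaleMor b) (f₁ : XV ⟶ X)
    (fV : XV ⟶ V) (i₁ : ZV ⟶ Z) (iV : ZV ⟶ V) (sqX : IsPullback f₁ fV f b)
    (sqZ : IsPullback i₁ iV i b) : IsSchImage fV iV := by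
  have hri := isRedInduced_of_isSchImage_of_isReducedSp hY hXr f i hi
  refine ⟨(RepWith @IsClosedImmersion).of_isPullback sqZ hi.1, ?_, ?_⟩
  · obtain ⟨f', hf'⟩ := hi.2.1
    exact ⟨sqZ.lift (f₁ ≫ f') fV (by rw [Category.assoc, hf', sqX.w]), sqZ.lift_snd _ _ _⟩
  · intro Z'' i'' hZ'' hi'' ⟨f'', hf''⟩
    have hi₁et : IsEtaleMor i₁ :=
      Groth.Agent.Lib.Helper46.STLocal.isEtaleMor_baseChange hV hY hZV hZ sqZ.flip hb
    have hZVr : IsReducedSp ZV :=
      Groth.Agent.Lib.Helper46.RedDescent.isReducedSp_of_smooth hZV hZ i₁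
        (Groth.Agent.Lib.Helper46.STLocal.sm_of_isEtaleMor i₁ hi₁et) hri.2.2
    apply exists_factor_of_isReducedSp hZVr iV i'' hi''
    have hopen : IsOpenMap (Points.map b) :=
      isUnivOpenMor_of_isEtaleMor hV b hb hY (𝟙 Y) (𝟙 V) b (IsPullback.of_horiz_isIso ⟨by simp⟩)
    rw [range_map_of_isPullback sqZ, hri.2.1,
      hopen.preimage_closure_eq_closure_preimage (Points.continuous_map b),
      ← range_map_of_isPullback sqX]
    apply closure_minimal _ (isClosed_range_of_repWith_isClosedImmersion i'' hi'')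
    rw [← hf'']
    rintro _ ⟨x, rfl⟩
    exact ⟨Points.map f'' x, (Points.map_comp f'' i'' x).symm⟩

end Groth.Agent.Lib.Helper23.ClosedDescent
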