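import Mathlib

/-!
# Points of the closure of the image of a quasi-compact morphism of schemes are reached by valuation
rings (helper23)
-/

set_option autoImplicit false
universe u
open CategoryTheory CategoryTheory.Limits AlgebraicGeometry Opposite IsLocalRing

namespace Groth.Agent.Lib.Helper23.SchImageVal

/-- A prime containing the kernel of a ring map contains the contraction of a prime. -/
theorem exists_prime_comap_le {R B : Type u} [CommRing R] [CommRing B] (φ : R →+* B) (p : Ideal R)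
    [p.IsPrime] (h : RingHom.ker φ ≤ p) : ∃ q : Ideal B, q.IsPrime ∧ q.comap φ ≤ p := by
  obtain ⟨p₀, hp₀, hle⟩ := Ideal.exists_minimalPrimes_le h
  obtain ⟨q, hq, -, hqp⟩ := Ideal.exists_comap_eq_of_mem_minimalPrimes (I := ⊥) φ p₀ hp₀
  exact ⟨q, hq, hqp ▸ hle⟩

/-- A point in the closure of the image of a quasi-compact morphism is a specialization of a point
of the image. -/
theorem exists_specializes_of_mem_closure_range {W U : Scheme.{u}} (ga : W ⟶ U) [QuasiCompact ga]
    (u : U) (hu : u ∈ closure (Set.range ga)) : ∃ w : W, ga w ⤳ u := by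
  obtain ⟨_, ⟨U₀, hU₀, rfl⟩, huU₀, -⟩ :=
    U.isBasis_affineOpens.exists_subset_of_mem_open (Set.mem_univ u) isOpen_univ
  have hc : IsCompact ((ga ⁻¹ᵁ U₀ : W.Opens) : Set W) := ga.isCompact_preimage hU₀.isCompact
  obtain ⟨B, π, hπ⟩ := isCompact_iff_exists.1 hc
  have hsub : Set.range (π ≫ ga) ⊆ Set.range hU₀.fromSpec := by
    rw [hU₀.range_fromSpec]
    rintro _ ⟨b, rfl⟩
    have : π b ∈ ((ga ⁻¹ᵁ U₀ : W.Opens) : Set W) := by rw [← hπ]; exact ⟨b, rfl⟩
    exact this
  obtain ⟨ψ, hψ⟩ : ∃ ψ, ψ = IsOpenImmersion.lift hU₀.fromSpec (π ≫ ga) hsub := ⟨_, rfl⟩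
  have hψfac : ψ ≫ hU₀.fromSpec = π ≫ ga := by rw [hψ]; exact IsOpenImmersion.lift_fac _ _ _
  obtain ⟨φ, hφ⟩ := Spec.map_surjective ψ
  obtain ⟨P, hP⟩ : ∃ P, hU₀.fromSpec P = u := by
    have : u ∈ Set.range hU₀.fromSpec := by rw [hU₀.range_fromSpec]; exact huU₀
    exact this
  -- `P` lies in the closure of the image of `Spec B`
  have hPcl : P ∈ closure (Set.range ψ) := by
    rw [mem_closure_iff]
    intro o ho hPo
    have ho' : IsOpen (hU₀.fromSpec '' o) := hU₀.fromSpec.isOpenEmbedding.isOpenMap o ho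
    obtain ⟨_, ⟨P', hP'o, rfl⟩, ⟨w, hw⟩⟩ := mem_closure_iff.1 hu _ ho' ⟨P, hPo, hP⟩
    have hwW₀ : w ∈ ((ga ⁻¹ᵁ U₀ : W.Opens) : Set W) := by
      change ga w ∈ (U₀ : Set U)
      rw [hw, ← hU₀.range_fromSpec]
      exact ⟨P', rfl⟩
    rw [← hπ] at hwW₀
    obtain ⟨b, rfl⟩ := hwW₀
    refine ⟨ψ b, ?_, b, rfl⟩
    have : hU₀.fromSpec (ψ b) = hU₀.fromSpec P' := by
      rw [← Scheme.Hom.comp_apply, hψfac, Scheme.Hom.comp_apply, hw]
    rw [hU₀.fromSpec.isOpenEmbedding.injective this]
    exact hP'o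
  have hker : RingHom.ker φ.hom ≤ P.asIdeal := by
    rw [← hφ] at hPcl
    have hPcl' : (show PrimeSpectrum Γ(U, U₀) from P) ∈
        closure (Set.range (PrimeSpectrum.comap φ.hom)) := hPcl
    rw [PrimeSpectrum.closure_range_comap] at hPcl'
    exact hPcl'
  obtain ⟨q, hq, hqP⟩ := exists_prime_comap_le φ.hom P.asIdeal hker
  let b : Spec B := ⟨q, hq⟩
  refine ⟨π b, ?_⟩
  have h2 : ga (π b) = hU₀.fromSpec (ψ b) := by
    rw [← Scheme.Hom.comp_apply, ← Scheme.Hom.comp_apply, hψfac]
  rw [h2, ← hP]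
  apply Specializes.map _ hU₀.fromSpec.continuous
  rw [← hφ]
  change (PrimeSpectrum.comap φ.hom b) ⤳ P
  rw [← PrimeSpectrum.le_iff_specializes]
  exact hqP

set_option backward.isDefEq.respectTransparency.types false in
/-- A specialization `ga w ⤳ u` is realised by a valuation ring of the residue field of `w`. -/
theorem exists_valuationRing_of_specializes {W U : Scheme.{u}} (ga : W ⟶ U) (w : W) (u : U)
    (h : ga w ⤳ u) :
    ∃ (A : ValuationSubring (W.residueField w)) (l : Spec (.of A) ⟶ U),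
      l (closedPoint A) = u ∧
      W.fromSpecResidueField w ≫ ga =
        Spec.map (CommRingCat.ofHom (algebraMap A (W.residueField w))) ≫ l := by
  let stalk_y_to_residue_x' : U.presheaf.stalk u ⟶ W.residueField w :=
    U.presheaf.stalkSpecializes h ≫ ga.stalkMap w ≫ W.residue w
  obtain ⟨A, hA, hA_local⟩ := exists_factor_valuationRing stalk_y_to_residue_x'.hom
  let stalk_y_to_A : U.presheaf.stalk u ⟶ .of A :=
    CommRingCat.ofHom (stalk_y_to_residue_x'.hom.codRestrict _ hA)
  have hw : W.fromSpecResidueField w ≫ ga =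
      Spec.map (CommRingCat.ofHom (algebraMap A (W.residueField w))) ≫
        Spec.map stalk_y_to_A ≫ U.fromSpecStalk u := by
    rw [Scheme.fromSpecResidueField, Category.assoc, ← Scheme.SpecMap_stalkMap_fromSpecStalk,
      ← Scheme.SpecMap_stalkSpecializes_fromSpecStalk h]
    simp_rw [← Spec.map_comp_assoc]
    rfl
  refine ⟨A, Spec.map stalk_y_to_A ≫ U.fromSpecStalk u, ?_, hw⟩
  simp only [Scheme.Hom.comp_base, TopCat.coe_comp, Function.comp_apply]
  have : Spec.map stalk_y_to_A (closedPoint A) = closedPoint (U.presheaf.stalk u) :=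
    comap_closedPoint (S := A) (stalk_y_to_residue_x'.hom.codRestrict A.toSubring hA)
  rw [this, U.fromSpecStalk_closedPoint]

end Groth.Agent.Lib.Helper23.SchImageVal
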