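import Groth.Agent.Lib.Helper23.SchImageQc5
import Groth.Agent.Lib.Helper23.SchImageVal

/-!
# Points of the scheme theoretic image of a quasi-compact morphism of algebraic spaces are reached by
valuation rings (helper23)
-/

set_option autoImplicit false
universe u
open CategoryTheory CategoryTheory.Limits AlgebraicGeometry Opposite IsLocalRing

namespace Groth.Agent.Lib.Helper23.SchImageQc

open AlgSp Groth.Agent.Lib.Helper23.AlgSpMor Groth.Agent.Lib.Helper23.ClosedDescent
  Groth.Agent.Lib.Helper37.AlgSpPoints Groth.Agent.Lib.Helper23.SchImageVal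

variable {S : Scheme.{u}}

theorem ker_specMap_eq_bot {R B : CommRingCat.{u}} (φ : R ⟶ B) (h : Function.Injective φ.hom) :
    (Spec.map φ).ker = ⊥ := by
  rw [Scheme.ker_of_isAffine]
  have h1 : RingHom.ker (Spec.map φ).appTop.hom = ⊥ := by
    rw [← RingHom.injective_iff_ker_eq_bot]
    have h2 : (Spec.map φ).appTop = (Scheme.ΓSpecIso R).hom ≫ φ ≫ (Scheme.ΓSpecIso B).inv := by
      rw [← Scheme.ΓSpecIso_naturality_assoc, Iso.hom_inv_id, Category.comp_id]
    rw [h2]
    simp only [CommRingCat.hom_comp, RingHom.coe_comp]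
    exact ((ConcreteCategory.bijective_of_isIso (Scheme.ΓSpecIso B).inv).1.comp h).comp
      (ConcreteCategory.bijective_of_isIso (Scheme.ΓSpecIso R).hom).1
  rw [h1]
  exact Scheme.IdealSheafData.ext_of_isAffine (by simp)

/-- Scheme level: a point of the scheme theoretic image of a quasi-compact morphism is the image of
the closed point of a valuation ring whose generic point lifts to the source. -/
theorem exists_valuationRing_of_mem_image {W U : Scheme.{u}} (ga : W ⟶ U) [QuasiCompact ga]
    (ζ : ga.image) :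
    ∃ (A : Type u) (_ : CommRing A) (_ : IsDomain A) (_ : ValuationRing A)
      (lT : Spec (.of A) ⟶ ga.image)
      (ν : Spec (.of (FractionRing A)) ⟶ W), lT (closedPoint A) = ζ ∧
      ν ≫ ga = Spec.map (CommRingCat.ofHom (algebraMap A (FractionRing A))) ≫ lT ≫ ga.imageι := by
  have hcl : ga.imageι ζ ∈ closure (Set.range ga) := by
    rw [← Scheme.Hom.support_ker]
    have : ga.imageι ζ ∈ Set.range ga.ker.subschemeι := ⟨ζ, rfl⟩
    rwa [Scheme.IdealSheafData.range_subschemeι] at this
  obtain ⟨w₀, hspec⟩ := exists_specializes_of_mem_closure_range ga _ hcl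
  obtain ⟨A₀, l, hl1, hl2⟩ := exists_valuationRing_of_specializes ga w₀ _ hspec
  have hinj : Function.Injective (algebraMap A₀ (W.residueField w₀)) := Subtype.val_injective
  have hηker : (Spec.map (CommRingCat.ofHom (algebraMap A₀ (W.residueField w₀)))).ker = ⊥ :=
    ker_specMap_eq_bot _ hinj
  have H : ga.imageι.ker ≤ l.ker := by
    have h1 : (Spec.map (CommRingCat.ofHom (algebraMap A₀ (W.residueField w₀))) ≫ l).ker = l.ker := by
      rw [Scheme.Hom.ker_comp, hηker, Scheme.IdealSheafData.map_bot]
    rw [← h1, ← hl2, Scheme.Hom.imageι, Scheme.IdealSheafData.ker_subschemeι]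
    exact Scheme.Hom.le_ker_comp _ ga
  have hlTfac : IsClosedImmersion.lift ga.imageι l H ≫ ga.imageι = l :=
    IsClosedImmersion.lift_fac _ _ H
  let e : FractionRing A₀ ≃ₐ[A₀] W.residueField w₀ := FractionRing.algEquiv A₀ (W.residueField w₀)
  let ψ : W.residueField w₀ ⟶ CommRingCat.of (FractionRing A₀) :=
    CommRingCat.ofHom (e.symm : W.residueField w₀ →+* FractionRing A₀)
  have hψ : CommRingCat.ofHom (algebraMap A₀ (W.residueField w₀)) ≫ ψ =
      CommRingCat.ofHom (algebraMap A₀ (FractionRing A₀)) := by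
    ext a
    exact e.symm.commutes a
  refine ⟨A₀, inferInstance, inferInstance, inferInstance, IsClosedImmersion.lift ga.imageι l H,
    Spec.map ψ ≫ W.fromSpecResidueField w₀, ?_, ?_⟩
  · apply ga.imageι.isEmbedding.injective
    rw [← Scheme.Hom.comp_apply, hlTfac, hl1]
  · rw [hlTfac, Category.assoc, hl2, ← Category.assoc, ← Spec.map_comp, hψ]

/-- **Every point of the scheme theoretic image of a quasi-compact morphism of algebraic spaces is
reached by a valuation ring whose generic point lifts to the source.** -/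
theorem exists_valuationRing_of_isSchImage {X Y Z : Sp S} (hX : IsAlgSpace X) (hY : IsAlgSpace Y)
    (hZ : IsAlgSpace Z) (f : X ⟶ Y) (i : Z ⟶ Y) (hq : IsQuasiCompactMor f) (hi : IsSchImage f i)
    (z : Points Z) :
    ∃ (A : Type u) (_ : CommRing A) (_ : IsDomain A) (_ : ValuationRing A)
      (str : Spec (CommRingCat.of A) ⟶ S) (a : (yon S).obj (Over.mk str) ⟶ Z)
      (x : (yon S).obj (Over.mk (Spec.map (CommRingCat.ofHom (algebraMap A (FractionRing A))) ≫
        str)) ⟶ X),
      Points.ofPt a (IsLocalRing.closedPoint A) = z ∧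
      x ≫ f = (yon S).map (Over.homMk
        (Spec.map (CommRingCat.ofHom (algebraMap A (FractionRing A)))) rfl) ≫ a ≫ i := by
  obtain ⟨U, W, p, ga, w, hw, e, hpe, hps, hgaq, hepi, sqE⟩ :=
    exists_chart_of_isSchImage hX hY hZ f hq i hi
  have hes : RepWith @Surjective e := (RepWith @Surjective).of_isPullback sqE.flip hps
  obtain ⟨ζ, rfl⟩ := ofPt_surjective e hes z
  have := hgaq
  obtain ⟨A, iA1, iA2, iA3, lT, ν, hlT, hν⟩ := exists_valuationRing_of_mem_image ga.left ζ
  obtain ⟨str, hstr⟩ : ∃ str : Spec (CommRingCat.of A) ⟶ S, str = lT ≫ (imageOver ga).hom :=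
    ⟨_, rfl⟩
  let lTo : Over.mk str ⟶ imageOver ga := Over.homMk lT hstr.symm
  let νo : Over.mk (Spec.map (CommRingCat.ofHom (algebraMap A (FractionRing A))) ≫ str) ⟶ W :=
    Over.homMk ν (by
      change ν ≫ W.hom = Spec.map _ ≫ str
      rw [hstr]
      change ν ≫ W.hom = Spec.map _ ≫ lT ≫ ga.left.imageι ≫ U.hom
      rw [← Over.w ga, ← Category.assoc, hν, Category.assoc, Category.assoc])
  have hνo : νo ≫ ga = (Over.homMk
      (Spec.map (CommRingCat.ofHom (algebraMap A (FractionRing A)))) rfl :
        Over.mk (Spec.map (CommRingCat.ofHom (algebraMap A (FractionRing A))) ≫ str) ⟶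
          Over.mk str) ≫ lTo ≫ imageOverι ga := by
    ext1
    exact hν
  refine ⟨A, iA1, iA2, iA3, str, (yon S).map lTo ≫ e, (yon S).map νo ≫ w, ?_, ?_⟩
  · rw [ofPt_map_comp]
    exact congrArg (Points.ofPt e) hlT
  · rw [Category.assoc, hw, ← Category.assoc, ← Functor.map_comp, hνo, Category.assoc, sqE.w,
      Functor.map_comp, Functor.map_comp, Category.assoc, Category.assoc]

end Groth.Agent.Lib.Helper23.SchImageQc
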