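import Groth.Prelude.Def_HTop2
import Groth.Agent.Lib.Helper23.LocalEqn

/-!
# Seminormal and absolutely weakly normal rings are local notions
-/

universe u

namespace Groth.Agent.Lib.Helper23

theorem isSeminormalRing_iff (A : Type u) [CommRing A] :
    HTop.IsSeminormalRing A ↔ SolProp 1 1 3 2 2 3 A := by
  unfold HTop.IsSeminormalRing SolProp
  simp

theorem pPart_iff (p : ℕ) (A : Type u) [CommRing A] :
    (∀ x y : A, (p : A) ^ p * x = y ^ p → ∃! a : A, x = a ^ p ∧ y = (p : A) * a) ↔
      SolProp (p ^ p) p 1 p p 1 A := by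
  unfold SolProp
  simp

theorem isAWNRing_iff (A : Type u) [CommRing A] :
    HTop.IsAWNRing A ↔
      SolProp 1 1 3 2 2 3 A ∧ ∀ p : ℕ, p.Prime → SolProp (p ^ p) p 1 p p 1 A := by
  unfold HTop.IsAWNRing
  rw [isSeminormalRing_iff]
  refine and_congr Iff.rfl (forall_congr' fun p => imp_congr Iff.rfl ?_)
  exact pPart_iff p A

theorem isSeminormalRing_localization {A : Type u} [CommRing A] (f : A) (B : Type u) [CommRing B]
    [Algebra A B] [IsLocalization.Away f B] (h : HTop.IsSeminormalRing A) :
    HTop.IsSeminormalRing B := by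
  rw [isSeminormalRing_iff] at h ⊢
  exact h.localization (by norm_num) (by norm_num) (by norm_num) (by norm_num) (by norm_num) f B

theorem isSeminormalRing_of_span_eq_top {A : Type u} [CommRing A] (s : Set A)
    (hs : Ideal.span s = ⊤) (h : ∀ f ∈ s, HTop.IsSeminormalRing (Localization.Away f)) :
    HTop.IsSeminormalRing A := by
  rw [isSeminormalRing_iff]
  refine SolProp.of_span_eq_top (by norm_num) (by norm_num) (by norm_num) (by norm_num)
    (by norm_num) s hs fun f hf => ?_
  rw [← isSeminormalRing_iff]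
  exact h f hf

theorem isAWNRing_localization {A : Type u} [CommRing A] (f : A) (B : Type u) [CommRing B]
    [Algebra A B] [IsLocalization.Away f B] (h : HTop.IsAWNRing A) :
    HTop.IsAWNRing B := by
  rw [isAWNRing_iff] at h ⊢
  refine ⟨h.1.localization (by norm_num) (by norm_num) (by norm_num) (by norm_num)
    (by norm_num) f B, fun p hp => ?_⟩
  exact (h.2 p hp).localization rfl (by ring) le_rfl hp.one_le le_rfl f B

theorem isAWNRing_of_span_eq_top {A : Type u} [CommRing A] (s : Set A)
    (hs : Ideal.span s = ⊤) (h : ∀ f ∈ s, HTop.IsAWNRing (Localization.Away f)) :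
    HTop.IsAWNRing A := by
  rw [isAWNRing_iff]
  refine ⟨SolProp.of_span_eq_top (by norm_num) (by norm_num) (by norm_num) (by norm_num)
    (by norm_num) s hs fun f hf => ((isAWNRing_iff _).mp (h f hf)).1, fun p hp => ?_⟩
  exact SolProp.of_span_eq_top rfl (by ring) le_rfl hp.one_le le_rfl s hs
    fun f hf => ((isAWNRing_iff _).mp (h f hf)).2 p hp

theorem isSeminormalRing_of_ringEquiv {A B : Type u} [CommRing A] [CommRing B] (e : A ≃+* B)
    (h : HTop.IsSeminormalRing A) : HTop.IsSeminormalRing B := by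
  rw [isSeminormalRing_iff] at h ⊢
  exact h.of_ringEquiv e

theorem isAWNRing_of_ringEquiv {A B : Type u} [CommRing A] [CommRing B] (e : A ≃+* B)
    (h : HTop.IsAWNRing A) : HTop.IsAWNRing B := by
  rw [isAWNRing_iff] at h ⊢
  exact ⟨h.1.of_ringEquiv e, fun p hp => (h.2 p hp).of_ringEquiv e⟩

end Groth.Agent.Lib.Helper23
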