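import Mathlib

/-!
# Arbitrary intersections of subobjects of a sheaf of sets (helper23)
-/

set_option autoImplicit false
universe v u
open CategoryTheory Opposite

namespace Groth.Agent.Lib.Helper23.SheafInter

variable {C : Type u} [Category.{v} C] {J : GrothendieckTopology C}

/-- An intersection of subsheaves of a sheaf is a subsheaf. -/
theorem isSheaf_iInf {F : Cᵒᵖ ⥤ Type (max v u)} (hF : Presieve.IsSheaf J F) {ι : Sort*}
    (G : ι → Subfunctor F) (hG : ∀ a, Presieve.IsSheaf J (G a).toFunctor) :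
    Presieve.IsSheaf J (⨅ a, G a).toFunctor := by
  rw [Subfunctor.isSheaf_iff _ hF]
  intro U s hs
  rw [Subfunctor.iInf_obj]
  simp only [Set.mem_iInter]
  intro a
  refine (Subfunctor.isSheaf_iff _ hF).1 (hG a) U s (J.superset_covering ?_ hs)
  intro V f hf
  have : F.map f.op s ∈ (⨅ a, G a).obj (op V) := hf
  rw [Subfunctor.iInf_obj] at this
  exact Set.mem_iInter.1 this a

/-- **Wide intersections of subobjects** in a category of sheaves of sets. -/
theorem exists_wide_inter {Y : Sheaf J (Type (max v u))} {ι : Sort*} (Z' : ι → Sheaf J (Type (max v u)))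
    (i' : ∀ a, Z' a ⟶ Y) [∀ a, Mono (i' a)] :
    ∃ (Z : Sheaf J (Type (max v u))) (m : Z ⟶ Y), Mono m ∧ (∀ a, ∃ k : Z ⟶ Z' a, k ≫ i' a = m) ∧
      ∀ (P : Sheaf J (Type (max v u))) (y : P ⟶ Y), (∀ a, ∃ z : P ⟶ Z' a, z ≫ i' a = y) →
        ∃ z : P ⟶ Z, z ≫ m = y := by
  have hY : Presieve.IsSheaf J Y.obj := (isSheaf_iff_isSheaf_of_type _ _).1 Y.property
  let G : ι → Subfunctor Y.obj := fun a => (Subfunctor.range (i' a).hom).sheafify J
  have hG : ∀ a, Presieve.IsSheaf J (G a).toFunctor := fun a =>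
    Subfunctor.sheafify_isSheaf _ hY
  have hZ₀ : Presheaf.IsSheaf J (⨅ a, G a).toFunctor :=
    (isSheaf_iff_isSheaf_of_type _ _).2 (isSheaf_iInf hY G hG)
  let Z : Sheaf J (Type (max v u)) := ⟨(⨅ a, G a).toFunctor, hZ₀⟩
  let m : Z ⟶ Y := ⟨Subfunctor.ι _⟩
  have hm : Mono m := (sheafToPresheaf J _).mono_of_mono_map (by
    change Mono (Subfunctor.ι _)
    infer_instance)
  refine ⟨Z, m, hm, ?_, ?_⟩
  · intro a
    have hmono : Mono (Sheaf.toImage (i' a)) := by
      have : Mono (Sheaf.toImage (i' a) ≫ Sheaf.imageι (i' a)) := by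
        rw [Sheaf.toImage_ι]; infer_instance
      exact mono_of_mono _ (Sheaf.imageι (i' a))
    have : IsIso (Sheaf.toImage (i' a)) := isIso_of_mono_of_epi _
    let j : Z ⟶ Sheaf.image (i' a) := ⟨Subfunctor.homOfLe (iInf_le G a)⟩
    have hj : j ≫ Sheaf.imageι (i' a) = m := by
      ext1
      exact Subfunctor.homOfLe_ι (iInf_le G a)
    refine ⟨j ≫ inv (Sheaf.toImage (i' a)), ?_⟩
    rw [Category.assoc, ← hj]
    congr 1
    rw [IsIso.inv_comp_eq, Sheaf.toImage_ι]
  · intro P y hy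
    have hle : Subfunctor.range y.hom ≤ ⨅ a, G a := by
      refine le_iInf fun a => ?_
      obtain ⟨z, hz⟩ := hy a
      have h1 : Subfunctor.range y.hom ≤ Subfunctor.range (i' a).hom := by
        rw [← hz]
        exact Subfunctor.range_comp_le z.hom (i' a).hom
      exact h1.trans (Subfunctor.le_sheafify J _)
    refine ⟨⟨Subfunctor.lift y.hom hle⟩, ?_⟩
    ext1
    exact Subfunctor.lift_ι y.hom hle

end Groth.Agent.Lib.Helper23.SheafInter
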