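import Mathlib.AlgebraicGeometry.Morphisms.Etale
import Mathlib.AlgebraicGeometry.Morphisms.FormallyUnramified
import Mathlib.AlgebraicGeometry.Morphisms.Flat
import Mathlib.RingTheory.Unramified.Locus
import Mathlib.RingTheory.Flat.Localization

/-!
# Passing between stalk maps, affine charts and open neighbourhoods

* `isUnramifiedAt_of_stalkMap`, `flat_of_stalkMap`: if the stalk map of `f` at `y` is formally
  unramified (resp. flat) then for affine opens `y ∈ V ⊆ f⁻¹ U` the algebra `Γ(S,U) → Γ(Y,V)` is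
  unramified at (resp. its localization is flat at) the prime corresponding to `y`.
* `of_appLE_away`: if `Γ(S,U) → Γ(Y,V)_a` satisfies `Q` then `D(a) → S` satisfies `P`.
* `stalkMap_of_ι_comp`: stalk maps of `U.ι ≫ h` and `h`.
-/

open AlgebraicGeometry CategoryTheory MorphismProperty

universe u

namespace Groth.Agent.Lib.Helper23

theorem isUnramifiedAt_of_localRingHom {R A : Type*} [CommRing R] [CommRing A] [Algebra R A]
    (p : Ideal R) [p.IsPrime] (q : Ideal A) [q.IsPrime] {h : p = q.comap (algebraMap R A)}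
    (H : (Localization.localRingHom p q (algebraMap R A) h).FormallyUnramified) :
    Algebra.IsUnramifiedAt R q := by
  let := (Localization.localRingHom p q (algebraMap R A) h).toAlgebra
  have : IsScalarTower R (Localization.AtPrime p) (Localization.AtPrime q) :=
    .of_algebraMap_eq fun x => by
      simp [RingHom.algebraMap_toAlgebra, Localization.localRingHom_to_map,
        ← IsScalarTower.algebraMap_apply]
  have : Algebra.FormallyUnramified (Localization.AtPrime p) (Localization.AtPrime q) := H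
  have : Algebra.FormallyUnramified R (Localization.AtPrime p) := .of_isLocalization p.primeCompl
  exact Algebra.FormallyUnramified.comp R (Localization.AtPrime p) (Localization.AtPrime q)

theorem flat_of_localRingHom {R A : Type*} [CommRing R] [CommRing A] [Algebra R A]
    (p : Ideal R) [p.IsPrime] (q : Ideal A) [q.IsPrime] {h : p = q.comap (algebraMap R A)}
    (H : (Localization.localRingHom p q (algebraMap R A) h).Flat) :
    Module.Flat R (Localization.AtPrime q) := by
  let := (Localization.localRingHom p q (algebraMap R A) h).toAlgebra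
  have : IsScalarTower R (Localization.AtPrime p) (Localization.AtPrime q) :=
    .of_algebraMap_eq fun x => by
      simp [RingHom.algebraMap_toAlgebra, Localization.localRingHom_to_map,
        ← IsScalarTower.algebraMap_apply]
  have : Module.Flat (Localization.AtPrime p) (Localization.AtPrime q) := H
  exact (Module.flat_iff_of_isLocalization (Localization.AtPrime p) p.primeCompl _).mp this

variable {Y S : Scheme.{u}}

theorem isUnramifiedAt_of_stalkMap (f : Y ⟶ S) {U : S.Opens} (hU : IsAffineOpen U)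
    {V : Y.Opens} (hV : IsAffineOpen V) (e : V ≤ f ⁻¹ᵁ U) (y : Y) (hy : y ∈ V)
    (H : (f.stalkMap y).hom.FormallyUnramified) :
    let := (f.appLE U V e).hom.toAlgebra
    Algebra.IsUnramifiedAt Γ(S, U) (hV.primeIdealOf ⟨y, hy⟩).asIdeal := by
  let := (f.appLE U V e).hom.toAlgebra
  rw [RingHom.FormallyUnramified.respectsIso.arrow_mk_iso_iff
    (IsAffineOpen.arrowStalkMapIso f U hU V hV e hy)] at H
  rw [CommRingCat.hom_ofHom] at H
  exact isUnramifiedAt_of_localRingHom _ _ H

theorem flat_of_stalkMap (f : Y ⟶ S) {U : S.Opens} (hU : IsAffineOpen U)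
    {V : Y.Opens} (hV : IsAffineOpen V) (e : V ≤ f ⁻¹ᵁ U) (y : Y) (hy : y ∈ V)
    (H : (f.stalkMap y).hom.Flat) :
    let := (f.appLE U V e).hom.toAlgebra
    Module.Flat Γ(S, U) (Localization.AtPrime (hV.primeIdealOf ⟨y, hy⟩).asIdeal) := by
  let := (f.appLE U V e).hom.toAlgebra
  rw [RingHom.Flat.respectsIso.arrow_mk_iso_iff
    (IsAffineOpen.arrowStalkMapIso f U hU V hV e hy)] at H
  rw [CommRingCat.hom_ofHom] at H
  exact flat_of_localRingHom _ _ H

theorem mem_basicOpen_of_not_mem_primeIdealOf {V : Y.Opens} (hV : IsAffineOpen V) (y : Y)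
    (hy : y ∈ V) (a : Γ(Y, V)) (ha : a ∉ (hV.primeIdealOf ⟨y, hy⟩).asIdeal) :
    y ∈ Y.basicOpen a := by
  rw [Scheme.mem_basicOpen _ _ _ hy]
  let := Y.presheaf.algebra_section_stalk ⟨y, hy⟩
  have := hV.isLocalization_stalk ⟨y, hy⟩
  exact (IsLocalization.AtPrime.isUnit_to_map_iff (Y.presheaf.stalk y)
    (hV.primeIdealOf ⟨y, hy⟩).asIdeal a).mpr ha

/-- Lemma B: a ring-hom property checked on `Γ(S,U) → Γ(Y,V) → Γ(Y,V)_a` gives the scheme
property on `D(a) → S`. -/
theorem of_appLE_away (P : MorphismProperty Scheme.{u})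
    (Q : ∀ {R S : Type u} [CommRing R] [CommRing S], (R →+* S) → Prop)
    [HasRingHomProperty P Q] [P.IsStableUnderComposition]
    (hoi : ∀ {X Y : Scheme.{u}} (i : X ⟶ Y) [IsOpenImmersion i], P i)
    (f : Y ⟶ S) {U : S.Opens} (hU : IsAffineOpen U) {V : Y.Opens} (hV : IsAffineOpen V)
    (e : V ≤ f ⁻¹ᵁ U) (a : Γ(Y, V))
    (H : Q ((algebraMap Γ(Y, V) (Localization.Away a)).comp (f.appLE U V e).hom)) :
    P ((Y.basicOpen a).ι ≫ f) := by
  have hQ : RingHom.RespectsIso Q := (HasRingHomProperty.isLocal_ringHomProperty P).respectsIso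
  have e' : Y.basicOpen a ≤ f ⁻¹ᵁ U := (Y.basicOpen_le a).trans e
  have hV' : IsAffineOpen (Y.basicOpen a) := hV.basicOpen a
  rw [← Scheme.Hom.resLE_comp_ι f e']
  refine P.comp_mem _ _ ?_ (hoi _)
  have : IsAffine (U : Scheme) := hU
  have : IsAffine (Y.basicOpen a : Scheme) := hV'
  rw [HasRingHomProperty.iff_of_isAffine (P := P),
    hQ.arrow_mk_iso_iff (arrowResLEAppIso f U (Y.basicOpen a) e'),
    ← Scheme.Hom.appLE_map f e (homOfLE (Y.basicOpen_le a)).op]
  have := hV.isLocalization_basicOpen a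
  let φ : Localization.Away a ≃ₐ[Γ(Y, V)] Γ(Y, Y.basicOpen a) :=
    IsLocalization.algEquiv (Submonoid.powers a) _ _
  have hφ : (Y.presheaf.map (homOfLE (Y.basicOpen_le a)).op).hom =
      (φ : Localization.Away a →+* Γ(Y, Y.basicOpen a)).comp
        (algebraMap Γ(Y, V) (Localization.Away a)) := by
    ext x
    simp [φ, RingHom.algebraMap_toAlgebra]
  rw [CommRingCat.hom_comp, hφ, RingHom.comp_assoc]
  exact hQ.1 _ φ.toRingEquiv H


set_option backward.isDefEq.respectTransparency false in
/-- The stalk map of `U.ι ≫ h` at `z : U` satisfies `Q` iff the stalk map of `h` at `z` does. -/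
theorem stalkMap_ι_comp_iff {X S : Scheme.{u}}
    {Q : ∀ {R S : Type u} [CommRing R] [CommRing S], (R →+* S) → Prop}
    (hQ : RingHom.RespectsIso Q) (h : X ⟶ S) (U : X.Opens) (z : U.toScheme) :
    Q ((U.ι ≫ h).stalkMap z).hom ↔ Q (h.stalkMap (U.ι z)).hom := by
  rw [Scheme.Hom.stalkMap_comp, CommRingCat.hom_comp, hQ.cancel_right_isIso]

end Groth.Agent.Lib.Helper23
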