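import Mathlib
import Groth.Agent.Lib.Helper36.ThickFT

/-!
# Finitely presented thickenings are locally of finite order (helper23)

* `exists_pow_ker_eq_bot`: the ideal of a surjective closed immersion locally of finite
  presentation is nilpotent on every affine open.
* `locallyOfFiniteType_of_isPullback_of_lfp`: in a cartesian square of schemes over such a closed
  immersion, finite type ascends.
-/

set_option autoImplicit false
universe u
open CategoryTheory CategoryTheory.Limits AlgebraicGeometry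

namespace Groth.Agent.Lib.Helper23.ThickFP

open Groth.Agent.Lib.Helper36.ThickFT

theorem exists_pow_ker_eq_bot {V V' : Scheme.{u}} (jV : V ⟶ V') [IsClosedImmersion jV]
    [Surjective jV] [LocallyOfFinitePresentation jV] (W' : V'.affineOpens) :
    ∃ n : ℕ, (jV.ker.ideal W') ^ (n + 1) = ⊥ := by
  rw [Scheme.Hom.ker_apply]
  have hsurj : Function.Surjective (jV.app W').hom := jV.app_surjective W' W'.2
  have hfp : (jV.app W').hom.FinitePresentation := by
    rw [Scheme.Hom.app_eq_appLE]
    exact jV.finitePresentation_appLE W'.2 (W'.2.preimage jV) le_rfl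
  have hfg : (RingHom.ker (jV.app W').hom).FG := by
    let φ : Γ(V', W') →+* Γ(V, jV ⁻¹ᵁ W') := (jV.app W').hom
    have hφ : φ.FinitePresentation := hfp
    algebraize [φ]
    have h := Algebra.FinitePresentation.ker_fG_of_surjective
      (Algebra.ofId Γ(V', W') Γ(V, jV ⁻¹ᵁ W')) hsurj
    exact h
  have hnil : RingHom.ker (jV.app W').hom ≤ nilradical _ := by
    intro s hs
    rw [mem_nilradical, Scheme.isNilpotent_iff_basicOpen_eq_bot_of_isCompact W'.2.isCompact]
    rw [eq_bot_iff]
    intro x hx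
    obtain ⟨v, rfl⟩ := jV.surjective x
    have h1 : v ∈ jV ⁻¹ᵁ V'.basicOpen s := hx
    rw [Scheme.preimage_basicOpen] at h1
    have h2 : (jV.app W').hom s = 0 := hs
    have h3 : V.basicOpen ((jV.app W').hom s) = ⊥ := by rw [h2]; exact Scheme.basicOpen_zero _ _
    rw [h3] at h1
    exact h1
  obtain ⟨n, hn⟩ := hfg.isNilpotent_iff_le_nilradical.mpr hnil
  refine ⟨n, ?_⟩
  rw [pow_succ, hn]
  exact zero_mul _

/-- In a cartesian square of schemes over a surjective closed immersion locally of finite
presentation, the bottom arrow is locally of finite type if the top one is. -/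
theorem locallyOfFiniteType_of_isPullback_of_lfp {U U' V V' : Scheme.{u}} {h : U ⟶ V}
    {iU : U ⟶ U'} {jV : V ⟶ V'} {h' : U' ⟶ V'} (sq : IsPullback h iU jV h')
    [IsClosedImmersion jV] [Surjective jV] [LocallyOfFinitePresentation jV]
    [LocallyOfFiniteType h] : LocallyOfFiniteType h' := by
  have : IsClosedImmersion iU := MorphismProperty.of_isPullback sq ‹_›
  rw [HasRingHomProperty.iff_appLE (P := @LocallyOfFiniteType)]
  intro W' Z' e
  obtain ⟨n, hn⟩ := exists_pow_ker_eq_bot jV W'
  have hker : iU.ker = jV.ker.comap h' := Groth.Agent.Lib.Helper57.FOThick.ker_of_isPullback sq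
  have hk : RingHom.ker (iU.app Z').hom = (jV.ker.ideal W').map (h'.appLE W' Z' e).hom := by
    rw [← Scheme.Hom.ker_apply, hker,
      Groth.Agent.Lib.Helper82.ideal_comap_of_le h' jV.ker Z'.1 Z'.2 W'.1 W'.2 e]
  refine ringHom_finiteType_of_nilpotent (h'.appLE W' Z' e).hom (iU.app Z').hom
    (iU.app_surjective Z' Z'.2) (jV.ker.ideal W') hk n ?_ ?_
  · rw [hk, ← Ideal.map_pow, hn, Ideal.map_bot]
  · have e' : iU ⁻¹ᵁ Z'.1 ≤ h ⁻¹ᵁ (jV ⁻¹ᵁ W'.1) := by
      intro x hx
      have h1 : h' (iU x) ∈ W'.1 := e hx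
      have h2 : (iU ≫ h') x = (h ≫ jV) x := by rw [sq.w]
      rw [Scheme.Hom.comp_apply, Scheme.Hom.comp_apply] at h2
      change jV (h x) ∈ W'.1
      rw [← h2]
      exact h1
    have key : h'.appLE W' Z' e ≫ iU.app Z' = jV.app W' ≫ h.appLE (jV ⁻¹ᵁ W') (iU ⁻¹ᵁ Z') e' := by
      rw [Scheme.Hom.app_eq_appLE, Scheme.Hom.appLE_comp_appLE, ← Scheme.Hom.comp_appLE]
      exact appLE_congr_hom sq.w.symm _ _ _
    rw [← CommRingCat.hom_comp, key, CommRingCat.hom_comp]
    exact RingHom.FiniteType.comp
      (h.finiteType_appLE (W'.2.preimage jV) (Z'.2.preimage iU) e')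
      (RingHom.FiniteType.of_surjective _ (jV.app_surjective W' W'.2))

end Groth.Agent.Lib.Helper23.ThickFP
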