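import Mathlib

/-!
# An etale algebra obtained by descent along a faithfully flat extension of domains (helper23)

`A ⊆ K` a domain with its fraction field, `A → A'` faithfully flat, `A' ⊆ K'`, `K → K'` compatible.
`B` an `A`-algebra, `E` a `K`-algebra with `bE : B → E`, `B'` an etale `A'`-algebra with `b' : B → B'`
generating `B'` over `A'`, and an injective `ν : B' → K' ⊗[K] E` compatible with `bE`, `b'`.
Then `C := B / ker bE` is etale over `A`.
-/

set_option autoImplicit false
set_option linter.unusedSectionVars false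
universe u
open TensorProduct

namespace Groth.Agent.Lib.Helper23.ValCover

section Algebra

variable {A A' K K' B B' E : Type u} [CommRing A] [CommRing A'] [Field K] [Field K']
  [CommRing B] [CommRing B'] [CommRing E]
  [Algebra A K] [IsFractionRing A K]
  [Algebra A A'] [Algebra A' K'] [Algebra K K'] [Algebra A K'] [IsScalarTower A A' K']
  [IsScalarTower A K K']
  [Algebra A B] [Algebra A E] [Algebra K E] [IsScalarTower A K E]
  [Algebra A B'] [Algebra A' B'] [IsScalarTower A A' B']

include K in
variable (K) in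
/-- `E` is flat over `A`. -/
theorem flat_of_fractionRing_algebra : Module.Flat A E := by
  have h1 : Module.Flat A K := IsLocalization.flat K (nonZeroDivisors A)
  exact Module.Flat.trans A K E

variable (A A' K K' E) in
/-- The canonical map `A' ⊗[A] E → K' ⊗[K] E`. -/
noncomputable def theta : A' ⊗[A] E →ₗ[A] K' ⊗[K] E :=
  (TensorProduct.mapOfCompatibleSMul K A A K' E).comp
    (LinearMap.rTensor E ((IsScalarTower.toAlgHom A A' K').toLinearMap))

omit [IsFractionRing A K] in
@[simp]
theorem theta_tmul (a' : A') (e : E) :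
    theta A A' K K' E (a' ⊗ₜ e) = (algebraMap A' K' a') ⊗ₜ e := by
  simp [theta]

theorem theta_injective (hA'K' : Function.Injective (algebraMap A' K')) :
    Function.Injective (theta A A' K K' E) := by
  have hflat : Module.Flat A E := flat_of_fractionRing_algebra K
  have h1 : Function.Injective
      (LinearMap.rTensor E ((IsScalarTower.toAlgHom A A' K').toLinearMap)) :=
    Module.Flat.rTensor_preserves_injective_linearMap _ hA'K'
  have hc : TensorProduct.CompatibleSMul A K K' E :=
    IsLocalization.tensorProduct_compatibleSMul (nonZeroDivisors A) K K' E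
  have h2 : Function.Injective (TensorProduct.mapOfCompatibleSMul K A A K' E) :=
    (TensorProduct.equivOfCompatibleSMul K A A K' E).injective
  exact h2.comp h1

section Main

variable [Module.FaithfullyFlat A A'] [Algebra.Etale A' B']
  (bE : B →ₐ[A] E) (b' : B →ₐ[A] B')
  (ν : B' →+* K' ⊗[K] E)
  (hν1 : ∀ b, ν (b' b) = 1 ⊗ₜ bE b)
  (hν2 : ∀ a', ν (algebraMap A' B' a') = (algebraMap A' K' a') ⊗ₜ 1)
  (hνinj : Function.Injective ν)
  (hA'K' : Function.Injective (algebraMap A' K'))
  (hsurj : Algebra.adjoin A' (Set.range b') = ⊤)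

include hν1 hνinj in
omit [IsFractionRing A K] [Algebra A A'] [Algebra A K'] [IsScalarTower A A' K']
  [IsScalarTower A K K'] [IsScalarTower A A' B'] [Algebra A' K'] [Algebra A' B']
  [Module.FaithfullyFlat A A'] [Algebra.Etale A' B'] [IsScalarTower A K E] [Algebra A K] in
theorem map_eq_zero_of_map_eq_zero (b : B) (hb : bE b = 0) : b' b = 0 := by
  apply hνinj
  rw [hν1, hb, tmul_zero, map_zero]

/-- The induced map `C = B / ker bE → B'`. -/
noncomputable def gammaHom : (B ⧸ RingHom.ker bE) →ₐ[A] B' :=
  Ideal.Quotient.liftₐ (RingHom.ker bE) b' (fun b hb =>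
    map_eq_zero_of_map_eq_zero bE b' ν hν1 hνinj b ((RingHom.mem_ker).1 hb))

variable (A') in
/-- The comparison map `A' ⊗[A] C → B'`. -/
noncomputable def thetaHom : A' ⊗[A] (B ⧸ RingHom.ker bE) →ₐ[A'] B' :=
  Algebra.TensorProduct.lift (Algebra.ofId A' B') (gammaHom bE b' ν hν1 hνinj)
    (fun _ _ => Commute.all _ _)

include hsurj in
theorem thetaHom_surjective : Function.Surjective (thetaHom A' bE b' ν hν1 hνinj) := by
  rw [← AlgHom.range_eq_top, eq_top_iff, ← hsurj]
  refine Algebra.adjoin_le ?_
  rintro _ ⟨b, rfl⟩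
  refine ⟨1 ⊗ₜ (Ideal.Quotient.mk _ b), ?_⟩
  simp [thetaHom, gammaHom]

include hν2 hA'K' in
theorem thetaHom_injective : Function.Injective (thetaHom A' bE b' ν hν1 hνinj) := by
  have hflat : Module.Flat A A' := inferInstance
  have hι : Function.Injective (Ideal.kerLiftAlg bE) := Ideal.kerLiftAlg_injective bE
  have h1 : Function.Injective
      (LinearMap.lTensor A' (Ideal.kerLiftAlg bE).toLinearMap) :=
    Module.Flat.lTensor_preserves_injective_linearMap _ hι
  have h2 := theta_injective (A := A) (A' := A') (K := K) (K' := K') (E := E) hA'K'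
  have key : ∀ x : A' ⊗[A] (B ⧸ RingHom.ker bE),
      ν (thetaHom A' bE b' ν hν1 hνinj x) =
        theta A A' K K' E (LinearMap.lTensor A' (Ideal.kerLiftAlg bE).toLinearMap x) := by
    intro x
    induction x with
    | zero => simp
    | add x y hx hy => simp only [map_add, hx, hy]
    | tmul a' c =>
      obtain ⟨b, rfl⟩ := Ideal.Quotient.mk_surjective c
      simp only [thetaHom, gammaHom, Algebra.TensorProduct.lift_tmul, Algebra.ofId_apply,
        LinearMap.lTensor_tmul, AlgHom.toLinearMap_apply, theta_tmul, map_mul, hν2]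
      have e1 : (Ideal.Quotient.liftₐ (RingHom.ker bE) b' (fun b hb =>
          map_eq_zero_of_map_eq_zero bE b' ν hν1 hνinj b ((RingHom.mem_ker).1 hb)))
          (Ideal.Quotient.mk _ b) = b' b := by
        simp
      have e2 : (Ideal.kerLiftAlg bE) (Ideal.Quotient.mk _ b) = bE b := by
        simp
      rw [e1, e2, hν1, Algebra.TensorProduct.tmul_mul_tmul, mul_one, one_mul]
  intro x y hxy
  apply h1
  apply h2
  rw [← key, ← key, hxy]

include hν1 hνinj hν2 hA'K' hsurj in
/-- **The descended algebra is etale.** -/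
theorem etale_quotient : Algebra.Etale A (B ⧸ RingHom.ker bE) := by
  let e : A' ⊗[A] (B ⧸ RingHom.ker bE) ≃ₐ[A'] B' :=
    AlgEquiv.ofBijective (thetaHom A' bE b' ν hν1 hνinj)
      ⟨thetaHom_injective bE b' ν hν1 hν2 hνinj hA'K', thetaHom_surjective bE b' ν hν1 hνinj hsurj⟩
  have : Algebra.Etale A' (A' ⊗[A] (B ⧸ RingHom.ker bE)) := Algebra.Etale.of_equiv e.symm
  exact Algebra.Etale.of_etale_tensorProduct_of_faithfullyFlat A'

@[simp]
theorem gammaHom_mk (b : B) :
    gammaHom bE b' ν hν1 hνinj (Ideal.Quotient.mk _ b) = b' b := by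
  simp [gammaHom]

omit [Module.FaithfullyFlat A A'] [Algebra.Etale A' B'] [Algebra A A'] [Algebra A' K'] [Algebra K K']
  [Algebra A K'] [IsScalarTower A A' K'] [IsScalarTower A K K'] [Algebra A B'] [Algebra A' B']
  [IsScalarTower A A' B'] in
include K in
variable (K) in
/-- `C ⊗[A] C → E ⊗[A] E` is injective when `C` is flat over `A`. -/
theorem tensor_kerLift_injective [Module.Flat A (B ⧸ RingHom.ker bE)] :
    Function.Injective (Algebra.TensorProduct.map (Ideal.kerLiftAlg bE) (Ideal.kerLiftAlg bE)) := by
  have h2 : Module.Flat A E := flat_of_fractionRing_algebra K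
  exact TensorProduct.map_injective_of_flat_flat (Ideal.kerLiftAlg bE).toLinearMap
    (Ideal.kerLiftAlg bE).toLinearMap (Ideal.kerLiftAlg_injective bE)
    (Ideal.kerLiftAlg_injective bE)

end Main

omit [Algebra A A'] [Algebra A' K'] [Algebra K K'] [Algebra A K'] [IsScalarTower A A' K']
  [IsScalarTower A K K'] [Algebra A B] [Algebra A B'] [Algebra A' B'] [IsScalarTower A A' B']
  [Algebra K E] [IsScalarTower A K E] in
/-- Two ring maps out of the fraction field agreeing on `A`. -/
theorem include_eq_on_fractionRing' (ψ : K →+* E)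
    (hψ : ψ.comp (algebraMap A K) = algebraMap A E) :
    (Algebra.TensorProduct.includeLeftRingHom : E →+* E ⊗[A] E).comp ψ =
      ((Algebra.TensorProduct.includeRight : E →ₐ[A] E ⊗[A] E) : E →+* E ⊗[A] E).comp ψ := by
  apply IsLocalization.ringHom_ext (nonZeroDivisors A)
  ext a
  simp only [RingHom.comp_apply]
  have := congrArg (fun φ => φ a) hψ
  simp only [RingHom.comp_apply] at this
  rw [this]
  simp [Algebra.TensorProduct.includeLeftRingHom, Algebra.algebraMap_eq_smul_one]

end Algebra

end Groth.Agent.Lib.Helper23.ValCover
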